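import Mathlib.RingTheory.MvPowerSeries.Equiv
import Mathlib.RingTheory.MvPowerSeries.Substitution
import Mathlib.RingTheory.MvPowerSeries.Order
import Mathlib.RingTheory.AdicCompletion.Completeness
import Mathlib.LinearAlgebra.Matrix.NonsingularInverse
import Mathlib.RingTheory.RegularLocalRing.Defs
import Mathlib.RingTheory.KrullDimension.NonZeroDivisors
import Mathlib.RingTheory.MvPowerSeries.Inverse

/-!
Power series rings: the adic filtration of the variables, uniqueness and surjectivity of algebra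
homomorphisms into complete rings, the inverse function theorem.
-/

namespace Groth.Agent.H02CA.PS

open MvPowerSeries Finsupp

universe u v w

variable (σ : Type u) (R : Type v) [CommRing R]

/-- The ideal generated by the variables. -/
noncomputable abbrev vars : Ideal (MvPowerSeries σ R) := Ideal.span (Set.range X)

variable {σ R}

lemma le_order_of_mem_pow {n : ℕ} {f : MvPowerSeries σ R} (hf : f ∈ vars σ R ^ n) : (n : ℕ∞) ≤ f.order := by
  induction n generalizing f with
  | zero => simp
  | succ n ih =>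
    rw [pow_succ] at hf
    induction hf using Submodule.mul_induction_on' with
    | mem_mul_mem a ha b hb =>
      have h1 : constantCoeff b = 0 := by
        have : vars σ R ≤ RingHom.ker (constantCoeff (σ := σ) (R := R)) := Ideal.span_le.mpr (by
          rintro _ ⟨i, rfl⟩; exact constantCoeff_X i)
        exact this hb
      calc ((n + 1 : ℕ) : ℕ∞) = (n : ℕ∞) + 1 := by push_cast; rfl
        _ ≤ a.order + b.order := add_le_add (ih ha) (one_le_order_iff_constCoeff_eq_zero.mpr h1)
        _ ≤ (a * b).order := le_order_mul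
    | add a _ b _ ha hb => exact le_trans (le_min ha hb) min_order_le_add

lemma coeff_eq_zero_of_mem_pow {n : ℕ} {f : MvPowerSeries σ R} (hf : f ∈ vars σ R ^ n) {d : σ →₀ ℕ}
    (hd : degree d < n) : coeff d f = 0 :=
  coeff_of_lt_order (lt_of_lt_of_le (WithTop.coe_lt_coe.mpr hd) (le_order_of_mem_pow hf))

variable [Finite σ]

lemma map_vars : Ideal.map (toAdicCompletionAlgEquiv σ R).toRingEquiv (vars σ R) =
    (MvPolynomial.idealOfVars σ R).map
      (algebraMap (MvPolynomial σ R) (AdicCompletion (MvPolynomial.idealOfVars σ R) (MvPolynomial σ R))) := by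
  simp_rw [Ideal.map_span, ← Set.range_comp]
  congr 2; ext1
  simp [AdicCompletion.algebraMap_apply, ← MvPolynomial.coe_X, toAdicCompletion_coe]

lemma mem_pow_of_coeff {n : ℕ} {f : MvPowerSeries σ R} (h : ∀ d, degree d < n → coeff d f = 0) :
    f ∈ vars σ R ^ n := by
  set I := MvPolynomial.idealOfVars σ R
  have h0 : truncTotal n f = 0 := by
    ext d
    by_cases hd : degree d < n
    · rw [coeff_truncTotal _ hd, h d hd, MvPolynomial.coeff_zero]
    · rw [coeff_truncTotal_eq_zero _ (not_lt.mp hd), MvPolynomial.coeff_zero]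
  have h1 : toAdicCompletionAlgEquiv σ R f ∈
      (I ^ n • ⊤ : Submodule (MvPolynomial σ R) (AdicCompletion I (MvPolynomial σ R))) := by
    rw [AdicCompletion.pow_smul_top_eq_ker_eval (MvPolynomial.idealOfVars_fg σ R), LinearMap.mem_ker]
    show (toAdicCompletion σ R f).val n = 0
    rw [toAdicCompletion_apply_eq_mk_truncTotal, h0, map_zero]
  rw [Ideal.smul_top_eq_map, Submodule.restrictScalars_mem, Ideal.map_pow, ← map_vars, ← Ideal.map_pow] at h1
  obtain ⟨g, hg, hgf⟩ := (Ideal.mem_map_iff_of_surjective _ (toAdicCompletionAlgEquiv σ R).toRingEquiv.surjective).mp h1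
  rwa [(toAdicCompletionAlgEquiv σ R).toRingEquiv.injective hgf] at hg

lemma mem_vars_iff {f : MvPowerSeries σ R} : f ∈ vars σ R ↔ constantCoeff f = 0 := by
  constructor
  · intro h
    rw [← coeff_zero_eq_constantCoeff_apply]
    exact coeff_eq_zero_of_mem_pow (n := 1) (by rwa [pow_one]) (by simp)
  · intro h
    rw [← pow_one (vars σ R)]
    refine mem_pow_of_coeff fun d hd => ?_
    rw [Nat.lt_one_iff, degree_eq_zero_iff] at hd
    rwa [hd, coeff_zero_eq_constantCoeff_apply]

lemma sub_truncTotal_mem (n : ℕ) (f : MvPowerSeries σ R) :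
    f - (truncTotal n f : MvPolynomial σ R) ∈ vars σ R ^ n :=
  mem_pow_of_coeff fun d hd => by rw [map_sub, MvPolynomial.coeff_coe, coeff_truncTotal _ hd, sub_self]

/-- Algebra homomorphisms to a separated ring are determined by the images of the variables. -/
theorem algHom_ext {S : Type w} [CommRing S] [Algebra R S] (I : Ideal S) [IsHausdorff I S]
    {φ ψ : MvPowerSeries σ R →ₐ[R] S} (hI : ∀ i, φ (X i) ∈ I) (h : ∀ i, φ (X i) = ψ (X i)) : φ = ψ := by
  refine AlgHom.ext fun f => sub_eq_zero.mp (IsHausdorff.haus (I := I) ‹_› _ fun n => ?_)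
  rw [SModEq.zero, smul_eq_mul, Ideal.mul_top]
  have hpoly : ∀ p : MvPolynomial σ R, φ (p : MvPowerSeries σ R) = ψ (p : MvPowerSeries σ R) := by
    intro p
    have : φ.comp (MvPolynomial.coeToMvPowerSeries.algHom R) = ψ.comp (MvPolynomial.coeToMvPowerSeries.algHom R) :=
      MvPolynomial.algHom_ext fun i => by simp [h i]
    simpa using AlgHom.congr_fun this p
  have hmap : ∀ χ : MvPowerSeries σ R →ₐ[R] S, (∀ i, χ (X i) ∈ I) → ∀ g ∈ vars σ R ^ n, χ g ∈ I ^ n := by
    intro χ hχ g hg
    have h1 : (vars σ R).map χ.toRingHom ≤ I := by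
      rw [Ideal.map_span, Ideal.span_le]
      rintro _ ⟨_, ⟨i, rfl⟩, rfl⟩
      exact hχ i
    exact Ideal.pow_right_mono h1 n (Ideal.map_pow χ.toRingHom (vars σ R) n ▸ Ideal.mem_map_of_mem _ hg)
  have e : φ f - ψ f = φ (f - (truncTotal n f : MvPolynomial σ R)) - ψ (f - (truncTotal n f : MvPolynomial σ R)) := by
    rw [map_sub, map_sub, hpoly]; ring
  rw [e]
  exact sub_mem (hmap φ hI _ (sub_truncTotal_mem n f))
    (hmap ψ (fun i => h i ▸ hI i) _ (sub_truncTotal_mem n f))

/-- Substitution of elements of an ideal of a complete ring. -/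
theorem exists_algHom {S : Type w} [CommRing S] [Algebra R S] (I : Ideal S) [IsAdicComplete I S] (b : σ → S)
    (hb : ∀ i, b i ∈ I) : ∃ ψ : MvPowerSeries σ R →ₐ[R] S, ∀ i, ψ (X i) = b i := by
  have hle : ∀ n, (MvPolynomial.idealOfVars σ R) ^ n ≤ (I ^ n).comap (MvPolynomial.aeval b) := fun n => by
    have h1 : (MvPolynomial.idealOfVars σ R).map (MvPolynomial.aeval (R := R) b).toRingHom ≤ I := by
      rw [Ideal.map_span, Ideal.span_le]
      rintro _ ⟨_, ⟨i, rfl⟩, rfl⟩
      simpa using hb i
    exact Ideal.map_le_iff_le_comap.mp ((Ideal.map_pow _ _ n).le.trans (Ideal.pow_right_mono h1 n))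
  let f : ∀ n, MvPowerSeries σ R →ₐ[R] S ⧸ I ^ n := fun n =>
    (Ideal.quotientMapₐ (I ^ n) (MvPolynomial.aeval b) (hle n)).comp ((truncTotalAlgHom σ R n).restrictScalars R)
  have hf : ∀ {m n : ℕ} (h : m ≤ n),
      (Ideal.Quotient.factorₐ R (Ideal.pow_le_pow_right h)).comp (f n) = f m := fun {m n} h => by
    refine AlgHom.ext fun p => ?_
    show Ideal.Quotient.mk (I ^ m) (MvPolynomial.aeval b (truncTotal n p)) =
      Ideal.Quotient.mk (I ^ m) (MvPolynomial.aeval b (truncTotal m p))
    rw [Ideal.Quotient.eq, ← map_sub]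
    exact hle m (truncTotal_sub_truncTotal_mem_pow_idealOfVars h le_rfl p)
  refine ⟨((AdicCompletion.ofAlgEquiv I).symm.restrictScalars R).toAlgHom.comp (AdicCompletion.liftAlgHom I f hf),
    fun i => sub_eq_zero.mp (IsHausdorff.haus (I := I) inferInstance _ fun n => ?_)⟩
  rw [SModEq.zero, smul_eq_mul, Ideal.mul_top, ← Ideal.Quotient.eq]
  show Ideal.Quotient.mk (I ^ n) ((AdicCompletion.ofAlgEquiv I).symm (AdicCompletion.liftAlgHom I f hf (X i))) = _
  rw [AdicCompletion.mk_ofAlgEquiv_symm, AdicCompletion.evalₐ_liftAlgHom]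
  show Ideal.quotientMapₐ (I ^ n) (MvPolynomial.aeval b) (hle n) (truncTotalAlgHom σ R n (X i)) = _
  have h2 : (X i : MvPowerSeries σ R) = algebraMap (MvPolynomial σ R) (MvPowerSeries σ R) (MvPolynomial.X i) := by
    rw [MvPowerSeries.algebraMap_apply', MvPolynomial.coe_X]
    simp
  rw [h2, AlgHom.commutes]
  show Ideal.Quotient.mk (I ^ n) (MvPolynomial.aeval b (MvPolynomial.X i)) = _
  rw [MvPolynomial.aeval_X]

/-- Surjectivity by successive approximation. -/
theorem surjective_of_approx {A : Type u} {S : Type v} [CommRing A] [CommRing S] (f : A →+* S) (a : Ideal A)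
    [IsPrecomplete a A] (I : Ideal S) [IsHausdorff I S] (hf : ∀ x ∈ a, f x ∈ I)
    (h0 : ∀ s, ∃ x, f x - s ∈ I) (h1 : ∀ s ∈ I, ∃ x ∈ a, f x - s ∈ I ^ 2) : Function.Surjective f := by
  classical
  have hpow : ∀ n, ∀ x ∈ a ^ n, f x ∈ I ^ n := fun n x hx => by
    refine Ideal.pow_right_mono (Ideal.map_le_iff_le_comap.mpr hf) n ?_
    rw [← Ideal.map_pow]
    exact Ideal.mem_map_of_mem f hx
  have hn : ∀ n, ∀ s ∈ I ^ n, ∃ x ∈ a ^ n, f x - s ∈ I ^ (n + 1) := by
    intro n
    induction n with
    | zero => exact fun s _ => (h0 s).imp fun x hx => ⟨by simp, by simpa using hx⟩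
    | succ n ih =>
      intro s hs
      rw [pow_succ] at hs
      induction hs using Submodule.mul_induction_on' with
      | mem_mul_mem p hp q hq =>
        obtain ⟨x, hx, hx'⟩ := ih p hp; obtain ⟨y, hy, hy'⟩ := h1 q hq
        refine ⟨x * y, pow_succ a n ▸ Ideal.mul_mem_mul hx hy, ?_⟩
        have : f (x * y) - p * q = (f x - p) * f y + p * (f y - q) := by rw [map_mul]; ring
        rw [this]
        refine add_mem ?_ ?_
        · rw [pow_succ]; exact Ideal.mul_mem_mul hx' (hf y hy)
        · rw [show n + 1 + 1 = n + 2 from rfl, pow_add]; exact Ideal.mul_mem_mul hp hy'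
      | add p _ q _ hp hq =>
        obtain ⟨x, hx, hx'⟩ := hp; obtain ⟨y, hy, hy'⟩ := hq
        exact ⟨x + y, add_mem hx hy, by simpa [map_add, add_sub_add_comm] using add_mem hx' hy'⟩
  intro s
  choose c hc hc' using hn
  have step : ∀ n x, f x - s ∈ I ^ (n + 1) → ∃ y, y - x ∈ a ^ (n + 1) ∧ f y - s ∈ I ^ (n + 1 + 1) := by
    intro n x hx
    have hd : s - f x ∈ I ^ (n + 1) := by simpa using neg_mem hx
    refine ⟨x + c (n + 1) _ hd, by simpa using hc (n + 1) _ hd, ?_⟩
    convert hc' (n + 1) _ hd using 1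
    rw [map_add]; ring
  choose g hg hg' using step
  obtain ⟨x0, hx0⟩ := h0 s
  let seq : (n : ℕ) → {x : A // f x - s ∈ I ^ (n + 1)} := fun n =>
    Nat.rec ⟨x0, by simpa using hx0⟩ (fun n p => ⟨g n p.1 p.2, hg' n p.1 p.2⟩) n
  have hcauchy : ∀ {m n}, m ≤ n → (seq m).1 ≡ (seq n).1 [SMOD (a ^ m • ⊤ : Submodule A A)] := by
    intro m n hmn
    induction n, hmn using Nat.le_induction with
    | base => rfl
    | succ n hmn ih =>
      refine ih.trans (SModEq.sub_mem.mpr ?_)
      rw [smul_eq_mul, Ideal.mul_top]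
      have : (seq n).1 - (seq (n + 1)).1 = -((seq (n + 1)).1 - (seq n).1) := by ring
      rw [this]
      exact neg_mem (Ideal.pow_le_pow_right (by omega) (hg n _ (seq n).2))
  obtain ⟨L, hL⟩ := IsPrecomplete.prec ‹_› hcauchy
  refine ⟨L, sub_eq_zero.mp (IsHausdorff.haus (I := I) ‹_› _ fun n => ?_)⟩
  rw [SModEq.zero, smul_eq_mul, Ideal.mul_top]
  have h2 := hL n
  rw [SModEq.sub_mem, smul_eq_mul, Ideal.mul_top] at h2
  have : f L - s = (f (seq n).1 - s) - f ((seq n).1 - L) := by rw [map_sub]; ring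
  rw [this]
  exact sub_mem (Ideal.pow_le_pow_right (Nat.le_succ n) (seq n).2) (hpow n _ h2)

section linear
omit [Finite σ]
variable [Fintype σ] [DecidableEq σ]

lemma degree_lt_two {d : σ →₀ ℕ} (hd : degree d < 2) : d = 0 ∨ ∃ k, d = single k 1 := by
  rcases Nat.eq_zero_or_pos (degree d) with h | h
  · exact Or.inl ((degree_eq_zero_iff d).mp h)
  · have h1 : degree d = 1 := by omega
    have hne : d ≠ 0 := fun h0 => by simp [h0] at h1
    obtain ⟨k, hk⟩ := support_nonempty_iff.mpr hne
    refine Or.inr ⟨k, ?_⟩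
    have hk1 : 1 ≤ d k := Nat.pos_of_ne_zero (mem_support_iff.mp hk)
    have hadd : degree (d - single k 1) + 1 = degree d := by
      conv_rhs => rw [← tsub_add_cancel_of_le (show single k 1 ≤ d from Finsupp.single_le_iff.mpr hk1)]
      rw [map_add, degree_single]
    have h2 : d - single k 1 = 0 := (degree_eq_zero_iff _).mp (by omega)
    rw [← tsub_add_cancel_of_le (show single k 1 ≤ d from Finsupp.single_le_iff.mpr hk1), h2, zero_add]

/-- The linear part. -/
lemma sub_linear_mem (f : MvPowerSeries σ R) (hf : constantCoeff f = 0) :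
    f - ∑ k, C (coeff (single k 1) f) * X k ∈ vars σ R ^ 2 := by
  refine mem_pow_of_coeff fun d hd => ?_
  rw [map_sub, map_sum]
  rcases degree_lt_two hd with rfl | ⟨j, rfl⟩
  · rw [coeff_zero_eq_constantCoeff_apply, hf, zero_sub, neg_eq_zero]
    exact Finset.sum_eq_zero fun k _ => by simp
  · rw [Finset.sum_eq_single j]
    · simp [coeff_C_mul]
    · intro k _ hk
      rw [coeff_C_mul, coeff_index_single_X, if_neg (Ne.symm hk), mul_zero]
    · simp

variable {φ : MvPowerSeries σ R →ₐ[R] MvPowerSeries σ R}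

lemma map_vars_pow (h0 : ∀ i, constantCoeff (φ (X i)) = 0) {n : ℕ} {f : MvPowerSeries σ R}
    (hf : f ∈ vars σ R ^ n) : φ f ∈ vars σ R ^ n := by
  have h1 : (vars σ R).map φ.toRingHom ≤ vars σ R := by
    rw [Ideal.map_span, Ideal.span_le]
    rintro _ ⟨_, ⟨i, rfl⟩, rfl⟩
    exact mem_vars_iff.mpr (h0 i)
  exact Ideal.pow_right_mono h1 n (Ideal.map_pow φ.toRingHom (vars σ R) n ▸ Ideal.mem_map_of_mem _ hf)

lemma constantCoeff_map (h0 : ∀ i, constantCoeff (φ (X i)) = 0) (f : MvPowerSeries σ R) :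
    constantCoeff (φ f) = constantCoeff f := by
  have h1 : φ (f - C (constantCoeff f)) ∈ vars σ R ^ 1 :=
    map_vars_pow h0 (by rw [pow_one, mem_vars_iff]; simp)
  rw [pow_one, mem_vars_iff, map_sub, c_eq_algebraMap, AlgHom.commutes, map_sub, algebraMap_apply] at h1
  simpa [sub_eq_zero] using h1

lemma coeff_single_map (h0 : ∀ i, constantCoeff (φ (X i)) = 0) (f : MvPowerSeries σ R)
    (hf : constantCoeff f = 0) (j : σ) :
    coeff (single j 1) (φ f) = ∑ k, coeff (single k 1) f * coeff (single j 1) (φ (X k)) := by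
  have h := coeff_eq_zero_of_mem_pow (map_vars_pow h0 (sub_linear_mem f hf)) (d := single j 1) (by simp)
  rw [map_sub, map_sub, sub_eq_zero] at h
  rw [h, map_sum, map_sum]
  refine Finset.sum_congr rfl fun k _ => ?_
  rw [map_mul, c_eq_algebraMap, AlgHom.commutes, ← c_eq_algebraMap, coeff_C_mul]

theorem surjective_of_isUnit_det (h0 : ∀ i, constantCoeff (φ (X i)) = 0)
    (hJ : IsUnit (Matrix.det (Matrix.of fun i j => coeff (single j 1) (φ (X i))))) :
    Function.Surjective φ := by
  set J := Matrix.of fun i j => coeff (single j 1) (φ (X i)) with hJdef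
  refine surjective_of_approx φ.toRingHom (vars σ R) (vars σ R) (fun x hx => ?_) (fun s => ?_) fun s hs => ?_
  · simpa using map_vars_pow (n := 1) h0 (by simpa using hx)
  · refine ⟨C (constantCoeff s), mem_vars_iff.mpr ?_⟩
    rw [map_sub]
    show constantCoeff (φ _) - _ = 0
    rw [constantCoeff_map h0, constantCoeff_C, sub_self]
  · rw [mem_vars_iff] at hs
    let c : σ → R := Matrix.vecMul (fun k => coeff (single k 1) s) J⁻¹
    refine ⟨∑ k, C (c k) * X k, sum_mem fun k _ => Ideal.mul_mem_left _ _ (Ideal.subset_span ⟨k, rfl⟩), ?_⟩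
    refine mem_pow_of_coeff fun d hd => ?_
    show coeff d (φ _ - s) = 0
    have hc0 : constantCoeff (∑ k, C (c k) * X k) = 0 := by simp [map_sum]
    rcases degree_lt_two hd with rfl | ⟨j, rfl⟩
    · rw [coeff_zero_eq_constantCoeff_apply, map_sub, constantCoeff_map h0, hc0, hs, sub_self]
    · rw [map_sub, coeff_single_map h0 _ hc0, sub_eq_zero]
      have hk : ∀ k, coeff (single k 1) (∑ l, C (c l) * X l) = c k := fun k => by
        rw [map_sum, Finset.sum_eq_single k]
        · simp [coeff_C_mul]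
        · intro l _ hl; rw [coeff_C_mul, coeff_index_single_X, if_neg (Ne.symm hl), mul_zero]
        · simp
      simp only [hk]
      have h2 : Matrix.vecMul c J = fun k => coeff (single k 1) s := by
        rw [Matrix.vecMul_vecMul, Matrix.nonsing_inv_mul _ hJ, Matrix.vecMul_one]
      exact congr_fun h2 j

/-- Inverse function theorem for formal power series. -/
theorem bijective_of_isUnit_det (h0 : ∀ i, constantCoeff (φ (X i)) = 0)
    (hJ : IsUnit (Matrix.det (Matrix.of fun i j => coeff (single j 1) (φ (X i))))) :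
    Function.Bijective φ := by
  have hs := surjective_of_isUnit_det h0 hJ
  choose g hg using fun i => hs (X i)
  have hg0 : ∀ i, constantCoeff (g i) = 0 := fun i => by
    rw [← constantCoeff_map h0, hg, constantCoeff_X]
  have ha := hasSubst_of_constantCoeff_zero hg0
  let θ : MvPowerSeries σ R →ₐ[R] MvPowerSeries σ R := substAlgHom ha
  have hθ : ∀ i, θ (X i) = g i := fun i => substAlgHom_X ha i
  have hcomp : φ.comp θ = AlgHom.id R _ := algHom_ext (vars σ R)
    (fun i => by rw [AlgHom.comp_apply, hθ, hg]; exact Ideal.subset_span ⟨i, rfl⟩)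
    (fun i => by rw [AlgHom.comp_apply, hθ, hg]; rfl)
  have hθ0 : ∀ i, constantCoeff (θ (X i)) = 0 := fun i => by rw [hθ]; exact hg0 i
  have hθJ : IsUnit (Matrix.det (Matrix.of fun i j => coeff (single j 1) (θ (X i)))) := by
    refine IsUnit.of_mul_eq_one (Matrix.det (Matrix.of fun i j => coeff (single j 1) (φ (X i)))) ?_
    rw [← Matrix.det_mul]
    convert Matrix.det_one (n := σ) (R := R) using 2
    ext i j
    rw [Matrix.mul_apply]
    simp only [Matrix.of_apply, hθ]
    rw [← coeff_single_map h0 _ (hg0 i), hg, coeff_index_single_X, Matrix.one_apply]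
    exact if_congr eq_comm rfl rfl
  have hsθ := surjective_of_isUnit_det hθ0 hθJ
  refine ⟨fun x y h => ?_, hs⟩
  obtain ⟨x', rfl⟩ := hsθ x
  obtain ⟨y', rfl⟩ := hsθ y
  have hx := AlgHom.congr_fun hcomp x'
  have hy := AlgHom.congr_fun hcomp y'
  simp only [AlgHom.comp_apply, AlgHom.id_apply] at hx hy
  rw [← hx, h, hy]

omit [DecidableEq σ] in
/-- Linear coefficient of a product. -/
lemma coeff_single_mul (a y : MvPowerSeries σ R) (hy : constantCoeff y = 0) (j : σ) :
    coeff (single j 1) (a * y) = constantCoeff a * coeff (single j 1) y := by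
  have h1 : (a - C (constantCoeff a)) * y ∈ vars σ R ^ 2 := by
    rw [pow_two]
    exact Ideal.mul_mem_mul (mem_vars_iff.mpr (by simp)) (mem_vars_iff.mpr hy)
  have h2 := coeff_eq_zero_of_mem_pow h1 (d := single j 1) (by simp)
  rwa [sub_mul, map_sub, coeff_C_mul, sub_eq_zero] at h2

end linear

section field

variable {k : Type v} [Field k]

lemma maximalIdeal_eq_vars : IsLocalRing.maximalIdeal (MvPowerSeries σ k) = vars σ k := by
  ext f
  rw [mem_vars_iff, IsLocalRing.mem_maximalIdeal, mem_nonunits_iff, isUnit_iff_constantCoeff, isUnit_iff_ne_zero,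
    not_not]

lemma le_ringKrullDim (d : ℕ) : ((d : ℕ∞) : WithBot ℕ∞) ≤ ringKrullDim (MvPowerSeries (Fin d) k) := by
  induction d with
  | zero => exact ringKrullDim_nonneg_of_nontrivial
  | succ d ih =>
    rw [ringKrullDim_eq_of_ringEquiv (finSuccEquiv k d).toRingEquiv]
    refine le_trans ?_ ringKrullDim_succ_le_ringKrullDim_powerseries
    push_cast
    exact add_le_add ih le_rfl

lemma isRegularLocalRing_fin (d : ℕ) : IsRegularLocalRing (MvPowerSeries (Fin d) k) := by
  refine IsRegularLocalRing.of_spanFinrank_maximalIdeal_le _ (le_trans ?_ (le_ringKrullDim d))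
  rw [maximalIdeal_eq_vars]
  have h := Submodule.spanFinrank_span_le_ncard_of_finite (R := MvPowerSeries (Fin d) k)
    (Set.finite_range (X : Fin d → MvPowerSeries (Fin d) k))
  have h2 : (Set.range (X : Fin d → MvPowerSeries (Fin d) k)).ncard ≤ d := by
    rw [← Set.image_univ]
    exact (Set.ncard_image_le Set.finite_univ).trans (by simp [Set.ncard_univ])
  exact WithBot.coe_le_coe.mpr (Nat.cast_le.mpr (h.trans h2))

lemma ringKrullDim_eq (d : ℕ) : ringKrullDim (MvPowerSeries (Fin d) k) = ((d : ℕ∞) : WithBot ℕ∞) := by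
  refine le_antisymm ?_ (le_ringKrullDim d)
  refine (ringKrullDim_le_spanFinrank_maximalIdeal _).trans ?_
  rw [maximalIdeal_eq_vars]
  have h := Submodule.spanFinrank_span_le_ncard_of_finite (R := MvPowerSeries (Fin d) k)
    (Set.finite_range (X : Fin d → MvPowerSeries (Fin d) k))
  have h2 : (Set.range (X : Fin d → MvPowerSeries (Fin d) k)).ncard ≤ d := by
    rw [← Set.image_univ]
    exact (Set.ncard_image_le Set.finite_univ).trans (by simp [Set.ncard_univ])
  exact WithBot.coe_le_coe.mpr (Nat.cast_le.mpr (h.trans h2))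

end field

end Groth.Agent.H02CA.PS
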