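import Groth.Prelude.Def_CAlgX
import Groth.Agent.H02CA.PowerSeries
import Mathlib.RingTheory.Smooth.Basic
import Mathlib.RingTheory.AdicCompletion.Algebra
import Mathlib.RingTheory.AdicCompletion.Completeness

/-!
Formal smoothness for adic topologies: completions and power series.
-/

set_option autoImplicit false
set_option linter.style.haveILetI false

universe u

namespace Groth.Agent.H02CA.AdicSmooth

open CAlgX

/-- A map sending `𝔫 ^ k` into a square-zero ideal kills `𝔫 ^ (k + k)`. -/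
theorem map_eq_zero_of_sq {S A : Type u} [CommRing S] [CommRing A] (χ : S →+* A) {J : Ideal A}
    (hJ : J ^ 2 = ⊥) {𝔫 : Ideal S} {k : ℕ} (h : ∀ x ∈ 𝔫 ^ k, χ x ∈ J) :
    ∀ x ∈ 𝔫 ^ (k + k), χ x = 0 := by
  intro x hx
  have h1 : (𝔫 ^ k * 𝔫 ^ k).map χ ≤ J ^ 2 := by
    rw [Ideal.map_mul, pow_two]
    exact Ideal.mul_mono (Ideal.map_le_iff_le_comap.mpr h) (Ideal.map_le_iff_le_comap.mpr h)
  rw [← pow_add, hJ] at h1
  exact Ideal.mem_bot.mp (h1 (Ideal.mem_map_of_mem χ hx))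

theorem isAdicComplete_of_pow_eq_bot {A : Type u} [CommRing A] {I : Ideal A} {n : ℕ}
    (h : I ^ n = ⊥) : IsAdicComplete I A := by
  have hb : ∀ m, n ≤ m → (I ^ m • ⊤ : Submodule A A) = ⊥ := fun m hm => by
    rw [smul_eq_mul, Ideal.mul_top, eq_bot_iff, ← h]
    exact Ideal.pow_le_pow_right hm
  refine { haus' := fun x hx => ?_, prec' := fun f hf => ⟨f n, fun m => ?_⟩ }
  · have h1 := hx n
    rwa [hb n le_rfl, SModEq.bot] at h1
  · rcases le_total m n with hmn | hnm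
    · exact hf hmn
    · have h1 := hf hnm
      rw [hb n le_rfl, SModEq.bot] at h1
      rw [h1]

section completion

variable {S : Type u} [CommRing S] (𝔫 : Ideal S) (h𝔫 : 𝔫.FG)

include h𝔫 in
theorem evalₐ_eq_zero_iff {n : ℕ} (x : AdicCompletion 𝔫 S) :
    AdicCompletion.evalₐ 𝔫 n x = 0 ↔ x ∈ (𝔫 ^ n).map (algebraMap S (AdicCompletion 𝔫 S)) := by
  have hle : (𝔫 ^ n • ⊤ : Ideal S) = 𝔫 ^ n := by rw [smul_eq_mul, Ideal.mul_top]
  have hmem : x ∈ (AdicCompletion.eval 𝔫 S n).ker ↔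
      x ∈ (𝔫 ^ n).map (algebraMap S (AdicCompletion 𝔫 S)) := by
    rw [← AdicCompletion.pow_smul_top_eq_ker_eval h𝔫, Ideal.smul_top_eq_map,
      Submodule.restrictScalars_mem]
  rw [← hmem, LinearMap.mem_ker]
  constructor
  · intro hx
    rw [← AdicCompletion.factor_evalₐ_eq_eval 𝔫 x hle.ge, hx, map_zero]
  · intro hx
    rw [← AdicCompletion.factor_eval_eq_evalₐ 𝔫 x hle.le, hx]
    exact map_zero (Ideal.Quotient.factor hle.le)

include h𝔫 in
theorem exists_sub_algebraMap_mem (n : ℕ) (x : AdicCompletion 𝔫 S) :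
    ∃ s : S, x - algebraMap S _ s ∈ (𝔫 ^ n).map (algebraMap S (AdicCompletion 𝔫 S)) := by
  obtain ⟨s, hs⟩ := Ideal.Quotient.mk_surjective (AdicCompletion.evalₐ 𝔫 n x)
  refine ⟨s, (evalₐ_eq_zero_iff 𝔫 h𝔫 _).mp ?_⟩
  rw [map_sub, AlgHom.commutes, Ideal.Quotient.algebraMap_eq, hs, sub_self]

include h𝔫 in
/-- Ring maps out of the completion killing a power of the ideal are determined on `S`. -/
theorem ringHom_ext {A : Type u} [CommRing A] (f g : AdicCompletion 𝔫 S →+* A) (n : ℕ)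
    (hf : ∀ x ∈ 𝔫 ^ n, f (algebraMap S _ x) = 0)
    (h : ∀ s, f (algebraMap S _ s) = g (algebraMap S _ s)) : f = g := by
  refine RingHom.ext fun x => ?_
  obtain ⟨s, hs⟩ := exists_sub_algebraMap_mem 𝔫 h𝔫 n x
  have h1 : ∀ (e : AdicCompletion 𝔫 S →+* A), (∀ y ∈ 𝔫 ^ n, e (algebraMap S _ y) = 0) →
      e x = e (algebraMap S _ s) := fun e he => by
    rw [← sub_eq_zero, ← map_sub]
    exact RingHom.mem_ker.mp ((Ideal.map_le_iff_le_comap.mpr fun y hy =>
      RingHom.mem_ker.mpr (he y hy) : (𝔫 ^ n).map (algebraMap S _) ≤ RingHom.ker e) hs)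
  rw [h1 f hf, h1 g fun y hy => (h y).symm.trans (hf y hy), h]

include h𝔫 in
/-- Ring maps killing a power of the ideal extend to the completion. -/
theorem exists_extension {A : Type u} [CommRing A] (f : S →+* A) (n : ℕ)
    (hf : ∀ x ∈ 𝔫 ^ n, f x = 0) :
    ∃ g : AdicCompletion 𝔫 S →+* A, ∀ s, g (algebraMap S _ s) = f s :=
  ⟨(Ideal.Quotient.lift (𝔫 ^ n) f hf).comp (AdicCompletion.evalₐ 𝔫 n).toRingHom, fun s => by
    rw [RingHom.comp_apply, AlgHom.toRingHom_eq_coe, RingHom.coe_coe, AlgHom.commutes,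
      Ideal.Quotient.algebraMap_eq, Ideal.Quotient.lift_mk]⟩

end completion

/-- Adic formal smoothness can be tested on the completion. -/
theorem iff_adicCompletion {R S : Type u} [CommRing R] [CommRing S] [Algebra R S] (𝔫 : Ideal S)
    (h𝔫 : 𝔫.FG) :
    IsAdicFormallySmooth R S 𝔫 ↔
      IsAdicFormallySmooth R (AdicCompletion 𝔫 S)
        (𝔫.map (algebraMap S (AdicCompletion 𝔫 S))) := by
  constructor
  · intro h A _ _ J hJ ψ hψ
    obtain ⟨k, hk⟩ := hψ
    obtain ⟨χ, hχ⟩ := h A J hJ (ψ.comp (IsScalarTower.toAlgHom R S (AdicCompletion 𝔫 S)))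
      ⟨k, fun x hx => hk _ (by rw [← Ideal.map_pow]; exact Ideal.mem_map_of_mem _ hx)⟩
    have hχ' : ∀ s, Ideal.Quotient.mk J (χ s) = ψ (algebraMap S _ s) := fun s =>
      AlgHom.congr_fun hχ s
    have hkill := map_eq_zero_of_sq χ.toRingHom hJ (𝔫 := 𝔫) (k := k) fun x hx =>
      Ideal.Quotient.eq_zero_iff_mem.mp ((hχ' x).trans
        (hk _ (by rw [← Ideal.map_pow]; exact Ideal.mem_map_of_mem _ hx)))
    obtain ⟨g, hg⟩ := exists_extension 𝔫 h𝔫 χ.toRingHom (k + k) hkill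
    refine ⟨⟨g, fun r => ?_⟩, ?_⟩
    · change g (algebraMap R (AdicCompletion 𝔫 S) r) = _
      rw [IsScalarTower.algebraMap_apply R S (AdicCompletion 𝔫 S), hg]
      exact χ.commutes r
    · refine AlgHom.coe_ringHom_injective
        (ringHom_ext 𝔫 h𝔫 _ _ (k + k) (fun x hx => ?_) fun s => ?_)
      · change Ideal.Quotient.mk J (g _) = 0
        rw [hg, hkill x hx, map_zero]
      · change Ideal.Quotient.mk J (g _) = ψ _
        rw [hg]; exact hχ' s
  · intro h A _ _ J hJ ψ hψ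
    obtain ⟨k, hk⟩ := hψ
    obtain ⟨g, hg⟩ := exists_extension 𝔫 h𝔫 ψ.toRingHom k hk
    obtain ⟨χ, hχ⟩ := h A J hJ ⟨g, fun r => by
        change g (algebraMap R (AdicCompletion 𝔫 S) r) = _
        rw [IsScalarTower.algebraMap_apply R S (AdicCompletion 𝔫 S), hg]
        exact ψ.commutes r⟩ ⟨k, fun x hx => by
        rw [← Ideal.map_pow] at hx
        exact RingHom.mem_ker.mp ((Ideal.map_le_iff_le_comap.mpr fun y hy =>
          RingHom.mem_ker.mpr ((hg y).trans (hk y hy)) :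
            (𝔫 ^ k).map (algebraMap S _) ≤ RingHom.ker g) hx)⟩
    refine ⟨χ.comp (IsScalarTower.toAlgHom R S (AdicCompletion 𝔫 S)), AlgHom.ext fun s => ?_⟩
    exact (AlgHom.congr_fun hχ (algebraMap S _ s)).trans (hg s)

/-- The base may be completed too. -/
theorem iff_completion_base {R S : Type u} [CommRing R] [CommRing S] [Algebra R S] (𝔪 : Ideal R)
    (h𝔪 : 𝔪.FG) [Algebra (AdicCompletion 𝔪 R) S] [IsScalarTower R (AdicCompletion 𝔪 R) S]
    (𝔫 : Ideal S) {c : ℕ} (hc : (𝔪 ^ c).map (algebraMap R S) ≤ 𝔫) :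
    IsAdicFormallySmooth R S 𝔫 ↔ IsAdicFormallySmooth (AdicCompletion 𝔪 R) S 𝔫 := by
  have hpow : ∀ {k : ℕ} {x : R}, x ∈ 𝔪 ^ (c * k) → algebraMap R S x ∈ 𝔫 ^ k := fun {k x} hx => by
    have : (𝔪 ^ (c * k)).map (algebraMap R S) ≤ 𝔫 ^ k := by
      rw [pow_mul, Ideal.map_pow]
      exact Ideal.pow_right_mono hc k
    exact this (Ideal.mem_map_of_mem _ hx)
  constructor
  · intro h A _ _ J hJ ψ hψ
    obtain ⟨k, hk⟩ := hψ
    letI : Algebra R A :=
      ((algebraMap (AdicCompletion 𝔪 R) A).comp (algebraMap R (AdicCompletion 𝔪 R))).toAlgebra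
    haveI : IsScalarTower R (AdicCompletion 𝔪 R) A := IsScalarTower.of_algebraMap_eq fun _ => rfl
    obtain ⟨χ, hχ⟩ := h A J hJ (ψ.restrictScalars R) ⟨k, hk⟩
    have hχ' : ∀ s, Ideal.Quotient.mk J (χ s) = ψ s := fun s => AlgHom.congr_fun hχ s
    have hkill := map_eq_zero_of_sq (algebraMap R A) hJ (𝔫 := 𝔪) (k := c * k) fun x hx =>
      Ideal.Quotient.eq_zero_iff_mem.mp (by
        rw [show algebraMap R A x = χ (algebraMap R S x) from (χ.commutes x).symm, hχ',
          hk _ (hpow hx)])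
    have hcomm : χ.toRingHom.comp (algebraMap (AdicCompletion 𝔪 R) S) =
        algebraMap (AdicCompletion 𝔪 R) A := by
      refine ringHom_ext 𝔪 h𝔪 _ _ (c * k + c * k) (fun x hx => ?_) fun r => ?_
      · change χ (algebraMap (AdicCompletion 𝔪 R) S (algebraMap R _ x)) = 0
        rw [← IsScalarTower.algebraMap_apply, AlgHom.commutes, hkill x hx]
      · change χ (algebraMap (AdicCompletion 𝔪 R) S (algebraMap R _ r)) = _
        rw [← IsScalarTower.algebraMap_apply, AlgHom.commutes]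
        rfl
    exact ⟨⟨χ.toRingHom, fun r => RingHom.congr_fun hcomm r⟩, AlgHom.ext hχ'⟩
  · intro h A _ _ J hJ ψ hψ
    obtain ⟨k, hk⟩ := hψ
    have hkill := map_eq_zero_of_sq (algebraMap R A) hJ (𝔫 := 𝔪) (k := c * k) fun x hx =>
      Ideal.Quotient.eq_zero_iff_mem.mp (by
        rw [show Ideal.Quotient.mk J (algebraMap R A x) = algebraMap R (A ⧸ J) x from rfl,
          ← ψ.commutes, hk _ (hpow hx)])
    obtain ⟨g, hg⟩ := exists_extension 𝔪 h𝔪 (algebraMap R A) (c * k + c * k) hkill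
    letI := g.toAlgebra
    haveI : IsScalarTower R (AdicCompletion 𝔪 R) A :=
      IsScalarTower.of_algebraMap_eq fun r => (hg r).symm
    have hcomm : ψ.toRingHom.comp (algebraMap (AdicCompletion 𝔪 R) S) =
        algebraMap (AdicCompletion 𝔪 R) (A ⧸ J) := by
      refine ringHom_ext 𝔪 h𝔪 _ _ (c * k + c * k) (fun x hx => ?_) fun r => ?_
      · change ψ (algebraMap (AdicCompletion 𝔪 R) S (algebraMap R _ x)) = 0
        rw [← IsScalarTower.algebraMap_apply, AlgHom.commutes,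
          show algebraMap R (A ⧸ J) x = Ideal.Quotient.mk J (algebraMap R A x) from rfl,
          hkill x hx, map_zero]
      · change ψ (algebraMap (AdicCompletion 𝔪 R) S (algebraMap R _ r)) =
          Ideal.Quotient.mk J (g (algebraMap R _ r))
        rw [← IsScalarTower.algebraMap_apply, AlgHom.commutes, hg]
        rfl
    obtain ⟨χ, hχ⟩ := h A J hJ ⟨ψ.toRingHom, fun r => RingHom.congr_fun hcomm r⟩ ⟨k, hk⟩
    exact ⟨χ.restrictScalars R, AlgHom.ext fun s => (AlgHom.congr_fun hχ s : _)⟩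

/-- Power series over an adically formally smooth coefficient ring. -/
theorem mvPowerSeries {k K : Type u} [CommRing k] [CommRing K] [Algebra k K] {σ : Type} [Finite σ]
    (𝔫 : Ideal (MvPowerSeries σ K)) (hX : ∀ i, MvPowerSeries.X i ∈ 𝔫)
    (hK : ∀ (A : Type u) [CommRing A] [Algebra k A] (J : Ideal A), J ^ 2 = ⊥ →
      ∀ ψ : K →ₐ[k] A ⧸ J,
        (∃ n : ℕ, ∀ x, algebraMap K (MvPowerSeries σ K) x ∈ 𝔫 ^ n → ψ x = 0) →
        ∃ χ : K →ₐ[k] A, (Ideal.Quotient.mkₐ k J).comp χ = ψ) :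
    IsAdicFormallySmooth k (MvPowerSeries σ K) 𝔫 := by
  intro A _ _ J hJ ψ hψ
  obtain ⟨n, hn⟩ := hψ
  obtain ⟨χ, hχ⟩ := hK A J hJ (ψ.comp (IsScalarTower.toAlgHom k K (MvPowerSeries σ K)))
    ⟨n, fun x hx => hn _ hx⟩
  letI : Algebra K A := χ.toRingHom.toAlgebra
  haveI : IsScalarTower k K A := IsScalarTower.of_algebraMap_eq fun r => (χ.commutes r).symm
  choose a ha using fun i : σ => Ideal.Quotient.mk_surjective (ψ (MvPowerSeries.X i))
  let I : Ideal A := Ideal.span (Set.range a)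
  have hI : I ^ (n + n) = ⊥ := by
    have h1 : I ^ n ≤ J := by
      rw [← Ideal.mk_ker (I := J), ← Ideal.map_eq_bot_iff_le_ker, Ideal.map_pow, Ideal.map_span,
        eq_bot_iff]
      have h2 : Ideal.span ((Ideal.Quotient.mk J) '' Set.range a) ≤ 𝔫.map ψ.toRingHom := by
        rw [Ideal.span_le]
        rintro _ ⟨_, ⟨i, rfl⟩, rfl⟩
        rw [ha i]
        exact Ideal.mem_map_of_mem ψ.toRingHom (hX i)
      refine (Ideal.pow_right_mono h2 n).trans ?_
      rw [← Ideal.map_pow, Ideal.map_le_iff_le_comap]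
      exact fun x hx => Ideal.mem_bot.mpr (hn x hx)
    rw [eq_bot_iff, pow_add, ← hJ, pow_two]
    exact Ideal.mul_mono h1 h1
  haveI := isAdicComplete_of_pow_eq_bot hI
  obtain ⟨g, hg⟩ := PS.exists_algHom (R := K) (σ := σ) I a fun i => Ideal.subset_span ⟨i, rfl⟩
  refine ⟨g.restrictScalars k, AlgHom.ext fun f => ?_⟩
  have hIJ : (I.map (Ideal.Quotient.mk J)) ^ (n + n) = ⊥ := by
    rw [← Ideal.map_pow, hI, Ideal.map_bot]
  haveI := isAdicComplete_of_pow_eq_bot hIJ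
  let ψK : MvPowerSeries σ K →ₐ[K] A ⧸ J :=
    { ψ.toRingHom with commutes' := fun x => (AlgHom.congr_fun hχ x).symm }
  have key : (Ideal.Quotient.mkₐ K J).comp g = ψK := by
    refine PS.algHom_ext (I.map (Ideal.Quotient.mk J)) (fun i => ?_) fun i => ?_
    · exact Ideal.mem_map_of_mem _ (hg i ▸ Ideal.subset_span ⟨i, rfl⟩)
    · change Ideal.Quotient.mk J (g (MvPowerSeries.X i)) = ψ (MvPowerSeries.X i)
      rw [hg i, ha i]
  exact AlgHom.congr_fun key f

end Groth.Agent.H02CA.AdicSmooth
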