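import Groth.Agent.H02CA.HomQuot
import Groth.Agent.H24Adic.Basic
import Groth.Agent.H24Adic.CompletionMap
import Groth.Agent.H24Adic.CompletionNoetherian
import Mathlib.RingTheory.FiniteType
import Mathlib.LinearAlgebra.Charpoly.ToMatrix

/-!
# Algebraization of algebras over an adic completion
-/

set_option autoImplicit false
universe u

namespace Groth.Agent.H02CA.Algebraize

variable {B : Type u} [CommRing B] (I : Ideal B)

/-- The image of `B` in `P` is dense and carries the induced adic topology. -/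
structure Dense (P : Type u) [CommRing P] [Algebra B P] : Prop where
  approx : ∀ (n : ℕ) (x : P), ∃ b : B, x - algebraMap B P b ∈ I.map (algebraMap B P) ^ n
  induced : ∀ (n : ℕ) (b : B), algebraMap B P b ∈ I.map (algebraMap B P) ^ n →
    b ∈ I ^ n ⊔ RingHom.ker (algebraMap B P)

theorem dense_completion [IsNoetherianRing B] : Dense I (AdicCompletion I B) where
  approx n x := by
    obtain ⟨p, hp⟩ := H24Adic.exists_sub_of_mem (IsNoetherian.noetherian I : I.FG) n x
    exact ⟨p, by rwa [← Ideal.map_pow]⟩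
  induced n b hb := by
    refine Ideal.mem_sup_left ?_
    rw [← Ideal.map_pow] at hb
    have h : Ideal.map (algebraMap B (AdicCompletion I B)) (I ^ n) ≤
        RingHom.ker (AdicCompletion.evalₐ I n).toRingHom := by
      rw [Ideal.map_le_iff_le_comap]
      intro x hx
      change AdicCompletion.evalₐ I n (algebraMap B (AdicCompletion I B) x) = 0
      rw [show algebraMap B (AdicCompletion I B) x = AdicCompletion.of I B x from rfl,
        AdicCompletion.evalₐ_of]
      exact Ideal.Quotient.eq_zero_iff_mem.mpr hx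
    have := h hb
    change AdicCompletion.evalₐ I n (algebraMap B (AdicCompletion I B) b) = 0 at this
    rw [show algebraMap B (AdicCompletion I B) b = AdicCompletion.of I B b from rfl,
      AdicCompletion.evalₐ_of] at this
    exact Ideal.Quotient.eq_zero_iff_mem.mp this

variable {I}

theorem mem_map_pow {P : Type u} [CommRing P] [Algebra B P] {n : ℕ} {a : B} (ha : a ∈ I ^ n) :
    algebraMap B P a ∈ I.map (algebraMap B P) ^ n := by
  rw [← Ideal.map_pow]
  exact Ideal.mem_map_of_mem _ ha

theorem exists_smul_family [IsNoetherianRing B] (L : ℕ) :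
    ∃ (k : ℕ) (a : Fin k → B), (∀ i, a i ∈ I ^ L) ∧ Ideal.span (Set.range a) = I ^ L := by
  obtain ⟨k, a, ha⟩ := Submodule.fg_iff_exists_fin_generating_family.mp
    (IsNoetherian.noetherian (I ^ L))
  exact ⟨k, a, fun i ↦ ha ▸ Submodule.subset_span ⟨i, rfl⟩, ha⟩

section

variable [IsNoetherianRing B] {P : Type u} [CommRing P] [Algebra B P] [IsNoetherianRing P]

/-- The image of `B`. -/
abbrev base (B P : Type u) [CommRing B] [CommRing P] [Algebra B P] : Submodule B P :=
  LinearMap.range (Algebra.linearMap B P)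

omit [IsNoetherianRing B] [IsNoetherianRing P] in
theorem Dense.mem_smul_base (hP : Dense I P) {n : ℕ} (x : base B P)
    (hx : (x : P) ∈ I.map (algebraMap B P) ^ n) : x ∈ (I ^ n • ⊤ : Submodule B (base B P)) := by
  obtain ⟨_, b, rfl⟩ := x
  obtain ⟨b₁, hb₁, b₂, hb₂, rfl⟩ := Submodule.mem_sup.mp (hP.induced n b hx)
  have : (⟨Algebra.linearMap B P (b₁ + b₂), b₁ + b₂, rfl⟩ : base B P) = b₁ • ⟨1, 1, (algebraMap B P).map_one⟩ := by
    refine Subtype.ext ?_
    change algebraMap B P (b₁ + b₂) = b₁ • (1 : P)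
    rw [map_add, show algebraMap B P b₂ = 0 from hb₂, add_zero, Algebra.smul_def, mul_one]
  rw [this]
  exact Submodule.smul_mem_smul hb₁ Submodule.mem_top

omit [IsNoetherianRing B] [IsNoetherianRing P] in
theorem coe_mem_of_mem_smul_base {n : ℕ} {x : base B P}
    (hx : x ∈ (I ^ n • ⊤ : Submodule B (base B P))) : (x : P) ∈ I.map (algebraMap B P) ^ n := by
  refine Submodule.smul_induction_on hx (fun a ha y _ ↦ ?_) fun y z hy hz ↦ ?_
  · rw [Submodule.coe_smul, Algebra.smul_def]
    exact Ideal.mul_mem_right _ _ (mem_map_pow ha)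
  · exact add_mem hy hz

omit [IsNoetherianRing B] [IsNoetherianRing P] in
theorem exists_tuple_mem {k n : ℕ} (v : Fin k → P) (hv : ∀ i, v i ∈ I.map (algebraMap B P) ^ n) :
    v ∈ (I.map (algebraMap B P) ^ n • ⊤ : Submodule P (Fin k → P)) := by
  rw [HomQuot.mem_smul_top_pi]
  intro i
  rw [smul_eq_mul, Ideal.mul_top]
  exact hv i

/-- Elements killed by a power of the ideal lie in the image of `B`. -/
theorem Dense.mem_base_of_killed (hP : Dense I P) {L : ℕ} {η : P} (h : ∀ a ∈ I ^ L, a • η = 0) :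
    η ∈ base B P := by
  obtain ⟨k, a, ha, hspan⟩ := exists_smul_family (I := I) L
  let Φ : base B P →ₗ[B] (Fin k → base B P) :=
    LinearMap.pi fun i ↦ LinearMap.lsmul B (base B P) (a i)
  obtain ⟨c, hc⟩ := HomQuot.exists_mem_ker_sub_mem I Φ
  let W : Submodule P P := LinearMap.ker
    (LinearMap.pi fun i ↦ LinearMap.lsmul P P (algebraMap B P (a i)) : P →ₗ[P] (Fin k → P))
  obtain ⟨c', hc'⟩ := HomQuot.exists_mem_pow_of_map_mem (I.map (algebraMap B P)) W.subtype
    Subtype.val_injective
  have hkill : ∀ w ∈ W, ∀ r ∈ I.map (algebraMap B P) ^ L, r * w = 0 := by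
    intro w hw r hr
    rw [← Ideal.map_pow, ← hspan, Ideal.map_span, ← Set.range_comp] at hr
    induction hr using Submodule.span_induction with
    | mem x hx =>
      obtain ⟨i, rfl⟩ := hx
      exact congr_fun hw i
    | zero => exact zero_mul w
    | add x y _ _ hx hy => rw [add_mul, hx, hy, add_zero]
    | smul s x _ hx => rw [smul_eq_mul, mul_assoc, hx, mul_zero]
  let n := L + c'
  obtain ⟨b, hb⟩ := hP.approx (n + c) η
  let b₀ : base B P := ⟨algebraMap B P b, b, rfl⟩
  obtain ⟨y, hy, hby⟩ := hc n b₀ (by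
    rw [HomQuot.mem_smul_top_pi]
    intro i
    refine hP.mem_smul_base _ ?_
    change a i • algebraMap B P b ∈ _
    rw [show a i • algebraMap B P b = -(a i • (η - algebraMap B P b)) by
      rw [smul_sub, h _ (ha i), zero_sub, neg_neg]]
    exact neg_mem (by rw [Algebra.smul_def]; exact Ideal.mul_mem_left _ _ hb))
  have hdiff : η - (y : P) ∈ I.map (algebraMap B P) ^ n := by
    rw [show η - (y : P) = (η - algebraMap B P b) + ((b₀ : P) - y) by simp [b₀]]
    exact add_mem (Ideal.pow_le_pow_right (Nat.le_add_right n c) hb)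
      (coe_mem_of_mem_smul_base hby)
  have hW : η - (y : P) ∈ W := funext fun i ↦ by
    change algebraMap B P (a i) * (η - (y : P)) = 0
    rw [← Algebra.smul_def, smul_sub, h _ (ha i), ← Submodule.coe_smul,
      show a i • y = 0 from congr_fun hy i, ZeroMemClass.coe_zero, sub_zero]
  have hzero : (⟨η - (y : P), hW⟩ : W) ∈ (I.map (algebraMap B P) ^ L • ⊤ : Submodule P W) :=
    hc' L ⟨_, hW⟩ (by rw [smul_eq_mul, Ideal.mul_top]; exact hdiff)
  have : (⟨η - (y : P), hW⟩ : W) = 0 := by
    refine Submodule.smul_induction_on hzero (fun r hr w _ ↦ ?_) fun u v hu hv ↦ ?_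
    · exact Subtype.ext (hkill w w.2 r hr)
    · rw [hu, hv, add_zero]
  rw [show η = y from sub_eq_zero.mp (congrArg Subtype.val this)]
  exact y.2

/-- Every homomorphism from a power of the ideal is, up to the image of `B`, a multiplication. -/
theorem Dense.exists_sub_mul_mem_base (hP : Dense I P) {L : ℕ} (φ : ↥(I ^ L) →ₗ[B] P) :
    ∃ δ : P, ∀ a : ↥(I ^ L), φ a - (a : B) • δ ∈ base B P := by
  obtain ⟨k, a, ha, hspan⟩ := exists_smul_family (I := I) L
  let g : Fin k → ↥(I ^ L) := fun i ↦ ⟨a i, ha i⟩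
  have hg : ∀ x : ↥(I ^ L), ∃ r : Fin k → B, ∑ i, r i • g i = x := fun x ↦ by
    obtain ⟨r, hr⟩ := (Submodule.mem_span_range_iff_exists_fun B).mp
      (show (x : B) ∈ Submodule.span B (Set.range a) by change (x : B) ∈ Ideal.span (Set.range a); rw [hspan]; exact x.2)
    exact ⟨r, Subtype.ext (by simpa [g] using hr)⟩
  let E : (↥(I ^ L) →ₗ[B] P) →ₗ[P] (Fin k → P) :=
    { toFun := fun ψ i ↦ ψ (g i), map_add' := fun _ _ ↦ rfl, map_smul' := fun _ _ ↦ rfl }
  have hE : Function.Injective E := fun ψ ψ' h ↦ LinearMap.ext fun x ↦ by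
    obtain ⟨r, rfl⟩ := hg x
    simp only [map_sum, map_smul]
    exact Finset.sum_congr rfl fun i _ ↦ by rw [show ψ (g i) = ψ' (g i) from congr_fun h i]
  obtain ⟨c₁, hlift, -, -⟩ := HomQuot.exists_lift (M := ↥(I ^ L)) (N := base B P) I
  obtain ⟨c₂, hc₂⟩ := HomQuot.exists_mem_pow_of_map_mem (I.map (algebraMap B P)) E hE
  let m := L + c₂ + c₁
  choose b hb using fun x : ↥(I ^ L) ↦ hP.approx m (φ x)
  have hwd : ∀ x y : base B P, (x : P) - y ∈ I.map (algebraMap B P) ^ m →
      Submodule.Quotient.mk (p := (I ^ m • ⊤ : Submodule B (base B P))) x = Submodule.Quotient.mk y :=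
    fun x y hxy ↦ (Submodule.Quotient.eq _).mpr (hP.mem_smul_base _ hxy)
  let ψ : ↥(I ^ L) →ₗ[B] base B P ⧸ (I ^ m • ⊤ : Submodule B (base B P)) :=
    { toFun := fun x ↦ Submodule.Quotient.mk ⟨algebraMap B P (b x), b x, rfl⟩
      map_add' := fun x y ↦ by
        rw [← Submodule.Quotient.mk_add]
        refine hwd _ _ ?_
        change algebraMap B P (b (x + y)) - (algebraMap B P (b x) + algebraMap B P (b y)) ∈ _
        rw [show algebraMap B P (b (x + y)) - (algebraMap B P (b x) + algebraMap B P (b y)) =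
          (φ x - algebraMap B P (b x)) + (φ y - algebraMap B P (b y)) -
            (φ (x + y) - algebraMap B P (b (x + y))) by rw [map_add φ]; abel]
        exact sub_mem (add_mem (hb x) (hb y)) (hb _)
      map_smul' := fun r x ↦ by
        rw [← Submodule.Quotient.mk_smul]
        refine hwd _ _ ?_
        change algebraMap B P (b (r • x)) - r • algebraMap B P (b x) ∈ _
        rw [show algebraMap B P (b (r • x)) - r • algebraMap B P (b x) =
          r • (φ x - algebraMap B P (b x)) - (φ (r • x) - algebraMap B P (b (r • x))) by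
            rw [map_smul φ, smul_sub]; abel, Algebra.smul_def]
        exact sub_mem (Ideal.mul_mem_left _ _ (hb x)) (hb _) }
  obtain ⟨ψ₀, hψ₀⟩ := hlift (L + c₂) ψ
  have hsmall : ∀ x, φ x - (ψ₀ x : P) ∈ I.map (algebraMap B P) ^ (L + c₂) := fun x ↦ by
    have h1 := coe_mem_of_mem_smul_base (hψ₀ x ⟨algebraMap B P (b x), b x, rfl⟩ rfl)
    rw [show φ x - (ψ₀ x : P) = (φ x - algebraMap B P (b x)) - ((ψ₀ x : P) - algebraMap B P (b x)) by abel]
    exact sub_mem (Ideal.pow_le_pow_right (by omega) (hb x)) h1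
  let φ' : ↥(I ^ L) →ₗ[B] P := φ - (base B P).subtype ∘ₗ ψ₀
  have hmem : φ' ∈ (I.map (algebraMap B P) ^ L • ⊤ : Submodule P (↥(I ^ L) →ₗ[B] P)) :=
    hc₂ L φ' (exists_tuple_mem _ fun i ↦ hsmall (g i))
  suffices H : ∃ δ : P, ∀ x : ↥(I ^ L), φ' x = (x : B) • δ by
    obtain ⟨δ, hδ⟩ := H
    refine ⟨δ, fun x ↦ ?_⟩
    rw [← hδ x, show φ x - φ' x = (ψ₀ x : P) by simp [φ']]
    exact (ψ₀ x).2
  refine Submodule.smul_induction_on hmem (fun r hr θ _ ↦ ?_) fun θ θ' hθ hθ' ↦ ?_
  · rw [← Ideal.map_pow] at hr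
    induction hr using Submodule.span_induction with
    | mem r hr =>
      obtain ⟨a, ha, rfl⟩ := hr
      refine ⟨θ ⟨a, ha⟩, fun x ↦ ?_⟩
      rw [LinearMap.smul_apply, smul_eq_mul, ← Algebra.smul_def, ← map_smul, ← map_smul]
      exact congrArg θ (Subtype.ext (mul_comm _ _))
    | zero => exact ⟨0, fun x ↦ by rw [zero_smul, LinearMap.zero_apply, smul_zero]⟩
    | add r s _ _ hr hs =>
      obtain ⟨d, hd⟩ := hr
      obtain ⟨d', hd'⟩ := hs
      exact ⟨d + d', fun x ↦ by rw [add_smul, LinearMap.add_apply, hd, hd', smul_add]⟩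
    | smul s r _ hr =>
      obtain ⟨d, hd⟩ := hr
      exact ⟨s * d, fun x ↦ by
        rw [smul_eq_mul, mul_smul, LinearMap.smul_apply, hd, smul_eq_mul, mul_smul_comm]⟩
  · obtain ⟨d, hd⟩ := hθ
    obtain ⟨d', hd'⟩ := hθ'
    exact ⟨d + d', fun x ↦ by rw [LinearMap.add_apply, hd, hd', smul_add]⟩

/-- Elements carried into the image of `B` by a power of the ideal lie in it. -/
theorem Dense.mem_base (hP : Dense I P) {L : ℕ} {β : P} (h : ∀ a ∈ I ^ L, a • β ∈ base B P) :
    β ∈ base B P := by
  obtain ⟨k, a, ha, hspan⟩ := exists_smul_family (I := I) L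
  let g : Fin k → ↥(I ^ L) := fun i ↦ ⟨a i, ha i⟩
  have hg : ∀ x : ↥(I ^ L), ∃ r : Fin k → B, ∑ i, r i • g i = x := fun x ↦ by
    obtain ⟨r, hr⟩ := (Submodule.mem_span_range_iff_exists_fun B).mp
      (show (x : B) ∈ Submodule.span B (Set.range a) by change (x : B) ∈ Ideal.span (Set.range a); rw [hspan]; exact x.2)
    exact ⟨r, Subtype.ext (by simpa [g] using hr)⟩
  let E : (↥(I ^ L) →ₗ[B] base B P) →ₗ[B] (Fin k → base B P) := LinearMap.pi fun i ↦ LinearMap.applyₗ (g i)
  have hE : Function.Injective E := fun ψ ψ' h ↦ LinearMap.ext fun x ↦ by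
    obtain ⟨r, rfl⟩ := hg x
    simp only [map_sum, map_smul]
    exact Finset.sum_congr rfl fun i _ ↦ by rw [show ψ (g i) = ψ' (g i) from congr_fun h i]
  have : Module.Finite B (Fin k → base B P) := inferInstance
  obtain ⟨c, hc⟩ := HomQuot.exists_mem_pow_of_map_mem (P := ↥(I ^ L) →ₗ[B] base B P)
    (Q := Fin k → base B P) I E hE
  obtain ⟨b, hb⟩ := hP.approx (L + c) β
  let b₀ : base B P := ⟨algebraMap B P b, b, rfl⟩
  let ψ : ↥(I ^ L) →ₗ[B] base B P := LinearMap.codRestrict (base B P)
    ((LinearMap.toSpanSingleton B P (β - algebraMap B P b)) ∘ₗ Submodule.subtype (I ^ L)) fun x ↦ by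
      change (x : B) • (β - algebraMap B P b) ∈ base B P
      rw [smul_sub]
      exact sub_mem (h x x.2) ((x : B) • b₀).2
  have hmem := hc L ψ (by
    rw [HomQuot.mem_smul_top_pi]
    intro i
    refine hP.mem_smul_base _ ?_
    change a i • (β - algebraMap B P b) ∈ _
    rw [Algebra.smul_def]
    exact Ideal.mul_mem_left _ _ hb)
  obtain ⟨b₁, hb₁⟩ : ∃ b₁ : base B P, ∀ x : ↥(I ^ L), ψ x = (x : B) • b₁ := by
    refine Submodule.smul_induction_on hmem (fun r hr θ _ ↦ ⟨θ ⟨r, hr⟩, fun x ↦ ?_⟩) fun θ θ' hθ hθ' ↦ ?_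
    · rw [LinearMap.smul_apply, ← map_smul, ← map_smul]
      exact congrArg θ (Subtype.ext (mul_comm _ _))
    · obtain ⟨d, hd⟩ := hθ
      obtain ⟨d', hd'⟩ := hθ'
      exact ⟨d + d', fun x ↦ by rw [LinearMap.add_apply, hd, hd', smul_add]⟩
  have hk : β - algebraMap B P b - (b₁ : P) ∈ base B P := hP.mem_base_of_killed (L := L) fun x hx ↦ by
    rw [smul_sub]
    exact sub_eq_zero.mpr (congrArg Subtype.val (hb₁ ⟨x, hx⟩))
  rw [show β = (β - algebraMap B P b - b₁) + (b₀ + b₁ : base B P) by
    simp only [b₀, Submodule.coe_add]; abel]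
  exact add_mem hk (b₀ + b₁).2

/-- A quotient by elements killed by a power of the ideal is again dense. -/
theorem Dense.quotient (hP : Dense I P) {L : ℕ} (K : Ideal P)
    (hK : ∀ x ∈ K, ∀ a ∈ I ^ L, a • x = 0) : Dense I (P ⧸ K) := by
  have hmap : I.map (algebraMap B (P ⧸ K)) = (I.map (algebraMap B P)).map (Ideal.Quotient.mk K) := by
    rw [Ideal.map_map]; rfl
  refine ⟨fun n x ↦ ?_, fun n b hb ↦ ?_⟩
  · obtain ⟨x, rfl⟩ := Ideal.Quotient.mk_surjective x
    obtain ⟨b, hb⟩ := hP.approx n x
    refine ⟨b, ?_⟩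
    rw [hmap, ← Ideal.map_pow]
    exact (map_sub (Ideal.Quotient.mk K) x (algebraMap B P b)) ▸ Ideal.mem_map_of_mem _ hb
  · rw [hmap, ← Ideal.map_pow] at hb
    obtain ⟨y, hy, hyb⟩ := (Ideal.mem_map_iff_of_surjective _ Ideal.Quotient.mk_surjective).mp hb
    have hk : algebraMap B P b - y ∈ K := Ideal.Quotient.eq.mp hyb.symm
    obtain ⟨b', hb'⟩ := hP.mem_base_of_killed (hK _ hk)
    have hb'' : algebraMap B P (b - b') ∈ I.map (algebraMap B P) ^ n := by
      rw [map_sub, show algebraMap B P b' = algebraMap B P b - y from hb', sub_sub_cancel]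
      exact hy
    have hb'K : algebraMap B (P ⧸ K) b' = 0 :=
      Ideal.Quotient.eq_zero_iff_mem.mpr ((show algebraMap B P b' = algebraMap B P b - y from hb') ▸ hk)
    rw [← sub_add_cancel b b']
    refine add_mem ?_ (Ideal.mem_sup_right hb'K)
    refine SetLike.le_def.mp (sup_le_sup_left ?_ (I ^ n)) (hP.induced n _ hb'')
    intro z hz
    exact (congrArg (Ideal.Quotient.mk K) (show algebraMap B P z = 0 from hz)).trans (map_zero _)

/-- Descent of a finite algebra over `P` which is `I`-power torsion modulo `P`. -/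
theorem Dense.exists_finite_subalgebra (hP : Dense I P) (T : Type u) [CommRing T] [Algebra B T]
    [Algebra P T] [IsScalarTower B P T] [Module.Finite P T]
    (hinj : Function.Injective (algebraMap P T))
    (htor : ∀ x : T, ∃ L : ℕ, ∀ a ∈ I ^ L, a • x ∈ Set.range (algebraMap P T)) :
    ∃ D : Subalgebra B T, Module.Finite B D ∧
      (∀ (n : ℕ) (x : T), ∃ d : D, x - (d : T) ∈ I.map (algebraMap B T) ^ n) ∧
      ∀ (n : ℕ) (d : D), (d : T) ∈ I.map (algebraMap B T) ^ n → d ∈ I.map (algebraMap B D) ^ n := by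
  classical
  let D : Subalgebra B T :=
    { carrier := {x | ∃ L : ℕ, ∀ a ∈ I ^ L, a • x ∈ Set.range (algebraMap B T)}
      algebraMap_mem' := fun r ↦ ⟨0, fun a _ ↦ ⟨a * r, by rw [map_mul, Algebra.smul_def]⟩⟩
      add_mem' := fun {x y} ⟨L, hx⟩ ⟨L', hy⟩ ↦ ⟨max L L', fun a ha ↦ by
        obtain ⟨r, hr⟩ := hx a (Ideal.pow_le_pow_right (le_max_left _ _) ha)
        obtain ⟨r', hr'⟩ := hy a (Ideal.pow_le_pow_right (le_max_right _ _) ha)
        exact ⟨r + r', by rw [map_add, hr, hr', smul_add]⟩⟩
      mul_mem' := fun {x y} ⟨L, hx⟩ ⟨L', hy⟩ ↦ ⟨L + L', fun a ha ↦ by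
        rw [pow_add] at ha
        refine Submodule.mul_induction_on ha (fun u hu v hv ↦ ?_) fun u v hu hv ↦ ?_
        · obtain ⟨r, hr⟩ := hx u hu
          obtain ⟨r', hr'⟩ := hy v hv
          exact ⟨r * r', by rw [map_mul, hr, hr', smul_mul_smul_comm]⟩
        · obtain ⟨r, hr⟩ := hu
          obtain ⟨r', hr'⟩ := hv
          exact ⟨r + r', by rw [map_add, hr, hr', add_smul]⟩⟩ }
  have hDP : ∀ q : P, algebraMap P T q ∈ D → q ∈ base B P := fun q ⟨L, hq⟩ ↦
    hP.mem_base (L := L) fun a ha ↦ by
      obtain ⟨r, hr⟩ := hq a ha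
      refine ⟨r, hinj ?_⟩
      change algebraMap P T (algebraMap B P r) = _
      rw [← IsScalarTower.algebraMap_apply B P T, hr, Algebra.smul_def, Algebra.smul_def, map_mul,
        ← IsScalarTower.algebraMap_apply B P T]
  have hdec : ∀ x : T, ∃ (d : D) (q : P), x = (d : T) + algebraMap P T q := fun x ↦ by
    obtain ⟨L, hL⟩ := htor x
    let φ : ↥(I ^ L) →ₗ[B] P :=
      ((LinearEquiv.ofInjective (IsScalarTower.toAlgHom B P T).toLinearMap hinj).symm.toLinearMap) ∘ₗ
        LinearMap.codRestrict _ ((LinearMap.toSpanSingleton B T x) ∘ₗ Submodule.subtype (I ^ L))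
          fun a ↦ hL a a.2
    have hφ : ∀ a : ↥(I ^ L), algebraMap P T (φ a) = (a : B) • x := fun a ↦
      congrArg Subtype.val ((LinearEquiv.ofInjective
        (IsScalarTower.toAlgHom B P T).toLinearMap hinj).apply_symm_apply _)
    obtain ⟨δ, hδ⟩ := hP.exists_sub_mul_mem_base φ
    refine ⟨⟨x - algebraMap P T δ, L, fun a ha ↦ ?_⟩, δ, (sub_add_cancel _ _).symm⟩
    obtain ⟨r, hr⟩ := hδ ⟨a, ha⟩
    refine ⟨r, ?_⟩
    rw [IsScalarTower.algebraMap_apply B P T, show algebraMap B P r = φ ⟨a, ha⟩ - a • δ from hr,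
      map_sub, hφ, smul_sub, Algebra.smul_def a δ, map_mul, ← IsScalarTower.algebraMap_apply B P T,
      ← Algebra.smul_def]
  have hbaseD : ∀ {q : P}, q ∈ base B P → ∃ b : B, algebraMap P T q = algebraMap B T b := by
    rintro q ⟨b, rfl⟩
    exact ⟨b, (IsScalarTower.algebraMap_apply B P T b).symm⟩
  refine ⟨D, ?_, fun n x ↦ ?_, fun n d hd ↦ ?_⟩
  · obtain ⟨s, hs⟩ := Module.Finite.fg_top (R := P) (M := T)
    choose dd qq hdq using hdec
    choose LL hLL using htor
    let L := (s.image fun x ↦ (dd x : T)).sup LL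
    refine Module.Finite.iff_fg (N := Subalgebra.toSubmodule D) |>.mpr
      ⟨insert (1 : T) (s.image fun x ↦ (dd x : T)), le_antisymm (Submodule.span_le.mpr ?_) ?_⟩
    · rw [Finset.coe_insert, Set.insert_subset_iff]
      refine ⟨one_mem D, fun y hy ↦ ?_⟩
      obtain ⟨x, -, rfl⟩ := Finset.mem_image.mp hy
      exact (dd x).2
    · intro y hy
      have hy' : y ∈ Submodule.span P (s : Set T) := hs ▸ Submodule.mem_top
      have key : ∃ e ∈ Submodule.span B ((insert (1 : T) (s.image fun x ↦ (dd x : T)) : Finset T) : Set T),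
          ∃ q : P, y = e + algebraMap P T q := by
        obtain ⟨f, -, rfl⟩ := Submodule.mem_span_finset.mp hy'
        refine Finset.sum_induction _
          (fun y ↦ ∃ e ∈ Submodule.span B ((insert (1 : T) (s.image fun x ↦ (dd x : T)) : Finset T) : Set T),
            ∃ q : P, y = e + algebraMap P T q) ?_ ⟨0, zero_mem _, 0, by simp⟩ fun x hx ↦ ?_
        · rintro u v ⟨e, he, q, rfl⟩ ⟨e', he', q', rfl⟩
          exact ⟨e + e', add_mem he he', q + q', by rw [map_add]; abel⟩
        · let r := f x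
          obtain ⟨b, hb⟩ := hP.approx L r
          have hdx : (dd x : T) ∈ s.image fun x ↦ (dd x : T) := Finset.mem_image_of_mem _ hx
          obtain ⟨q', hq'⟩ : (r - algebraMap B P b) • (dd x : T) ∈ Set.range (algebraMap P T) := by
            rw [← Ideal.map_pow] at hb
            revert hb
            generalize r - algebraMap B P b = w₀
            intro hb
            induction hb using Submodule.span_induction with
            | mem w hw =>
              obtain ⟨a, ha, rfl⟩ := hw
              rw [algebraMap_smul]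
              exact hLL _ a (Ideal.pow_le_pow_right (Finset.le_sup hdx) ha)
            | zero => exact ⟨0, by rw [map_zero, zero_smul]⟩
            | add u v _ _ hu hv =>
              obtain ⟨u', hu⟩ := hu
              obtain ⟨v', hv⟩ := hv
              exact ⟨u' + v', by rw [map_add, hu, hv, add_smul]⟩
            | smul u v _ hv =>
              obtain ⟨v', hv⟩ := hv
              exact ⟨u * v', by rw [map_mul, hv, smul_eq_mul, mul_smul, Algebra.smul_def u]⟩
          refine ⟨b • (dd x : T), Submodule.smul_mem _ _ (Submodule.subset_span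
            (Finset.mem_insert_of_mem hdx)), q' + r * qq x, ?_⟩
          have hrd : r • (dd x : T) = b • (dd x : T) + algebraMap P T q' := by
            rw [hq', sub_smul, algebraMap_smul, add_sub_cancel]
          calc f x • x = r • ((dd x : T) + algebraMap P T (qq x)) := by rw [← hdq x]
            _ = _ := by rw [smul_add, hrd, Algebra.smul_def r (algebraMap P T (qq x)), ← map_mul,
                  map_add]; abel
      obtain ⟨e, he, q, rfl⟩ := key
      have heD : e ∈ D := by
        have hle : Submodule.span B ((insert (1 : T) (s.image fun x ↦ (dd x : T)) : Finset T) : Set T) ≤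
            Subalgebra.toSubmodule D := by
          rw [Submodule.span_le, Finset.coe_insert, Set.insert_subset_iff]
          refine ⟨one_mem D, fun y hy ↦ ?_⟩
          obtain ⟨x, -, rfl⟩ := Finset.mem_image.mp hy
          exact (dd x).2
        exact hle he
      have hqD : algebraMap P T q ∈ D := by simpa using sub_mem ((show _ ∈ D from hy)) heD
      obtain ⟨b, hb⟩ := hbaseD (hDP q hqD)
      refine add_mem he ?_
      rw [hb, ← mul_one (algebraMap B T b), ← Algebra.smul_def]
      exact Submodule.smul_mem _ _ (Submodule.subset_span (Finset.mem_insert_self _ _))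
  · obtain ⟨d, q, rfl⟩ := hdec x
    obtain ⟨b, hb⟩ := hP.approx n q
    refine ⟨d + algebraMap B D b, ?_⟩
    have := Ideal.mem_map_of_mem (algebraMap P T) hb
    rw [Ideal.map_pow, Ideal.map_map, ← IsScalarTower.algebraMap_eq, map_sub,
      ← IsScalarTower.algebraMap_apply] at this
    rw [Subalgebra.coe_add, Subalgebra.coe_algebraMap, add_sub_add_left_eq_sub]
    exact this
  · rw [← Ideal.map_pow] at hd
    have key : ∀ x ∈ (I ^ n).map (algebraMap B T), ∃ e ∈ (I ^ n).map (algebraMap B D), ∃ q : P,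
        q ∈ I.map (algebraMap B P) ^ n ∧ x = (e : T) + algebraMap P T q := by
      intro x hx
      induction hx using Submodule.span_induction with
      | mem x hx =>
        obtain ⟨a, ha, rfl⟩ := hx
        exact ⟨algebraMap B D a, Ideal.mem_map_of_mem _ ha, 0, zero_mem _, by simp⟩
      | zero => exact ⟨0, zero_mem _, 0, zero_mem _, by simp⟩
      | add u v _ _ hu hv =>
        obtain ⟨e, he, q, hq, rfl⟩ := hu
        obtain ⟨e', he', q', hq', rfl⟩ := hv
        exact ⟨e + e', add_mem he he', q + q', add_mem hq hq', by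
          rw [Subalgebra.coe_add, map_add]; abel⟩
      | smul t v _ hv =>
        obtain ⟨e, he, q, hq, rfl⟩ := hv
        obtain ⟨d₁, q₁, rfl⟩ := hdec t
        obtain ⟨L, hL⟩ : ∃ L : ℕ, ∀ w : P, w ∈ I.map (algebraMap B P) ^ L →
            ∀ y : T, y ∈ ({(d₁ : T), (e : T)} : Set T) → algebraMap P T w * y ∈ Set.range (algebraMap P T) := by
          obtain ⟨L₁, h₁⟩ := htor (d₁ : T)
          obtain ⟨L₂, h₂⟩ := htor (e : T)
          refine ⟨max L₁ L₂, fun w hw y hy ↦ ?_⟩
          rw [← Ideal.map_pow] at hw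
          induction hw using Submodule.span_induction with
          | mem w hw =>
            obtain ⟨a, ha, rfl⟩ := hw
            rw [← IsScalarTower.algebraMap_apply, ← Algebra.smul_def]
            rcases hy with rfl | rfl
            · exact h₁ a (Ideal.pow_le_pow_right (le_max_left _ _) ha)
            · exact h₂ a (Ideal.pow_le_pow_right (le_max_right _ _) ha)
          | zero => exact ⟨0, by simp⟩
          | add u v _ _ hu hv =>
            obtain ⟨u', hu⟩ := hu
            obtain ⟨v', hv⟩ := hv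
            exact ⟨u' + v', by rw [map_add, map_add, hu, hv, add_mul]⟩
          | smul u v _ hv =>
            obtain ⟨v', hv⟩ := hv
            exact ⟨u * v', by rw [smul_eq_mul, map_mul, map_mul, hv, mul_assoc]⟩
        -- replace the coefficients in `P` by elements of `B`, keeping the error inside `P`
        obtain ⟨b₁, hb₁⟩ := hP.approx (n + L) q₁
        obtain ⟨b, hb⟩ := hP.approx (n + L) q
        have hsplit : ∀ (y : T), y ∈ ({(d₁ : T), (e : T)} : Set T) →
            ∀ w ∈ I.map (algebraMap B P) ^ (n + L),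
              ∃ q' ∈ I.map (algebraMap B P) ^ n, algebraMap P T w * y = algebraMap P T q' := by
          intro y hy w hw
          rw [pow_add] at hw
          refine Submodule.mul_induction_on hw (fun u hu v hv ↦ ?_) fun u v hu hv ↦ ?_
          · obtain ⟨v', hv'⟩ := hL v hv y hy
            exact ⟨u * v', Ideal.mul_mem_right _ _ hu, by rw [map_mul, map_mul, mul_assoc, hv']⟩
          · obtain ⟨u', hu', hu''⟩ := hu
            obtain ⟨v', hv', hv''⟩ := hv
            exact ⟨u' + v', add_mem hu' hv', by rw [map_add, map_add, add_mul, hu'', hv'']⟩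
        obtain ⟨r, hr, hr'⟩ := hsplit d₁ (Or.inl rfl) _ hb
        obtain ⟨r₁, hr₁, hr₁'⟩ := hsplit e (Or.inr rfl) _ hb₁
        have hbn : algebraMap B D b ∈ (I ^ n).map (algebraMap B D) := by
          have hbP : algebraMap B P b ∈ I.map (algebraMap B P) ^ n := by
            rw [show algebraMap B P b = q - (q - algebraMap B P b) by abel]
            exact sub_mem hq (Ideal.pow_le_pow_right (Nat.le_add_right n L) hb)
          obtain ⟨c₁, hc₁, c₂, hc₂, rfl⟩ := Submodule.mem_sup.mp (hP.induced n b hbP)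
          have : algebraMap B D c₂ = 0 := Subtype.ext (by
            rw [Subalgebra.coe_algebraMap, IsScalarTower.algebraMap_apply B P T,
              show algebraMap B P c₂ = 0 from hc₂, map_zero]
            rfl)
          rw [map_add, this, add_zero]
          exact Ideal.mem_map_of_mem _ hc₁
        refine ⟨d₁ * e + algebraMap B D b₁ * e + d₁ * algebraMap B D b,
          add_mem (add_mem (Ideal.mul_mem_left _ _ he) (Ideal.mul_mem_left _ _ he))
            (Ideal.mul_mem_left _ _ hbn),
          r + r₁ + q₁ * q, add_mem (add_mem hr hr₁) (Ideal.mul_mem_left _ _ hq), ?_⟩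
        simp only [smul_eq_mul, Subalgebra.coe_add, Subalgebra.coe_mul, Subalgebra.coe_algebraMap, map_add, map_mul,
          ← hr', ← hr₁', map_sub, IsScalarTower.algebraMap_apply B P T]
        ring
    obtain ⟨e, he, q, hq, hde⟩ := key _ hd
    obtain ⟨b, hbq⟩ := hDP q (by
      rw [show algebraMap P T q = (d : T) - e by rw [hde]; ring]
      exact sub_mem d.2 e.2)
    obtain ⟨c₁, hc₁, c₂, hc₂, rfl⟩ := Submodule.mem_sup.mp
      (hP.induced n b (show algebraMap B P b ∈ _ from (show algebraMap B P b = q from hbq) ▸ hq))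
    rw [← Ideal.map_pow, show d = e + algebraMap B D c₁ from Subtype.ext (by
      rw [hde, ← hbq, Subalgebra.coe_add, Subalgebra.coe_algebraMap]
      change _ + algebraMap P T (algebraMap B P (c₁ + c₂)) = _
      rw [map_add (algebraMap B P), show algebraMap B P c₂ = 0 from hc₂, add_zero,
        ← IsScalarTower.algebraMap_apply])]
    exact add_mem he (Ideal.mem_map_of_mem _ hc₁)

end

section completion

/-- An algebra with dense image and induced topology completes to the complete algebra. -/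
theorem exists_completion_equiv {A D C : Type u} [CommRing A] [CommRing D] [Algebra A D] [CommRing C]
    [Algebra A C] (I : Ideal A) [IsAdicComplete (I.map (algebraMap A C)) C]
    (hI : (I.map (algebraMap A D)).FG) (g : D →ₐ[A] C)
    (happ : ∀ (n : ℕ) (x : C), ∃ d, x - g d ∈ I.map (algebraMap A C) ^ n)
    (hind : ∀ (n : ℕ) (d : D), g d ∈ I.map (algebraMap A C) ^ n → d ∈ I.map (algebraMap A D) ^ n) :
    ∃ e : C ≃+* AdicCompletion (I.map (algebraMap A D)) D, ∀ d, e (g d) = algebraMap D _ d := by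
  let J := I.map (algebraMap A D)
  let J' := I.map (algebraMap A C)
  obtain ⟨ψ, hψ⟩ := H24Adic.exists_algHom I g
  have hψmem : ∀ (n : ℕ) (z : AdicCompletion J D), z ∈ (J ^ n).map (algebraMap D (AdicCompletion J D)) →
      ψ z ∈ J' ^ n := by
    intro n z hz
    induction hz using Submodule.span_induction with
    | mem w hw =>
      obtain ⟨d, hd, rfl⟩ := hw
      rw [hψ]
      exact H24Adic.map_pow_le_comap I g n hd
    | zero => rw [map_zero]; exact zero_mem _
    | add u v _ _ hu hv => rw [map_add]; exact add_mem hu hv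
    | smul u v _ hv => rw [smul_eq_mul, map_mul]; exact Ideal.mul_mem_left _ _ hv
  have heval : ∀ (n : ℕ) (d : D), AdicCompletion.evalₐ J n (algebraMap D _ d) = Ideal.Quotient.mk _ d :=
    fun n d ↦ AdicCompletion.evalₐ_of J n d
  have hker : ∀ (n : ℕ) (z : AdicCompletion J D), z ∈ (J ^ n).map (algebraMap D (AdicCompletion J D)) →
      AdicCompletion.evalₐ J n z = 0 := by
    intro n z hz
    induction hz using Submodule.span_induction with
    | mem w hw =>
      obtain ⟨d, hd, rfl⟩ := hw
      rw [heval]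
      exact Ideal.Quotient.eq_zero_iff_mem.mpr hd
    | zero => exact map_zero _
    | add u v _ _ hu hv => rw [map_add, hu, hv, add_zero]
    | smul u v _ hv => rw [smul_eq_mul, map_mul, hv, mul_zero]
  have hinj : Function.Injective ψ := by
    refine (injective_iff_map_eq_zero ψ).mpr fun z hz ↦ AdicCompletion.ext_evalₐ fun n ↦ ?_
    obtain ⟨d, hd⟩ := H24Adic.exists_sub_of_mem hI n z
    have h1 := hψmem n _ hd
    rw [map_sub, hz, hψ, zero_sub, neg_mem_iff] at h1
    have h2 := hker n _ hd
    rw [map_sub, heval, Ideal.Quotient.eq_zero_iff_mem.mpr (hind n d h1), sub_zero] at h2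
    rw [h2, map_zero]
  have hsurj : Function.Surjective ψ := by
    intro x
    choose d hd using fun n ↦ happ n x
    have hcauchy : ∀ {m n : ℕ}, m ≤ n → d m ≡ d n [SMOD (J ^ m • ⊤ : Submodule D D)] := by
      intro m n hmn
      rw [SModEq.sub_mem, smul_eq_mul, Ideal.mul_top]
      refine hind m _ ?_
      rw [map_sub, show g (d m) - g (d n) = (x - g (d n)) - (x - g (d m)) by abel]
      exact sub_mem (Ideal.pow_le_pow_right hmn (hd n)) (hd m)
    let a : AdicCompletion.AdicCauchySequence J D := ⟨d, hcauchy⟩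
    refine ⟨AdicCompletion.mk J D a, ?_⟩
    refine sub_eq_zero.mp (IsHausdorff.haus (I := J') inferInstance _ fun n ↦ ?_)
    rw [SModEq.sub_mem, sub_zero, smul_eq_mul, Ideal.mul_top]
    obtain ⟨p, hp⟩ := H24Adic.exists_sub_of_mem hI n (AdicCompletion.mk J D a)
    have h2 := hker n _ hp
    rw [map_sub, heval, show AdicCompletion.evalₐ J n (AdicCompletion.mk J D a) = Ideal.Quotient.mk _ (d n) from
      AdicCompletion.evalₐ_mk J n a, sub_eq_zero, Ideal.Quotient.eq] at h2
    have h1 := hψmem n _ hp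
    have h3 : g (d n - p) ∈ J' ^ n := H24Adic.map_pow_le_comap I g n h2
    rw [map_sub, hψ] at h1
    rw [map_sub] at h3
    rw [show ψ (AdicCompletion.mk J D a) - x =
      (ψ (AdicCompletion.mk J D a) - g p) - (g (d n) - g p) - (x - g (d n)) by abel]
    exact sub_mem (sub_mem h1 h3) (hd n)
  refine ⟨(RingEquiv.ofBijective ψ ⟨hinj, hsurj⟩).symm, fun d ↦ ?_⟩
  rw [RingEquiv.symm_apply_eq]
  exact (hψ d).symm

end completion

end Groth.Agent.H02CA.Algebraize
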