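import Groth.Prelude.Def_CAlg
import Groth.Agent.H05EGA4.RegularPD
import Groth.Agent.H4Depth.DepthLemmas
import Groth.Agent.H4Depth.DepthHom
import Groth.Agent.H4Depth.ExtBasic
import Mathlib.Algebra.Homology.DerivedCategory.Ext.Linear
import Mathlib.CategoryTheory.Abelian.Projective.Dimension
import Mathlib.RingTheory.LocalRing.Module

/-!
# The Auslander–Buchsbaum formula
-/

set_option autoImplicit false
universe u

open CategoryTheory Abelian IsLocalRing LocCoh

namespace Groth.Agent.H02CA.AuslanderBuchsbaum

open H4Depth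

theorem ext_comp_eq_zero_of_mem {R : Type u} [CommRing R] {N : ModuleCat.{u} R} (I : Ideal R)
    (hI : I ≤ Module.annihilator R N) {A B : Type u} [AddCommGroup A] [Module R A] [AddCommGroup B]
    [Module R B] (φ : A →ₗ[R] B) (hφ : φ ∈ I • (⊤ : Submodule R (A →ₗ[R] B))) {i : ℕ}
    (x : Ext N (ModuleCat.of R A) i) : x.comp (Ext.mk₀ (ModuleCat.ofHom φ)) (add_zero i) = 0 := by
  refine Submodule.smul_induction_on hφ (fun a ha ψ _ => ?_) fun ψ χ h₁ h₂ => ?_
  · rw [show ModuleCat.ofHom (a • ψ) = a • ModuleCat.ofHom ψ from rfl, Ext.mk₀_smul, Ext.comp_smul]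
    exact ext_smul_eq_zero_of_mem_annihilator_left (hI ha) _
  · rw [show ModuleCat.ofHom (ψ + χ) = ModuleCat.ofHom ψ + ModuleCat.ofHom χ from rfl, Ext.mk₀_add,
      Ext.comp_add, h₁, h₂, add_zero]

theorem mem_smul_top_of_forall {R : Type u} [CommRing R] (I : Ideal R) {ι κ : Type*} [Fintype ι] [Fintype κ]
    [DecidableEq ι] [DecidableEq κ] (φ : (ι → R) →ₗ[R] (κ → R)) (h : ∀ v k, φ v k ∈ I) :
    φ ∈ I • (⊤ : Submodule R ((ι → R) →ₗ[R] (κ → R))) := by
  have : φ = ∑ j, ∑ k, φ (Pi.single j 1) k •
      ((LinearMap.single R (fun _ => R) k).comp (LinearMap.proj (φ := fun _ => R) j)) := by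
    refine LinearMap.ext fun v => funext fun k => ?_
    have hv : v = ∑ j, v j • Pi.single (M := fun _ => R) j 1 := by
      funext j
      simp [Pi.single_apply]
    conv_lhs => rw [hv]
    simp [Pi.single_apply, mul_comm]
  rw [this]
  exact sum_mem fun j _ => sum_mem fun k _ => Submodule.smul_mem_smul (h _ k) Submodule.mem_top

variable {R : Type u} [CommRing R] [IsLocalRing R] [IsNoetherianRing R]

theorem depth_pi {ι : Type*} [Fintype ι] [Nonempty ι] : depth R (ι → R) = depth R R := by
  classical
  have e : (ι → R) ≃ₗ[R] (Fin (Fintype.card ι) → R) := LinearEquiv.funCongrLeft R R (Fintype.equivFin ι).symm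
  rw [depth_congr e]
  refine le_antisymm ?_ (idealDepth_le_idealDepth_pi _ _)
  obtain ⟨k⟩ : Nonempty (Fin (Fintype.card ι)) := ⟨⟨0, Fintype.card_pos⟩⟩
  refine ENat.forall_natCast_le_iff_le.mp fun n hn => le_idealDepth_iff_ext.mpr fun i hi => ?_
  have := le_idealDepth_iff_ext.mp hn i hi
  refine subsingleton_of_forall_eq 0 fun x => ?_
  have h1 : x.comp (Ext.mk₀ (ModuleCat.ofHom (LinearMap.single R (fun _ : Fin (Fintype.card ι) => R) k)))
      (add_zero i) = 0 := @Subsingleton.elim _ this _ _
  have h2 := congrArg (fun y => y.comp (Ext.mk₀ (ModuleCat.ofHom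
    (LinearMap.proj (R := R) (φ := fun _ : Fin (Fintype.card ι) => R) k))) (add_zero i)) h1
  simp only [Ext.comp_assoc_of_second_deg_zero, Ext.mk₀_comp_mk₀, Ext.zero_comp] at h2
  rw [← h2]
  have : ModuleCat.ofHom (LinearMap.single R (fun _ : Fin (Fintype.card ι) => R) k) ≫
      ModuleCat.ofHom (LinearMap.proj (R := R) (φ := fun _ : Fin (Fintype.card ι) => R) k) = 𝟙 (ModuleCat.of R R) := by
    ext
    simp
  rw [this, Ext.comp_mk₀_id]

theorem smul_top_ne_top (M : Type u) [AddCommGroup M] [Module R M] [Module.Finite R M] [Nontrivial M] :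
    maximalIdeal R • (⊤ : Submodule R M) ≠ ⊤ := maximalIdeal_smul_top_ne_top

/-- The case of projective dimension one. -/
theorem depth_add_one_of_minimal {s r : ℕ} (hs : 0 < s) {M : Type u} [AddCommGroup M] [Module R M]
    [Module.Finite R M] [Nontrivial M] {φ : (Fin s → R) →ₗ[R] (Fin r → R)} {g : (Fin r → R) →ₗ[R] M}
    (hφ : Function.Injective φ) (hg : Function.Surjective g) (hex : Function.Exact φ g)
    (hmem : ∀ v k, φ v k ∈ maximalIdeal R) : depth R M + 1 = depth R R := by
  have hr : 0 < r := by
    refine Nat.pos_of_ne_zero fun h0 => ?_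
    subst h0
    exact not_subsingleton M hg.subsingleton
  have hKd : depth R (Fin s → R) = depth R R := by
    have : Nonempty (Fin s) := ⟨⟨0, hs⟩⟩
    exact le_antisymm (depth_pi.le) depth_pi.ge
  have hFd : depth R (Fin r → R) = depth R R := by
    have : Nonempty (Fin r) := ⟨⟨0, hr⟩⟩
    exact depth_pi
  let N := ModuleCat.of R (R ⧸ maximalIdeal R)
  have hN : maximalIdeal R ≤ Module.annihilator R N := le_of_eq (Ideal.annihilator_quotient).symm
  have hzero : ∀ {i : ℕ} (x : Ext N (ModuleCat.of R (Fin s → R)) i),
      x.comp (Ext.mk₀ (ModuleCat.ofHom φ)) (add_zero i) = 0 := fun x => by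
    classical
    exact ext_comp_eq_zero_of_mem _ hN φ (mem_smul_top_of_forall _ φ hmem) x
  have hfin : depth R R ≠ ⊤ := idealDepth_ne_top (smul_top_ne_top R)
  obtain ⟨d, hd⟩ := ENat.ne_top_iff_exists.mp hfin
  rw [← hd] at hKd hFd ⊢
  cases d with
  | zero =>
    exfalso
    have h0 : ¬ Subsingleton (Ext N (ModuleCat.of R (Fin s → R)) 0) := fun h => by
      have : ((1 : ℕ) : ℕ∞) ≤ depth R (Fin s → R) :=
        le_idealDepth_iff_ext.mpr fun i hi => by
          obtain rfl : i = 0 := by omega
          exact h
      rw [hKd] at this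
      simp at this
    refine h0 (subsingleton_of_forall_eq 0 fun x => ?_)
    obtain ⟨y, rfl⟩ := Ext.addEquiv₀.symm.surjective x
    have h1 := hzero (Ext.mk₀ y)
    rw [Ext.mk₀_comp_mk₀, Ext.mk₀_eq_zero_iff] at h1
    have : y = 0 := ModuleCat.hom_ext (LinearMap.ext fun z => hφ (by
      have := LinearMap.congr_fun (congrArg ModuleCat.Hom.hom h1) z
      simpa using this))
    simp [this]
  | succ n =>
    have hle : depth R M ≤ n := by
      by_contra hlt
      rw [not_le] at hlt
      have hM : ((n + 1 : ℕ) : ℕ∞) ≤ depth R M := by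
        exact_mod_cast Order.add_one_le_of_lt hlt
      have : ((n + 2 : ℕ) : ℕ∞) ≤ depth R (Fin s → R) := le_idealDepth_iff_ext.mpr fun i hi => by
        rcases Nat.lt_or_ge i (n + 1) with h | h
        · exact le_idealDepth_iff_ext.mp (hKd.ge : ((n + 1 : ℕ) : ℕ∞) ≤ _) i h
        · obtain rfl : i = n + 1 := by omega
          refine subsingleton_of_forall_eq 0 fun x => ?_
          obtain ⟨z, rfl⟩ := Ext.covariant_sequence_exact₁ N (shortComplexOf_shortExact φ g hφ hg hex) x
            (hzero x) rfl
          rw [show z = 0 from @Subsingleton.elim _ (le_idealDepth_iff_ext.mp hM n (by omega)) _ _]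
          simp; rfl
      rw [hKd] at this
      norm_cast at this
      omega
    have hge : (n : ℕ∞) ≤ depth R M := by
      refine le_trans (le_min ?_ ?_) (min_le_idealDepth_right (maximalIdeal R) hφ hg hex)
      · change (n : ℕ∞) ≤ depth R (Fin r → R)
        rw [hFd]; exact_mod_cast Nat.le_succ n
      · change (n : ℕ∞) ≤ depth R (Fin s → R) - 1
        rw [hKd]; norm_cast
    rw [le_antisymm hle hge]
    norm_cast

/-- **Auslander–Buchsbaum formula.** -/
theorem depth_eq_add (e : ℕ) : ∀ (M : Type u) [AddCommGroup M] [Module R M] [Module.Finite R M] [Nontrivial M],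
    HasProjectiveDimensionLT (ModuleCat.of R M) (e + 1) →
    ¬ HasProjectiveDimensionLT (ModuleCat.of R M) e → depth R R = e + depth R M := by
  induction e with
  | zero =>
    intro M _ _ _ _ h _
    have : Module.Projective R M := by
      rw [IsProjective.iff_projective, projective_iff_hasProjectiveDimensionLT_one]; exact h
    have : Module.Free R M := Module.free_of_flat_of_isLocalRing
    let b := Module.Free.chooseBasis R M
    have : Nonempty (Module.Free.ChooseBasisIndex R M) := b.index_nonempty
    rw [depth_congr b.equivFun, depth_pi, Nat.cast_zero, zero_add]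
  | succ n ih =>
    intro M _ _ _ _ h hn
    obtain ⟨r, g, hg, hker⟩ := H05EGA4.exists_minimal_surjection (A := R) M
    have hses := LinearMap.shortExact_shortComplexKer hg
    have hproj : Projective g.shortComplexKer.X₂ := ModuleCat.projective_of_categoryTheory_projective _
    have hK : HasProjectiveDimensionLT (ModuleCat.of R (LinearMap.ker g)) (n + 1) :=
      (hses.hasProjectiveDimensionLT_X₃_iff n hproj).1 h
    have hr : 0 < r := by
      refine Nat.pos_of_ne_zero fun h0 => ?_
      subst h0
      exact not_subsingleton M hg.subsingleton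
    have hFd : depth R (Fin r → R) = depth R R := by
      have : Nonempty (Fin r) := ⟨⟨0, hr⟩⟩
      exact depth_pi
    cases n with
    | zero =>
      have : Module.Projective R (LinearMap.ker g) := by
        rw [IsProjective.iff_projective, projective_iff_hasProjectiveDimensionLT_one]; exact hK
      have : Module.Free R (LinearMap.ker g) := Module.free_of_flat_of_isLocalRing
      obtain ⟨s, ⟨b⟩⟩ : ∃ s : ℕ, Nonempty (Module.Basis (Fin s) R (LinearMap.ker g)) :=
        ⟨_, ⟨Module.finBasis R (LinearMap.ker g)⟩⟩
      have hs : 0 < s := by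
        refine Nat.pos_of_ne_zero fun h0 => hn ?_
        subst h0
        have hbij : Function.Bijective g := by
          refine ⟨LinearMap.ker_eq_bot.mp (Submodule.subsingleton_iff_eq_bot.mp b.equivFun.toEquiv.subsingleton), hg⟩
        have : Module.Projective R M := Module.Projective.of_equiv (LinearEquiv.ofBijective g hbij)
        rw [← projective_iff_hasProjectiveDimensionLT_one, ← IsProjective.iff_projective]
        exact this
      let φ : (Fin s → R) →ₗ[R] (Fin r → R) := (LinearMap.ker g).subtype.comp b.equivFun.symm.toLinearMap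
      have hex : Function.Exact φ g := fun x => ⟨fun hx => ⟨b.equivFun ⟨x, hx⟩, by simp [φ]⟩, by
        rintro ⟨v, rfl⟩; exact (b.equivFun.symm v).2⟩
      have h1 := depth_add_one_of_minimal hs (φ := φ) (Subtype.val_injective.comp b.equivFun.symm.injective)
        hg hex fun v k => hker _ (b.equivFun.symm v).2 k
      rw [← h1, add_comm]
      norm_cast
    | succ m =>
      have hK' : ¬ HasProjectiveDimensionLT (ModuleCat.of R (LinearMap.ker g)) (m + 1) := fun hlt =>
        hn ((hses.hasProjectiveDimensionLT_X₃_iff m hproj).2 hlt)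
      have : Nontrivial (LinearMap.ker g) := by
        by_contra hne
        rw [not_nontrivial_iff_subsingleton] at hne
        refine hK' ?_
        have : Module.Projective R (LinearMap.ker g) := inferInstance
        have h1 : HasProjectiveDimensionLT (ModuleCat.of R (LinearMap.ker g)) 1 := by
          rw [← projective_iff_hasProjectiveDimensionLT_one, ← IsProjective.iff_projective]; exact this
        exact hasProjectiveDimensionLT_of_ge _ 1 _ (by omega)
      have hKd := ih (LinearMap.ker g) hK hK'
      have hfin : depth R R ≠ ⊤ := idealDepth_ne_top (smul_top_ne_top R)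
      have hKfin : depth R (LinearMap.ker g) ≠ ⊤ := idealDepth_ne_top (smul_top_ne_top _)
      have hMfin : depth R M ≠ ⊤ := idealDepth_ne_top (smul_top_ne_top _)
      obtain ⟨d, hd⟩ := ENat.ne_top_iff_exists.mp hfin
      obtain ⟨k, hk⟩ := ENat.ne_top_iff_exists.mp hKfin
      obtain ⟨l, hl⟩ := ENat.ne_top_iff_exists.mp hMfin
      have hsub : Function.Exact (LinearMap.ker g).subtype g := g.exact_subtype_ker_map
      have h1 : min (depth R (Fin r → R)) (depth R M + 1) ≤ depth R (LinearMap.ker g) :=
        min_le_idealDepth_left _ Subtype.val_injective hg hsub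
      have h2 : min (depth R (Fin r → R)) (depth R (LinearMap.ker g) - 1) ≤ depth R M :=
        min_le_idealDepth_right _ Subtype.val_injective hg hsub
      rw [hFd, ← hd, ← hk, ← hl] at h1 h2
      rw [← hd, ← hk] at hKd
      rw [← hd, ← hl]
      norm_cast at h1 h2 hKd ⊢
      simp only [min_le_iff] at h1 h2
      simp only [Nat.cast_le] at h1 h2
      omega

theorem pd_bounds_of_eq {A : Type u} [CommRing A] {M : ModuleCat.{u} A} {e : ℕ} (h : projectiveDimension M = e) :
    HasProjectiveDimensionLT M (e + 1) ∧ ¬ HasProjectiveDimensionLT M e :=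
  ⟨(projectiveDimension_le_iff M e).mp h.le, (projectiveDimension_ge_iff M e).mp h.ge⟩

theorem exists_pd_eq {A : Type u} [CommRing A] (M : Type u) [AddCommGroup M] [Module A M] [Nontrivial M]
    (h : projectiveDimension (ModuleCat.of A M) ≠ ⊤) : ∃ e : ℕ, projectiveDimension (ModuleCat.of A M) = e := by
  have hb : projectiveDimension (ModuleCat.of A M) ≠ ⊥ := fun h0 => by
    rw [projectiveDimension_eq_bot_iff, ModuleCat.isZero_iff_subsingleton] at h0
    exact not_subsingleton M h0
  obtain ⟨d, hd⟩ := WithBot.ne_bot_iff_exists.mp hb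
  rw [← hd] at h
  obtain ⟨e, he⟩ := ENat.ne_top_iff_exists.mp (fun h0 : d = ⊤ => h (by rw [h0]; rfl))
  exact ⟨e, by rw [← hd, ← he]; rfl⟩

theorem hasProjectiveDimensionLT_pi {A : Type u} [CommRing A] (N : Type u) [AddCommGroup N] [Module A N] (a : ℕ)
    (h : HasProjectiveDimensionLT (ModuleCat.of A N) a) :
    ∀ r : ℕ, HasProjectiveDimensionLT (ModuleCat.of A (Fin r → N)) a
  | 0 => by
    have : CategoryTheory.Limits.IsZero (ModuleCat.of A (Fin 0 → N)) := ModuleCat.isZero_of_subsingleton _
    have := this.hasProjectiveDimensionLT_zero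
    exact hasProjectiveDimensionLT_of_ge _ 0 _ (Nat.zero_le _)
  | r + 1 => by
    let f : N →ₗ[A] (Fin (r + 1) → N) := LinearMap.single A (fun _ => N) 0
    let g : (Fin (r + 1) → N) →ₗ[A] (Fin r → N) := LinearMap.funLeft A N Fin.succ
    have hfg : Function.Exact f g := by
      intro x
      refine ⟨fun h => ⟨x 0, funext fun i => ?_⟩, ?_⟩
      · refine Fin.cases ?_ (fun j => ?_) i
        · simp [f]
        · simpa [f, g, eq_comm, Fin.succ_ne_zero] using congrFun h j
      · rintro ⟨a, rfl⟩
        funext j
        simp [f, g, Fin.succ_ne_zero]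
    exact (shortComplexOf_shortExact f g (Pi.single_injective (M := fun _ : Fin (r + 1) => N) 0)
      (LinearMap.funLeft_surjective_of_injective A N Fin.succ (Fin.succ_injective r)) hfg).hasProjectiveDimensionLT_X₂ a h
      (hasProjectiveDimensionLT_pi N a h r)

theorem hasProjectiveDimensionLT_restrict {R S : Type u} [CommRing R] [CommRing S] [IsLocalRing S]
    [IsNoetherianRing S] [Algebra R S] (a : ℕ) (ha : HasProjectiveDimensionLT (ModuleCat.of R S) (a + 1)) (n : ℕ) :
    ∀ (E : Type u) [AddCommGroup E] [Module R E] [Module S E] [IsScalarTower R S E] [Module.Finite S E],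
      HasProjectiveDimensionLT (ModuleCat.of S E) (n + 1) →
        HasProjectiveDimensionLT (ModuleCat.of R E) (a + n + 1) := by
  induction n with
  | zero =>
    intro E _ _ _ _ _ h
    have : Module.Projective S E := by
      rw [IsProjective.iff_projective, projective_iff_hasProjectiveDimensionLT_one]; exact h
    have : Module.Free S E := Module.free_of_flat_of_isLocalRing
    have := hasProjectiveDimensionLT_pi S (a + 1) ha (Module.finrank S E)
    exact hasProjectiveDimensionLT_of_iso
      (((Module.finBasis S E).equivFun.symm.restrictScalars R).toModuleIso) _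
  | succ n ih =>
    intro E _ _ _ _ _ h
    obtain ⟨r, g, hg⟩ := Module.Finite.exists_fin' S E
    have hK : HasProjectiveDimensionLT (ModuleCat.of S (LinearMap.ker g)) (n + 1) :=
      ((LinearMap.shortExact_shortComplexKer hg).hasProjectiveDimensionLT_X₃_iff n
        (ModuleCat.projective_of_categoryTheory_projective _)).1 h
    have h1 := ih (LinearMap.ker g) hK
    have h2 : HasProjectiveDimensionLT (ModuleCat.of R (Fin r → S)) (a + n + 2) := by
      have := hasProjectiveDimensionLT_pi S (a + 1) ha r
      exact hasProjectiveDimensionLT_of_ge _ (a + 1) _ (by omega)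
    exact (shortComplexOf_shortExact ((LinearMap.ker g).subtype.restrictScalars R) (g.restrictScalars R)
      Subtype.val_injective hg g.exact_subtype_ker_map).hasProjectiveDimensionLT_X₃ (a + n + 1) h1 h2

end Groth.Agent.H02CA.AuslanderBuchsbaum
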