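import Mathlib.Algebra.Category.ModuleCat.ChangeOfRings
import Mathlib.Algebra.Homology.Additive
import Mathlib.Algebra.Homology.ShortComplex.HomologicalComplex
import Mathlib.Algebra.Homology.ShortComplex.ModuleCat
import Mathlib.RingTheory.Flat.EquationalCriterion
import Groth.Agent.H06FlatCx.FibreDim

/-!
Over a reduced ring, a complex of finite free modules with locally constant Betti number in degree
`i` has finite projective homology in degree `i`.
-/

set_option autoImplicit false

open CategoryTheory TensorProduct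

universe u

namespace Groth.Agent.H02CA.BettiConst

open Groth.Agent.H06FlatCx

theorem finrank_homology {k : Type*} [Field k] {X Y Z : Type*} [AddCommGroup X] [Module k X]
    [AddCommGroup Y] [Module k Y] [AddCommGroup Z] [Module k Z] [FiniteDimensional k Y]
    [FiniteDimensional k Z] (a : X →ₗ[k] Y) (b : Y →ₗ[k] Z) (h : ∀ x, b (a x) = 0) :
    Module.finrank k (LinearMap.ker b ⧸ LinearMap.range (a.codRestrict (LinearMap.ker b) fun x => LinearMap.mem_ker.mpr (h x))) +
      Module.finrank k Z = Module.finrank k (Y ⧸ LinearMap.range a) +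
      Module.finrank k (Z ⧸ LinearMap.range b) := by
  have hr : Module.finrank k (LinearMap.range (a.codRestrict (LinearMap.ker b) fun x => LinearMap.mem_ker.mpr (h x))) =
      Module.finrank k (LinearMap.range a) := by
    rw [LinearMap.range_codRestrict]
    exact (Submodule.comapSubtypeEquivOfLe (by rintro _ ⟨x, rfl⟩; exact h x)).finrank_eq
  have h1 := Submodule.finrank_quotient_add_finrank
    (LinearMap.range (a.codRestrict (LinearMap.ker b) fun x => LinearMap.mem_ker.mpr (h x)))
  have h2 := Submodule.finrank_quotient_add_finrank (LinearMap.range a)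
  have h3 := Submodule.finrank_quotient_add_finrank (LinearMap.range b)
  have h4 := b.finrank_range_add_finrank_ker
  omega

theorem finrank_tensor_congr {R k : Type u} [CommRing R] [CommRing k] (M : Type u) [AddCommGroup M]
    [Module R M] (i₁ i₂ : Algebra R k)
    (h : ∀ r, @algebraMap R k _ _ i₁ r = @algebraMap R k _ _ i₂ r) :
    (letI := i₁; Module.finrank k (k ⊗[R] M)) = (letI := i₂; Module.finrank k (k ⊗[R] M)) := by
  cases Algebra.algebra_ext i₁ i₂ h
  rfl

theorem finrank_quotient_range_baseChange {R k : Type u} [CommRing R] [Field k] [Algebra R k]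
    {M N : Type u} [AddCommGroup M] [Module R M] [AddCommGroup N] [Module R N] [Module.Finite R N]
    (d : M →ₗ[R] N) :
    Module.finrank k ((k ⊗[R] N) ⧸ LinearMap.range (d.baseChange k)) =
      Module.finrank k (k ⊗[R] (N ⧸ LinearMap.range d)) := by
  refine ((Submodule.quotEquivOfEq _ _ ?_).trans
    (((LinearMap.range d).mkQ.baseChange k).quotKerEquivOfSurjective
      (LinearMap.baseChange_surjective k (Submodule.mkQ_surjective _)))).finrank_eq
  refine SetLike.ext fun x => ?_
  exact (lTensor_exact k (d.exact_map_mkQ_range) (Submodule.mkQ_surjective _) x).symm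

variable {R : Type u} [CommRing R]

theorem finrank_homology_extendScalars {k : Type u} [Field k] (f : R →+* k)
    [Nontrivial R] (P : CochainComplex (ModuleCat.{u} R) ℤ)
    (hP : ∀ j : ℤ, Module.Finite R (P.X j) ∧ Module.Free R (P.X j)) (i : ℤ) :
    Module.finrank k
        ((((ModuleCat.extendScalars f).mapHomologicalComplex
          (ComplexShape.up ℤ)).obj P).homology i) + Module.finrank R (P.X (i + 1)) =
      (letI := f.toAlgebra;
        Module.finrank k (k ⊗[R] (P.X i ⧸ LinearMap.range (P.d (i - 1) i).hom)) +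
        Module.finrank k (k ⊗[R] (P.X (i + 1) ⧸ LinearMap.range (P.d i (i + 1)).hom))) := by
  haveI := fun j => (hP j).1
  haveI := fun j => (hP j).2
  letI : Algebra R k := f.toAlgebra
  let K := ((ModuleCat.extendScalars f).mapHomologicalComplex (ComplexShape.up ℤ)).obj P
  rw [((K.homologyIsoSc' (i - 1) i (i + 1) (by simp) (by simp)) ≪≫
    (K.sc' (i - 1) i (i + 1)).moduleCatHomologyIso).toLinearEquiv.finrank_eq,
    ← finrank_quotient_range_baseChange (k := k) (P.d (i - 1) i).hom,
    ← finrank_quotient_range_baseChange (k := k) (P.d i (i + 1)).hom,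
    ← Module.finrank_baseChange (R := k) (M' := P.X (i + 1))]
  haveI : FiniteDimensional k ((K.sc' (i - 1) i (i + 1)).X₂) :=
    (inferInstance : Module.Finite k (k ⊗[R] P.X i))
  haveI : FiniteDimensional k ((K.sc' (i - 1) i (i + 1)).X₃) :=
    (inferInstance : Module.Finite k (k ⊗[R] P.X (i + 1)))
  exact finrank_homology (K.sc' (i - 1) i (i + 1)).f.hom (K.sc' (i - 1) i (i + 1)).g.hom
    (K.sc' (i - 1) i (i + 1)).moduleCat_zero_apply

theorem isLocallyConstant_of_add {X : Type*} [TopologicalSpace X] {f g h : X → ℕ}
    (hf : ∀ r, IsOpen {x | f x ≤ r}) (hg : ∀ r, IsOpen {x | g x ≤ r})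
    (hh : IsLocallyConstant h) (e : ∀ x, f x + g x = h x) : IsLocallyConstant f := by
  rw [IsLocallyConstant.iff_exists_open]
  intro x
  obtain ⟨U, hU, hxU, hU'⟩ := (IsLocallyConstant.iff_exists_open h).mp hh x
  refine ⟨U ∩ ({y | f y ≤ f x} ∩ {y | g y ≤ g x}), hU.inter ((hf _).inter (hg _)),
    ⟨hxU, Set.mem_setOf.mpr (le_refl _), Set.mem_setOf.mpr (le_refl _)⟩, fun y hy => ?_⟩
  have h1 := hU' y hy.1
  have h2 : f y ≤ f x := hy.2.1
  have h3 : g y ≤ g x := hy.2.2
  have := e x; have := e y
  omega

theorem finite_projective_ker_quotient {X Y Z : Type u} [AddCommGroup X] [Module R X]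
    [AddCommGroup Y] [Module R Y] [AddCommGroup Z] [Module R Z] [Module.Finite R Y]
    [Module.Projective R Z]
    (a : X →ₗ[R] Y) (b : Y →ₗ[R] Z) (h : ∀ x, b (a x) = 0)
    [Module.Projective R (Y ⧸ LinearMap.range a)] [Module.Projective R (Z ⧸ LinearMap.range b)] :
    Module.Finite R (LinearMap.ker b ⧸ LinearMap.range (a.codRestrict (LinearMap.ker b) fun x => LinearMap.mem_ker.mpr (h x))) ∧
      Module.Projective R
        (LinearMap.ker b ⧸ LinearMap.range (a.codRestrict (LinearMap.ker b) fun x => LinearMap.mem_ker.mpr (h x))) := by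
  have hle : LinearMap.range a ≤ LinearMap.ker b := by rintro _ ⟨x, rfl⟩; exact h x
  let j : (LinearMap.ker b ⧸ LinearMap.range (a.codRestrict (LinearMap.ker b) fun x => LinearMap.mem_ker.mpr (h x))) →ₗ[R]
      (Y ⧸ LinearMap.range a) :=
    Submodule.mapQ _ _ (LinearMap.ker b).subtype (by
      rintro _ ⟨x, rfl⟩; exact ⟨x, rfl⟩)
  obtain ⟨σ, hσ⟩ := Module.projective_lifting_property (LinearMap.range b).mkQ LinearMap.id
    (Submodule.mkQ_surjective _)
  let π : Z →ₗ[R] LinearMap.range b :=
    (LinearMap.id - σ ∘ₗ (LinearMap.range b).mkQ).codRestrict _ fun z => by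
      rw [← Submodule.Quotient.mk_eq_zero, ← Submodule.mkQ_apply, LinearMap.sub_apply, map_sub,
        LinearMap.id_apply, LinearMap.comp_apply,
        show (LinearMap.range b).mkQ (σ ((LinearMap.range b).mkQ z)) = (LinearMap.range b).mkQ z from
          LinearMap.congr_fun hσ _, sub_self]
  have hπ : ∀ z : LinearMap.range b, π z = z := fun z => by
    refine Subtype.ext ?_
    simp [π, (Submodule.Quotient.mk_eq_zero (LinearMap.range b) (x := (z : Z))).mpr z.2]
  haveI : Module.Projective R (LinearMap.range b) :=
    Module.Projective.of_split (LinearMap.range b).subtype π (LinearMap.ext hπ)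
  obtain ⟨t, ht⟩ := Module.projective_lifting_property b.rangeRestrict LinearMap.id
    b.surjective_rangeRestrict
  have ht' : ∀ y, b (t ⟨b y, ⟨y, rfl⟩⟩) = b y := fun y =>
    congrArg Subtype.val (LinearMap.congr_fun ht _)
  let q : (Y ⧸ LinearMap.range a) →ₗ[R]
      LinearMap.ker b ⧸ LinearMap.range (a.codRestrict (LinearMap.ker b) fun x => LinearMap.mem_ker.mpr (h x)) :=
    Submodule.liftQ _ ((LinearMap.range (a.codRestrict (LinearMap.ker b) fun x => LinearMap.mem_ker.mpr (h x))).mkQ ∘ₗ
      (LinearMap.id - t ∘ₗ b.rangeRestrict).codRestrict (LinearMap.ker b) fun y => by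
        simp [LinearMap.rangeRestrict, LinearMap.codRestrict, ht']) (by
      rintro _ ⟨x, rfl⟩
      refine (Submodule.Quotient.mk_eq_zero _).mpr ⟨x, Subtype.ext ?_⟩
      have : b.rangeRestrict (a x) = 0 := Subtype.ext (h x)
      simp [this])
  have hqj : q ∘ₗ j = LinearMap.id := by
    refine Submodule.linearMap_qext _ (LinearMap.ext fun y => ?_)
    have : b.rangeRestrict (y : Y) = 0 := Subtype.ext y.2
    refine congrArg (Submodule.Quotient.mk) ?_
    apply Subtype.ext
    change (y : Y) - t (b.rangeRestrict (y : Y)) = y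
    rw [this, map_zero, sub_zero]
  exact ⟨Module.Finite.of_surjective q fun x => ⟨j x, LinearMap.congr_fun hqj x⟩,
    Module.Projective.of_split j q hqj⟩

theorem homology_finite_projective [IsReduced R] (P : CochainComplex (ModuleCat.{u} R) ℤ)
    (hP : ∀ j : ℤ, Module.Finite R (P.X j) ∧ Module.Free R (P.X j)) (i : ℤ)
    (hconst : IsLocallyConstant fun p : PrimeSpectrum R =>
      Module.finrank p.asIdeal.ResidueField
        ((((ModuleCat.extendScalars (algebraMap R p.asIdeal.ResidueField)).mapHomologicalComplex
          (ComplexShape.up ℤ)).obj P).homology i)) :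
    Module.Finite R (P.homology i) ∧ Module.Projective R (P.homology i) := by
  haveI := fun j => (hP j).1
  haveI := fun j => (hP j).2
  have hsum : ∀ p : PrimeSpectrum R,
      fibDim (P.X i ⧸ LinearMap.range (P.d (i - 1) i).hom) p +
        fibDim (P.X (i + 1) ⧸ LinearMap.range (P.d i (i + 1)).hom) p =
      Module.finrank p.asIdeal.ResidueField
        ((((ModuleCat.extendScalars (algebraMap R p.asIdeal.ResidueField)).mapHomologicalComplex
          (ComplexShape.up ℤ)).obj P).homology i) + Module.finrank R (P.X (i + 1)) := by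
    intro p
    haveI : Nontrivial R := nontrivial_of_ne 1 0 fun h => p.isPrime.ne_top
      (p.asIdeal.eq_top_iff_one.mpr (h ▸ p.asIdeal.zero_mem))
    rw [finrank_homology_extendScalars (algebraMap R p.asIdeal.ResidueField) P hP i,
      finrank_tensor_congr _ (algebraMap R p.asIdeal.ResidueField).toAlgebra inferInstance
        (fun _ => rfl),
      finrank_tensor_congr _ (algebraMap R p.asIdeal.ResidueField).toAlgebra inferInstance
        (fun _ => rfl)]
    rfl
  have hh := hconst.comp (fun n => n + Module.finrank R (P.X (i + 1)))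
  have h1 := isLocallyConstant_of_add (isOpen_fibDim_le _) (isOpen_fibDim_le _) hh hsum
  have h2 := isLocallyConstant_of_add (isOpen_fibDim_le _) (isOpen_fibDim_le _) hh
    fun p => (add_comm _ _).trans (hsum p)
  have hproj : ∀ l j : ℤ, IsLocallyConstant (fibDim (A := R) (P.X j ⧸ LinearMap.range (P.d l j).hom)) →
      Module.Projective R (P.X j ⧸ LinearMap.range (P.d l j).hom) := by
    intro l j h
    haveI := flat_of_isLocallyConstant_fibDim _ h
    haveI : Module.FinitePresentation R (P.X j) := Module.finitePresentation_of_projective R _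
    haveI : Module.FinitePresentation R (P.X j ⧸ LinearMap.range (P.d l j).hom) :=
      Module.finitePresentation_of_surjective _ (Submodule.mkQ_surjective _) (by
        rw [Submodule.ker_mkQ]
        exact (LinearMap.range_eq_map (P.d l j).hom) ▸ Module.Finite.fg_top.map _)
    exact Module.Flat.projective_of_finitePresentation
  haveI := hproj _ _ h1
  haveI := hproj _ _ h2
  obtain ⟨hf, hpr⟩ := finite_projective_ker_quotient (P.d (i - 1) i).hom (P.d i (i + 1)).hom
    (P.sc' (i - 1) i (i + 1)).moduleCat_zero_apply
  let e := ((P.homologyIsoSc' (i - 1) i (i + 1) (by simp) (by simp)) ≪≫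
    (P.sc' (i - 1) i (i + 1)).moduleCatHomologyIso).toLinearEquiv.symm
  haveI : Module.Finite R (P.sc' (i - 1) i (i + 1)).moduleCatLeftHomologyData.H := hf
  haveI : Module.Projective R (P.sc' (i - 1) i (i + 1)).moduleCatLeftHomologyData.H := hpr
  exact ⟨Module.Finite.equiv e, Module.Projective.of_equiv e⟩

end Groth.Agent.H02CA.BettiConst
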