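import Groth.Agent.S7120
import Mathlib.Algebra.Module.FinitePresentation
import Mathlib.Algebra.Module.Torsion.Basic
import Mathlib.RingTheory.Localization.FractionRing
import Mathlib.RingTheory.Localization.Integer
import Mathlib.RingTheory.Localization.Module
import Mathlib.Algebra.Module.LocalizedModule.Basic
import Mathlib.LinearAlgebra.FreeModule.Finite.Basic
import Mathlib.RingTheory.Noetherian.Basic
import Mathlib.RingTheory.Bezout
import Mathlib.LinearAlgebra.Basis.VectorSpace
import Mathlib.RingTheory.Localization.Finiteness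
import Mathlib.LinearAlgebra.Dimension.Free
import Mathlib.Tactic.LinearCombination
import Mathlib.Tactic.Ring

/-!
# Finitely presented modules over Bézout domains
-/

set_option autoImplicit false
universe u

namespace Groth.Agent.H02CA.BezoutFP

variable {R : Type u} [CommRing R] [IsDomain R] [IsBezout R]

/-- A finite torsion-free module over a Bézout domain is free. -/
theorem free_of_torsionFree (T : Type u) [AddCommGroup T] [Module R T] [Module.Finite R T]
    (htf : ∀ (r : R) (x : T), r ≠ 0 → r • x = 0 → x = 0) : Module.Free R T := by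
  classical
  let K := FractionRing R
  let V := LocalizedModule (nonZeroDivisors R) T
  let φ : T →ₗ[R] V := LocalizedModule.mkLinearMap _ _
  have hφ : Function.Injective φ := by
    rw [← LinearMap.ker_eq_bot, eq_bot_iff]
    intro x hx
    obtain ⟨c, hc⟩ := (IsLocalizedModule.eq_zero_iff (nonZeroDivisors R) φ).mp hx
    exact htf c x (nonZeroDivisors.coe_ne_zero c) hc
  have : Module.Finite K V := Module.Finite.of_isLocalizedModule (nonZeroDivisors R) φ
  let b := Module.finBasis K V
  let ψ : T →ₗ[R] (Fin (Module.finrank K V) → K) := (b.equivFun.toLinearMap.restrictScalars R) ∘ₗ φ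
  have hψ : Function.Injective ψ := b.equivFun.injective.comp hφ
  obtain ⟨s, hs⟩ := Module.Finite.fg_top (R := R) (M := T)
  obtain ⟨d, hd⟩ := IsLocalization.exist_integer_multiples (nonZeroDivisors R)
    (s ×ˢ (Finset.univ : Finset (Fin (Module.finrank K V)))) (fun p ↦ ψ p.1 p.2)
  let ι : (Fin (Module.finrank K V) → R) →ₗ[R] (Fin (Module.finrank K V) → K) :=
    LinearMap.pi fun i ↦ (Algebra.linearMap R K) ∘ₗ LinearMap.proj i
  have hι : Function.Injective ι := fun x y h ↦ funext fun i ↦
    IsFractionRing.injective R K (congrFun h i)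
  let g : T →ₗ[R] (Fin (Module.finrank K V) → K) := (d : R) • ψ
  have hg : Function.Injective g := by
    rw [← LinearMap.ker_eq_bot, eq_bot_iff]
    intro x hx
    have : ψ ((d : R) • x) = ψ 0 := by rw [map_smul, map_zero]; exact hx
    exact htf _ x (nonZeroDivisors.coe_ne_zero d) (hψ this)
  have hrange : LinearMap.range g ≤ LinearMap.range ι := by
    rw [LinearMap.range_eq_map, ← hs, Submodule.map_span_le]
    intro x hx
    have h : ∀ i, ∃ r : R, algebraMap R K r = (d : R) • ψ x i := fun i ↦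
      hd (x, i) (Finset.mem_product.mpr ⟨hx, Finset.mem_univ i⟩)
    choose r hr using h
    exact ⟨r, funext fun i ↦ by simpa [ι, g] using hr i⟩
  let N := (LinearMap.range g).comap ι
  have hN : N.map ι = LinearMap.range g := by
    rw [Submodule.map_comap_eq, inf_eq_right]
    exact hrange
  have hfg : N.FG := Submodule.fg_of_fg_map_injective ι hι (by
    rw [hN, LinearMap.range_eq_map]
    exact Module.Finite.fg_top.map g)
  have := Groth.Agent.S7120.free_of_fg_fin R _ N hfg
  exact Module.Free.of_equiv ((Submodule.equivMapOfInjective ι hι N).trans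
    ((LinearEquiv.ofEq _ _ hN).trans (LinearEquiv.ofInjective g hg).symm))

/-- Up to elements outside a maximal ideal, one member of a finite set divides all others. -/
theorem exists_dvd_smul (m : Ideal R) [m.IsMaximal] (A : Finset R) (hA : A.Nonempty) :
    ∃ a ∈ A, ∃ t ∉ m, ∀ y ∈ A, a ∣ t * y := by
  classical
  induction hA using Finset.Nonempty.cons_induction with
  | singleton x => exact ⟨x, by simp, 1, m.ne_top_iff_one.mp (Ideal.IsMaximal.ne_top ‹_›), by simp⟩
  | cons x A hx hA ih =>
    obtain ⟨a, ha, t, ht, hdiv⟩ := ih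
    obtain ⟨g, hg⟩ := IsBezout.span_pair_isPrincipal x a
    have hmem : ∀ y ∈ ({x, a} : Set R), ∃ y', y' * g = y := fun y hy ↦
      Submodule.mem_span_singleton.mp (hg ▸ Ideal.subset_span hy)
    obtain ⟨x', hx'⟩ := hmem x (Or.inl rfl)
    obtain ⟨a', ha'⟩ := hmem a (Or.inr rfl)
    rcases eq_or_ne g 0 with rfl | hg0
    · refine ⟨a, Finset.mem_cons_of_mem ha, t, ht, fun y hy ↦ ?_⟩
      rcases Finset.mem_cons.mp hy with rfl | hy
      · simp [← hx']
      · exact hdiv y hy
    · obtain ⟨α, β, hαβ⟩ := Ideal.mem_span_pair.mp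
        (show g ∈ Ideal.span ({x, a} : Set R) from hg.symm ▸ Submodule.mem_span_singleton_self g)
      have h1 : α * x' + β * a' = 1 := mul_right_cancel₀ hg0 (by
        rw [← hx', ← ha'] at hαβ; linear_combination hαβ)
      have : x' ∉ m ∨ a' ∉ m := by
        by_contra h
        push Not at h
        exact Ideal.IsMaximal.ne_top ‹_› (m.eq_top_iff_one.mpr
          (h1 ▸ m.add_mem (m.mul_mem_left α h.1) (m.mul_mem_left β h.2)))
      rcases this with h | h
      · refine ⟨x, Finset.mem_cons_self .., t * x', fun hc ↦ ?_, fun y hy ↦ ?_⟩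
        · exact ((Ideal.IsMaximal.isPrime ‹_›).mem_or_mem hc).elim ht h
        · rcases Finset.mem_cons.mp hy with rfl | hy
          · exact dvd_mul_left _ _
          · obtain ⟨c, hc⟩ := hdiv y hy
            exact ⟨c * a', by linear_combination x' * hc - c * x' * ha' + c * a' * hx'⟩
      · refine ⟨a, Finset.mem_cons_of_mem ha, t * a', fun hc ↦ ?_, fun y hy ↦ ?_⟩
        · exact ((Ideal.IsMaximal.isPrime ‹_›).mem_or_mem hc).elim ht h
        · rcases Finset.mem_cons.mp hy with rfl | hy
          · exact ⟨t * x', by linear_combination t * x' * ha' - t * a' * hx'⟩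
          · exact (hdiv y hy).trans ⟨a', by ring⟩

/-- Endomorphisms spanned by those factoring through a cyclic module `R/(f)`, `f ≠ 0`. -/
def cyclicFactor (T : Type u) [AddCommGroup T] [Module R T] : Submodule R (T →ₗ[R] T) :=
  Submodule.span R {g | ∃ f : R, f ≠ 0 ∧ ∃ (a : T →ₗ[R] R ⧸ Ideal.span {f})
    (b : (R ⧸ Ideal.span {f}) →ₗ[R] T), g = b ∘ₗ a}

/-- Locally, the identity of a torsion finitely presented module factors through cyclic modules. -/
theorem exists_smul_id_mem (m : Ideal R) [m.IsMaximal] :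
    ∀ (n : ℕ) (T : Type u) [AddCommGroup T] [Module R T] (p : (Fin n → R) →ₗ[R] T),
      Function.Surjective p → (LinearMap.ker p).FG → (∀ x : T, ∃ r : R, r ≠ 0 ∧ r • x = 0) →
      ∃ s ∉ m, s • (LinearMap.id : T →ₗ[R] T) ∈ cyclicFactor T := by
  classical
  intro n
  induction n with
  | zero =>
    intro T _ _ p hp _ _
    have : Subsingleton T := hp.subsingleton
    exact ⟨1, m.ne_top_iff_one.mp (Ideal.IsMaximal.ne_top ‹_›), by
      rw [Subsingleton.elim ((1 : R) • (LinearMap.id : T →ₗ[R] T)) 0]; exact zero_mem _⟩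
  | succ n ih =>
    intro T _ _ p hp hker htor
    obtain ⟨gens, hgens⟩ := hker
    let A : Finset R := ((gens ×ˢ (Finset.univ : Finset (Fin (n + 1)))).image
      fun q ↦ q.1 q.2).filter (· ≠ 0)
    have hA : A.Nonempty := by
      by_contra h
      rw [Finset.not_nonempty_iff_eq_empty, Finset.filter_eq_empty_iff] at h
      have hbot : LinearMap.ker p = ⊥ := by
        rw [← hgens, Submodule.span_eq_bot]
        intro v hv
        funext i
        by_contra hne
        exact h (Finset.mem_image.mpr ⟨(v, i), by simpa using hv, rfl⟩) hne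
      obtain ⟨r, hr, hr0⟩ := htor (p (Pi.single 0 1))
      have : r • (Pi.single 0 1 : Fin (n + 1) → R) ∈ LinearMap.ker p := by
        rw [LinearMap.mem_ker, map_smul, hr0]
      rw [hbot, Submodule.mem_bot] at this
      exact hr (by simpa using congrFun this 0)
    obtain ⟨a, ha, s, hs, hdiv⟩ := exists_dvd_smul m A hA
    have hdiv' : ∀ v ∈ LinearMap.ker p, ∀ i, a ∣ s * v i := by
      intro v hv i
      rw [← hgens] at hv
      induction hv using Submodule.span_induction with
      | mem w hw =>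
        by_cases h0 : w i = 0
        · simp [h0]
        · exact hdiv _ (Finset.mem_filter.mpr ⟨Finset.mem_image.mpr ⟨(w, i), by simpa using hw, rfl⟩, h0⟩)
      | zero => simp
      | add w z _ _ hw hz => rw [Pi.add_apply, mul_add]; exact dvd_add hw hz
      | smul c w _ hw =>
        rw [Pi.smul_apply, smul_eq_mul, mul_left_comm]
        exact hw.mul_left c
    obtain ⟨hmemA, ha0⟩ := Finset.mem_filter.mp ha
    obtain ⟨⟨k, i⟩, hki, rfl⟩ := Finset.mem_image.mp hmemA
    have hk : k ∈ LinearMap.ker p := hgens ▸ Submodule.subset_span (Finset.mem_product.mp hki).1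
    replace ha0 : k i ≠ 0 := ha0
    choose u hu using fun l ↦ hdiv' k hk l
    have hui : u i = s := mul_left_cancel₀ ha0 (by linear_combination -(hu i))
    let x := p u
    have hx : k i • x = 0 := by
      have : (k i • u) = s • k := funext fun l ↦ by simp [hu l]
      rw [← map_smul, this, map_smul, LinearMap.mem_ker.mp hk, smul_zero]
    let Q := R ⧸ Ideal.span {k i}
    let b : Q →ₗ[R] T := Submodule.liftQ _ (LinearMap.toSpanSingleton R T x) (by
      rw [Ideal.span, Submodule.span_le, Set.singleton_subset_iff]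
      simpa using hx)
    let a' : (Fin (n + 1) → R) →ₗ[R] Q :=
      (Submodule.mkQ _) ∘ₗ (s • (LinearMap.proj i : (Fin (n + 1) → R) →ₗ[R] R))
    have ha' : LinearMap.ker p ≤ LinearMap.ker a' := fun v hv ↦ by
      rw [LinearMap.mem_ker]
      exact (Submodule.Quotient.mk_eq_zero _).mpr (Ideal.mem_span_singleton.mpr (hdiv' v hv i))
    let ep := p.quotKerEquivOfSurjective hp
    let a₁ : T →ₗ[R] Q := (Submodule.liftQ _ a' ha') ∘ₗ ep.symm.toLinearMap
    let φ : (Fin (n + 1) → R) →ₗ[R] (Fin n → R) := LinearMap.pi fun l ↦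
      s • (LinearMap.proj (i.succAbove l) : (Fin (n + 1) → R) →ₗ[R] R) -
        u (i.succAbove l) • (LinearMap.proj i : (Fin (n + 1) → R) →ₗ[R] R)
    let K₁ := (LinearMap.ker p).map φ
    let ext : (Fin n → R) →ₗ[R] (Fin (n + 1) → R) :=
      LinearMap.pi fun l ↦ if h : ∃ l', i.succAbove l' = l then LinearMap.proj h.choose else 0
    have hext : ∀ (w : Fin n → R) l', ext w (i.succAbove l') = w l' := by
      intro w l'
      have h : ∃ l'', i.succAbove l'' = i.succAbove l' := ⟨l', rfl⟩
      simp only [ext, LinearMap.pi_apply, dif_pos h, LinearMap.proj_apply]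
      rw [i.succAbove_right_injective h.choose_spec]
    have hexti : ∀ w : Fin n → R, ext w i = 0 := by
      intro w
      have h : ¬∃ l', i.succAbove l' = i := fun ⟨l', hl'⟩ ↦ Fin.succAbove_ne i l' hl'
      simp [ext, dif_neg h]
    have hφ : ∀ v, ext (φ v) = s • v - v i • u := by
      intro v
      funext l
      rcases Fin.eq_self_or_eq_succAbove i l with rfl | ⟨l', rfl⟩
      · rw [hexti]; simp [hui, mul_comm]
      · rw [hext]; simp [φ, mul_comm]
    have hj : K₁ ≤ LinearMap.ker (s • (p ∘ₗ ext)) := by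
      rintro _ ⟨v, hv, rfl⟩
      obtain ⟨c, hc⟩ := hdiv' v hv i
      rw [LinearMap.mem_ker, LinearMap.smul_apply, LinearMap.comp_apply, hφ, map_sub, map_smul,
        LinearMap.mem_ker.mp hv, smul_zero, zero_sub, smul_neg, neg_eq_zero, map_smul, smul_smul,
        hc, mul_comm, mul_smul, hx, smul_zero]
    let T₁ := (Fin n → R) ⧸ K₁
    let j : T₁ →ₗ[R] T := K₁.liftQ _ hj
    have hτ : LinearMap.ker p ≤ LinearMap.ker (K₁.mkQ ∘ₗ φ) := fun v hv ↦
      (Submodule.Quotient.mk_eq_zero _).mpr ⟨v, hv, rfl⟩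
    let τ : T →ₗ[R] T₁ := (Submodule.liftQ _ (K₁.mkQ ∘ₗ φ) hτ) ∘ₗ ep.symm.toLinearMap
    have hep : ∀ v, ep.symm (p v) = Submodule.Quotient.mk v := fun v ↦
      ep.symm_apply_eq.mpr rfl
    have hτp : ∀ v, τ (p v) = K₁.mkQ (φ v) := fun v ↦ by
      change (Submodule.liftQ _ (K₁.mkQ ∘ₗ φ) hτ) (ep.symm (p v)) = _
      rw [hep]
      rfl
    have hjmk : ∀ w, j (K₁.mkQ w) = s • p (ext w) := fun _ ↦ rfl
    have ha₁ : ∀ v, b (a₁ (p v)) = (s * v i) • x := fun v ↦ by
      change b ((Submodule.liftQ _ a' ha') (ep.symm (p v))) = _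
      rw [hep]
      rfl
    have htor₁ : ∀ y : T₁, ∃ r : R, r ≠ 0 ∧ r • y = 0 := by
      intro y
      obtain ⟨w, rfl⟩ := K₁.mkQ_surjective y
      obtain ⟨r, hr, hr0⟩ := htor (j (K₁.mkQ w))
      have hs0 : s ≠ 0 := fun h ↦ hs (h ▸ m.zero_mem)
      refine ⟨r * (s * s), mul_ne_zero hr (mul_ne_zero hs0 hs0), ?_⟩
      have hτj : τ (j (K₁.mkQ w)) = (s * s) • K₁.mkQ w := by
        have : φ (ext w) = s • w := funext fun l ↦ by simp [φ, hext, hexti]
        rw [hjmk, map_smul, hτp, this, map_smul, smul_smul]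
      rw [mul_smul, ← hτj, ← map_smul, hr0, map_zero]
    obtain ⟨s₁, hs₁, hmem⟩ := ih T₁ K₁.mkQ K₁.mkQ_surjective
      (by rw [Submodule.ker_mkQ]; exact Submodule.FG.map φ ⟨gens, hgens⟩) htor₁
    refine ⟨s₁ * (s * s), fun hc ↦ ?_, ?_⟩
    · rcases (Ideal.IsMaximal.isPrime ‹_›).mem_or_mem hc with h | h
      · exact hs₁ h
      · exact ((Ideal.IsMaximal.isPrime ‹_›).mem_or_mem h).elim hs hs
    have hid : (s * s) • (LinearMap.id : T →ₗ[R] T) = j ∘ₗ τ + b ∘ₗ a₁ := by
      refine LinearMap.ext fun y ↦ ?_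
      obtain ⟨v, rfl⟩ := hp y
      simp only [LinearMap.smul_apply, LinearMap.id_apply, LinearMap.add_apply,
        LinearMap.comp_apply, hτp, hjmk, ha₁, hφ]
      simp [x, smul_sub, smul_smul]
    rw [mul_smul, hid, smul_add]
    refine add_mem ?_ ((cyclicFactor T).smul_mem _ (Submodule.subset_span ⟨k i, ha0, a₁, b, rfl⟩))
    let Φ : (T₁ →ₗ[R] T₁) →ₗ[R] (T →ₗ[R] T) := LinearMap.compRight R j ∘ₗ LinearMap.lcomp R T₁ τ
    have : Φ (s₁ • LinearMap.id) ∈ (cyclicFactor T₁).map Φ := ⟨_, hmem, rfl⟩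
    refine (Submodule.map_span_le Φ _ _).mpr ?_ (by simpa [Φ, LinearMap.lcomp_apply', cyclicFactor] using this)
    rintro _ ⟨f, hf, a₂, b₂, rfl⟩
    exact Submodule.subset_span ⟨f, hf, a₂ ∘ₗ τ, j ∘ₗ b₂, rfl⟩

/-- A finitely presented torsion module is a retract of a finite product of cyclic modules. -/
theorem exists_retract (T : Type u) [AddCommGroup T] [Module R T] [Module.FinitePresentation R T]
    (htor : ∀ x : T, ∃ r : R, r ≠ 0 ∧ r • x = 0) :
    ∃ (n : ℕ) (f : Fin n → R), (∀ j, f j ≠ 0) ∧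
      ∃ (i : T →ₗ[R] ((j : Fin n) → R ⧸ Ideal.span {f j}))
        (p : ((j : Fin n) → R ⧸ Ideal.span {f j}) →ₗ[R] T), p ∘ₗ i = LinearMap.id := by
  classical
  let I : Ideal R := (cyclicFactor T).comap (LinearMap.toSpanSingleton R (T →ₗ[R] T) LinearMap.id)
  have hI : I = ⊤ := by
    by_contra h
    obtain ⟨m, hm, hle⟩ := Ideal.exists_le_maximal I h
    obtain ⟨n, K, e, hK⟩ := Module.FinitePresentation.exists_fin R T
    obtain ⟨s, hs, hmem⟩ := exists_smul_id_mem m n T (e.symm.toLinearMap ∘ₗ K.mkQ)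
      (e.symm.surjective.comp K.mkQ_surjective)
      (by rw [LinearMap.ker_comp, LinearEquiv.ker, Submodule.comap_bot, Submodule.ker_mkQ]; exact hK)
      htor
    exact hs (hle hmem)
  have h1 : (LinearMap.id : T →ₗ[R] T) ∈ cyclicFactor T := by
    have : (1 : R) ∈ I := hI ▸ Submodule.mem_top
    simpa [I] using this
  obtain ⟨n, c, g, hg⟩ := Submodule.mem_span_set'.mp h1
  choose f hf a b hab using fun j ↦ (g j).2
  refine ⟨n, f, hf, LinearMap.pi a, ∑ j, c j • (b j ∘ₗ LinearMap.proj j), ?_⟩
  conv_rhs => rw [← hg]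
  refine LinearMap.ext fun x ↦ ?_
  simp [hab]

/-- A finitely presented module is free plus torsion, with finitely presented torsion. -/
theorem exists_split (M : Type u) [AddCommGroup M] [Module R M] [Module.FinitePresentation R M] :
    (∃ r : ℕ, Nonempty (M ≃ₗ[R] ((Fin r → R) × Submodule.torsion R M))) ∧
      Module.FinitePresentation R (Submodule.torsion R M) := by
  let N := Submodule.torsion R M
  have hfree : Module.Free R (M ⧸ N) := by
    refine free_of_torsionFree _ fun r x hr hx ↦ ?_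
    obtain ⟨x, rfl⟩ := N.mkQ_surjective x
    rw [← map_smul, Submodule.mkQ_apply, Submodule.Quotient.mk_eq_zero] at hx
    obtain ⟨c, hc⟩ := hx
    rw [Submodule.mkQ_apply, Submodule.Quotient.mk_eq_zero]
    refine ⟨c * ⟨r, mem_nonZeroDivisors_of_ne_zero hr⟩, ?_⟩
    rw [Submonoid.smul_def] at hc ⊢
    simpa [mul_smul] using hc
  obtain ⟨σ, hσ⟩ := Module.projective_lifting_property N.mkQ LinearMap.id N.mkQ_surjective
  have hσ' : ∀ y, (Submodule.Quotient.mk (σ y) : M ⧸ N) = y := LinearMap.congr_fun hσ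
  let π : M →ₗ[R] N := (LinearMap.id - σ ∘ₗ N.mkQ).codRestrict N fun x ↦
    (Submodule.Quotient.mk_eq_zero _).mp (by simp [hσ'])
  have hπ : ∀ x : N, π x = x := fun x ↦ Subtype.ext (by
    simp [π, (Submodule.Quotient.mk_eq_zero N).mpr x.2])
  refine ⟨⟨Module.finrank R (M ⧸ N), ⟨?_⟩⟩, ?_⟩
  · let e : M ≃ₗ[R] ((M ⧸ N) × N) :=
      { N.mkQ.prod π with
        invFun := fun q ↦ σ q.1 + q.2
        left_inv := fun x ↦ by simp [π]
        right_inv := fun q ↦ by
          have h2 : (Submodule.Quotient.mk (q.2 : M) : M ⧸ N) = 0 :=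
            (Submodule.Quotient.mk_eq_zero N).mpr q.2.2
          refine Prod.ext (by simp [hσ', h2]) (Subtype.ext ?_)
          simp [π, hσ', h2] }
    exact e.trans (LinearEquiv.prodCongr (Module.finBasis R (M ⧸ N)).equivFun (LinearEquiv.refl R N))
  · refine Module.finitePresentation_of_surjective π (fun x ↦ ⟨x, hπ x⟩) ?_
    have : LinearMap.ker π = LinearMap.range σ := by
      ext x
      refine ⟨fun h ↦ ⟨N.mkQ x, (sub_eq_zero.mp (congrArg Subtype.val h)).symm⟩, ?_⟩
      rintro ⟨y, rfl⟩
      exact Subtype.ext (by simp [π, hσ'])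
    rw [this, LinearMap.range_eq_map]
    exact Module.Finite.fg_top.map σ

end Groth.Agent.H02CA.BezoutFP
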