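import Mathlib

/-!
# Edge labellings of connected bipartite graphs
-/

namespace Groth.Agent.H02CA.BipFlow

variable {V : Type*} [Fintype V] [DecidableEq V] (G : SimpleGraph V) [DecidableRel G.Adj]
  (c : V → Bool) {A : Type*} [AddCommGroup A]

/-- The sign of a colour. -/
def ε (v : V) : ℤ := if c v then 1 else -1

omit [Fintype V] [DecidableEq V] in
theorem ε_sq (v : V) : ε c v * ε c v = 1 := by unfold ε; split <;> rfl

/-- Boundary of an edge labelling. -/
def bd : (Sym2 V → A) →+ (V → A) where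
  toFun x v := ∑ e ∈ G.incidenceFinset v, x e
  map_zero' := by ext; simp
  map_add' x y := by ext; simp [Finset.sum_add_distrib]

theorem bd_apply (x : Sym2 V → A) (v : V) : bd G x v = ∑ e ∈ G.incidenceFinset v, x e := rfl

theorem bd_smul_vec (w : Sym2 V → ℤ) (a : A) (v : V) :
    bd G (fun e => w e • a) v = bd G w v • a := by
  rw [bd_apply, bd_apply, Finset.sum_smul]

theorem mem_incidence {e : Sym2 V} {v : V} :
    e ∈ G.incidenceFinset v ↔ e ∈ G.edgeSet ∧ v ∈ e := by
  rw [SimpleGraph.mem_incidenceFinset]; rfl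

theorem bd_single {u v : V} (h : G.Adj u v) :
    bd G (Pi.single s(u, v) (1 : ℤ)) = Pi.single u 1 + Pi.single v 1 := by
  funext x
  rw [bd_apply, Finset.sum_pi_single', Pi.add_apply]
  have hne := h.ne
  by_cases hxu : x = u
  · subst hxu; simp [SimpleGraph.mem_incidenceFinset, SimpleGraph.mk'_mem_incidenceSet_iff, h, hne]
  by_cases hxv : x = v
  · subst hxv; simp [SimpleGraph.mem_incidenceFinset, SimpleGraph.mk'_mem_incidenceSet_iff, h, hne.symm]
  simp [SimpleGraph.mem_incidenceFinset, SimpleGraph.mk'_mem_incidenceSet_iff, hxu, hxv]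

/-- `w v` is an integral labelling with boundary `δ v - δ v₀`. -/
def IsPotential (S : Set (Sym2 V)) (v₀ : V) (w : V → Sym2 V → ℤ) : Prop :=
  ∀ v, (∀ e, e ∉ S → w v e = 0) ∧
    bd G (w v) = Pi.single v (ε c v) - Pi.single v₀ (ε c v₀)

theorem exists_potential (hbip : ∀ v w : V, G.Adj v w → c v ≠ c w) (G' : SimpleGraph V)
    (hle : G' ≤ G) (hconn : G'.Connected) (v₀ : V) :
    ∃ w, IsPotential G c G'.edgeSet v₀ w := by
  suffices h : ∀ v, ∃ w : Sym2 V → ℤ, (∀ e, e ∉ G'.edgeSet → w e = 0) ∧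
      bd G w = Pi.single v (ε c v) - Pi.single v₀ (ε c v₀) from
    ⟨fun v => (h v).choose, fun v => (h v).choose_spec⟩
  intro v
  have hr := hconn.preconnected v₀ v
  rw [SimpleGraph.reachable_eq_reflTransGen] at hr
  induction hr with
  | refl => exact ⟨0, fun _ _ => rfl, by simp⟩
  | @tail u x _ hux ih =>
    obtain ⟨w, hw, hbd⟩ := ih
    refine ⟨w + ε c x • Pi.single s(u, x) 1, fun e he => ?_, ?_⟩
    · have : e ≠ s(u, x) := fun h => he (h ▸ hux)
      simp [hw e he, this]
    · have hc := hbip _ _ (hle hux)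
      have hε : ε c u = - ε c x := by
        unfold ε
        revert hc
        cases c u <;> cases c x <;> simp
      rw [map_add, map_zsmul, hbd, bd_single G (hle hux), hε]
      funext y
      simp only [Pi.add_apply, Pi.sub_apply, Pi.smul_apply, smul_eq_mul, Pi.single_apply, mul_add]
      split_ifs <;> ring

/-- Lift of a vertex function. -/
def lift (w : V → Sym2 V → ℤ) (a : V → A) : Sym2 V → A :=
  fun e => ∑ v, (ε c v * w v e) • a v

omit [DecidableEq V] in
theorem lift_eq_zero {S : Set (Sym2 V)} (w : V → Sym2 V → ℤ)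
    (hw : ∀ v e, e ∉ S → w v e = 0) (a : V → A) {e : Sym2 V} (he : e ∉ S) : lift c w a e = 0 := by
  simp [lift, hw _ _ he]

theorem bd_lift {S : Set (Sym2 V)} {v₀ : V} {w : V → Sym2 V → ℤ} (hw : IsPotential G c S v₀ w)
    (a : V → A) (ha : ∑ v, ε c v • a v = 0) : bd G (lift c w a) = a := by
  funext x
  rw [bd_apply]
  simp only [lift]
  rw [Finset.sum_comm]
  have h : ∀ v, ∑ e ∈ G.incidenceFinset x, (ε c v * w v e) • a v =
      ((Pi.single v (ε c v) : V → ℤ) x - (Pi.single v₀ (ε c v₀) : V → ℤ) x) • (ε c v • a v) := by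
    intro v
    rw [← Pi.sub_apply, ← (hw v).2, bd_apply, smul_smul, ← Finset.sum_smul, Finset.sum_mul]
    congr 1
    exact Finset.sum_congr rfl fun e _ => mul_comm _ _
  rw [Finset.sum_congr rfl fun v _ => h v]
  simp only [sub_smul, Finset.sum_sub_distrib, ← Finset.smul_sum, ha, smul_zero, sub_zero]
  rw [Finset.sum_eq_single x (fun v _ hv => by simp [Ne.symm hv]) (by simp)]
  simp [smul_smul, ε_sq]

theorem sum_bd (hbip : ∀ v w : V, G.Adj v w → c v ≠ c w) (x : Sym2 V → A) :
    ∑ v, ε c v • bd G x v = 0 := by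
  simp only [bd_apply, Finset.smul_sum, SimpleGraph.incidenceFinset_eq_filter, Finset.sum_filter]
  rw [Finset.sum_comm]
  refine Finset.sum_eq_zero fun e he => ?_
  induction e with
  | h p q =>
    rw [SimpleGraph.mem_edgeFinset, SimpleGraph.mem_edgeSet] at he
    have hne := he.ne
    have hsub : (Finset.univ.filter fun v => v ∈ s(p, q)) = ({p, q} : Finset V) := by ext; simp
    simp only [smul_ite, smul_zero]
    rw [← Finset.sum_filter, hsub, Finset.sum_pair hne, ← add_smul]
    have hc := hbip _ _ he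
    have : ε c p + ε c q = 0 := by
      unfold ε; revert hc; cases c p <;> cases c q <;> simp
    rw [this, zero_smul]

/-- Projection onto labellings with zero boundary. -/
noncomputable def proj (w : V → Sym2 V → ℤ) (x : Sym2 V → A) : Sym2 V → A :=
  (fun e => if e ∈ G.edgeFinset then x e else 0) - lift c w (bd G x)

theorem bd_proj (hbip : ∀ v w : V, G.Adj v w → c v ≠ c w) {S : Set (Sym2 V)} {v₀ : V}
    {w : V → Sym2 V → ℤ} (hw : IsPotential G c S v₀ w) (x : Sym2 V → A) :
    bd G (proj G c w x) = 0 := by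
  rw [proj, map_sub, bd_lift G c hw _ (sum_bd G c hbip x), sub_eq_zero]
  funext v
  refine Finset.sum_congr rfl fun e he => if_pos ?_
  exact SimpleGraph.mem_edgeFinset.2 (mem_incidence G |>.1 he).1

theorem proj_eq_zero {S : Set (Sym2 V)} (hS : S ⊆ G.edgeSet) (w : V → Sym2 V → ℤ)
    (hw : ∀ v e, e ∉ S → w v e = 0) (x : Sym2 V → A) {e : Sym2 V} (he : e ∉ G.edgeSet) :
    proj G c w x e = 0 := by
  simp [proj, lift_eq_zero c w hw _ (fun h => he (hS h)), he]

theorem proj_eq_sum (w : V → Sym2 V → ℤ) (x : Sym2 V → A) (e : Sym2 V) :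
    proj G c w x e = ∑ d, proj G c w (Pi.single d (1 : ℤ)) e • x d := by
  simp only [proj, Pi.sub_apply, sub_smul, Finset.sum_sub_distrib]
  congr 1
  · by_cases he : e ∈ G.edgeFinset <;>
      simp [he, Pi.single_apply]
  · simp only [lift, bd_apply, Finset.sum_smul, Finset.smul_sum, smul_smul, smul_eq_mul]
    rw [Finset.sum_comm (γ := Sym2 V)]
    refine Finset.sum_congr rfl fun v _ => ?_
    have h1 : ∀ d : Sym2 V, (∑ e' ∈ G.incidenceFinset v, (Pi.single d (1 : ℤ) : Sym2 V → ℤ) e') =
        if d ∈ G.incidenceFinset v then 1 else 0 := fun d => Finset.sum_pi_single' d 1 _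
    simp only [h1, mul_ite, mul_one, mul_zero, ite_smul, zero_smul]
    rw [Finset.sum_ite_mem, Finset.univ_inter]

theorem eq_proj_int (w : V → Sym2 V → ℤ) (x : Sym2 V → ℤ)
    (h1 : ∀ e, e ∉ G.edgeSet → x e = 0) (h2 : bd G x = 0) : proj G c w x = x := by
  funext e
  by_cases he : e ∈ G.edgeSet
  · simp [proj, h2, lift, SimpleGraph.mem_edgeFinset, he]
  · simp [proj, h2, lift, SimpleGraph.mem_edgeFinset, he, h1 e he]

/-- The boundary map on labellings of the edges. -/
noncomputable def bdE : (G.edgeFinset → ℤ) →ₗ[ℤ] (V → ℤ) :=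
  ((bd G).comp
    ({ toFun := fun x e => if h : e ∈ G.edgeFinset then x ⟨e, h⟩ else 0
       map_zero' := by ext e; simp
       map_add' := fun x y => by ext e; simp only [Pi.add_apply]; split_ifs <;> simp } :
      (G.edgeFinset → ℤ) →+ (Sym2 V → ℤ))).toIntLinearMap

/-- The signed sum. -/
def sig : (V → ℤ) →ₗ[ℤ] ℤ where
  toFun a := ∑ v, ε c v * a v
  map_add' x y := by simp [mul_add, Finset.sum_add_distrib]
  map_smul' r x := by simp [Finset.mul_sum, mul_left_comm]

theorem bdE_apply (x : Sym2 V → ℤ) :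
    bdE G (fun e => x e.1) = bd G x := by
  funext v
  refine Finset.sum_congr rfl fun e he => ?_
  exact dif_pos (SimpleGraph.mem_edgeFinset.2 ((mem_incidence G).1 he).1)

theorem rank_eq (hbip : ∀ v w : V, G.Adj v w → c v ≠ c w) {v₀ : V}
    {w : V → Sym2 V → ℤ} (hw : IsPotential G c G.edgeSet v₀ w)
    (K : Submodule ℤ (Sym2 V → ℤ))
    (hK : ∀ x, x ∈ K ↔ (∀ e, e ∉ G.edgeSet → x e = 0) ∧ bd G x = 0) (n : ℕ)
    (hn : G.edgeFinset.card + 1 = Fintype.card V + n) : Module.finrank ℤ K = n := by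
  let res : K →ₗ[ℤ] LinearMap.ker (bdE G) :=
    { toFun := fun x => ⟨fun e => x.1 e.1, by
        rw [LinearMap.mem_ker, bdE_apply]; exact ((hK _).1 x.2).2⟩
      map_add' := fun _ _ => rfl
      map_smul' := fun _ _ => rfl }
  have hres : Function.Bijective res := by
    constructor
    · intro x y h
      apply Subtype.ext
      funext e
      by_cases he : e ∈ G.edgeSet
      · exact congrFun (congrArg Subtype.val h) ⟨e, SimpleGraph.mem_edgeFinset.2 he⟩
      · rw [((hK _).1 x.2).1 e he, ((hK _).1 y.2).1 e he]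
    · rintro ⟨y, hy⟩
      refine ⟨⟨fun e => if h : e ∈ G.edgeFinset then y ⟨e, h⟩ else 0, (hK _).2
        ⟨fun e he => dif_neg (by simpa using he), hy⟩⟩, Subtype.ext (funext fun e => dif_pos e.2)⟩
  have hrange : LinearMap.range (bdE G) = LinearMap.ker (sig c) := by
    ext a
    constructor
    · rintro ⟨x, rfl⟩
      rw [LinearMap.mem_ker]
      exact sum_bd G c hbip _
    · intro ha
      refine ⟨fun e => lift c w a e.1, ?_⟩
      rw [bdE_apply, bd_lift G c hw a]
      exact ha
  have hsig : Function.Surjective (sig c) := fun z =>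
    ⟨Pi.single v₀ (ε c v₀ * z), by simp [sig, Pi.single_apply, ← mul_assoc, ε_sq]⟩
  have e1 := (LinearMap.quotKerEquivOfSurjective _ hsig).finrank_eq
  have e2 := Submodule.finrank_quotient_add_finrank (LinearMap.ker (sig c))
  have e3 := (LinearMap.quotKerEquivRange (bdE G)).finrank_eq
  have e4 := Submodule.finrank_quotient_add_finrank (LinearMap.ker (bdE G))
  rw [(LinearEquiv.ofBijective res hres).finrank_eq]
  rw [Module.finrank_self] at e1
  rw [Module.finrank_fintype_fun_eq_card] at e2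
  rw [hrange] at e3
  rw [Module.finrank_fintype_fun_eq_card, Fintype.card_coe] at e4
  omega

end Groth.Agent.H02CA.BipFlow
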