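import Groth.Prelude.Def_Found
import Mathlib.RingTheory.KrullDimension.Basic
import Mathlib.RingTheory.Spectrum.Prime.RingHom

/-!
Catenary rings: transfer along order-convex embeddings of prime spectra, saturated refinements.
-/

namespace Groth.Agent.H02CA

open Order PrimeSpectrum

universe u
variable {P Q : Type*} [PartialOrder P] [PartialOrder Q]

/-- A saturated chain. -/
def Saturated (s : LTSeries P) : Prop := ∀ i : Fin s.length, s i.castSucc ⋖ s i.succ

/-- A chain of maximal length between its end points is saturated. -/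
lemma saturated_of_forall_length_le (s : LTSeries P)
    (h : ∀ t : LTSeries P, t.head = s.head → t.last = s.last → t.length ≤ s.length) : Saturated s := by
  intro i
  refine ⟨s.step i, fun a ha ha' => ?_⟩
  have h1 := h (s.insertNth i a ha ha') ?_ ?_
  · simp [RelSeries.insertNth] at h1
  · show Fin.insertNth (α := fun _ => P) i.succ.castSucc a s (0 : Fin (s.length + 2)) = s 0
    rw [Fin.insertNth_apply_below (by simp [Fin.lt_def])]
    simp
  · show Fin.insertNth (α := fun _ => P) i.succ.castSucc a s (Fin.last (s.length + 1)) = s (Fin.last _)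
    rw [Fin.insertNth_apply_above (by simp [Fin.lt_def])]
    simp only [eq_rec_constant]
    exact congr_arg s.toFun (Fin.ext (by simp))

/-- Between comparable points with bounded chains there is a saturated chain of maximal length. -/
lemma exists_saturated {p q : P} (hpq : p ≤ q) {n : ℕ}
    (hn : ∀ s : LTSeries P, s.head = p → s.last = q → s.length ≤ n) :
    ∃ s : LTSeries P, s.head = p ∧ s.last = q ∧ Saturated s ∧
      ∀ t : LTSeries P, t.head = p → t.last = q → t.length ≤ s.length := by
  classical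
  have hne : ∃ m, ∃ s : LTSeries P, s.head = p ∧ s.last = q ∧ s.length = m := by
    rcases eq_or_lt_of_le hpq with rfl | hlt
    · exact ⟨0, RelSeries.singleton _ p, rfl, rfl, rfl⟩
    · exact ⟨1, (RelSeries.singleton _ p).snoc q (by simpa using hlt), by simp, by simp, rfl⟩
  obtain ⟨m, hm⟩ := hne
  have hmn : m ≤ n := by obtain ⟨s, h1, h2, rfl⟩ := hm; exact hn s h1 h2
  obtain ⟨s, h1, h2, h3⟩ := Nat.findGreatest_spec
    (P := fun k => ∃ s : LTSeries P, s.head = p ∧ s.last = q ∧ s.length = k) hmn hm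
  have hmax : ∀ t : LTSeries P, t.head = p → t.last = q → t.length ≤ s.length := fun t t1 t2 => by
    rw [h3]; exact Nat.le_findGreatest (hn t t1 t2) ⟨t, t1, t2, rfl⟩
  exact ⟨s, h1, h2, saturated_of_forall_length_le s fun t t1 t2 => hmax t (t1.trans h1) (t2.trans h2), hmax⟩

/-- An order embedding is order-convex if its range contains the intervals between its values. -/
def Convex (e : P ↪o Q) : Prop := ∀ a b : P, ∀ c : Q, e a ≤ c → c ≤ e b → c ∈ Set.range e

lemma saturated_map (e : P ↪o Q) (he : Convex e) {s : LTSeries P} (hs : Saturated s) :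
    Saturated (s.map e e.strictMono) := by
  intro i
  refine ⟨e.strictMono (s.step i), fun c hc hc' => ?_⟩
  obtain ⟨a, rfl⟩ := he _ _ c hc.le hc'.le
  exact (hs i).2 (e.lt_iff_lt.mp hc) (e.lt_iff_lt.mp hc')

/-- Pull a chain back along a convex embedding. -/
lemma exists_preimage (e : P ↪o Q) (he : Convex e) (s : LTSeries Q) {a b : P} (ha : s.head = e a) (hb : s.last = e b) :
    ∃ t : LTSeries P, t.head = a ∧ t.last = b ∧ t.length = s.length ∧ (Saturated s → Saturated t) := by
  have hr : ∀ i, s i ∈ Set.range e := fun i => he a b (s i)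
    (ha ▸ s.head_le i) (hb ▸ s.monotone (Fin.le_last i))
  choose g hg using hr
  refine ⟨⟨s.length, g, fun i => ?_⟩, e.injective ((hg 0).trans ha), e.injective ((hg _).trans hb), rfl, fun hs i => ?_⟩
  · exact e.lt_iff_lt.mp (by rw [hg, hg]; exact s.step i)
  · refine ⟨e.lt_iff_lt.mp (by rw [hg, hg]; exact s.step i), fun c hc hc' => (hs i).2 (c := e c) ?_ ?_⟩
    · rw [← hg i.castSucc]; exact e.lt_iff_lt.mpr hc
    · rw [← hg i.succ]; exact e.lt_iff_lt.mpr hc'

lemma catenary_transfer {R S : Type u} [CommRing R] [CommRing S]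
    (e : PrimeSpectrum S ↪o PrimeSpectrum R) (he : Convex e) (h : CAlg.IsCatenary R) : CAlg.IsCatenary S := by
  refine ⟨fun p q hpq => ?_, fun s t hh hl hs ht => ?_⟩
  · obtain ⟨n, hn⟩ := h.1 (e p) (e q) (e.monotone hpq)
    exact ⟨n, fun s hs hl => hn (s.map e e.strictMono) (by simpa using congr_arg e hs) (by simpa using congr_arg e hl)⟩
  · exact h.2 (s.map e e.strictMono) (t.map e e.strictMono) (by simpa using congr_arg e hh)
      (by simpa using congr_arg e hl) (saturated_map e he hs) (saturated_map e he ht)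

/-- Catenarity can be tested on convex pieces covering all intervals. -/
lemma catenary_of_cover {R : Type u} [CommRing R]
    (h : ∀ p q : PrimeSpectrum R, p ≤ q → ∃ (S : Type u) (_ : CommRing S) (e : PrimeSpectrum S ↪o PrimeSpectrum R),
      Convex e ∧ p ∈ Set.range e ∧ q ∈ Set.range e ∧ CAlg.IsCatenary S) : CAlg.IsCatenary R := by
  refine ⟨fun p q hpq => ?_, fun s t hh hl hs ht => ?_⟩
  · obtain ⟨S, _, e, he, ⟨a, rfl⟩, ⟨b, rfl⟩, hS⟩ := h p q hpq
    obtain ⟨n, hn⟩ := hS.1 a b (e.le_iff_le.mp hpq)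
    refine ⟨n, fun s hs hl => ?_⟩
    obtain ⟨t, t1, t2, t3, -⟩ := exists_preimage e he s hs hl
    exact t3 ▸ hn t t1 t2
  · obtain ⟨S, _, e, he, ⟨a, ha⟩, ⟨b, hb⟩, hS⟩ := h s.head s.last s.head_le_last
    obtain ⟨s', s1, s2, s3, s4⟩ := exists_preimage e he s ha.symm hb.symm
    obtain ⟨t', t1, t2, t3, t4⟩ := exists_preimage e he t (hh ▸ ha.symm) (hl ▸ hb.symm)
    rw [← s3, ← t3]
    exact hS.2 s' t' (s1.trans t1.symm) (s2.trans t2.symm) (s4 hs) (t4 ht)

/-- The spectrum of a quotient as a convex piece of the spectrum. -/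
def quotEmbedding {R : Type u} [CommRing R] (I : Ideal R) : PrimeSpectrum (R ⧸ I) ↪o PrimeSpectrum R :=
  OrderEmbedding.ofMapLEIff (PrimeSpectrum.comap (Ideal.Quotient.mk I)) fun a b =>
    Ideal.comap_le_comap_iff_of_surjective _ Ideal.Quotient.mk_surjective a.asIdeal b.asIdeal

lemma mem_range_quotEmbedding {R : Type u} [CommRing R] (I : Ideal R) {p : PrimeSpectrum R} :
    p ∈ Set.range (quotEmbedding I) ↔ I ≤ p.asIdeal := by
  show p ∈ Set.range (PrimeSpectrum.comap _) ↔ _
  rw [range_comap_of_surjective _ _ Ideal.Quotient.mk_surjective, PrimeSpectrum.mem_zeroLocus, Ideal.mk_ker]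
  exact Iff.rfl

lemma convex_quotEmbedding {R : Type u} [CommRing R] (I : Ideal R) : Convex (quotEmbedding I) :=
  fun a _ _ hc _ => (mem_range_quotEmbedding I).mpr (le_trans ((mem_range_quotEmbedding I).mp ⟨a, rfl⟩) hc)

end Groth.Agent.H02CA
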