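import Mathlib.RingTheory.Nilpotent.GeometricallyReduced
import Mathlib.RingTheory.Smooth.Field
import Mathlib.FieldTheory.SeparablyGenerated
import Mathlib.FieldTheory.IsAlgClosed.Basic
import Mathlib.RingTheory.Flat.Basic
import Mathlib.FieldTheory.Perfect

/-!
Geometrically reduced finitely generated field extensions are separably generated and formally smooth.
-/

namespace Groth.Agent.H02CA

open TensorProduct

universe u v

/-- In characteristic `p`, geometric reducedness makes `p`-th powers preserve linear independence. -/
theorem linearIndepOn_pow_of_isGeometricallyReduced {k : Type u} {K : Type v} [Field k] [Field K] [Algebra k K]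
    [Algebra.IsGeometricallyReduced k K] (p : ℕ) (hp : p.Prime) [CharP k p] (s : Finset K)
    (hs : LinearIndepOn k _root_.id (s : Set K)) : LinearIndepOn k (· ^ p) (s : Set K) := by
  haveI : Fact p.Prime := ⟨hp⟩
  haveI hred : IsReduced (AlgebraicClosure k ⊗[k] K) := (Algebra.isGeometricallyReduced_field_iff k K).mp inferInstance
  haveI : Nontrivial (AlgebraicClosure k ⊗[k] K) :=
    (nontrivial_of_ne (1 ⊗ₜ[k] (1 : K) : AlgebraicClosure k ⊗[k] K) 0
      fun h => one_ne_zero (α := K) (by
        have := (Algebra.TensorProduct.includeRight_injective (R := k) (A := AlgebraicClosure k) (B := K) (algebraMap k (AlgebraicClosure k)).injective)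
        exact this (a₁ := 1) (a₂ := 0) (by simpa using h)))
  haveI : CharP (AlgebraicClosure k ⊗[k] K) p :=
    charP_of_injective_algebraMap (algebraMap k (AlgebraicClosure k ⊗[k] K)).injective p
  have hind : LinearIndependent k (fun i : s => (i : K)) := hs
  show LinearIndependent k (fun i : s => (i : K) ^ p)
  rw [Fintype.linearIndependent_iff] at hind ⊢
  intro c hc
  choose r hr using fun i => IsAlgClosed.exists_pow_nat_eq (algebraMap k (AlgebraicClosure k) (c i)) hp.pos
  have hz : (∑ i, r i ⊗ₜ[k] ((i : K)) : AlgebraicClosure k ⊗[k] K) ^ p = 0 := by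
    rw [sum_pow_char p]
    simp only [Algebra.TensorProduct.tmul_pow, hr, Algebra.algebraMap_eq_smul_one, smul_tmul, ← tmul_sum, hc, tmul_zero]
  have hz0 := IsReduced.eq_zero _ ⟨p, hz⟩
  let b := Module.Basis.ofVectorSpace k (AlgebraicClosure k)
  have hcoord : ∀ (l : AlgebraicClosure k →ₗ[k] k) (i : s), l (r i) = 0 := by
    intro l
    refine hind _ ?_
    have := congr_arg ((TensorProduct.lid k K).toLinearMap ∘ₗ l.rTensor K) hz0
    simpa using this
  intro i
  have hr0 : r i = 0 := (b.forall_coord_eq_zero_iff).mp fun j => hcoord (b.coord j) i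
  have := hr i
  rw [hr0, zero_pow hp.ne_zero] at this
  exact (map_eq_zero_iff _ (algebraMap k (AlgebraicClosure k)).injective).mp this.symm

/-- A finitely generated geometrically reduced field extension is formally smooth. -/
theorem formallySmooth_of_isGeometricallyReduced (k : Type u) (K : Type u) [Field k] [Field K] [Algebra k K]
    [Algebra.EssFiniteType k K] [Algebra.IsGeometricallyReduced k K] : Algebra.FormallySmooth k K := by
  obtain _ | ⟨p, hp, hpk⟩ := CharP.exists' k
  · infer_instance
  obtain ⟨s, hs, H⟩ := exists_isTranscendenceBasis_and_isSeparable_of_linearIndepOn_pow_of_essFiniteType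
    p hp.out (fun s hs => linearIndepOn_pow_of_isGeometricallyReduced (k := k) (K := K) p hp.out s hs)
  haveI : Algebra.IsSeparable (↥(IntermediateField.adjoin k (Set.range ((↑) : s → K)))) K := by
    convert! H <;> simp
  exact .of_algebraicIndependent_of_isSeparable hs.1

end Groth.Agent.H02CA
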