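import Groth.Agent.S9246
import Groth.Agent.H4Depth.Regular
import Mathlib.RingTheory.Unramified.LocalStructure
import Mathlib.RingTheory.RegularLocalRing.Polynomial
import Mathlib.RingTheory.Smooth.Flat
import Mathlib.RingTheory.Smooth.NoetherianDescent
import Mathlib.RingTheory.LocalProperties.Reduced
import Mathlib.RingTheory.TensorProduct.Pi
import Mathlib.RingTheory.Localization.LocalizationLocalization

/-!
Smooth algebras over regular rings are regular, over reduced rings reduced.
-/

namespace Groth.Agent.H02CA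

open TensorProduct

universe u

theorem isRegularRing_of_smooth (R S : Type u) [CommRing R] [CommRing S] [Algebra R S]
    [IsRegularRing R] [Algebra.Smooth R S] : IsRegularRing S := by
  haveI : IsNoetherianRing S := Algebra.FiniteType.isNoetherianRing R S
  rw [isRegularRing_iff]
  intro q _
  haveI : Algebra.IsSmoothAt R q := Algebra.FormallySmooth.comp R S _
  obtain ⟨f, hf, n, alg, tower, he⟩ := Algebra.IsSmoothAt.exists_isStandardEtale_mvPolynomial (R := R) (p := q)
  have hdisj : Disjoint (Submonoid.powers f : Set S) q := (Ideal.disjoint_powers_iff_notMem_of_isPrime _).mpr hf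
  have hP := IsLocalization.isPrime_of_isPrime_disjoint (Submonoid.powers f) (Localization.Away f) q ‹_› hdisj
  have hc := IsLocalization.under_map_of_isPrime_disjoint (Submonoid.powers f) (Localization.Away f) (I := q) ‹_› hdisj
  haveI := hP
  set P := q.map (algebraMap S (Localization.Away f))
  haveI : IsRegularLocalRing (Localization.AtPrime P) :=
    (Groth.Agent.S9246.result (MvPolynomial (Fin n) R) (Localization.Away f) P).mp
      (isRegularRing_iff.mp inferInstance _)
  have h := IsRegularLocalRing.of_ringEquiv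
    (IsLocalization.localizationLocalizationAtPrimeIsoLocalization (Submonoid.powers f) P).symm.toRingEquiv
  have aux : ∀ (r : Ideal S) [r.IsPrime], r = q → IsRegularLocalRing (Localization.AtPrime r) →
      IsRegularLocalRing (Localization.AtPrime q) := by
    intro r _ hr H
    subst hr
    exact H
  exact aux _ hc h

theorem isReduced_of_isRegularRing (R : Type u) [CommRing R] [IsRegularRing R] : IsReduced R := by
  refine isReduced_ofLocalizationMaximal R fun m _ => ?_
  haveI : IsRegularLocalRing (Localization.AtPrime m) := IsRegularRing.isRegularLocalRing_localization m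
  haveI := H4Depth.isDomain_of_isRegularLocalRing (Localization.AtPrime m)
  infer_instance

theorem isReduced_of_smooth_of_isNoetherianRing (R S : Type u) [CommRing R] [CommRing S] [Algebra R S]
    [IsNoetherianRing R] [IsReduced R] [Algebra.Smooth R S] : IsReduced S := by
  classical
  haveI : Finite (minimalPrimes R) := (minimalPrimes.finite_of_isNoetherianRing R).to_subtype
  haveI := Fintype.ofFinite (minimalPrimes R)
  haveI : ∀ p : minimalPrimes R, p.1.IsPrime := fun p => p.2.1.1
  let φ : R →ₗ[R] ((p : minimalPrimes R) → p.1.ResidueField) :=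
    LinearMap.pi fun p => Algebra.linearMap R p.1.ResidueField
  have hφ : Function.Injective φ := by
    rw [← LinearMap.ker_eq_bot, eq_bot_iff]
    intro x hx
    have h : x ∈ sInf ((⊥ : Ideal R).minimalPrimes) := Submodule.mem_sInf.mpr fun (p : Ideal R) hp =>
      haveI : p.IsPrime := hp.1.1
      Ideal.algebraMap_residueField_eq_zero.mp (congr_fun (LinearMap.mem_ker.mp hx) ⟨p, hp⟩)
    rw [Ideal.sInf_minimalPrimes] at h
    exact (Submodule.mem_bot R).mpr ((nilradical_eq_zero R).le h)
  refine ⟨fun s hs => ?_⟩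
  have h0 : ∀ p : minimalPrimes R, s ⊗ₜ[R] (1 : p.1.ResidueField) = 0 := by
    intro p
    haveI : IsRegularRing (p.1.ResidueField ⊗[R] S) := isRegularRing_of_smooth p.1.ResidueField _
    haveI := isReduced_of_isRegularRing (p.1.ResidueField ⊗[R] S)
    have := (hs.map (Algebra.TensorProduct.includeRight : S →ₐ[R] p.1.ResidueField ⊗[R] S)).eq_zero
    simpa using congr_arg (Algebra.TensorProduct.comm R p.1.ResidueField S) this
  have h1 : s ⊗ₜ[R] φ 1 = 0 := by
    apply (TensorProduct.piRight R R S fun p : minimalPrimes R => p.1.ResidueField).injective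
    funext p
    simpa [φ] using h0 p
  have hinj := Module.Flat.lTensor_preserves_injective_linearMap (M := S) φ hφ
  have h2 : s ⊗ₜ[R] (1 : R) = 0 := hinj (by simpa using h1)
  simpa using congr_arg (TensorProduct.rid R S) h2

theorem isReduced_of_smooth (R S : Type u) [CommRing R] [CommRing S] [Algebra R S]
    [IsReduced R] [Algebra.Smooth R S] : IsReduced S := by
  classical
  obtain ⟨A₀, B₀, _, _, hfg, hsm, ⟨e⟩⟩ := Algebra.Smooth.exists_subalgebra_fg ℤ R S
  suffices IsReduced (R ⊗[A₀] B₀) from isReduced_of_injective e e.injective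
  refine ⟨fun x hx => ?_⟩
  obtain ⟨T, rfl⟩ := TensorProduct.exists_finset x
  let A₁ : Subalgebra A₀ R := Algebra.adjoin A₀ ((T.image Prod.fst : Finset R) : Set R)
  haveI : Algebra.FiniteType ℤ A₀ := (Subalgebra.fg_iff_finiteType A₀).mp hfg
  haveI : IsNoetherianRing A₀ := Algebra.FiniteType.isNoetherianRing ℤ A₀
  haveI : Algebra.FiniteType A₀ A₁ := (Subalgebra.fg_iff_finiteType A₁).mp ⟨_, rfl⟩
  haveI : IsNoetherianRing A₁ := Algebra.FiniteType.isNoetherianRing A₀ A₁
  haveI : IsReduced A₁ := isReduced_of_injective A₁.val Subtype.val_injective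
  haveI := isReduced_of_smooth_of_isNoetherianRing A₁ (A₁ ⊗[A₀] B₀)
  let ψ : A₁ ⊗[A₀] B₀ →ₐ[A₀] R ⊗[A₀] B₀ := Algebra.TensorProduct.map A₁.val (AlgHom.id A₀ B₀)
  have hψ : Function.Injective ψ :=
    Module.Flat.rTensor_preserves_injective_linearMap (M := B₀) A₁.val.toLinearMap Subtype.val_injective
  let y : A₁ ⊗[A₀] B₀ := ∑ i ∈ T.attach,
    (⟨i.1.1, Algebra.subset_adjoin (Finset.mem_coe.mpr (Finset.mem_image_of_mem _ i.2))⟩ : A₁) ⊗ₜ[A₀] i.1.2
  have hy : ψ y = ∑ i ∈ T, i.1 ⊗ₜ[A₀] i.2 := by
    rw [map_sum, ← Finset.sum_attach T]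
    rfl
  rw [← hy] at hx ⊢
  rw [((IsNilpotent.map_iff hψ).mp hx).eq_zero, map_zero]

end Groth.Agent.H02CA
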