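import Groth.Agent.H4Depth.Regular
import Mathlib.RingTheory.Ideal.KrullsHeightTheorem
import Mathlib.RingTheory.Flat.Basic
import Mathlib.RingTheory.RingHom.Flat
import Mathlib.RingTheory.Ideal.GoingDown

/-!
Flat local homomorphisms: dimension formula and ascent of regularity.
-/

namespace Groth.Agent.H02CA

open IsLocalRing

universe u

variable (A B : Type u) [CommRing A] [CommRing B] [IsLocalRing A] [IsLocalRing B] [IsNoetherianRing A]
  [IsNoetherianRing B] [Algebra A B] [IsLocalHom (algebraMap A B)] [Module.Flat A B]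

/-- `dim B = dim A + dim B/m_A B` for a flat local homomorphism. -/
theorem ringKrullDim_eq_add_of_flat :
    ringKrullDim B = ringKrullDim A + ringKrullDim (B ⧸ (maximalIdeal A).map (algebraMap A B)) := by
  set J := (maximalIdeal A).map (algebraMap A B)
  have hJ : J ≤ maximalIdeal B := ((local_hom_TFAE (algebraMap A B)).out 0 2 rfl rfl).mp inferInstance
  haveI : (maximalIdeal B).LiesOver (maximalIdeal A) :=
    ⟨((local_hom_TFAE (algebraMap A B)).out 0 4 rfl rfl |>.mp inferInstance).symm⟩
  haveI : Nontrivial (B ⧸ J) := Ideal.Quotient.nontrivial_iff.mpr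
    (ne_top_of_le_ne_top (maximalIdeal.isMaximal B).ne_top hJ)
  haveI : IsLocalRing (B ⧸ J) := .of_surjective' (Ideal.Quotient.mk J) Ideal.Quotient.mk_surjective
  have hm : (maximalIdeal B).map (Ideal.Quotient.mk J) = maximalIdeal (B ⧸ J) :=
    eq_maximalIdeal (Ideal.IsMaximal.map_of_surjective_of_ker_le Ideal.Quotient.mk_surjective (by rwa [Ideal.mk_ker]))
  rw [← maximalIdeal_height_eq_ringKrullDim, ← maximalIdeal_height_eq_ringKrullDim,
    ← maximalIdeal_height_eq_ringKrullDim, ← hm,
    Ideal.height_eq_height_add_of_liesOver_of_hasGoingDown (maximalIdeal A) (maximalIdeal B), WithBot.coe_add]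

/-- Regularity ascends along flat local maps with regular closed fibre. -/
theorem isRegularLocalRing_of_flat_of_fibre [IsRegularLocalRing A]
    (h : IsRegularLocalRing (B ⧸ (maximalIdeal A).map (algebraMap A B))) : IsRegularLocalRing B := by
  classical
  set J := (maximalIdeal A).map (algebraMap A B)
  have hJ : J ≤ maximalIdeal B := ((local_hom_TFAE (algebraMap A B)).out 0 2 rfl rfl).mp inferInstance
  obtain ⟨a, x, ha, hx⟩ := H4Depth.exists_regular_system_of_parameters A
  obtain ⟨b, y, hb, hy⟩ := H4Depth.exists_regular_system_of_parameters (B ⧸ J)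
  choose y' hy' using fun i => Ideal.Quotient.mk_surjective (y i)
  have hm : maximalIdeal B = Ideal.span (Set.range (algebraMap A B ∘ x) ∪ Set.range y') := by
    have h1 : (maximalIdeal B).map (Ideal.Quotient.mk J) = maximalIdeal (B ⧸ J) :=
      eq_maximalIdeal (Ideal.IsMaximal.map_of_surjective_of_ker_le Ideal.Quotient.mk_surjective (by rwa [Ideal.mk_ker]))
    have h2 : (Ideal.span (Set.range y')).map (Ideal.Quotient.mk J) = maximalIdeal (B ⧸ J) := by
      rw [Ideal.map_span, ← Set.range_comp, ← hy]
      congr 2
      funext i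
      exact hy' i
    have h3 := congr_arg (Ideal.comap (Ideal.Quotient.mk J)) (h1.trans h2.symm)
    rw [Ideal.comap_map_of_surjective' _ Ideal.Quotient.mk_surjective, Ideal.comap_map_of_surjective' _ Ideal.Quotient.mk_surjective,
      Ideal.mk_ker, sup_eq_left.mpr hJ] at h3
    have h4 : J = Ideal.span (Set.range (algebraMap A B ∘ x)) := by
      rw [Set.range_comp, ← Ideal.map_span, hx]
    rw [h3, Ideal.span_union, h4, sup_comm]
  refine IsRegularLocalRing.of_spanFinrank_maximalIdeal_le _ ?_
  rw [ringKrullDim_eq_add_of_flat A B, ha, hb, hm]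
  have h5 : (Ideal.span (Set.range (algebraMap A B ∘ x) ∪ Set.range y')).spanFinrank ≤ a + b := by
    refine (Submodule.spanFinrank_span_le_ncard_of_finite ((Set.finite_range _).union (Set.finite_range y'))).trans ?_
    refine (Set.ncard_union_le _ _).trans (add_le_add ?_ ?_)
    · rw [← Set.image_univ]; exact (Set.ncard_image_le Set.finite_univ).trans (by simp [Set.ncard_univ])
    · rw [← Set.image_univ]; exact (Set.ncard_image_le Set.finite_univ).trans (by simp [Set.ncard_univ])
  exact_mod_cast h5

end Groth.Agent.H02CA
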