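import Groth.Prelude.Def_Found
import Groth.Agent.H02CA.FlatRegular
import Groth.Agent.H05EGA4.Regular
import Groth.Agent.H06Desc.FlatAlg
import Groth.Agent.H06Desc.Noetherian
import Mathlib.RingTheory.QuasiFinite.Basic
import Mathlib.RingTheory.LocalRing.ResidueField.Fiber
import Mathlib.RingTheory.RegularLocalRing.Defs
import Mathlib.RingTheory.Flat.FaithfullyFlat.Algebra

/-!
Regular homomorphisms: ascent and descent of regularity, fibres after finite field extensions.
-/

namespace Groth.Agent.H02CA

open TensorProduct

universe u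

/-- Regular rings descend along faithfully flat maps. -/
theorem isRegularRing_of_faithfullyFlat (A B : Type u) [CommRing A] [CommRing B] [Algebra A B]
    [Module.FaithfullyFlat A B] [IsRegularRing B] : IsRegularRing A := by
  haveI : IsNoetherianRing A := H06Desc.isNoetherianRing_of_faithfullyFlat (B := B)
  rw [isRegularRing_iff]
  intro p _
  obtain ⟨q, hq⟩ := PrimeSpectrum.comap_surjective_of_faithfullyFlat (A := A) (B := B) ⟨p, inferInstance⟩
  haveI : q.asIdeal.LiesOver p := ⟨(congrArg PrimeSpectrum.asIdeal hq).symm⟩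
  letI := Localization.AtPrime.algebraOfLiesOver p q.asIdeal
  haveI : IsRegularLocalRing (Localization.AtPrime q.asIdeal) := IsRegularRing.isRegularLocalRing_localization _
  exact H05EGA4.isRegularLocalRing_of_flat (B := Localization.AtPrime q.asIdeal)

/-- Regularity ascends along flat maps with regular fibres. -/
theorem isRegularRing_of_flat_of_fibre (R S : Type u) [CommRing R] [CommRing S] [Algebra R S]
    [IsRegularRing R] [IsNoetherianRing S] [Module.Flat R S]
    (h : ∀ (p : Ideal R) [p.IsPrime], IsRegularRing (p.Fiber S)) : IsRegularRing S := by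
  rw [isRegularRing_iff]
  have key : ∀ (p : Ideal R) [p.IsPrime] (Q : Ideal (p.Fiber S)) [Q.IsPrime],
      IsRegularLocalRing (Localization.AtPrime (Q.comap Algebra.TensorProduct.includeRight)) := by
    intro p _ Q _
    set r := Q.comap Algebra.TensorProduct.includeRight with hr
    haveI : r.LiesOver p := ⟨congr($(((PrimeSpectrum.preimageEquivFiber R S ⟨p, inferInstance⟩).symm ⟨Q, inferInstance⟩).2.symm).asIdeal)⟩
    haveI : IsRegularLocalRing (Localization.AtPrime p) := isRegularRing_iff.mp inferInstance p
    letI := Localization.AtPrime.algebraOfLiesOver p r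
    haveI := h p
    apply isRegularLocalRing_of_flat_of_fibre (Localization.AtPrime p)
    have e := Ideal.Fiber.localizationAlgEquivQuotient p Q
    haveI : IsRegularLocalRing (Localization.AtPrime Q) := IsRegularRing.isRegularLocalRing_localization Q
    have := IsRegularLocalRing.of_ringEquiv (R := Localization.AtPrime Q)
      (R' := Localization.AtPrime (Q.comap Algebra.TensorProduct.includeRight) ⧸
        p.map (algebraMap R (Localization.AtPrime (Q.comap Algebra.TensorProduct.includeRight)))) e.toRingEquiv
    convert this using 3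
    all_goals rw [← Localization.AtPrime.map_eq_maximalIdeal, Ideal.map_map, ← IsScalarTower.algebraMap_eq]
  intro q _
  let Q := PrimeSpectrum.preimageEquivFiber R S ⟨q.comap (algebraMap R S), inferInstance⟩
    ⟨⟨q, inferInstance⟩, rfl⟩
  have hQ : Q.asIdeal.comap Algebra.TensorProduct.includeRight = q :=
    congr($((PrimeSpectrum.preimageEquivFiber R S ⟨q.comap (algebraMap R S), inferInstance⟩).left_inv
      ⟨⟨q, inferInstance⟩, rfl⟩).1.asIdeal)
  have aux : ∀ (r : Ideal S) [r.IsPrime], r = q → IsRegularLocalRing (Localization.AtPrime r) →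
      IsRegularLocalRing (Localization.AtPrime q) := by
    intro r _ hr H
    subst hr
    exact H
  exact aux _ hQ (key _ Q.asIdeal)

/-- The base change of a fibre to an extension of the residue field. -/
noncomputable def fiberBaseChangeEquiv {A : Type u} [CommRing A] (p : Ideal A) [p.IsPrime] (k' : Type u)
    [CommRing k'] [Algebra p.ResidueField k'] [Algebra A k'] [IsScalarTower A p.ResidueField k']
    (B : Type u) [CommRing B] [Algebra A B] : k' ⊗[p.ResidueField] (p.Fiber B) ≃+* k' ⊗[A] B :=
  (Algebra.TensorProduct.cancelBaseChange A p.ResidueField k' k' B).toRingEquiv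

/-- A map which is regular stays regular after finite extensions of residue fields. -/
theorem isRegularRing_tensor_of_isRegularHom {A B : Type u} [CommRing A] [CommRing B] [Algebra A B]
    (h : CAlg.IsRegularHom A B) (p : Ideal A) [p.IsPrime] (k' : Type u) [Field k'] [Algebra p.ResidueField k']
    [Algebra A k'] [IsScalarTower A p.ResidueField k'] [Module.Finite p.ResidueField k'] :
    IsRegularRing (k' ⊗[A] B) := by
  haveI := (h.2 p).2 k' inferInstance
  exact IsRegularRing.of_ringEquiv (R := k' ⊗[p.ResidueField] (p.Fiber B)) (fiberBaseChangeEquiv p k' B)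

/-- Criterion for a regular homomorphism in terms of base changes to finite residue extensions. -/
theorem isRegularHom_of_forall {A B : Type u} [CommRing A] [CommRing B] [Algebra A B] [Module.Flat A B]
    (hN : ∀ (p : Ideal A) [p.IsPrime], IsNoetherianRing (p.Fiber B))
    (h : ∀ (p : Ideal A) [p.IsPrime] (k' : Type u) [Field k'] [Algebra p.ResidueField k'] [Algebra A k']
      [IsScalarTower A p.ResidueField k'] [Module.Finite p.ResidueField k'], IsRegularRing (k' ⊗[A] B)) :
    CAlg.IsRegularHom A B := by
  refine ⟨inferInstance, fun p _ => ⟨hN p, fun k' _ _ hfin => ?_⟩⟩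
  letI : Algebra A k' := ((algebraMap p.ResidueField k').comp (algebraMap A p.ResidueField)).toAlgebra
  haveI : IsScalarTower A p.ResidueField k' := .of_algebraMap_eq' rfl
  haveI := h p k'
  exact IsRegularRing.of_ringEquiv (R := k' ⊗[A] B) (fiberBaseChangeEquiv p k' B).symm

/-- Composition of regular homomorphisms with Noetherian fibres is regular. -/
theorem isRegularHom_comp (A B C : Type u) [CommRing A] [CommRing B] [CommRing C]
    [Algebra A B] [Algebra B C] [Algebra A C] [IsScalarTower A B C]
    (hAB : CAlg.IsRegularHom A B) (hBC : CAlg.IsRegularHom B C)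
    (hN : ∀ (p : Ideal A) [p.IsPrime], IsNoetherianRing (p.Fiber C)) : CAlg.IsRegularHom A C := by
  haveI : Module.Flat A B := hAB.1
  haveI : Module.Flat B C := hBC.1
  haveI : Module.Flat A C := Module.Flat.trans A B C
  refine isRegularHom_of_forall hN ?_
  intro p _ k' _ _ _ _ _
  haveI : IsNoetherianRing (k' ⊗[A] C) := by
    haveI := hN p
    haveI : Algebra.FiniteType (p.Fiber C) ((p.Fiber C) ⊗[p.ResidueField] k') := inferInstance
    haveI : IsNoetherianRing ((p.Fiber C) ⊗[p.ResidueField] k') := Algebra.FiniteType.isNoetherianRing (p.Fiber C) ((p.Fiber C) ⊗[p.ResidueField] k')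
    exact isNoetherianRing_of_ringEquiv _
      ((Algebra.TensorProduct.comm p.ResidueField (p.Fiber C) k').toRingEquiv.trans (fiberBaseChangeEquiv p k' C))
  haveI : IsRegularRing (k' ⊗[A] B) := isRegularRing_tensor_of_isRegularHom hAB p k'
  haveI : Algebra.QuasiFinite A p.ResidueField := inferInstance
  haveI : Algebra.QuasiFinite A k' := Algebra.QuasiFinite.trans A p.ResidueField k'
  haveI : IsRegularRing (B ⊗[A] k') := IsRegularRing.of_ringEquiv (R := k' ⊗[A] B)
    (Algebra.TensorProduct.comm A k' B).toRingEquiv
  let e : C ⊗[B] (B ⊗[A] k') ≃ₐ[C] C ⊗[A] k' := Algebra.TensorProduct.cancelBaseChange A B C C k'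
  let e' : (B ⊗[A] k') ⊗[B] C ≃+* k' ⊗[A] C :=
    (Algebra.TensorProduct.comm B (B ⊗[A] k') C).toRingEquiv.trans
      (e.toRingEquiv.trans (Algebra.TensorProduct.comm A C k').toRingEquiv)
  haveI : IsNoetherianRing ((B ⊗[A] k') ⊗[B] C) := isNoetherianRing_of_ringEquiv _ e'.symm
  suffices IsRegularRing ((B ⊗[A] k') ⊗[B] C) from IsRegularRing.of_ringEquiv e'
  refine isRegularRing_of_flat_of_fibre (B ⊗[A] k') _ fun P _ => ?_
  let Q := P.under B
  haveI : P.LiesOver Q := ⟨rfl⟩
  letI := Localization.AtPrime.algebraOfLiesOver Q P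
  haveI : IsRegularRing (P.ResidueField ⊗[B] C) := isRegularRing_tensor_of_isRegularHom hBC Q P.ResidueField
  exact IsRegularRing.of_ringEquiv (R := P.ResidueField ⊗[B] C)
    (Algebra.TensorProduct.cancelBaseChange B (B ⊗[A] k') P.ResidueField P.ResidueField C).toRingEquiv.symm

/-- Regularity of homomorphisms descends along faithfully flat maps of the target. -/
theorem isRegularHom_of_comp (A B C : Type u) [CommRing A] [CommRing B] [CommRing C]
    [Algebra A B] [Algebra B C] [Algebra A C] [IsScalarTower A B C]
    (hAC : CAlg.IsRegularHom A C) [Module.FaithfullyFlat B C] : CAlg.IsRegularHom A B := by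
  haveI : Module.Flat A C := hAC.1
  haveI : Module.Flat A B := H06Desc.flat_of_faithfullyFlat_top (T := C)
  have ff : ∀ (k' : Type u) [CommRing k'] [Algebra A k'],
      ∃ (D : Type u) (_ : CommRing D) (_ : Algebra (B ⊗[A] k') D),
        Module.FaithfullyFlat (B ⊗[A] k') D ∧ Nonempty (D ≃+* k' ⊗[A] C) := by
    intro k' _ _
    exact ⟨(B ⊗[A] k') ⊗[B] C, inferInstance, inferInstance, inferInstance,
      ⟨(Algebra.TensorProduct.comm B (B ⊗[A] k') C).toRingEquiv.trans
        ((Algebra.TensorProduct.cancelBaseChange A B C C k').toRingEquiv.trans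
          (Algebra.TensorProduct.comm A C k').toRingEquiv)⟩⟩
  refine isRegularHom_of_forall ?_ ?_
  · intro p _
    obtain ⟨D, _, _, _, ⟨e⟩⟩ := ff p.ResidueField
    haveI := (hAC.2 p).1
    haveI : IsNoetherianRing D := isNoetherianRing_of_ringEquiv _ e.symm
    haveI : IsNoetherianRing (B ⊗[A] p.ResidueField) := H06Desc.isNoetherianRing_of_faithfullyFlat (B := D)
    exact isNoetherianRing_of_ringEquiv _ (Algebra.TensorProduct.comm A B p.ResidueField).toRingEquiv
  · intro p _ k' _ _ _ _ _
    obtain ⟨D, _, _, _, ⟨e⟩⟩ := ff k'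
    haveI := isRegularRing_tensor_of_isRegularHom hAC p k'
    haveI : IsRegularRing D := IsRegularRing.of_ringEquiv e.symm
    haveI : IsRegularRing (B ⊗[A] k') := isRegularRing_of_faithfullyFlat _ D
    exact IsRegularRing.of_ringEquiv (R := B ⊗[A] k') (Algebra.TensorProduct.comm A B k').toRingEquiv

end Groth.Agent.H02CA
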