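import Groth.Agent.H02CA.RegularHom
import Mathlib.RingTheory.Localization.BaseChange
import Mathlib.RingTheory.Flat.Localization
import Mathlib.RingTheory.EssentialFiniteness
import Mathlib.RingTheory.Localization.LocalizationLocalization

/-!
Regularity of homomorphisms is local on the target.
-/

namespace Groth.Agent.H02CA

open TensorProduct

universe u

/-- A localization of a regular ring is regular. -/
theorem isRegularRing_of_isLocalization {S T : Type u} [CommRing S] [CommRing T] [Algebra S T]
    (M : Submonoid S) [IsLocalization M T] [IsRegularRing S] : IsRegularRing T := by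
  haveI : IsNoetherianRing T := IsLocalization.isNoetherianRing M T inferInstance
  rw [isRegularRing_iff]
  intro Q _
  haveI : IsLocalization.AtPrime (Localization.AtPrime Q) (Q.comap (algebraMap S T)) :=
    IsLocalization.isLocalization_isLocalization_atPrime_isLocalization M (Localization.AtPrime Q) Q
  haveI : IsRegularLocalRing (Localization.AtPrime (Q.comap (algebraMap S T))) :=
    IsRegularRing.isRegularLocalRing_localization _
  exact IsRegularLocalRing.of_ringEquiv (R := Localization.AtPrime (Q.comap (algebraMap S T)))
    (IsLocalization.algEquiv (Q.comap (algebraMap S T)).primeCompl _ (Localization.AtPrime Q)).toRingEquiv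

/-- Fibres of an algebra with Noetherian total ring are Noetherian. -/
theorem isNoetherianRing_tensor_of_essFiniteType (A B k' : Type u) [CommRing A] [CommRing B] [CommRing k']
    [Algebra A B] [Algebra A k'] [IsNoetherianRing B] [Algebra.EssFiniteType A k'] :
    IsNoetherianRing (k' ⊗[A] B) := by
  haveI : IsNoetherianRing (B ⊗[A] k') := Algebra.EssFiniteType.isNoetherianRing B (B ⊗[A] k')
  exact isNoetherianRing_of_ringEquiv _ (Algebra.TensorProduct.comm A B k').toRingEquiv

variable {R Λ : Type u} [CommRing R] [CommRing Λ] [Algebra R Λ] [IsNoetherianRing Λ]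

/-- Regular homomorphisms localize. -/
theorem isRegularHom_localization (h : CAlg.IsRegularHom R Λ) (p : Ideal R) [p.IsPrime] (q : Ideal Λ)
    [q.IsPrime] [q.LiesOver p] [Algebra (Localization.AtPrime p) (Localization.AtPrime q)]
    [Localization.AtPrime.IsLiesOverAlgebra p q] :
    CAlg.IsRegularHom (Localization.AtPrime p) (Localization.AtPrime q) := by
  haveI : Module.Flat R Λ := h.1
  haveI : IsNoetherianRing (Localization.AtPrime q) := IsLocalization.isNoetherianRing q.primeCompl _ inferInstance
  refine isRegularHom_of_forall (fun P0 _ => isNoetherianRing_tensor_of_essFiniteType _ _ _) ?_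
  intro P0 _ k' _ _ _ _ _
  let p0 := P0.under R
  haveI : P0.LiesOver p0 := ⟨rfl⟩
  letI := Localization.AtPrime.algebraOfLiesOver p0 P0
  letI : Algebra p0.ResidueField k' := ((algebraMap P0.ResidueField k').comp (algebraMap p0.ResidueField P0.ResidueField)).toAlgebra
  haveI : IsScalarTower p0.ResidueField P0.ResidueField k' := .of_algebraMap_eq' rfl
  letI : Algebra R k' := ((algebraMap P0.ResidueField k').comp (algebraMap R P0.ResidueField)).toAlgebra
  haveI : IsScalarTower R p0.ResidueField k' := .of_algebraMap_eq fun r =>
    congrArg (algebraMap P0.ResidueField k') (IsScalarTower.algebraMap_apply R p0.ResidueField P0.ResidueField r)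
  haveI : IsScalarTower R (Localization.AtPrime p) k' := .of_algebraMap_eq fun r => by
    rw [IsScalarTower.algebraMap_apply (Localization.AtPrime p) P0.ResidueField k',
      ← IsScalarTower.algebraMap_apply R (Localization.AtPrime p) P0.ResidueField]
    rfl
  haveI : Module.Finite p0.ResidueField k' := Module.Finite.trans P0.ResidueField k'
  haveI : IsRegularRing (Λ ⊗[R] k') := by
    haveI := isRegularRing_tensor_of_isRegularHom h p0 k'
    exact IsRegularRing.of_ringEquiv (R := k' ⊗[R] Λ) (Algebra.TensorProduct.comm R k' Λ).toRingEquiv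
  haveI : IsRegularRing (Localization.AtPrime q ⊗[Λ] (Λ ⊗[R] k')) := by
    letI : Algebra (Λ ⊗[R] k') (Localization.AtPrime q ⊗[Λ] (Λ ⊗[R] k')) := Algebra.TensorProduct.rightAlgebra
    haveI : IsLocalization (Algebra.algebraMapSubmonoid (Λ ⊗[R] k') q.primeCompl) (Localization.AtPrime q ⊗[Λ] (Λ ⊗[R] k')) :=
      IsLocalization.tensorRight _ _
    exact isRegularRing_of_isLocalization (Algebra.algebraMapSubmonoid (Λ ⊗[R] k') q.primeCompl)
  haveI : IsRegularRing (Localization.AtPrime q ⊗[R] k') :=
    IsRegularRing.of_ringEquiv (R := Localization.AtPrime q ⊗[Λ] (Λ ⊗[R] k'))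
      (Algebra.TensorProduct.cancelBaseChange R Λ (Localization.AtPrime q) (Localization.AtPrime q) k').toRingEquiv
  exact IsRegularRing.of_ringEquiv (R := Localization.AtPrime q ⊗[R] k')
    ((IsLocalization.algebraTensorEquiv p.primeCompl (Localization.AtPrime p) (Localization.AtPrime q) k').symm.toRingEquiv.trans
      (Algebra.TensorProduct.comm (Localization.AtPrime p) (Localization.AtPrime q) k').toRingEquiv)

/-- Regularity of homomorphisms can be checked at the maximal ideals of the target. -/
theorem isRegularHom_of_localization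
    (h : ∀ (n : Ideal Λ) [n.IsMaximal],
      letI := (Localization.localRingHom (Ideal.comap (algebraMap R Λ) n) n (algebraMap R Λ) rfl).toAlgebra
      CAlg.IsRegularHom (Localization.AtPrime (Ideal.comap (algebraMap R Λ) n)) (Localization.AtPrime n)) :
    CAlg.IsRegularHom R Λ := by
  haveI : Module.Flat R Λ := by
    refine Module.flat_of_isLocalized_maximal (R := R) (S := Λ) (M := Λ) (fun P => Localization.AtPrime P)
      (fun P => Algebra.linearMap Λ (Localization.AtPrime P)) fun P _ => ?_
    letI := (Localization.localRingHom (Ideal.comap (algebraMap R Λ) P) P (algebraMap R Λ) rfl).toAlgebra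
    haveI : IsScalarTower R (Localization.AtPrime (Ideal.comap (algebraMap R Λ) P)) (Localization.AtPrime P) :=
      .of_algebraMap_eq fun r => (Localization.localRingHom_to_map _ _ _ rfl r).symm
    haveI : Module.Flat (Localization.AtPrime (Ideal.comap (algebraMap R Λ) P)) (Localization.AtPrime P) := (h P).1
    exact Module.Flat.trans R (Localization.AtPrime (Ideal.comap (algebraMap R Λ) P)) _
  refine isRegularHom_of_forall (fun P0 _ => isNoetherianRing_tensor_of_essFiniteType _ _ _) ?_
  intro p0 _ k' _ _ _ _ _
  haveI : Algebra.EssFiniteType R k' := Algebra.EssFiniteType.comp R p0.ResidueField k'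
  haveI : IsNoetherianRing (Λ ⊗[R] k') := Algebra.EssFiniteType.isNoetherianRing Λ (Λ ⊗[R] k')
  suffices IsRegularRing (Λ ⊗[R] k') from
    IsRegularRing.of_ringEquiv (R := Λ ⊗[R] k') (Algebra.TensorProduct.comm R Λ k').toRingEquiv
  refine H05EGA4.isRegularRing_of_forall_isMaximal _ fun m _ => ?_
  obtain ⟨n, hn, hmn⟩ := Ideal.exists_le_maximal (m.comap (algebraMap Λ (Λ ⊗[R] k'))) (Ideal.IsPrime.ne_top inferInstance)
  letI := (Localization.localRingHom (Ideal.comap (algebraMap R Λ) n) n (algebraMap R Λ) rfl).toAlgebra
  set p := Ideal.comap (algebraMap R Λ) n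
  haveI : IsScalarTower R (Localization.AtPrime p) (Localization.AtPrime n) :=
      .of_algebraMap_eq fun r => (Localization.localRingHom_to_map _ _ _ rfl r).symm
  have hunit : ∀ s : p.primeCompl, IsUnit (algebraMap R k' s) := by
    intro s
    refine isUnit_iff_ne_zero.mpr fun h0 => s.2 (hmn ?_)
    rw [Ideal.mem_comap, ← IsScalarTower.algebraMap_apply R Λ (Λ ⊗[R] k'),
      ← (Algebra.TensorProduct.includeRight : k' →ₐ[R] Λ ⊗[R] k').commutes, h0, map_zero]
    exact zero_mem _
  let φ : Localization.AtPrime p →+* k' := IsLocalization.lift hunit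
  letI : Algebra (Localization.AtPrime p) k' := φ.toAlgebra
  haveI : IsScalarTower R (Localization.AtPrime p) k' := .of_algebraMap_eq fun r => (IsLocalization.lift_eq hunit r).symm
  let P0 : Ideal (Localization.AtPrime p) := RingHom.ker φ
  haveI : P0.IsPrime := RingHom.ker_isPrime φ
  letI : Algebra P0.ResidueField k' := (Ideal.ResidueField.lift P0 φ le_rfl fun x hx =>
    isUnit_iff_ne_zero.mpr fun h0 => hx h0).toAlgebra
  haveI : IsScalarTower (Localization.AtPrime p) P0.ResidueField k' :=
    .of_algebraMap_eq fun r => (Ideal.ResidueField.lift_algebraMap (I := P0) φ le_rfl _ r).symm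
  haveI : IsScalarTower R P0.ResidueField k' := .of_algebraMap_eq fun r => by
    rw [IsScalarTower.algebraMap_apply R (Localization.AtPrime p) P0.ResidueField,
      ← IsScalarTower.algebraMap_apply (Localization.AtPrime p) P0.ResidueField k',
      ← IsScalarTower.algebraMap_apply R (Localization.AtPrime p) k']
  have hcomap : P0.under R = p0 := by
    ext r
    have e1 : φ (algebraMap R (Localization.AtPrime p) r) = algebraMap R k' r := IsLocalization.lift_eq hunit r
    rw [Ideal.mem_comap, RingHom.mem_ker, e1, IsScalarTower.algebraMap_apply R p0.ResidueField k',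
      map_eq_zero_iff _ (algebraMap p0.ResidueField k').injective, Ideal.algebraMap_residueField_eq_zero]
  haveI : P0.LiesOver p0 := ⟨hcomap.symm⟩
  letI := Localization.AtPrime.algebraOfLiesOver p0 P0
  haveI : IsScalarTower p0.ResidueField P0.ResidueField k' := by
    refine .of_algebraMap_eq' (Ideal.ResidueField.ringHom_ext ?_)
    ext r
    simp only [RingHom.comp_apply]
    rw [← IsScalarTower.algebraMap_apply R p0.ResidueField k', ← IsScalarTower.algebraMap_apply R p0.ResidueField P0.ResidueField,
      ← IsScalarTower.algebraMap_apply R P0.ResidueField k']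
  haveI : Module.Finite P0.ResidueField k' := Module.Finite.of_restrictScalars_finite p0.ResidueField _ k'
  haveI hreg : IsRegularRing (k' ⊗[Localization.AtPrime p] Localization.AtPrime n) :=
    isRegularRing_tensor_of_isRegularHom (h n) P0 k'
  haveI : IsRegularRing (Localization.AtPrime n ⊗[R] k') :=
    IsRegularRing.of_ringEquiv (R := k' ⊗[Localization.AtPrime p] Localization.AtPrime n)
      ((Algebra.TensorProduct.comm (Localization.AtPrime p) k' (Localization.AtPrime n)).toRingEquiv.trans
        (IsLocalization.algebraTensorEquiv p.primeCompl (Localization.AtPrime p) (Localization.AtPrime n) k').toRingEquiv)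
  let T' := Localization.AtPrime n ⊗[Λ] (Λ ⊗[R] k')
  haveI : IsRegularRing T' :=
    IsRegularRing.of_ringEquiv (R := Localization.AtPrime n ⊗[R] k')
      (Algebra.TensorProduct.cancelBaseChange R Λ (Localization.AtPrime n) (Localization.AtPrime n) k').symm.toRingEquiv
  letI : Algebra (Λ ⊗[R] k') T' := Algebra.TensorProduct.rightAlgebra
  let M := Algebra.algebraMapSubmonoid (Λ ⊗[R] k') n.primeCompl
  have hdisj : Disjoint (M : Set (Λ ⊗[R] k')) m := by
    rw [Set.disjoint_left]
    rintro _ ⟨s, hs, rfl⟩ hsm
    exact hs (hmn hsm)
  haveI : IsLocalization M T' := IsLocalization.tensorRight _ _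
  haveI : (m.map (algebraMap (Λ ⊗[R] k') T')).IsPrime := IsLocalization.isPrime_of_isPrime_disjoint M T' m inferInstance hdisj
  haveI : IsRegularLocalRing (Localization.AtPrime (m.map (algebraMap (Λ ⊗[R] k') T'))) := IsRegularRing.isRegularLocalRing_localization _
  haveI hloc : IsLocalization.AtPrime (Localization.AtPrime (m.map (algebraMap (Λ ⊗[R] k') T')))
      ((m.map (algebraMap (Λ ⊗[R] k') T')).comap (algebraMap (Λ ⊗[R] k') T')) :=
    IsLocalization.isLocalization_isLocalization_atPrime_isLocalization M _ _
  have hc := IsLocalization.under_map_of_isPrime_disjoint M T' (I := m) inferInstance hdisj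
  have aux : ∀ (r : Ideal (Λ ⊗[R] k')) [r.IsPrime], r = m →
      IsLocalization.AtPrime (Localization.AtPrime (m.map (algebraMap (Λ ⊗[R] k') T'))) r →
      IsRegularLocalRing (Localization.AtPrime m) := by
    intro r _ hr H
    subst hr
    exact IsRegularLocalRing.of_ringEquiv (R := Localization.AtPrime (r.map (algebraMap (Λ ⊗[R] k') T')))
      (IsLocalization.algEquiv r.primeCompl (Localization.AtPrime r) _).toRingEquiv.symm
  exact aux _ hc hloc

end Groth.Agent.H02CA
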