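import Groth.Agent.H02CA.PicRegular
import Groth.Agent.S0405
import Mathlib.RingTheory.EssentialFiniteness
import Mathlib.RingTheory.Flat.TorsionFree
import Mathlib.RingTheory.Flat.Equalizer
import Mathlib.RingTheory.TensorProduct.Quotient
import Mathlib.RingTheory.Valuation.ValuationRing
import Mathlib.LinearAlgebra.TensorProduct.RightExactness

/-!
Invertible modules on the generic fibre of a local algebra with regular special fibre over a
valuation ring are free.
-/

set_option autoImplicit false

universe u

open CategoryTheory nonZeroDivisors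

namespace Groth.Agent.H02CA.PicValGeneric

section fp

variable {R A M : Type u} [CommRing R] [IsDomain R] [ValuationRing R] [CommRing A] [Algebra R A]
  [AddCommGroup M] [Module A M] [Module R M] [IsScalarTower R A M]

theorem flat_of_torsionFree {N : Type u} [AddCommGroup N] [Module R N]
    (htf : ∀ (r : R) (x : N), r • x = 0 → r = 0 ∨ x = 0) : Module.Flat R N := by
  rw [Module.Flat.flat_iff_torsion_eq_bot_of_isBezout, eq_bot_iff]
  intro x hx
  obtain ⟨r, hr⟩ := (Submodule.mem_torsion_iff x).1 hx
  exact (Submodule.mem_bot R).2 ((htf r x hr).resolve_left (nonZeroDivisors.coe_ne_zero r))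

/-- Finite torsion-free modules over algebras essentially of finite type over a valuation ring. -/
theorem fp_of_torsionFree [Algebra.EssFiniteType R A] [Module.Finite A M]
    (htf : ∀ (r : R) (x : M), r • x = 0 → r = 0 ∨ x = 0) : Module.FinitePresentation A M := by
  classical
  let S := Algebra.EssFiniteType.subalgebra R A
  let T := Algebra.EssFiniteType.submonoid R A
  obtain ⟨s, hs⟩ := Module.Finite.fg_top (R := A) (M := M)
  let N : Submodule S M := Submodule.span S (s : Set M)
  haveI : Module.Finite S N := Module.Finite.span_of_finite S s.finite_toSet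
  haveI : Module.Flat R N := flat_of_torsionFree fun r x h =>
    (htf r (x : M) (by rw [← Submodule.coe_smul_of_tower, h]; rfl)).imp_right fun h0 => Subtype.ext h0
  haveI : Module.FinitePresentation S N := Groth.Agent.S0405.result (R := R)
  have hgen : ∀ m : M, ∃ t : T, (t : S) • m ∈ N := by
    intro m
    have hm : m ∈ Submodule.span A (s : Set M) := hs ▸ Submodule.mem_top
    induction hm using Submodule.span_induction with
    | mem x hx => exact ⟨1, by simpa using (Submodule.subset_span hx : x ∈ N)⟩
    | zero => exact ⟨1, by simp⟩
    | add x y _ _ hx hy =>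
      obtain ⟨t, ht⟩ := hx
      obtain ⟨t', ht'⟩ := hy
      refine ⟨t * t', ?_⟩
      rw [smul_add]
      refine add_mem ?_ ?_
      · rw [Submonoid.coe_mul, mul_comm, mul_smul]
        exact N.smul_mem _ ht
      · rw [Submonoid.coe_mul, mul_smul]
        exact N.smul_mem _ ht'
    | smul a x _ hx =>
      obtain ⟨t, ht⟩ := hx
      obtain ⟨⟨a', t'⟩, ha⟩ := IsLocalization.surj T a
      refine ⟨t' * t, ?_⟩
      have : ((t' * t : T) : S) • a • x = (a' : S) • (t : S) • x := by
        rw [← algebraMap_smul A ((t' * t : T) : S), ← algebraMap_smul A (a' : S) ((t : S) • x),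
          ← algebraMap_smul A (t : S) x, smul_smul, smul_smul, ← ha]
        simp only [Submonoid.coe_mul, map_mul]
        congr 1
        ring
      rw [this]
      exact N.smul_mem _ ht
  haveI : IsLocalizedModule T N.subtype :=
    { map_units := fun t => by
        rw [Module.End.isUnit_iff]
        obtain ⟨v, hv⟩ := IsLocalization.map_units A t
        have h : ∀ x : M, (algebraMap S (Module.End S M) (t : S)) x = (v : A) • x :=
          fun x => by rw [Module.algebraMap_end_apply, ← algebraMap_smul A (t : S) x, hv]
        refine ⟨fun x y hxy => ?_, fun y => ⟨(↑v⁻¹ : A) • y, ?_⟩⟩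
        · rw [h, h] at hxy
          simpa [smul_smul] using congrArg (fun z => (↑v⁻¹ : A) • z) hxy
        · rw [h, smul_smul, Units.mul_inv, one_smul]
      surj := fun m => by
        obtain ⟨t, ht⟩ := hgen m
        exact ⟨(⟨_, ht⟩, t), rfl⟩
      exists_of_eq := fun {x y} hxy => ⟨1, by rw [Subtype.ext hxy]⟩ }
  exact Module.FinitePresentation.of_equiv (IsLocalizedModule.isBaseChange T A N.subtype).equiv

end fp

section smul

variable {R A : Type u} [CommRing R] [CommRing A] [Algebra R A]

theorem restrictScalars_map_smul_top (I : Ideal R) {F : Type u} [AddCommGroup F] [Module A F] [Module R F]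
    [IsScalarTower R A F] :
    (I.map (algebraMap R A) • (⊤ : Submodule A F)).restrictScalars R = I • (⊤ : Submodule R F) := by
  refine le_antisymm (fun x hx => ?_) (Submodule.smul_le.2 fun r hr n _ => ?_)
  · change x ∈ I.map (algebraMap R A) • (⊤ : Submodule A F) at hx
    refine Submodule.smul_induction_on hx (fun a ha n _ => ?_) fun x y hx hy => add_mem hx hy
    clear hx
    revert n
    induction ha using Submodule.span_induction with
    | mem a ha =>
      obtain ⟨r, hr, rfl⟩ := ha
      intro n _
      rw [algebraMap_smul]
      exact Submodule.smul_mem_smul hr Submodule.mem_top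
    | zero => intro n _; rw [zero_smul]; exact zero_mem _
    | add a b _ _ ha hb => intro n hn; rw [add_smul]; exact add_mem (ha n hn) (hb n hn)
    | smul c a _ ha => intro n _; rw [smul_eq_mul, mul_comm, mul_smul]; exact ha _ Submodule.mem_top
  · change r • n ∈ I.map (algebraMap R A) • (⊤ : Submodule A F)
    rw [← algebraMap_smul A r n]
    exact Submodule.smul_mem_smul (Ideal.mem_map_of_mem _ hr) Submodule.mem_top

variable (I : Ideal R) {F M : Type u} [AddCommGroup F] [Module A F] [Module R F] [IsScalarTower R A F]
  [AddCommGroup M] [Module A M] [Module R M] [IsScalarTower R A M] [Module.Flat R M]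

/-- Flatness of the quotient: the ideal multiples of the kernel. -/
theorem mem_smul_ker (π : F →ₗ[A] M) (hπ : Function.Surjective π) (x : LinearMap.ker π)
    (hx : (x : F) ∈ I.map (algebraMap R A) • (⊤ : Submodule A F)) :
    x ∈ I.map (algebraMap R A) • (⊤ : Submodule A (LinearMap.ker π)) := by
  have hx' : (x : F) ∈ I • (⊤ : Submodule R F) := by
    rw [← restrictScalars_map_smul_top (A := A)]; exact hx
  have h := LinearMap.lTensor_injective_of_exact_of_flat (π.restrictScalars R) hπ
    ((LinearMap.ker π).subtype.restrictScalars R) Subtype.val_injective π.exact_subtype_ker_map (R ⧸ I)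
  have h0 : (1 : R ⧸ I) ⊗ₜ[R] (x : F) = 0 := by
    apply (TensorProduct.quotTensorEquivQuotSMul F I).injective
    rw [map_zero, ← map_one (Ideal.Quotient.mk I), TensorProduct.quotTensorEquivQuotSMul_mk_tmul, one_smul,
      Submodule.Quotient.mk_eq_zero]
    exact hx'
  have h1 : (1 : R ⧸ I) ⊗ₜ[R] x = 0 := h (by rw [map_zero, LinearMap.lTensor_tmul]; exact h0)
  have h2 := congrArg (TensorProduct.quotTensorEquivQuotSMul (LinearMap.ker π) I) h1
  rw [map_zero, ← map_one (Ideal.Quotient.mk I), TensorProduct.quotTensorEquivQuotSMul_mk_tmul, one_smul,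
    Submodule.Quotient.mk_eq_zero, ← restrictScalars_map_smul_top (A := A)] at h2
  exact h2

end smul

section main

variable {R A : Type u} [CommRing R] [IsDomain R] [ValuationRing R] [CommRing A] [IsLocalRing A]
  [Algebra R A] [Module.Flat R A] [Algebra.EssFiniteType R A] (S : Submonoid A) (I : Ideal R)

theorem isStablyFree_localizedModule (hI : I.map (algebraMap R A) ≤ IsLocalRing.maximalIdeal A) :
    ∀ (m : ℕ) (M : Type u) [AddCommGroup M] [Module A M] [Module R M] [IsScalarTower R A M]
    [Module.Finite A M], Module.Flat R M →
    HasProjectiveDimensionLT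
      (ModuleCat.of (A ⧸ I.map (algebraMap R A)) (M ⧸ (I.map (algebraMap R A) • (⊤ : Submodule A M)))) (m + 1) →
    Module.Projective (Localization S) (LocalizedModule S M) →
    Module.IsStablyFree (Localization S) (LocalizedModule S M) := by
  have hjac : I.map (algebraMap R A) ≤ (⊥ : Ideal A).jacobson :=
    hI.trans (IsLocalRing.maximalIdeal_le_jacobson _)
  have htfA : ∀ (t : ℕ) (r : R) (x : Fin t → A), r • x = 0 → r = 0 ∨ x = 0 := fun t r x h => by
    by_cases hr : r = 0
    · exact Or.inl hr
    · exact Or.inr (funext fun i => (smul_eq_zero.1 (congrFun h i)).resolve_left hr)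
  haveI : Nontrivial (A ⧸ I.map (algebraMap R A)) :=
    Ideal.Quotient.nontrivial_iff.2 (ne_top_of_le_ne_top (IsLocalRing.maximalIdeal.isMaximal A).ne_top hI)
  haveI : IsLocalRing (A ⧸ I.map (algebraMap R A)) :=
    IsLocalRing.of_surjective' (Ideal.Quotient.mk _) Ideal.Quotient.mk_surjective
  intro m
  induction m with
  | zero =>
    intro M _ _ _ _ _ hflat hpd _
    haveI : Module.Finite (A ⧸ I.map (algebraMap R A)) (M ⧸ (I.map (algebraMap R A) • (⊤ : Submodule A M))) :=
      Module.Finite.of_restrictScalars_finite A _ _
    haveI : Module.Projective (A ⧸ I.map (algebraMap R A)) (M ⧸ (I.map (algebraMap R A) • (⊤ : Submodule A M))) :=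
      (IsProjective.iff_projective _).mpr (projective_iff_hasProjectiveDimensionLT_one.mpr hpd)
    haveI : Module.Free (A ⧸ I.map (algebraMap R A)) (M ⧸ (I.map (algebraMap R A) • (⊤ : Submodule A M))) :=
      Module.free_of_flat_of_isLocalRing
    let b := Module.finBasis (A ⧸ I.map (algebraMap R A)) (M ⧸ (I.map (algebraMap R A) • (⊤ : Submodule A M)))
    choose v hv using fun i => Submodule.Quotient.mk_surjective _ (b i)
    let π := Fintype.linearCombination A v
    have hπmk : ∀ x, Submodule.Quotient.mk (π x) = ∑ i, Ideal.Quotient.mk (I.map (algebraMap R A)) (x i) • b i := by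
      intro x
      simp only [π, Fintype.linearCombination_apply, ← Submodule.mkQ_apply, map_sum, map_smul]
      exact Finset.sum_congr rfl fun i _ => by rw [Submodule.mkQ_apply, hv]; rfl
    have hπ : Function.Surjective π := by
      rw [← LinearMap.range_eq_top, eq_top_iff]
      refine Submodule.le_of_le_smul_of_le_jacobson_bot Module.Finite.fg_top hjac fun z _ => ?_
      choose c hc using fun i => Ideal.Quotient.mk_surjective (b.repr (Submodule.Quotient.mk z) i)
      refine Submodule.mem_sup.2 ⟨π c, ⟨c, rfl⟩, z - π c, ?_, add_sub_cancel _ _⟩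
      rw [← Submodule.Quotient.mk_eq_zero, Submodule.Quotient.mk_sub, hπmk]
      simp only [hc, b.sum_repr, sub_self]
    haveI : Module.FinitePresentation A M := by
      haveI := hflat
      exact fp_of_torsionFree (R := R) fun r x h => smul_eq_zero.1 h
    have hK : LinearMap.ker π = ⊥ := by
      refine Submodule.eq_bot_of_le_smul_of_le_jacobson_bot _ _ (Module.FinitePresentation.fg_ker π hπ) ?_ hjac
      intro x hx
      have h0 := hπmk x
      rw [LinearMap.mem_ker.1 hx, Submodule.Quotient.mk_zero] at h0
      have h1 := Fintype.linearIndependent_iff.1 b.linearIndependent _ h0.symm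
      have hxF : x ∈ I.map (algebraMap R A) • (⊤ : Submodule A (Fin _ → A)) := by
        rw [← Finset.univ_sum_single x]
        refine Submodule.sum_mem _ fun i _ => ?_
        rw [← mul_one (x i), ← smul_eq_mul, Pi.single_smul']
        exact Submodule.smul_mem_smul (Ideal.Quotient.eq_zero_iff_mem.1 (h1 i)) Submodule.mem_top
      haveI := hflat
      have h2 := Submodule.mem_map_of_mem (f := (LinearMap.ker π).subtype) (mem_smul_ker I π hπ ⟨x, hx⟩ hxF)
      rw [Submodule.map_smul'', Submodule.map_top, Submodule.range_subtype] at h2
      exact h2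
    haveI : Module.Free A M := Module.Free.of_equiv (LinearEquiv.ofBijective π ⟨LinearMap.ker_eq_bot.1 hK, hπ⟩)
    haveI : Module.Free (Localization S) (LocalizedModule S M) :=
      Module.Free.of_equiv (LocalizedModule.equivTensorProduct S M).symm
    infer_instance
  | succ m ih =>
    intro M _ _ _ _ _ hflat hpd hproj
    haveI := hflat
    obtain ⟨t, π, hπ⟩ := Module.Finite.exists_fin' A M
    let K := LinearMap.ker π
    haveI : Module.FinitePresentation A M := fp_of_torsionFree (R := R) fun r x h => smul_eq_zero.1 h
    haveI : Module.Finite A K := Module.Finite.of_fg (Module.FinitePresentation.fg_ker π hπ)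
    have hKflat : Module.Flat R K := flat_of_torsionFree fun r x h =>
      (htfA t r (x : Fin t → A) (by rw [← Submodule.coe_smul_of_tower, h]; rfl)).imp_right fun h0 => Subtype.ext h0
    set J := I.map (algebraMap R A)
    let fb := ((J • (⊤ : Submodule A K)).mapQ (J • (⊤ : Submodule A (Fin t → A))) K.subtype (by
      rw [← Submodule.map_le_iff_le_comap, Submodule.map_smul'']
      exact Submodule.smul_mono le_rfl le_top)).extendScalarsOfSurjective (S := A ⧸ J) Ideal.Quotient.mk_surjective
    let gb := ((J • (⊤ : Submodule A (Fin t → A))).mapQ (J • (⊤ : Submodule A M)) π (by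
      rw [← Submodule.map_le_iff_le_comap, Submodule.map_smul'']
      exact Submodule.smul_mono le_rfl le_top)).extendScalarsOfSurjective (S := A ⧸ J) Ideal.Quotient.mk_surjective
    have hfb : ∀ x : K, fb (Submodule.Quotient.mk x) = Submodule.Quotient.mk (x : Fin t → A) := fun x => rfl
    have hgb : ∀ x, gb (Submodule.Quotient.mk x) = Submodule.Quotient.mk (π x) := fun x => rfl
    have hfbi : Function.Injective fb := by
      rw [injective_iff_map_eq_zero]
      intro z hz
      obtain ⟨x, rfl⟩ := Submodule.Quotient.mk_surjective _ z
      rw [hfb, Submodule.Quotient.mk_eq_zero] at hz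
      exact (Submodule.Quotient.mk_eq_zero _).2 (mem_smul_ker I π hπ x hz)
    have hgbs : Function.Surjective gb := by
      intro z
      obtain ⟨y, rfl⟩ := Submodule.Quotient.mk_surjective _ z
      obtain ⟨x, rfl⟩ := hπ y
      exact ⟨_, hgb x⟩
    have hbex : Function.Exact fb gb := by
      intro z
      obtain ⟨x, rfl⟩ := Submodule.Quotient.mk_surjective _ z
      constructor
      · intro h
        rw [hgb, Submodule.Quotient.mk_eq_zero] at h
        have h' : π x ∈ Submodule.map π (J • (⊤ : Submodule A (Fin t → A))) := by
          rwa [Submodule.map_smul'', Submodule.map_top, LinearMap.range_eq_top.2 hπ]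
        obtain ⟨y, hy, hxy⟩ := h'
        refine ⟨Submodule.Quotient.mk ⟨x - y, by rw [LinearMap.mem_ker, map_sub, hxy, sub_self]⟩, ?_⟩
        rw [hfb, Submodule.Quotient.eq]
        simpa using hy
      · rintro ⟨w, hw⟩
        obtain ⟨w, rfl⟩ := Submodule.Quotient.mk_surjective _ w
        rw [← hw, hfb, hgb, LinearMap.mem_ker.1 w.2, Submodule.Quotient.mk_zero]
    haveI : Module.Free (A ⧸ J) ((Fin t → A) ⧸ (J • (⊤ : Submodule A (Fin t → A)))) :=
      Module.Free.of_equiv ((TensorProduct.quotTensorEquivQuotSMul (Fin t → A) J).extendScalarsOfSurjective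
        Ideal.Quotient.mk_surjective)
    have hse : (ShortComplex.mk (ModuleCat.ofHom fb) (ModuleCat.ofHom gb) (by
        ext1; exact LinearMap.ext fun x => hbex.apply_apply_eq_zero x)).ShortExact :=
      { exact := (ShortComplex.ShortExact.moduleCat_exact_iff_function_exact _).mpr hbex
        mono_f := (ModuleCat.mono_iff_injective _).mpr hfbi
        epi_g := (ModuleCat.epi_iff_surjective _).mpr hgbs }
    haveI : Projective (ModuleCat.of (A ⧸ J) ((Fin t → A) ⧸ (J • (⊤ : Submodule A (Fin t → A))))) :=
      (IsProjective.iff_projective _).mp inferInstance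
    have hK : HasProjectiveDimensionLT (ModuleCat.of (A ⧸ J) (K ⧸ (J • (⊤ : Submodule A K)))) (m + 1) :=
      hse.hasProjectiveDimensionLT_X₁ (m + 1)
        (hasProjectiveDimensionLT_of_ge (ModuleCat.of (A ⧸ J) ((Fin t → A) ⧸ (J • (⊤ : Submodule A (Fin t → A))))) 1
          (m + 1) (by omega)) hpd
    let f := LocalizedModule.map S K.subtype
    let g := LocalizedModule.map S π
    have hf : Function.Injective f := LocalizedModule.map_injective S _ K.injective_subtype
    have hg : Function.Surjective g := LocalizedModule.map_surjective S _ hπ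
    have hfg : Function.Exact f g := LocalizedModule.map_exact S _ _ π.exact_subtype_ker_map
    haveI : Module.Free (Localization S) (LocalizedModule S (Fin t → A)) :=
      Module.Free.of_equiv (LocalizedModule.equivTensorProduct S (Fin t → A)).symm
    obtain ⟨s, hs⟩ := Module.projective_lifting_property g LinearMap.id hg
    let r : LocalizedModule S (Fin t → A) →ₗ[Localization S] LinearMap.range f :=
      (LinearMap.id - s ∘ₗ g).codRestrict _ fun x => (hfg _).mp (by
        have := LinearMap.congr_fun hs (g x)
        simp only [LinearMap.comp_apply, LinearMap.id_apply] at this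
        simp only [LinearMap.sub_apply, LinearMap.comp_apply, LinearMap.id_apply, map_sub, this, sub_self])
    haveI : Module.Projective (Localization S) (LocalizedModule S K) :=
      Module.Projective.of_split f ((LinearEquiv.ofInjective f hf).symm.toLinearMap ∘ₗ r)
        (LinearMap.ext fun x => by
          apply hf
          change f ((LinearEquiv.ofInjective f hf).symm (r (f x))) = f x
          rw [← LinearEquiv.ofInjective_apply f (h := hf), LinearEquiv.apply_symm_apply]
          change f x - s (g (f x)) = f x
          rw [(hfg (f x)).mpr ⟨x, rfl⟩, map_zero, sub_zero])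
    exact (S6862.result f g hf hg hfg).1 (ih K hKflat hK inferInstance) inferInstance

theorem subsingleton_pic_localization [IsLocalHom (algebraMap R A)]
    (hreg : IsRegularRing (A ⧸ (IsLocalRing.maximalIdeal R).map (algebraMap R A))) :
    Subsingleton (CommRing.Pic (Localization (Algebra.algebraMapSubmonoid A R⁰))) := by
  classical
  set S := Algebra.algebraMapSubmonoid A R⁰
  rw [CommRing.Pic.subsingleton_iff]
  intro P _ _ _
  letI : Module A P := Module.compHom P (algebraMap A (Localization S))
  haveI : IsScalarTower A (Localization S) P := IsScalarTower.of_algebraMap_smul fun r x => rfl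
  letI : Module R P := Module.compHom P (algebraMap R A)
  haveI : IsScalarTower R A P := IsScalarTower.of_algebraMap_smul fun r x => rfl
  obtain ⟨t, π, hπ⟩ := Module.Finite.exists_fin' (Localization S) P
  let M : Submodule A P := Submodule.span A (Set.range fun i => π (Pi.single i 1))
  haveI : Module.Finite A M := Module.Finite.span_of_finite A (Set.finite_range _)
  haveI : IsLocalizedModule S M.subtype :=
    { map_units := fun s => by
        rw [Module.End.isUnit_iff]
        obtain ⟨v, hv⟩ := IsLocalization.map_units (Localization S) s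
        have h : ∀ x : P, (algebraMap A (Module.End A P) (s : A)) x = (v : Localization S) • x :=
          fun x => by rw [Module.algebraMap_end_apply, ← algebraMap_smul (Localization S) (s : A) x, hv]
        refine ⟨fun x y hxy => ?_, fun y => ⟨(↑v⁻¹ : Localization S) • y, ?_⟩⟩
        · rw [h, h] at hxy
          simpa [smul_smul] using congrArg (fun z => (↑v⁻¹ : Localization S) • z) hxy
        · rw [h, smul_smul, Units.mul_inv, one_smul]
      surj := fun y => by
        obtain ⟨c, rfl⟩ := hπ y
        obtain ⟨b, hb⟩ := IsLocalization.exist_integer_multiples S Finset.univ c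
        refine ⟨(⟨(b : A) • π c, ?_⟩, b), rfl⟩
        have : (b : A) • π c = π ((b : A) • c) := (LinearMap.map_smul_of_tower π _ _).symm
        rw [this, ← Finset.univ_sum_single ((b : A) • c), map_sum]
        refine Submodule.sum_mem _ fun i _ => ?_
        obtain ⟨r, hr⟩ := hb i (Finset.mem_univ i)
        have : Pi.single i (((b : A) • c) i) = r • (Pi.single i 1 : Fin t → Localization S) := by
          rw [Pi.smul_apply, ← hr, ← Pi.single_smul', Algebra.smul_def, mul_one]
        rw [this, LinearMap.map_smul_of_tower]
        exact Submodule.smul_mem _ _ (Submodule.subset_span ⟨i, rfl⟩)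
      exists_of_eq := fun {x y} hxy => ⟨1, by rw [Subtype.ext hxy]⟩ }
  let e : LocalizedModule S M ≃ₗ[Localization S] P :=
    LinearEquiv.extendScalarsOfIsLocalization S _ (IsLocalizedModule.iso S M.subtype)
  have hflat : Module.Flat R M := flat_of_torsionFree fun r x h => by
    by_cases hr : r = 0
    · exact Or.inl hr
    · refine Or.inr (Subtype.ext ?_)
      have hu : IsUnit (algebraMap A (Localization S) (algebraMap R A r)) :=
        IsLocalization.map_units (Localization S)
          ⟨_, Algebra.mem_algebraMapSubmonoid_of_mem ⟨r, mem_nonZeroDivisors_of_ne_zero hr⟩⟩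
      have h1 : algebraMap A (Localization S) (algebraMap R A r) • (x : P) = 0 := by
        rw [algebraMap_smul, ← Submodule.coe_smul, algebraMap_smul, h]
        rfl
      exact (IsUnit.smul_eq_zero hu).1 h1
  have hI : (IsLocalRing.maximalIdeal R).map (algebraMap R A) ≤ IsLocalRing.maximalIdeal A :=
    Ideal.map_le_iff_le_comap.2 fun r hr => map_nonunit _ r hr
  haveI : Nontrivial (A ⧸ (IsLocalRing.maximalIdeal R).map (algebraMap R A)) :=
    Ideal.Quotient.nontrivial_iff.2 (ne_top_of_le_ne_top (IsLocalRing.maximalIdeal.isMaximal A).ne_top hI)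
  haveI : IsLocalRing (A ⧸ (IsLocalRing.maximalIdeal R).map (algebraMap R A)) :=
    IsLocalRing.of_surjective' (Ideal.Quotient.mk _) Ideal.Quotient.mk_surjective
  haveI := IsRegularLocalRing.of_isRegularRing_of_isLocalRing (R := A ⧸ (IsLocalRing.maximalIdeal R).map (algebraMap R A))
  haveI : Module.Finite (A ⧸ (IsLocalRing.maximalIdeal R).map (algebraMap R A))
      (M ⧸ ((IsLocalRing.maximalIdeal R).map (algebraMap R A) • (⊤ : Submodule A M))) :=
    Module.Finite.of_restrictScalars_finite A _ _
  obtain ⟨d, -, hk⟩ := H05EGA4.exists_pd_residueField (A ⧸ (IsLocalRing.maximalIdeal R).map (algebraMap R A))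
  haveI : Module.Projective (Localization S) (LocalizedModule S M) := Module.Projective.of_equiv e.symm
  haveI := isStablyFree_localizedModule S (IsLocalRing.maximalIdeal R) hI d M hflat
    (H05EGA4.hasProjectiveDimensionLT_of_residueField d hk _) inferInstance
  haveI : Module.Invertible (Localization S) (LocalizedModule S M) := Module.Invertible.congr e.symm
  haveI := Module.free_of_isStablyFree_of_invertible (Localization S) (LocalizedModule S M)
  exact Module.Free.of_equiv e

theorem subsingleton_pic_genericFibre [IsLocalHom (algebraMap R A)]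
    (hreg : IsRegularRing (TensorProduct R (IsLocalRing.ResidueField R) A)) :
    Subsingleton (CommRing.Pic (TensorProduct R (FractionRing R) A)) := by
  haveI := hreg
  have hreg' : IsRegularRing (A ⧸ (IsLocalRing.maximalIdeal R).map (algebraMap R A)) :=
    IsRegularRing.of_ringEquiv ((Algebra.TensorProduct.comm R (IsLocalRing.ResidueField R) A).toRingEquiv.trans
      (Algebra.TensorProduct.quotIdealMapEquivTensorQuot A (IsLocalRing.maximalIdeal R)).symm.toRingEquiv)
  haveI := subsingleton_pic_localization hreg'
  let e : TensorProduct R (FractionRing R) A ≃+* Localization (Algebra.algebraMapSubmonoid A R⁰) :=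
    (Localization.tensorRightAlgEquiv R⁰ A).toRingEquiv
  refine ⟨fun a b => ?_⟩
  have h : CommRing.Pic.mapRingHom e.toRingHom a = CommRing.Pic.mapRingHom e.toRingHom b := Subsingleton.elim _ _
  have h' := congrArg (CommRing.Pic.mapRingHom e.symm.toRingHom) h
  rw [CommRing.Pic.mapRingHom_mapRingHom, CommRing.Pic.mapRingHom_mapRingHom, RingEquiv.symm_toRingHom_comp_toRingHom,
    CommRing.Pic.mapRingHom_id_apply, CommRing.Pic.mapRingHom_id_apply] at h'
  exact h'

end main

end Groth.Agent.H02CA.PicValGeneric
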