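import Groth.Prelude.Def_CAlgX
import Groth.Agent.S9315
import Mathlib.RingTheory.HopkinsLevitzki
import Mathlib.RingTheory.Length
import Mathlib.LinearAlgebra.Basis.VectorSpace
import Mathlib.RingTheory.Ideal.Quotient.Nilpotent

/-!
Adic formal smoothness can be tested on small extensions.
-/

set_option autoImplicit false
set_option linter.style.haveILetI false

universe u

open IsLocalRing

namespace Groth.Agent.H02CA.SmallExt

variable {R S : Type u} [CommRing R] [CommRing S] [IsLocalRing R] [IsLocalRing S] [IsNoetherianRing S]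
  [Algebra R S] [IsLocalHom (algebraMap R S)]

variable (R S) in
/-- Lifting along small extensions. -/
def Crit : Prop :=
  ∀ (A : Type u) [CommRing A] [IsLocalRing A] [IsArtinianRing A] [Algebra R A]
    [IsLocalHom (algebraMap R A)] (J : Ideal A), J ^ 2 = ⊥ → Module.length A J = 1 →
    ∀ [IsLocalRing (A ⧸ J)] (ψ : S →ₐ[R] A ⧸ J) [IsLocalHom ψ.toRingHom],
      Function.Bijective (ResidueField.map ψ.toRingHom) →
      ∃ χ : S →ₐ[R] A, (Ideal.Quotient.mkₐ R J).comp χ = ψ

/-- Every residue class of `A` comes from `S`. -/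
def ResidueSurj {A : Type u} [CommRing A] [IsLocalRing A] [Algebra R A] (J : Ideal A)
    (ψ : S →ₐ[R] A ⧸ J) : Prop :=
  ∀ a : A, ∃ s b, Ideal.Quotient.mk J b = ψ s ∧ a - b ∈ maximalIdeal A

theorem le_maximalIdeal_of_sq {A : Type u} [CommRing A] [IsLocalRing A] {J : Ideal A}
    (hJ : J ^ 2 = ⊥) : J ≤ maximalIdeal A := by
  refine le_maximalIdeal fun h => ?_
  rw [h, pow_two, Ideal.mul_top] at hJ
  exact top_ne_bot hJ

theorem nonunit_of_map {A : Type u} [CommRing A] [IsLocalRing A] [Algebra R A] {J : Ideal A}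
    (ψ : S →ₐ[R] A ⧸ J) [IsLocalHom ψ.toRingHom] {s : S} (hs : s ∈ maximalIdeal S) {a : A}
    (ha : Ideal.Quotient.mk J a = ψ s) : a ∈ maximalIdeal A :=
  (IsLocalRing.mem_maximalIdeal _).mpr fun hu => (IsLocalRing.mem_maximalIdeal _).mp hs
    (isUnit_of_map_unit ψ.toRingHom s (ha ▸ hu.map (Ideal.Quotient.mk J)))

/-- The lift along an extension by a simple ideal. -/
theorem lift_simple (h : Crit R S) {A : Type u} [CommRing A] [IsLocalRing A] [Algebra R A] {N : ℕ}
    (hN : maximalIdeal A ^ N = ⊥) (J : Ideal A) (hJ : J ^ 2 = ⊥)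
    (hne : ∃ x ∈ J, x ≠ 0) (hsimp : ∀ x ∈ J, x ≠ 0 → ∀ y ∈ J, ∃ c, y = c * x)
    (hann : ∀ c ∈ maximalIdeal A, ∀ x ∈ J, c * x = 0)
    (ψ : S →ₐ[R] A ⧸ J) [IsLocalHom ψ.toRingHom] (hres : ResidueSurj J ψ) :
    ∃ χ : S →ₐ[R] A, (Ideal.Quotient.mkₐ R J).comp χ = ψ := by
  let A' : Subalgebra R A := ψ.range.comap (Ideal.Quotient.mkₐ R J)
  let f : A' →ₐ[R] ψ.range :=
    ((Ideal.Quotient.mkₐ R J).comp A'.val).codRestrict ψ.range fun a => a.2
  have hf : Function.Surjective f := by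
    rintro ⟨z, hz⟩
    obtain ⟨a, rfl⟩ := Ideal.Quotient.mk_surjective z
    exact ⟨⟨a, hz⟩, rfl⟩
  let J' : Ideal A' := RingHom.ker f
  have hJ'mem : ∀ a : A', a ∈ J' ↔ (a : A) ∈ J := fun a => by
    rw [RingHom.mem_ker, Subtype.ext_iff]
    exact Ideal.Quotient.eq_zero_iff_mem
  have hJA' : ∀ x ∈ J, x ∈ A' := fun x hx => by
    change Ideal.Quotient.mkₐ R J x ∈ ψ.range
    rw [Ideal.Quotient.mkₐ_eq_mk, Ideal.Quotient.eq_zero_iff_mem.mpr hx]
    exact zero_mem _
  have hJ' : J' ^ 2 = ⊥ := by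
    rw [pow_two, eq_bot_iff, Ideal.mul_le]
    intro x hx y hy
    rw [Ideal.mem_bot]
    refine Subtype.ext (Ideal.mem_bot.mp ?_)
    rw [← hJ, pow_two]
    exact Ideal.mul_mem_mul ((hJ'mem x).mp hx) ((hJ'mem y).mp hy)
  let e : (A' ⧸ J') ≃ₐ[R] ψ.range := Ideal.quotientKerAlgEquivOfSurjective hf
  have hemk : ∀ a : A', (e (Ideal.Quotient.mk J' a) : A ⧸ J) = Ideal.Quotient.mk J (a : A) := by
    intro a
    simp only [e]
    rfl
  let ψ' : S →ₐ[R] A' ⧸ J' := e.symm.toAlgHom.comp ψ.rangeRestrict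
  have hψe : ∀ s, (e (ψ' s) : A ⧸ J) = ψ s := fun s => by simp [ψ']
  have hψ' : Function.Surjective ψ' := e.symm.surjective.comp ψ.rangeRestrict_surjective
  haveI : Nontrivial (A ⧸ J) :=
    Ideal.Quotient.nontrivial_iff.mpr fun hh => (IsLocalRing.maximalIdeal.isMaximal A).ne_top
      (top_le_iff.mp (hh ▸ le_maximalIdeal_of_sq hJ))
  haveI : Nontrivial (A' ⧸ J') := e.toEquiv.nontrivial
  haveI hloc' : IsLocalRing (A' ⧸ J') := IsLocalRing.of_surjective' ψ'.toRingHom hψ'
  haveI : Nontrivial A' := (Ideal.Quotient.mk J').domain_nontrivial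
  haveI hloc : IsLocalRing A' := by
    refine IsLocalRing.of_isUnit_or_isUnit_one_sub_self fun a => ?_
    have hnil : IsNilpotent J' := ⟨2, hJ'⟩
    rw [← IsNilpotent.isUnit_quotient_mk_iff hnil (x := a),
      ← IsNilpotent.isUnit_quotient_mk_iff hnil (x := 1 - a), map_sub, map_one]
    exact IsLocalRing.isUnit_or_isUnit_one_sub_self _
  haveI hψloc : IsLocalHom ψ'.toRingHom := IsLocalHom.of_surjective ψ'.toRingHom hψ'
  haveI : IsLocalHom (algebraMap R A') := by
    refine ⟨fun r hr => ?_⟩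
    have h1 : IsUnit (ψ'.toRingHom (algebraMap R S r)) := by
      rw [AlgHom.toRingHom_eq_coe, RingHom.coe_coe, AlgHom.commutes]
      exact hr.map (Ideal.Quotient.mk J')
    exact isUnit_of_map_unit (algebraMap R S) r (isUnit_of_map_unit ψ'.toRingHom _ h1)
  have hmax : ∀ a : A', a ∈ maximalIdeal A' → (a : A) ∈ maximalIdeal A := by
    intro a ha
    obtain ⟨s, hs⟩ := hψ' (Ideal.Quotient.mk J' a)
    refine nonunit_of_map ψ ((IsLocalRing.mem_maximalIdeal s).mpr fun hu => ?_)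
      (by rw [← hemk, ← hs, hψe])
    refine (IsLocalRing.mem_maximalIdeal _).mp ha ?_
    rw [← IsNilpotent.isUnit_quotient_mk_iff ⟨2, hJ'⟩, ← hs]
    exact hu.map ψ'
  have hN' : maximalIdeal A' ^ N = ⊥ := by
    rw [eq_bot_iff]
    intro a ha
    rw [Ideal.mem_bot]
    refine Subtype.ext (Ideal.mem_bot.mp ?_)
    rw [← hN]
    have h1 : (maximalIdeal A' ^ N).map A'.val.toRingHom ≤ maximalIdeal A ^ N := by
      rw [Ideal.map_pow]
      exact Ideal.pow_right_mono (Ideal.map_le_iff_le_comap.mpr hmax) N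
    exact h1 (Ideal.mem_map_of_mem _ ha)
  haveI hsimple : IsSimpleModule A' J' := by
    rw [isSimpleModule_iff_toSpanSingleton_surjective]
    obtain ⟨x, hx, hx0⟩ := hne
    refine ⟨⟨⟨⟨x, hJA' x hx⟩, (hJ'mem _).mpr hx⟩, 0, fun h0 => hx0 ?_⟩, fun z hz y => ?_⟩
    · exact congrArg (fun t : J' => ((t : A') : A)) h0
    · obtain ⟨c, hc⟩ := hsimp _ ((hJ'mem _).mp z.2)
        (fun h0 => hz (Subtype.ext (Subtype.ext h0))) _ ((hJ'mem _).mp y.2)
      obtain ⟨s, b, hb, hcb⟩ := hres c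
      have hbA' : b ∈ A' := show Ideal.Quotient.mkₐ R J b ∈ ψ.range from ⟨s, hb.symm⟩
      refine ⟨⟨b, hbA'⟩, Subtype.ext (Subtype.ext ?_)⟩
      change b * ((z : A') : A) = ((y : A') : A)
      rw [hc]
      linear_combination -(hann _ hcb _ ((hJ'mem _).mp z.2))
  haveI : IsNoetherianRing (A' ⧸ J') := isNoetherianRing_of_surjective S _ ψ'.toRingHom hψ'
  haveI : IsNoetherian A' (A' ⧸ J') := by
    rw [isNoetherian_iff', ]
    refine (StrictMono.wellFoundedGT (f := fun P : Submodule A' (A' ⧸ J') =>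
      ({ carrier := P
         add_mem' := P.add_mem
         zero_mem' := P.zero_mem
         smul_mem' := fun c x hx => by
          obtain ⟨c, rfl⟩ := Ideal.Quotient.mk_surjective c
          exact P.smul_mem c hx } : Ideal (A' ⧸ J'))) fun P Q hPQ => ?_)
    exact lt_of_le_of_ne (fun x hx => hPQ.le hx)
      (fun hh => hPQ.ne (SetLike.ext fun x => SetLike.ext_iff.mp hh x))
  haveI : IsNoetherianRing A' :=
    isNoetherian_of_range_eq_ker (M := J') (P := A' ⧸ J') J'.subtype J'.mkQ (by simp)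
  haveI : IsArtinianRing A' :=
    (isArtinianRing_iff_isNilpotent_maximalIdeal A').mpr ⟨N, hN'⟩
  have hbij : Function.Bijective (ResidueField.map ψ'.toRingHom) := by
    refine ⟨RingHom.injective _, fun z => ?_⟩
    obtain ⟨a, rfl⟩ := IsLocalRing.residue_surjective z
    obtain ⟨s, rfl⟩ := hψ' a
    exact ⟨IsLocalRing.residue S s, IsLocalRing.ResidueField.map_residue _ s⟩
  obtain ⟨χ, hχ⟩ := h A' J' hJ' (Module.length_eq_one_iff.mpr hsimple) ψ' hbij
  refine ⟨A'.val.comp χ, AlgHom.ext fun s => ?_⟩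
  have h3 := congrArg (fun t => (e t : A ⧸ J)) (AlgHom.congr_fun hχ s)
  simp only [AlgHom.comp_apply, Ideal.Quotient.mkₐ_eq_mk, hemk, hψe] at h3
  exact h3

/-- The lift along an extension by an ideal killed by the maximal ideal. -/
theorem lift_killed (h : Crit R S) {A : Type u} [CommRing A] [IsLocalRing A] [Algebra R A] {N : ℕ}
    (hN : maximalIdeal A ^ N = ⊥) (J : Ideal A) (hJ : J ^ 2 = ⊥)
    (hann : ∀ c ∈ maximalIdeal A, ∀ x ∈ J, c * x = 0)
    (ψ : S →ₐ[R] A ⧸ J) [IsLocalHom ψ.toRingHom] (hres : ResidueSurj J ψ) :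
    ∃ χ : S →ₐ[R] A, (Ideal.Quotient.mkₐ R J).comp χ = ψ := by
  classical
  have htors : Module.IsTorsionBySet A J (maximalIdeal A : Set A) := fun x c =>
    Subtype.ext (hann c.1 c.2 x.1 x.2)
  letI : Module (ResidueField A) J := htors.module
  have hsm : ∀ (c : A) (x : J), residue A c • x = c • x := fun _ _ => rfl
  obtain ⟨ι, ⟨bas⟩⟩ : ∃ ι : Type u, Nonempty (Module.Basis ι (ResidueField A) J) :=
    ⟨_, ⟨Module.Basis.ofVectorSpace (ResidueField A) J⟩⟩
  let co : J →ₗ[ResidueField A] (ι → ResidueField A) :=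
    LinearMap.pi fun i => (bas.coord i)
  have hco : LinearMap.ker co = ⊥ := LinearMap.ker_eq_bot'.mpr fun x hx =>
    bas.repr.injective (Finsupp.ext fun i => by simpa [co] using congrFun hx i)
  obtain ⟨r, hr⟩ := co.exists_leftInverse_of_injective hco
  have hr' : ∀ x, r (co x) = x := fun x => LinearMap.congr_fun hr x
  let Ji : ι → Ideal A := fun i =>
    { carrier := {x | ∃ hx : x ∈ J, bas.coord i ⟨x, hx⟩ = 0}
      add_mem' := by
        rintro x y ⟨hx, hx0⟩ ⟨hy, hy0⟩
        refine ⟨add_mem hx hy, ?_⟩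
        rw [show (⟨x + y, add_mem hx hy⟩ : J) = ⟨x, hx⟩ + ⟨y, hy⟩ from rfl, map_add, hx0, hy0,
          add_zero]
      zero_mem' := ⟨zero_mem _, map_zero _⟩
      smul_mem' := by
        rintro c x ⟨hx, hx0⟩
        refine ⟨J.mul_mem_left c hx, ?_⟩
        rw [show (⟨c • x, J.mul_mem_left c hx⟩ : J) = residue A c • ⟨x, hx⟩ from rfl, map_smul,
          hx0, smul_zero] }
  have hJiJ : ∀ i, Ji i ≤ J := fun i x hx => hx.1
  have hi : ∀ i, ∃ χ : S →ₐ[R] A ⧸ Ji i,
      ∀ s, Ideal.Quotient.factor (hJiJ i) (χ s) = ψ s := by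
    intro i
    haveI : Nontrivial (A ⧸ Ji i) := Ideal.Quotient.nontrivial_iff.mpr fun hh =>
      (IsLocalRing.maximalIdeal.isMaximal A).ne_top
        (top_le_iff.mp (hh ▸ (hJiJ i).trans (le_maximalIdeal_of_sq hJ)))
    haveI : IsLocalRing (A ⧸ Ji i) :=
      IsLocalRing.of_surjective' (Ideal.Quotient.mk (Ji i)) Ideal.Quotient.mk_surjective
    have hmax : maximalIdeal (A ⧸ Ji i) = (maximalIdeal A).map (Ideal.Quotient.mk (Ji i)) :=
      (IsLocalRing.map_maximalIdeal_of_surjective (Ideal.Quotient.mk (Ji i))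
        Ideal.Quotient.mk_surjective).symm
    let K : Ideal (A ⧸ Ji i) := J.map (Ideal.Quotient.mkₐ R (Ji i))
    have hKmem : ∀ {z}, z ∈ K → ∃ x, ∃ hx : x ∈ J, Ideal.Quotient.mk (Ji i) x = z := fun hz => by
      obtain ⟨x, hx, hxz⟩ :=
        (Ideal.mem_map_iff_of_surjective _ (Ideal.Quotient.mkₐ_surjective R (Ji i))).mp hz
      exact ⟨x, hx, hxz⟩
    let e := DoubleQuot.quotQuotEquivQuotOfLEₐ R (hJiJ i)
    have he : ∀ a, e (Ideal.Quotient.mk K (Ideal.Quotient.mk (Ji i) a)) = Ideal.Quotient.mk J a :=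
      fun a => rfl
    let ψi : S →ₐ[R] (A ⧸ Ji i) ⧸ K := e.symm.toAlgHom.comp ψ
    haveI : IsLocalHom ψi.toRingHom := ⟨fun s hs => by
      have h1 : IsUnit (e (ψi s)) := hs.map e
      simp [ψi] at h1
      exact isUnit_of_map_unit ψ.toRingHom s h1⟩
    obtain ⟨χ, hχ⟩ := lift_simple h (A := A ⧸ Ji i) (N := N)
      (by rw [hmax, ← Ideal.map_pow, hN, Ideal.map_bot]) K
      (by rw [← Ideal.map_pow, hJ, Ideal.map_bot])
      ⟨Ideal.Quotient.mk (Ji i) (bas i : J), Ideal.mem_map_of_mem _ (bas i).2, fun h0 => by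
        obtain ⟨hx, hx0⟩ := Ideal.Quotient.eq_zero_iff_mem.mp h0
        simp at hx0⟩
      (fun z hz hz0 w hw => by
        obtain ⟨x, hx, rfl⟩ := hKmem hz
        obtain ⟨y, hy, rfl⟩ := hKmem hw
        have hx0 : bas.coord i ⟨x, hx⟩ ≠ 0 := fun h0 =>
          hz0 (Ideal.Quotient.eq_zero_iff_mem.mpr ⟨hx, h0⟩)
        obtain ⟨c, hc⟩ := residue_surjective (bas.coord i ⟨y, hy⟩ / bas.coord i ⟨x, hx⟩)
        refine ⟨Ideal.Quotient.mk (Ji i) c, ?_⟩
        rw [← map_mul, Ideal.Quotient.eq]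
        refine ⟨J.sub_mem hy (J.mul_mem_left c hx), ?_⟩
        rw [show (⟨y - c * x, J.sub_mem hy (J.mul_mem_left c hx)⟩ : J) =
          ⟨y, hy⟩ - residue A c • ⟨x, hx⟩ from rfl, map_sub, map_smul, hc, smul_eq_mul,
          div_mul_cancel₀ _ hx0, sub_self])
      (fun c hc z hz => by
        obtain ⟨x, hx, rfl⟩ := hKmem hz
        rw [hmax, Ideal.mem_map_iff_of_surjective _ Ideal.Quotient.mk_surjective] at hc
        obtain ⟨c, hc, rfl⟩ := hc
        rw [← map_mul, hann c hc x hx, map_zero])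
      ψi (fun z => by
        obtain ⟨a, rfl⟩ := Ideal.Quotient.mk_surjective z
        obtain ⟨s, b, hb, hab⟩ := hres a
        refine ⟨s, Ideal.Quotient.mk (Ji i) b, e.injective ?_, ?_⟩
        · rw [he, hb]; simp [ψi]
        · rw [← map_sub, hmax]; exact Ideal.mem_map_of_mem _ hab)
    refine ⟨χ, fun s => ?_⟩
    have h1 := congrArg e (AlgHom.congr_fun hχ s)
    obtain ⟨a, ha⟩ := Ideal.Quotient.mk_surjective (χ s)
    simp [ψi, ← ha, he] at h1
    rw [← ha, Ideal.Quotient.factor_mk]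
    exact h1
  choose χi hχi using hi
  choose lft hlft using fun s => Ideal.Quotient.mk_surjective (ψ s)
  have hex : ∀ i s, ∃ j : J, χi i s = Ideal.Quotient.mk (Ji i) (lft s + j) := by
    intro i s
    obtain ⟨a, ha⟩ := Ideal.Quotient.mk_surjective (χi i s)
    have h1 := hχi i s
    rw [← ha, Ideal.Quotient.factor_mk, ← hlft s, Ideal.Quotient.eq] at h1
    exact ⟨⟨_, h1⟩, by rw [← ha, add_sub_cancel]⟩
  choose j hj using hex
  let δ : S → (ι → ResidueField A) := fun s i => bas.coord i (j i s)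
  have hδ : ∀ i s (x : J), χi i s = Ideal.Quotient.mk (Ji i) (lft s + x) →
      δ s i = bas.coord i x := by
    intro i s x hx
    rw [hj, Ideal.Quotient.eq] at hx
    obtain ⟨hm, h0⟩ := hx
    have : (⟨_, hm⟩ : J) = j i s - x := Subtype.ext (by push_cast; ring)
    rw [this, map_sub, sub_eq_zero] at h0
    exact h0
  let d : A → S → J → Prop := fun a s x => a = lft s + (x : A)
  have key : ∀ (s : S) (x : J) (v : ι → ResidueField A), δ s = v + co x →
      lft s + (r (δ s) : A) = lft s + (x : A) + (r v : A) := by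
    intro s x v hv
    rw [hv, map_add, hr']
    push_cast; ring
  have hJmem : ∀ {a : A}, Ideal.Quotient.mk J a = 0 → a ∈ J := fun h0 =>
    Ideal.Quotient.eq_zero_iff_mem.mp h0
  refine ⟨
    { toFun := fun s => lft s + (r (δ s) : A)
      map_one' := ?_
      map_mul' := fun s t => ?_
      map_zero' := ?_
      map_add' := fun s t => ?_
      commutes' := fun c => ?_ }, AlgHom.ext fun s => ?_⟩
  · have hd : 1 - lft 1 ∈ J := hJmem (by rw [map_sub, hlft, map_one, map_one, sub_self])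
    rw [key 1 ⟨_, hd⟩ 0 (by
      funext i
      simp only [Pi.add_apply, Pi.zero_apply, zero_add]
      exact hδ i 1 _ (by rw [map_one]; simp)), map_zero]
    simp
  · have hd : lft s * lft t - lft (s * t) ∈ J :=
      hJmem (by rw [map_sub, map_mul, hlft, hlft, hlft, map_mul, sub_self])
    rw [key (s * t) ⟨_, hd⟩ (residue A (lft s) • δ t + residue A (lft t) • δ s) (by
      funext i
      simp only [Pi.add_apply, Pi.smul_apply]
      rw [hδ i (s * t) (⟨_, hd⟩ + residue A (lft s) • j i t + residue A (lft t) • j i s) ?_,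
        map_add, map_add, map_smul, map_smul]
      · simp [δ, co]; ring
      · rw [map_mul, hj, hj, ← map_mul, Ideal.Quotient.eq]
        have hz : (j i s : A) * (j i t : A) = 0 := Ideal.mem_bot.mp
          (hJ ▸ pow_two J ▸ Ideal.mul_mem_mul (j i s).2 (j i t).2)
        rw [hsm, hsm]
        push_cast
        simp only [smul_eq_mul]
        rw [show (lft s + (j i s : A)) * (lft t + (j i t : A)) - (lft (s * t) + (lft s * lft t -
          lft (s * t) + lft s * (j i t : A) + lft t * (j i s : A))) = 0 by linear_combination hz]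
        exact zero_mem _), map_add, map_smul, map_smul, hsm, hsm]
    push_cast
    have hz : (r (δ s) : A) * (r (δ t) : A) = 0 := Ideal.mem_bot.mp
      (hJ ▸ pow_two J ▸ Ideal.mul_mem_mul (r (δ s)).2 (r (δ t)).2)
    linear_combination -hz
  · have hd : 0 - lft 0 ∈ J := hJmem (by rw [map_sub, hlft, map_zero, map_zero, sub_self])
    rw [key 0 ⟨_, hd⟩ 0 (by
      funext i
      simp only [Pi.add_apply, Pi.zero_apply, zero_add]
      exact hδ i 0 _ (by rw [map_zero]; simp)), map_zero]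
    simp
  · have hd : lft s + lft t - lft (s + t) ∈ J :=
      hJmem (by rw [map_sub, map_add, hlft, hlft, hlft, map_add, sub_self])
    rw [key (s + t) ⟨_, hd⟩ (δ s + δ t) (by
      funext i
      simp only [Pi.add_apply]
      rw [hδ i (s + t) (⟨_, hd⟩ + j i s + j i t) ?_, map_add, map_add]
      · simp [δ, co]; ring
      · rw [map_add, hj, hj, ← map_add]
        exact congrArg _ (by push_cast; ring)), map_add]
    push_cast; ring
  · have hd : algebraMap R A c - lft (algebraMap R S c) ∈ J :=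
      hJmem (by rw [map_sub, hlft, AlgHom.commutes]; exact sub_self _)
    change lft (algebraMap R S c) + _ = _
    rw [key (algebraMap R S c) ⟨_, hd⟩ 0 (by
      funext i
      simp only [Pi.add_apply, Pi.zero_apply, zero_add]
      refine hδ i (algebraMap R S c) _ ?_
      rw [AlgHom.commutes]
      simp), map_zero]
    simp
  · change Ideal.Quotient.mk J (lft s + _) = ψ s
    rw [map_add, hlft, Ideal.Quotient.eq_zero_iff_mem.mpr (r (δ s)).2, add_zero]

/-- The lift along any square-zero extension of a local ring with nilpotent maximal ideal. -/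
theorem lift_general (h : Crit R S) : ∀ (n : ℕ) (A : Type u) [CommRing A] [IsLocalRing A] [Algebra R A]
    (N : ℕ), maximalIdeal A ^ N = ⊥ → ∀ (J : Ideal A), J ^ 2 = ⊥ → maximalIdeal A ^ n * J = ⊥ →
    ∀ (ψ : S →ₐ[R] A ⧸ J) [IsLocalHom ψ.toRingHom], ResidueSurj J ψ →
    ∃ χ : S →ₐ[R] A, (Ideal.Quotient.mkₐ R J).comp χ = ψ := by
  intro n
  induction n with
  | zero =>
    intro A _ _ _ N hN J hJ hn ψ _ _
    rw [pow_zero, one_mul] at hn
    subst hn
    exact ⟨(AlgEquiv.quotientBot R A).toAlgHom.comp ψ, AlgHom.ext fun s => by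
      obtain ⟨a, ha⟩ := Ideal.Quotient.mk_surjective (ψ s)
      simp only [AlgHom.comp_apply, ← ha]
      rfl⟩
  | succ n ih =>
    intro A _ _ _ N hN J hJ hn ψ _ hres
    let J1 : Ideal A := maximalIdeal A * J
    have hJ1 : J1 ≤ J := Ideal.mul_le_right
    haveI : Nontrivial (A ⧸ J1) := Ideal.Quotient.nontrivial_iff.mpr fun hh =>
      (IsLocalRing.maximalIdeal.isMaximal A).ne_top
        (top_le_iff.mp (hh ▸ hJ1.trans (le_maximalIdeal_of_sq hJ)))
    haveI : IsLocalRing (A ⧸ J1) :=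
      IsLocalRing.of_surjective' (Ideal.Quotient.mk J1) Ideal.Quotient.mk_surjective
    have hmax : maximalIdeal (A ⧸ J1) = (maximalIdeal A).map (Ideal.Quotient.mk J1) :=
      (IsLocalRing.map_maximalIdeal_of_surjective (Ideal.Quotient.mk J1)
        Ideal.Quotient.mk_surjective).symm
    let e := DoubleQuot.quotQuotEquivQuotOfLEₐ R hJ1
    let K : Ideal (A ⧸ J1) := J.map (Ideal.Quotient.mkₐ R J1)
    have he : ∀ a, e (Ideal.Quotient.mk K (Ideal.Quotient.mk J1 a)) = Ideal.Quotient.mk J a :=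
      fun a => rfl
    let ψ1 : S →ₐ[R] (A ⧸ J1) ⧸ K := e.symm.toAlgHom.comp ψ
    haveI : IsLocalHom ψ1.toRingHom := ⟨fun s hs => by
      have h1 : IsUnit (e (ψ1 s)) := hs.map e
      simp [ψ1] at h1
      exact isUnit_of_map_unit ψ.toRingHom s h1⟩
    obtain ⟨χ1, hχ1⟩ := lift_killed h (A := A ⧸ J1) (N := N)
      (by rw [hmax, ← Ideal.map_pow, hN, Ideal.map_bot]) K
      (by rw [← Ideal.map_pow, hJ, Ideal.map_bot])
      (fun c hc z hz => by
        obtain ⟨x, hx, rfl⟩ :=
          (Ideal.mem_map_iff_of_surjective _ (Ideal.Quotient.mkₐ_surjective R J1)).mp hz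
        rw [hmax, Ideal.mem_map_iff_of_surjective _ Ideal.Quotient.mk_surjective] at hc
        obtain ⟨c, hc, rfl⟩ := hc
        rw [Ideal.Quotient.mkₐ_eq_mk, ← map_mul, Ideal.Quotient.eq_zero_iff_mem]
        exact Ideal.mul_mem_mul hc hx)
      ψ1 (fun z => by
        obtain ⟨a, rfl⟩ := Ideal.Quotient.mk_surjective z
        obtain ⟨s, b, hb, hab⟩ := hres a
        refine ⟨s, Ideal.Quotient.mk J1 b, e.injective ?_, ?_⟩
        · rw [he, hb]; simp [ψ1]
        · rw [← map_sub, hmax]; exact Ideal.mem_map_of_mem _ hab)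
    have hfac : ∀ s, Ideal.Quotient.factor hJ1 (χ1 s) = ψ s := fun s => by
      have h1 := congrArg e (AlgHom.congr_fun hχ1 s)
      obtain ⟨a, ha⟩ := Ideal.Quotient.mk_surjective (χ1 s)
      simp [ψ1, ← ha, he] at h1
      rw [← ha, Ideal.Quotient.factor_mk]
      exact h1
    haveI : IsLocalHom χ1.toRingHom := ⟨fun s hs => by
      refine isUnit_of_map_unit ψ.toRingHom s ?_
      change IsUnit (ψ s)
      rw [← hfac s]
      exact hs.map (Ideal.Quotient.factor hJ1)⟩
    obtain ⟨χ, hχ⟩ := ih A N hN J1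
      (by
        rw [pow_two, eq_bot_iff, ← hJ, pow_two]
        exact Ideal.mul_mono hJ1 hJ1)
      (by rw [← mul_assoc, ← pow_succ]; exact hn)
      χ1 (fun a => by
        obtain ⟨s, b, hb, hab⟩ := hres a
        obtain ⟨b', hb'⟩ := Ideal.Quotient.mk_surjective (χ1 s)
        refine ⟨s, b', hb', ?_⟩
        have h1 := hfac s
        rw [← hb', Ideal.Quotient.factor_mk, ← hb, Ideal.Quotient.eq] at h1
        have h2 := sub_mem hab (le_maximalIdeal_of_sq hJ h1)
        rw [show a - b - (b' - b) = a - b' by ring] at h2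
        exact h2)
    exact ⟨χ, AlgHom.ext fun s => by
      rw [AlgHom.comp_apply, Ideal.Quotient.mkₐ_eq_mk, ← hfac s,
        ← AlgHom.congr_fun hχ s, AlgHom.comp_apply, Ideal.Quotient.mkₐ_eq_mk,
        Ideal.Quotient.factor_mk]⟩

omit [IsNoetherianRing S] in
theorem isAdicFormallySmooth_iff [IsNoetherianRing S] :
    CAlgX.IsAdicFormallySmooth R S (maximalIdeal S) ↔ Crit R S := by
  constructor
  · intro hfs A _ _ _ _ _ J hJ _ _ ψ _ hbij
    exact (S9315.result).mp hfs A J hJ (IsArtinianRing.isNilpotent_jacobson_bot.imp fun n hn => by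
      rw [IsLocalRing.jacobson_eq_maximalIdeal (⊥ : Ideal A) bot_ne_top] at hn
      exact hn) ψ hbij
  · intro h
    refine (S9315.result).mpr fun A _ _ _ _ J hJ ⟨N, hN⟩ _ ψ _ hbij => ?_
    refine lift_general h N A N hN J hJ (by rw [hN, Submodule.bot_mul]) ψ fun a => ?_
    obtain ⟨z, hz⟩ := hbij.2 (residue _ (Ideal.Quotient.mk J a))
    obtain ⟨s, rfl⟩ := residue_surjective z
    rw [ResidueField.map_residue] at hz
    obtain ⟨b, hb⟩ := Ideal.Quotient.mk_surjective (ψ s)
    refine ⟨s, b, hb, (IsLocalRing.mem_maximalIdeal _).mpr fun hu => ?_⟩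
    have h1 : residue (A ⧸ J) (Ideal.Quotient.mk J (a - b)) = 0 := by
      rw [map_sub, map_sub, hb, sub_eq_zero]
      exact hz.symm
    exact (IsLocalRing.mem_maximalIdeal _).mp ((residue_eq_zero_iff _).mp h1)
      (hu.map (Ideal.Quotient.mk J))

end Groth.Agent.H02CA.SmallExt
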