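import Groth.Agent.H4Depth.Regular
import Mathlib.RingTheory.Ideal.Cotangent
import Mathlib.RingTheory.Derivation.Basic
import Mathlib.LinearAlgebra.Dimension.Finite
import Mathlib.LinearAlgebra.FreeModule.Finite.Basic
import Mathlib.LinearAlgebra.Matrix.NonsingularInverse

/-!
Quotients of regular local rings by elements independent modulo the square of the maximal ideal.
-/

namespace Groth.Agent.H02CA

open IsLocalRing

universe u

variable {R : Type u} [CommRing R] [IsRegularLocalRing R]

theorem regular_quotient_of_independent {m : ℕ} (f : Fin m → R) (hf : ∀ i, f i ∈ maximalIdeal R)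
    (hind : ∀ a : Fin m → R, ∑ j, a j * f j ∈ maximalIdeal R ^ 2 → ∀ j, a j ∈ maximalIdeal R) :
    IsRegularLocalRing (R ⧸ Ideal.span (Set.range f)) ∧ RingTheory.Sequence.IsRegular R (List.ofFn f) := by
  classical
  let v : Fin m → CotangentSpace R := fun i => (maximalIdeal R).toCotangent ⟨f i, hf i⟩
  have hv : LinearIndependent (ResidueField R) v := by
    rw [Fintype.linearIndependent_iff]
    intro g hg
    choose a ha using fun i => residue_surjective (g i)
    have h1 : ∀ i, g i • v i = (maximalIdeal R).toCotangent (a i • ⟨f i, hf i⟩) := fun i => by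
      rw [map_smul, ← ha i]; rfl
    simp only [h1, ← map_sum] at hg
    rw [Ideal.toCotangent_eq_zero] at hg
    have h2 := hind a (by simpa [Submodule.coe_sum] using hg)
    exact fun i => by rw [← ha i]; exact (residue_eq_zero_iff _).mpr (h2 i)
  obtain ⟨W, hW⟩ := Submodule.exists_isCompl (Submodule.span (ResidueField R) (Set.range v))
  let b := Module.finBasis (ResidueField R) W
  set e := Module.finrank (ResidueField R) W
  choose y hy using fun i => Ideal.toCotangent_surjective (maximalIdeal R) ((b i : W) : CotangentSpace R)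
  let x : Fin (m + e) → R := Fin.append f fun i => (y i : R)
  have hxm : ∀ i, x i ∈ maximalIdeal R := fun i => by
    refine Fin.addCases (fun i => ?_) (fun i => ?_) i
    · simp [x, hf i]
    · simp [x]
  -- the dimension count
  have hd : ringKrullDim R = ((m + e : ℕ) : WithBot ℕ∞) := by
    rw [← (IsRegularLocalRing.iff_finrank_cotangentSpace (R := R)).mp inferInstance]
    congr 1
    rw [← Submodule.finrank_add_eq_of_isCompl hW, finrank_span_eq_card hv, Fintype.card_fin]
  -- Nakayama
  have hspan : Ideal.span (Set.range x) = maximalIdeal R := by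
    refine le_antisymm (Ideal.span_le.mpr (by rintro _ ⟨i, rfl⟩; exact hxm i)) ?_
    refine Submodule.le_of_le_smul_of_le_jacobson_bot (IsNoetherian.noetherian _)
      (maximalIdeal_le_jacobson _) ?_
    intro z hz
    obtain ⟨p, hp, q, hq, hpq⟩ := Submodule.mem_sup.mp
      ((hW.sup_eq_top.ge) (Submodule.mem_top (x := (maximalIdeal R).toCotangent ⟨z, hz⟩)))
    obtain ⟨c, hc⟩ := (Submodule.mem_span_range_iff_exists_fun _).mp hp
    choose a ha using fun i => residue_surjective (c i)
    choose a' ha' using fun i => residue_surjective (b.repr ⟨q, hq⟩ i)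
    let w : maximalIdeal R := ∑ i, a i • ⟨f i, hf i⟩ + ∑ i, a' i • y i
    have hw : (maximalIdeal R).toCotangent w = (maximalIdeal R).toCotangent ⟨z, hz⟩ := by
      rw [← hpq, ← hc, show q = ((∑ i, b.repr ⟨q, hq⟩ i • b i : W) : CotangentSpace R) by rw [b.sum_repr]]
      simp only [w, map_add, map_sum, map_smul, Submodule.coe_sum, Submodule.coe_smul]
      refine congrArg₂ (· + ·) (Finset.sum_congr rfl fun i _ => ?_) (Finset.sum_congr rfl fun i _ => ?_)
      · rw [← ha i]; rfl
      · rw [hy i, ← ha' i]; rfl
    rw [Ideal.toCotangent_eq] at hw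
    rw [Submodule.mem_sup]
    refine ⟨(w : R), ?_, z - w, ?_, by ring⟩
    · simp only [w, Submodule.coe_add, Submodule.coe_sum, Submodule.coe_smul, smul_eq_mul]
      refine add_mem (sum_mem fun i _ => Ideal.mul_mem_left _ _ ?_) (sum_mem fun i _ => Ideal.mul_mem_left _ _ ?_)
      · exact Ideal.subset_span ⟨Fin.castAdd e i, by simp [x]⟩
      · exact Ideal.subset_span ⟨Fin.natAdd m i, by simp [x]⟩
    · rw [smul_eq_mul, ← pow_two, ← neg_sub]; exact neg_mem hw
  obtain ⟨hreg, -⟩ := H4Depth.exists_regular_quotient_of_subset (m + e) hd x hspan (Finset.univ.image (Fin.castAdd e))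
  have himg : x '' ((Finset.univ.image (Fin.castAdd e) : Finset (Fin (m + e))) : Set (Fin (m + e))) = Set.range f := by
    rw [Finset.coe_image, Finset.coe_univ, Set.image_univ, ← Set.range_comp]
    congr 1
    funext i
    simp [x]
  rw [himg] at hreg
  refine ⟨hreg, ?_⟩
  have h := H4Depth.isRegular_ofFn_of_span_eq (m + e) hd x hspan
  have hof : List.ofFn x = List.ofFn f ++ List.ofFn (fun i => (y i : R)) := List.ofFn_fin_append _ _
  rw [hof] at h
  refine ⟨((RingTheory.Sequence.isWeaklyRegular_append_iff R _ _).mp h.1).1, ?_⟩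
  intro htop
  have hne : Ideal.ofList (List.ofFn f) • (⊤ : Submodule R R) ≤ maximalIdeal R := by
    rw [smul_eq_mul, Ideal.mul_top]
    refine Ideal.span_le.mpr fun r hr => ?_
    obtain ⟨i, rfl⟩ := List.mem_ofFn.mp hr
    exact hf i
  exact (maximalIdeal.isMaximal R).ne_top (top_le_iff.mp (htop.trans_le hne))

/-- Derivations with invertible determinant give independence. -/
theorem independent_of_derivations {m : ℕ} (f : Fin m → R) (hf : ∀ i, f i ∈ maximalIdeal R)
    (D : Fin m → Derivation ℤ R R) (hdet : IsUnit (Matrix.det (Matrix.of fun i j : Fin m => D i (f j))))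
    (a : Fin m → R) (ha : ∑ j, a j * f j ∈ maximalIdeal R ^ 2) (j : Fin m) : a j ∈ maximalIdeal R := by
  classical
  have hD : ∀ i, ∀ z ∈ maximalIdeal R ^ 2, D i z ∈ maximalIdeal R := fun i z hz => by
    rw [pow_two] at hz
    induction hz using Submodule.mul_induction_on' with
    | mem_mul_mem p hp q hq =>
      rw [Derivation.leibniz]
      exact add_mem (Ideal.mul_mem_right _ _ hp) (Ideal.mul_mem_right _ _ hq)
    | add p _ q _ hp hq => rw [map_add]; exact add_mem hp hq
  have h1 : ∀ i, ∑ j, D i (f j) * a j ∈ maximalIdeal R := fun i => by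
    have h2 := hD i _ ha
    rw [map_sum] at h2
    simp only [Derivation.leibniz, smul_eq_mul] at h2
    rw [Finset.sum_add_distrib] at h2
    have h3 : ∑ j, f j * D i (a j) ∈ maximalIdeal R := sum_mem fun j _ => Ideal.mul_mem_right _ _ (hf j)
    have h4 := (Submodule.add_mem_iff_left _ h3).mp h2
    simpa [mul_comm] using h4
  set M := Matrix.of fun i j : Fin m => D i (f j)
  have h5 : (M⁻¹).mulVec (M.mulVec a) = a := by
    rw [Matrix.mulVec_mulVec, Matrix.nonsing_inv_mul _ hdet, Matrix.one_mulVec]
  rw [← congr_fun h5 j]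
  show ∑ i, M⁻¹ j i * M.mulVec a i ∈ maximalIdeal R
  exact sum_mem fun i _ => Ideal.mul_mem_left _ _ (h1 i)

end Groth.Agent.H02CA
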