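import Groth.Agent.H02CA.RegularQuotient
import Mathlib.RingTheory.KrullDimension.NonZeroDivisors
import Mathlib.RingTheory.Nakayama

/-!
The kernel of a surjection between regular local rings.
-/

namespace Groth.Agent.H02CA

open IsLocalRing

universe u

/-- If `R` and `R ⧸ J` are regular then `J ∩ m² = J m`. -/
theorem inf_sq_le_mul_of_isRegularLocalRing {R : Type u} [CommRing R] [IsRegularLocalRing R] (J : Ideal R)
    [IsRegularLocalRing (R ⧸ J)] : J ⊓ maximalIdeal R ^ 2 ≤ J * maximalIdeal R := by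
  classical
  set m := maximalIdeal R
  have hJne : J ≠ ⊤ := fun h => (not_nontrivial_iff_subsingleton.mpr (Ideal.Quotient.subsingleton_iff.mpr h)) (inferInstance : Nontrivial (R ⧸ J))
  have hJm : J ≤ m := le_maximalIdeal hJne
  obtain ⟨s₀, hs₀⟩ : J.FG := IsNoetherian.noetherian J
  have hex : ∃ n, ∃ s : Finset R, s.card = n ∧ (∀ z ∈ s, z ∈ J) ∧ J ≤ Ideal.span (s : Set R) ⊔ m ^ 2 :=
    ⟨_, s₀, rfl, fun z hz => hs₀ ▸ Ideal.subset_span hz, hs₀.ge.trans le_sup_left⟩
  obtain ⟨s, hcard, hsJ, hspan⟩ := Nat.find_spec hex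
  let f : Fin s.card → R := fun i => (s.equivFin.symm i : R)
  have hrange : Set.range f = (s : Set R) := by
    ext z
    exact ⟨by rintro ⟨i, rfl⟩; exact (s.equivFin.symm i).2, fun hz => ⟨s.equivFin ⟨z, hz⟩, by simp [f]⟩⟩
  have hfJ : ∀ i, f i ∈ J := fun i => hsJ _ (s.equivFin.symm i).2
  have hind : ∀ a : Fin s.card → R, ∑ j, a j * f j ∈ m ^ 2 → ∀ j, a j ∈ m := by
    intro a ha j
    by_contra hj
    obtain ⟨w, hw⟩ := not_not.mp (mt (mem_maximalIdeal _).mpr hj)
    refine Nat.find_min hex (m := (s.erase (f j)).card) ?_ ⟨s.erase (f j), rfl, fun z hz => hsJ z (Finset.mem_of_mem_erase hz), ?_⟩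
    · rw [← hcard]; exact Finset.card_erase_lt_of_mem (s.equivFin.symm j).2
    · have hfj : f j ∈ Ideal.span ((s.erase (f j) : Finset R) : Set R) ⊔ m ^ 2 := by
        have h1 : f j = (↑w⁻¹ : R) * (∑ i, a i * f i - ∑ i ∈ Finset.univ.erase j, a i * f i) := by
          rw [← Finset.add_sum_erase _ _ (Finset.mem_univ j), add_sub_cancel_right, ← hw, ← mul_assoc,
            Units.inv_mul, one_mul]
        refine (congrArg (fun t => t ∈ Ideal.span ((s.erase (f j) : Finset R) : Set R) ⊔ m ^ 2) h1).mpr ?_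
        refine Ideal.mul_mem_left _ _ (sub_mem (Ideal.mem_sup_right ha) (Ideal.mem_sup_left (sum_mem fun i hi => ?_)))
        refine Ideal.mul_mem_left _ _ (Ideal.subset_span (Finset.mem_erase.mpr ⟨fun e => (Finset.mem_erase.mp hi).1 ?_, (s.equivFin.symm i).2⟩))
        exact s.equivFin.symm.injective (Subtype.ext e)
      refine hspan.trans (sup_le (Ideal.span_le.mpr fun z hz => ?_) le_sup_right)
      by_cases h : z = f j
      · exact h ▸ hfj
      · exact Ideal.mem_sup_left (Ideal.subset_span (Finset.mem_erase.mpr ⟨h, hz⟩))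
  obtain ⟨hQ, -⟩ := regular_quotient_of_independent f (fun i => hJm (hfJ i)) hind
  haveI := hQ
  have hle : Ideal.span (Set.range f) ≤ J := Ideal.span_le.mpr (by rintro _ ⟨i, rfl⟩; exact hfJ i)
  -- dimension comparison
  obtain ⟨e, y, he, hy⟩ := H4Depth.exists_regular_system_of_parameters (R ⧸ J)
  choose y' hy' using fun i => Ideal.Quotient.mk_surjective (y i)
  have hm : m ≤ (Ideal.span (Set.range f) ⊔ Ideal.span (Set.range y')) := by
    refine Submodule.le_of_le_smul_of_le_jacobson_bot (I := m) (IsNoetherian.noetherian _) (maximalIdeal_le_jacobson _) ?_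
    have h1 : m.map (Ideal.Quotient.mk J) = maximalIdeal (R ⧸ J) :=
      eq_maximalIdeal (Ideal.IsMaximal.map_of_surjective_of_ker_le Ideal.Quotient.mk_surjective (by rwa [Ideal.mk_ker]))
    have h2 : (Ideal.span (Set.range y')).map (Ideal.Quotient.mk J) = maximalIdeal (R ⧸ J) := by
      rw [Ideal.map_span, ← Set.range_comp, ← hy]
      congr 2
      funext i
      exact hy' i
    have h3 := congr_arg (Ideal.comap (Ideal.Quotient.mk J)) (h1.trans h2.symm)
    rw [Ideal.comap_map_of_surjective' _ Ideal.Quotient.mk_surjective, Ideal.comap_map_of_surjective' _ Ideal.Quotient.mk_surjective,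
      Ideal.mk_ker, sup_eq_left.mpr hJm] at h3
    refine h3.le.trans (sup_le (le_sup_of_le_left le_sup_right) (hspan.trans ?_))
    rw [smul_eq_mul, ← pow_two, ← hrange]
    exact sup_le (le_sup_of_le_left le_sup_left) le_sup_right
  have hdimQ : ringKrullDim (R ⧸ Ideal.span (Set.range f)) ≤ ringKrullDim (R ⧸ J) := by
    rw [he]
    refine (ringKrullDim_le_spanFinrank_maximalIdeal _).trans ?_
    have h4 : maximalIdeal (R ⧸ Ideal.span (Set.range f)) =
        Ideal.span ((Ideal.Quotient.mk (Ideal.span (Set.range f)) ∘ y') '' ((Finset.univ : Finset (Fin e)) : Set (Fin e))) := by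
      rw [Finset.coe_univ, Set.image_univ, Set.range_comp, ← Ideal.map_span]
      refine le_antisymm ?_ ?_
      · rw [← IsLocalRing.map_maximalIdeal_of_surjective _ Ideal.Quotient.mk_surjective]
        refine (Ideal.map_mono hm).trans ?_
        rw [Ideal.map_sup, Ideal.map_quotient_self, bot_sup_eq]
      · rw [Ideal.map_span]
        refine Ideal.span_le.mpr ?_
        rintro _ ⟨_, ⟨i, rfl⟩, rfl⟩
        rw [SetLike.mem_coe, ← IsLocalRing.map_maximalIdeal_of_surjective _ Ideal.Quotient.mk_surjective]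
        refine Ideal.mem_map_of_mem _ ?_
        have h5 : y i ∈ maximalIdeal (R ⧸ J) := hy ▸ Ideal.subset_span ⟨i, rfl⟩
        rw [← hy' i, mem_maximalIdeal] at h5
        exact (mem_maximalIdeal _).mpr fun hu => h5 (hu.map _)
    exact_mod_cast (H4Depth.spanFinrank_maximalIdeal_le_of_span _ _ h4).trans (by simp)
  haveI := H4Depth.isDomain_of_isRegularLocalRing (R ⧸ Ideal.span (Set.range f))
  have hJeq : J ≤ Ideal.span (Set.range f) := by
    intro z hz
    by_contra hzf
    have hz0 : Ideal.Quotient.mk (Ideal.span (Set.range f)) z ≠ 0 := fun h => hzf (Ideal.Quotient.eq_zero_iff_mem.mp h)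
    have h6 := ringKrullDim_quotient_succ_le_of_nonZeroDivisor (mem_nonZeroDivisors_of_ne_zero hz0)
    let φ : (R ⧸ Ideal.span (Set.range f)) ⧸ Ideal.span {Ideal.Quotient.mk (Ideal.span (Set.range f)) z} →+* R ⧸ J :=
      Ideal.Quotient.lift _ (Ideal.Quotient.factor hle) (by
        intro w hw
        obtain ⟨c, rfl⟩ := Ideal.mem_span_singleton'.mp hw
        rw [map_mul, Ideal.Quotient.factor_mk, Ideal.Quotient.eq_zero_iff_mem.mpr hz, mul_zero])
    have hφ : Function.Surjective φ := fun w => by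
      obtain ⟨v, rfl⟩ := Ideal.Quotient.mk_surjective w
      exact ⟨Ideal.Quotient.mk _ (Ideal.Quotient.mk _ v), by simp [φ]⟩
    have h7 := (add_le_add_right (ringKrullDim_le_of_surjective φ hφ) 1)
    have h8 : ringKrullDim (R ⧸ J) + 1 ≤ ringKrullDim (R ⧸ J) :=
      le_trans (by simpa [add_comm] using h7) (h6.trans hdimQ)
    obtain ⟨e', he'⟩ : ∃ e' : ℕ, ringKrullDim (R ⧸ J) = e' := H4Depth.exists_nat_ringKrullDim_eq
    rw [he'] at h8
    have : e' + 1 ≤ e' := by exact_mod_cast h8
    omega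
  rintro z ⟨hzJ, hz2⟩
  obtain ⟨a, rfl⟩ := (Submodule.mem_span_range_iff_exists_fun R).mp (hJeq hzJ)
  exact sum_mem fun i _ => by
    rw [smul_eq_mul, mul_comm J]
    exact Ideal.mul_mem_mul (hind a hz2 i) (hfJ i)

end Groth.Agent.H02CA
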