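import Groth.Agent.H15Site.ModOver
import Groth.Agent.H15Site.ModFlat
import Groth.Agent.H10Coh.ToSheaf
import Groth.Prelude.Def_ModSite
import Mathlib.CategoryTheory.Sites.EpiMono
import Mathlib.Algebra.Homology.ShortComplex.ExactFunctor

/-!
# Restriction of sheaves of modules is exact
-/

set_option autoImplicit false
set_option linter.style.haveILetI false
set_option linter.unusedSectionVars false

universe u

open CategoryTheory CategoryTheory.Limits Opposite

namespace Groth.Agent.H02CA.ModRestrExact

open Groth.Agent.H15Site Groth.Agent.H15Site.ModTensor

attribute [local instance 10000] SiteInst.hasSheafifySite SiteInst.hasWeakSheafifySite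

variable {C : Type u} [SmallCategory C] {J : GrothendieckTopology C} (O : Sheaf J CommRingCat.{u})
  (U : C)

theorem preservesEpimorphisms_restr : (ModSite.restr O U).PreservesEpimorphisms where
  preserves {M N} f _ := by
    have := H10Coh.preservesFiniteColimits_toSheaf (ModSite.ringSh O)
    have h : Sheaf.IsLocallySurjective ((SheafOfModules.toSheaf (ModSite.ringSh O)).map f) :=
      (Sheaf.isLocallySurjective_iff_epi' _ _).2 inferInstance
    have h' : Sheaf.IsLocallySurjective ((SheafOfModules.toSheaf (ModSite.ringSh (O.over U))).map
        ((ModSite.restr O U).map f)) := ⟨fun {Y} s => by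
      rw [GrothendieckTopology.mem_over_iff]
      refine J.superset_covering ?_ (h.imageSieve_mem (U := Y.left) s)
      intro Z g hg
      exact (Sieve.overEquiv_iff _ g).2 hg⟩
    have : Epi ((SheafOfModules.toSheaf (ModSite.ringSh (O.over U))).map
        ((ModSite.restr O U).map f)) := (Sheaf.isLocallySurjective_iff_epi' _ _).1 h'
    exact (SheafOfModules.toSheaf (ModSite.ringSh (O.over U))).epi_of_epi_map this

theorem preservesFiniteLimits_restr : PreservesFiniteLimits (ModSite.restr O U) := by
  have : PreservesLimitsOfSize.{0, 0} (ModSite.restr O U) :=
    (ModSite.extZeroAdj O U).rightAdjoint_preservesLimits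
  exact PreservesLimitsOfSize.preservesFiniteLimits _

theorem preservesFiniteColimits_restr : PreservesFiniteColimits (ModSite.restr O U) := by
  have := preservesFiniteLimits_restr O U
  have := preservesEpimorphisms_restr O U
  have : (ModSite.restr O U).Additive := { map_add := rfl }
  refine (Functor.preservesFiniteColimits_iff_forall_exact_map_and_epi _).2 fun S hS => ?_
  have := hS.mono_f
  have := hS.epi_g
  exact ⟨hS.exact.map_of_mono_of_preservesKernel (ModSite.restr O U) hS.mono_f inferInstance,
    inferInstance⟩

theorem injective_restr (I : ModSite.Mod O) [Injective I] :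
    Injective ((ModSite.restr O U).obj I) :=
  have := ModOver.preservesMonomorphisms_extZero O U
  Injective.injective_of_adjoint (ModSite.extZeroAdj O U) I

end Groth.Agent.H02CA.ModRestrExact
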