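import Mathlib.CategoryTheory.Abelian.RightDerived
import Mathlib.Algebra.Homology.ShortComplex.ExactFunctor
import Mathlib.Algebra.Homology.ShortComplex.PreservesHomology

/-!
# Right derived functors of a composition with an exact functor on the target
-/

set_option autoImplicit false
set_option linter.style.haveILetI false
set_option linter.unusedSectionVars false
set_option backward.isDefEq.respectTransparency false

open CategoryTheory CategoryTheory.Limits

namespace Groth.Agent.H02CA.RDPostcomp

universe v v' v'' u u' u''

variable {A : Type u} [Category.{v} A] [Abelian A] [HasInjectiveResolutions A]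
  {B : Type u'} [Category.{v'} B] [Abelian B] {E : Type u''} [Category.{v''} E] [Abelian E]
  (F : A ⥤ B) [F.Additive] (R : B ⥤ E) [R.Additive]
  [PreservesFiniteLimits R] [PreservesFiniteColimits R]

/-- Homology commutes with an exact functor. -/
noncomputable def homologyIso (K : CochainComplex B ℕ) (n : ℕ) :
    ((R.mapHomologicalComplex (ComplexShape.up ℕ)).obj K).homology n ≅ R.obj (K.homology n) :=
  (K.sc n).mapHomologyIso R

lemma homologyIso_naturality {K L : CochainComplex B ℕ} (φ : K ⟶ L) (n : ℕ) :
    HomologicalComplex.homologyMap ((R.mapHomologicalComplex _).map φ) n ≫ (homologyIso R L n).hom =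
      (homologyIso R K n).hom ≫ R.map (HomologicalComplex.homologyMap φ n) :=
  ShortComplex.mapHomologyIso_hom_naturality
    ((HomologicalComplex.shortComplexFunctor B (ComplexShape.up ℕ) n).map φ) R

/-- The components of `postcompIso`. -/
noncomputable def app (n : ℕ) {X : A} (I : InjectiveResolution X) :
    ((F ⋙ R).rightDerived n).obj X ≅ R.obj ((F.rightDerived n).obj X) :=
  I.isoRightDerivedObj (F ⋙ R) n ≪≫
    homologyIso R ((F.mapHomologicalComplex _).obj I.cocomplex) n ≪≫
    R.mapIso (I.isoRightDerivedObj F n).symm

/-- Right derived functors of a composition with an exact functor on the target. -/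
noncomputable def postcompIso (n : ℕ) : (F ⋙ R).rightDerived n ≅ F.rightDerived n ⋙ R :=
  NatIso.ofComponents (fun X => app F R n (injectiveResolution X)) fun {X Y} f => by
    let φ := InjectiveResolution.desc f (injectiveResolution Y) (injectiveResolution X)
    have hc : (injectiveResolution X).ι.f 0 ≫ φ.f 0 = f ≫ (injectiveResolution Y).ι.f 0 := by
      simp [φ]
    simp only [app, Iso.trans_hom, Functor.mapIso_hom, Iso.symm_hom, Category.assoc, Functor.comp_map]
    rw [InjectiveResolution.isoRightDerivedObj_hom_naturality_assoc f _ _ φ hc (F ⋙ R) n,
      ← R.map_comp, InjectiveResolution.isoRightDerivedObj_inv_naturality f _ _ φ hc F n, R.map_comp]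
    exact congrArg (((injectiveResolution X).isoRightDerivedObj (F ⋙ R) n).hom ≫ ·)
      ((reassoc_of% (homologyIso_naturality R ((F.mapHomologicalComplex _).map φ) n)) _)

end Groth.Agent.H02CA.RDPostcomp
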