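import Groth.Agent.H02CA.ModExcision
import Groth.Agent.H02CA.ModRestrExact
import Groth.Agent.H02CA.RDPostcomp
import Groth.Agent.H15Site.RDSeq

/-!
# Local Ext sheaves and local cohomology sheaves commute with localisation
-/

set_option autoImplicit false
set_option linter.style.haveILetI false
set_option linter.unusedSectionVars false
set_option backward.isDefEq.respectTransparency false

universe u

open CategoryTheory CategoryTheory.Limits Opposite

namespace Groth.Agent.H02CA.ModLocalise

open Groth.Agent.H15Site Groth.Agent.H15Site.ModTensor Groth.Agent.H15Site.OverPre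

attribute [local instance 10000] SiteInst.hasSheafifySite SiteInst.hasWeakSheafifySite

/-- Isomorphic functors have isomorphic right derived functors. -/
noncomputable def rdMapIso {A B : Type*} [Category A] [Abelian A] [HasInjectiveResolutions A]
    [Category B] [Abelian B] {F G : A ⥤ B} [F.Additive] [G.Additive] (e : F ≅ G) (n : ℕ) :
    F.rightDerived n ≅ G.rightDerived n where
  hom := NatTrans.rightDerived e.hom n
  inv := NatTrans.rightDerived e.inv n
  hom_inv_id := by rw [← NatTrans.rightDerived_comp, e.hom_inv_id, NatTrans.rightDerived_id]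
  inv_hom_id := by rw [← NatTrans.rightDerived_comp, e.inv_hom_id, NatTrans.rightDerived_id]

variable {C : Type u} [SmallCategory C] {J : GrothendieckTopology C} (O : Sheaf J CommRingCat.{u})
  (X : C)

/-- Derived functors commuting with restriction, from the underived ones. -/
theorem nonempty_rightDerived_restr_iso [HasInjectiveResolutions (ModSite.Mod O)]
    [HasInjectiveResolutions (ModSite.Mod (O.over X))]
    (F : ModSite.Mod O ⥤ ModSite.Mod O) [F.Additive]
    (F' : ModSite.Mod (O.over X) ⥤ ModSite.Mod (O.over X)) [F'.Additive]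
    (e : F ⋙ ModSite.restr O X ≅ ModSite.restr O X ⋙ F') (q : ℕ) :
    Nonempty (F.rightDerived q ⋙ ModSite.restr O X ≅ ModSite.restr O X ⋙ F'.rightDerived q) := by
  have := ModRestrExact.preservesFiniteLimits_restr O X
  have := ModRestrExact.preservesFiniteColimits_restr O X
  exact ⟨(RDPostcomp.postcompIso F (ModSite.restr O X) q).symm ≪≫ rdMapIso e q ≪≫
    RDSeq.precompIso (ModSite.restr O X) F'
      (fun I _ => ModRestrExact.injective_restr O X I) q⟩

variable [HasBinaryProducts C] (U : C)

theorem isNullOn_extZero {P : ModSite.Mod (O.over X)}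
    (hP : ModSite.IsNullOn (O.over X) (Over.mk (prod.snd : U ⨯ X ⟶ X)) P) :
    ModSite.IsNullOn O U ((ModSite.extZero O X).obj P) := by
  refine (ExtSupp.isNullOn_iff O U _).2 fun W a x => ?_
  let e := (ModOver.jIso O X).app P
  apply ModNull.injective_app e.hom W
  refine Eq.trans ?_ (map_zero _).symm
  let Q := (ModOver.jp O X).obj ((forg (O.over X)).obj P)
  let y : ((forg O).obj ((aSh O).obj Q)).obj (op W) := (((forg O).map e.hom).app (op W)).hom x
  show y = 0
  obtain ⟨-, hs⟩ := (isIso_aSh_map_iff _).1 (isIso_aSh_map_unit (O := O) Q)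
  refine separated_forg _ _ (Presheaf.imageSieve_mem J
    ((PresheafOfModules.toPresheaf _).map ((adj O).unit.app Q)) (U := op W) y) _ _
    fun W' g hg => ?_
  obtain ⟨t, ht⟩ := hg
  refine ht.symm.trans ?_
  have h0 : t = 0 := by
    refine proj_ext (R := O.obj) ((forg (O.over X)).obj P) (X := op W') fun φ => ?_
    exact ((ExtSupp.isNullOn_iff _ _ P).1 hP
      (Over.homMk (prod.lift (g ≫ a) φ) (prod.lift_snd _ _) : Over.mk φ ⟶ Over.mk prod.snd) _).trans
      (map_zero _).symm
  subst h0
  exact (map_zero _).trans (map_zero (((forg O).obj _).presheaf.map g.op).hom).symm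

variable [ModSite.HasPushOver (O.over X) (Over.mk (prod.snd : U ⨯ X ⟶ X))]

theorem isQuot_extZero_map (P : ModSite.Mod (O.over X)) :
    ModNull.IsQuot (U := U) ((ModSite.extZero O X).map
      ((ModSite.quotOnπ (O.over X) (Over.mk (prod.snd : U ⨯ X ⟶ X))).app P)) := by
  have := ModOver.preservesFiniteColimits_extZero O X
  have := ModOver.additive_extZero O X
  obtain ⟨hex, hepi⟩ := ExtSupp.openSeq_exact (Over.mk (prod.snd : U ⨯ X ⟶ X)) P
  have hex' := hex.map_of_epi_of_preservesCokernel (ModSite.extZero O X) hepi inferInstance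
  have := ModNull.epi_quotOnπ (U := (Over.mk (prod.snd : U ⨯ X ⟶ X))) P
  refine ⟨inferInstance, isNullOn_extZero O X U (ExtSupp.isNullOn_quotOn _ _ P), fun Y φ hφ => ?_⟩
  obtain ⟨ψ, hψ⟩ := (ModNull.isQuot_quotOnπ (U := U) _).exists_fac Y φ hφ
  have hz : (ModSite.extZero O X).map
      ((ModSite.extZeroAdj (O.over X) (Over.mk (prod.snd : U ⨯ X ⟶ X))).counit.app P) ≫ φ = 0 := by
    rw [← hψ, ← Category.assoc]
    have h0 : (ModSite.extZero O X).map
        ((ModSite.extZeroAdj (O.over X) (Over.mk (prod.snd : U ⨯ X ⟶ X))).counit.app P) ≫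
        (ModSite.quotOnπ O U).app ((ModSite.extZero O X).obj P) = 0 := by
      apply ((ModSite.extZeroAdj O X).homEquiv _ _).injective
      have hn := ModExcision.isNullOn_restr (V := X)
        (ExtSupp.isNullOn_quotOn O U ((ModSite.extZero O X).obj P))
      exact ((ModNull.gen_openMod (U := Over.mk (prod.snd : U ⨯ X ⟶ X)) P).eq_zero hn _).trans
        ((ModNull.gen_openMod (U := Over.mk (prod.snd : U ⨯ X ⟶ X)) P).eq_zero hn _).symm
    exact (congrArg (· ≫ ψ) h0).trans zero_comp
  have : Epi ((ExtSupp.openSeq (Over.mk (prod.snd : U ⨯ X ⟶ X)) P).map (ModSite.extZero O X)).g :=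
    inferInstanceAs (Epi ((ModSite.extZero O X).map _))
  exact ⟨hex'.desc φ hz, hex'.g_desc φ hz⟩

/-- `Γ_Z` commutes with localisation. -/
theorem nonempty_sectOn_restr_iso :
    Nonempty (ModSite.sectOn O U ⋙ ModSite.restr O X ≅
      ModSite.restr O X ⋙ ModSite.sectOn (O.over X) (Over.mk (prod.snd : U ⨯ X ⟶ X))) := by
  choose e he using fun P => (isQuot_extZero_map O X U P).exists_iso
    (ModNull.isQuot_quotOnπ (U := U) ((ModSite.extZero O X).obj P))
  let i : ModSite.quotOn (O.over X) (Over.mk (prod.snd : U ⨯ X ⟶ X)) ⋙ ModSite.extZero O X ≅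
      ModSite.extZero O X ⋙ ModSite.quotOn O U :=
    NatIso.ofComponents e fun {A B} f => by
      have := (isQuot_extZero_map O X U A).epi
      rw [← cancel_epi ((ModSite.extZero O X).map ((ModSite.quotOnπ (O.over X) _).app A)),
        reassoc_of% he A, Functor.comp_map, Functor.comp_map, ← Category.assoc, ← Functor.map_comp,
        ← (ModSite.quotOnπ (O.over X) _).naturality, Functor.map_comp, Category.assoc, he]
      exact (ModSite.quotOnπ O U).naturality ((ModSite.extZero O X).map f)
  exact ⟨(((ModSite.extZeroAdj O X).comp (ModNull.adjZ O U))).rightAdjointUniq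
    (((ModNull.adjZ (O.over X) (Over.mk (prod.snd : U ⨯ X ⟶ X))).comp
      (ModSite.extZeroAdj O X)).ofNatIsoLeft i)⟩

end Groth.Agent.H02CA.ModLocalise
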