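import Groth.Agent.H8Props.FieldDimHeight
import Groth.Agent.H8Props.MiracleFlat
import Groth.Agent.H05EGA4.Equidim

/-!
Cohen-Macaulay algebras of finite type over a field: all irreducible components through a closed
point have the dimension of the local ring; consequences.
-/

namespace Groth.Agent.H02CA.CMEquidim

universe u

variable (k : Type u) [Field k] {S : Type u} [CommRing S] [Algebra k S] [Algebra.FiniteType k S]

include k

/-- A field quotient has dimension zero, so closed points have height the dimension of a domain. -/
theorem height_eq_dim_quotient (p m : Ideal S) [p.IsPrime] [hm : m.IsMaximal] (hle : p ≤ m) :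
    ((m.map (Ideal.Quotient.mk p)).height : WithBot ℕ∞) = ringKrullDim (S ⧸ p) := by
  haveI : (m.map (Ideal.Quotient.mk p)).IsMaximal := (Ideal.map_eq_top_or_isMaximal_of_surjective _
    Ideal.Quotient.mk_surjective hm).resolve_left fun h => hm.ne_top (by
      rw [← Ideal.comap_map_mk hle, h, Ideal.comap_top])
  have h := Groth.Agent.H8Props.FieldDim.height_add_dim_quotient k (S ⧸ p) (m.map (Ideal.Quotient.mk p))
  letI := Ideal.Quotient.field (m.map (Ideal.Quotient.mk p))
  rwa [ringKrullDim_eq_zero_of_field, add_zero] at h

/-- For a maximal ideal `m` of a Cohen-Macaulay algebra of finite type over a field, every component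
through `m` has dimension the height of `m`. -/
theorem dim_quotient_eq_height [LocCoh.IsCohenMacaulayRing S] (p m : Ideal S)
    (hp : p ∈ minimalPrimes S) [m.IsMaximal] (hle : p ≤ m) :
    ringKrullDim (S ⧸ p) = (m.height : WithBot ℕ∞) := by
  haveI hpp : p.IsPrime := hp.1.1
  let A := Localization.AtPrime m
  haveI : LocCoh.IsCohenMacaulayLocalRing A :=
    LocCoh.IsCohenMacaulayRing.isCohenMacaulayLocalRing_localization m
  have hdisj : Disjoint (m.primeCompl : Set S) (p : Set S) :=
    Set.disjoint_left.mpr fun z hz hzp => hz (hle hzp)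
  let P : Ideal A := p.map (algebraMap S A)
  haveI : P.IsPrime := IsLocalization.isPrime_of_isPrime_disjoint m.primeCompl A p hpp hdisj
  have h := Groth.Agent.H05EGA4.height_add_dim_eq_of_isCohenMacaulay A P
  rw [IsLocalization.height_map_of_disjoint m.primeCompl p hdisj,
    Ideal.height_eq_zero_iff.mpr hp, WithBot.coe_zero, zero_add,
    IsLocalization.AtPrime.ringKrullDim_eq_height m A] at h
  rw [← h, ← height_eq_dim_quotient k p m hle]
  let mb : Ideal (S ⧸ p) := m.map (Ideal.Quotient.mk p)
  haveI : mb.IsPrime := Ideal.map_isPrime_of_surjective Ideal.Quotient.mk_surjective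
    (by rw [Ideal.mk_ker]; exact hle)
  haveI : mb.LiesOver m := ⟨(Ideal.comap_map_mk hle).symm⟩
  haveI : IsLocalization.AtPrime (A ⧸ P) mb := by
    have e := Ideal.algebraMapSubmonoid_primeCompl_of_liesOver_surjective mb m
      (show Function.Surjective (algebraMap S (S ⧸ p)) from Ideal.Quotient.mk_surjective)
    show IsLocalization mb.primeCompl (A ⧸ P)
    rw [← e]
    infer_instance
  exact (IsLocalization.AtPrime.ringKrullDim_eq_height mb (A ⧸ P)).symm

omit k [Field k] [Algebra k S] [Algebra.FiniteType k S] in
theorem dim_localization_quotient_le (m I : Ideal S) [m.IsPrime] :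
    ringKrullDim (Localization.AtPrime m ⧸ I.map (algebraMap S (Localization.AtPrime m))) ≤
      ringKrullDim (S ⧸ I) := by
  let f : S ⧸ I →+* Localization.AtPrime m ⧸ I.map (algebraMap S (Localization.AtPrime m)) :=
    Ideal.quotientMap _ (algebraMap S (Localization.AtPrime m)) Ideal.le_comap_map
  refine Order.krullDim_le_of_strictMono (PrimeSpectrum.comap f) ?_
  intro a b hab
  refine lt_of_le_of_ne (fun x hx => hab.le hx) fun he => hab.ne ?_
  apply PrimeSpectrum.comap_injective_of_surjective _ Ideal.Quotient.mk_surjective
  apply PrimeSpectrum.localization_comap_injective (Localization.AtPrime m) m.primeCompl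
  ext x
  have := SetLike.ext_iff.mp (congrArg PrimeSpectrum.asIdeal he) (Ideal.Quotient.mk I x)
  exact this

end Groth.Agent.H02CA.CMEquidim
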