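import Groth.Agent.H05EGA4.CotIdx
import Mathlib.RingTheory.Kaehler.JacobiZariski
import Mathlib.FieldTheory.FinTrdeg
import Mathlib.RingTheory.AlgebraicIndependent.TranscendenceBasis
import Mathlib.RingTheory.Localization.FractionRing

/-! Cartier's equality for finitely generated field extensions, and the index of a map of two-term
complexes. -/

set_option autoImplicit false
set_option linter.style.haveILetI false

open TensorProduct KaehlerDifferential

universe u v

namespace Groth.Agent.H02CA.CartierField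

section LinAlg

variable {k : Type*} [Field k]

/-- In a composite with finite kernel and cokernel, finiteness of the cokernel of the first map and of
the kernel of the second determine each other. -/
theorem finite_coker_iff_finite_ker {M N P : Type*} [AddCommGroup M] [Module k M] [AddCommGroup N]
    [Module k N] [AddCommGroup P] [Module k P] (h : M →ₗ[k] N) (g : N →ₗ[k] P)
    [FiniteDimensional k (LinearMap.ker (g ∘ₗ h))]
    [FiniteDimensional k (P ⧸ LinearMap.range (g ∘ₗ h))] :
    FiniteDimensional k (N ⧸ LinearMap.range h) ↔ FiniteDimensional k (LinearMap.ker g) := by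
  let f₂ : LinearMap.ker g →ₗ[k] N ⧸ LinearMap.range h :=
    (LinearMap.range h).mkQ ∘ₗ (LinearMap.ker g).subtype
  let f₃ : (N ⧸ LinearMap.range h) →ₗ[k] P ⧸ LinearMap.range (g ∘ₗ h) :=
    (LinearMap.range h).mapQ _ g (by rw [← Submodule.map_le_iff_le_comap, LinearMap.range_comp])
  let f₁ : LinearMap.ker (g ∘ₗ h) →ₗ[k] LinearMap.ker g :=
    h.restrict (fun x hx => LinearMap.mem_ker.2 (LinearMap.mem_ker.1 hx))
  have h12 : LinearMap.ker f₂ ≤ LinearMap.range f₁ := by
    rintro ⟨x, hx⟩ hx2
    obtain ⟨y, hy⟩ : x ∈ LinearMap.range h := (Submodule.Quotient.mk_eq_zero _).1 hx2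
    refine ⟨⟨y, LinearMap.mem_ker.2 ?_⟩, Subtype.ext hy⟩
    rw [LinearMap.comp_apply, hy]
    exact hx
  have h23 : LinearMap.ker f₃ ≤ LinearMap.range f₂ := by
    intro x hx
    obtain ⟨x, rfl⟩ := Submodule.Quotient.mk_surjective _ x
    obtain ⟨y, hy⟩ : g x ∈ LinearMap.range (g ∘ₗ h) := (Submodule.Quotient.mk_eq_zero _).1 hx
    refine ⟨⟨x - h y, LinearMap.mem_ker.2 ?_⟩, (Submodule.Quotient.eq _).2 ⟨-y, ?_⟩⟩
    · rw [map_sub, sub_eq_zero]
      exact hy.symm
    · rw [map_neg]
      show -h y = (x - h y) - x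
      abel
  constructor <;> intro _
  · haveI : FiniteDimensional k (LinearMap.ker f₂) := Submodule.finiteDimensional_of_le h12
    haveI : FiniteDimensional k (LinearMap.ker g ⧸ LinearMap.ker f₂) :=
      f₂.quotKerEquivRange.symm.finiteDimensional
    exact Module.Finite.of_submodule_quotient (LinearMap.ker f₂)
  · haveI : FiniteDimensional k (LinearMap.ker f₃) := Submodule.finiteDimensional_of_le h23
    haveI : FiniteDimensional k ((N ⧸ LinearMap.range h) ⧸ LinearMap.ker f₃) :=
      f₃.quotKerEquivRange.symm.finiteDimensional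
    exact Module.Finite.of_submodule_quotient (LinearMap.ker f₃)

section SES

variable {A' A A'' B' B B'' : Type*} [AddCommGroup A'] [Module k A'] [AddCommGroup A] [Module k A]
  [AddCommGroup A''] [Module k A''] [AddCommGroup B'] [Module k B'] [AddCommGroup B] [Module k B]
  [AddCommGroup B''] [Module k B'']
  (i : A' →ₗ[k] A) (p : A →ₗ[k] A'') (j : B' →ₗ[k] B) (q : B →ₗ[k] B'')
  (f' : A' →ₗ[k] B') (f : A →ₗ[k] B) (f'' : A'' →ₗ[k] B'')

/-- The index is additive on a map of short exact sequences, and finiteness of all six spaces follows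
from that of the middle two and of one of the two spaces joined by the connecting map. -/
theorem index_ses (hi : Function.Injective i) (hip : Function.Exact i p) (hp : Function.Surjective p)
    (hj : Function.Injective j) (hjq : Function.Exact j q) (hq : Function.Surjective q)
    (h1 : ∀ x, f (i x) = j (f' x)) (h2 : ∀ x, f'' (p x) = q (f x))
    (hk : FiniteDimensional k (LinearMap.ker f))
    (hc : FiniteDimensional k (B ⧸ LinearMap.range f))
    (hδ : FiniteDimensional k (B' ⧸ LinearMap.range f') ∨ FiniteDimensional k (LinearMap.ker f'')) :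
    FiniteDimensional k (LinearMap.ker f') ∧ FiniteDimensional k (B' ⧸ LinearMap.range f') ∧
    FiniteDimensional k (LinearMap.ker f'') ∧ FiniteDimensional k (B'' ⧸ LinearMap.range f'') ∧
    f.index = f'.index + f''.index := by
  let Q : Submodule k (B × A'') :=
    LinearMap.ker (q ∘ₗ LinearMap.fst k B A'' - f'' ∘ₗ LinearMap.snd k B A'')
  have hQ : ∀ y : B × A'', y ∈ Q ↔ q y.1 = f'' y.2 := fun y => by
    simp [Q, sub_eq_zero]
  let h : A →ₗ[k] Q := (f.prod p).codRestrict Q (fun a => (hQ _).2 (h2 a).symm)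
  let g : Q →ₗ[k] B := LinearMap.fst k B A'' ∘ₗ Q.subtype
  have hgh : g ∘ₗ h = f := rfl
  -- the kernel of `h`
  have hkerh : LinearMap.ker h = (LinearMap.ker f').map i := by
    refine le_antisymm (fun a ha => ?_) (Submodule.map_le_iff_le_comap.2 fun x hx => ?_)
    · have ha' : f a = 0 ∧ p a = 0 := Prod.mk.inj (congrArg Subtype.val ha)
      obtain ⟨x, rfl⟩ := (hip a).1 ha'.2
      exact ⟨x, LinearMap.mem_ker.2 (hj (by rw [map_zero, ← h1]; exact ha'.1)), rfl⟩
    · refine Subtype.ext (Prod.ext ?_ (hip.apply_apply_eq_zero x))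
      show f (i x) = 0
      rw [h1, LinearMap.mem_ker.1 hx, map_zero]
  let eh : LinearMap.ker f' ≃ₗ[k] LinearMap.ker h :=
    ((LinearMap.ker f').equivMapOfInjective i hi).trans (LinearEquiv.ofEq _ _ hkerh.symm)
  -- the cokernel of `h`
  let ψ : B' →ₗ[k] Q ⧸ LinearMap.range h :=
    (LinearMap.range h).mkQ ∘ₗ (LinearMap.prod j 0).codRestrict Q (fun b => (hQ _).2 (by
      show q (j b) = f'' 0
      rw [map_zero, hjq.apply_apply_eq_zero]))
  have hψs : Function.Surjective ψ := by
    intro z
    obtain ⟨⟨⟨b, a''⟩, hy⟩, rfl⟩ := Submodule.Quotient.mk_surjective _ z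
    obtain ⟨a, rfl⟩ := hp a''
    have hy' : q b = f'' (p a) := (hQ _).1 hy
    obtain ⟨b', hb'⟩ := (hjq (b - f a)).1 (by rw [map_sub, hy', h2, sub_self])
    refine ⟨b', (Submodule.Quotient.eq _).2 ⟨-a, Subtype.ext (Prod.ext ?_ ?_)⟩⟩
    · show f (-a) = j b' - b
      rw [hb', map_neg]; abel
    · show p (-a) = 0 - p a
      rw [map_neg, zero_sub]
  have hψk : LinearMap.ker ψ = LinearMap.range f' := by
    refine le_antisymm (fun b hb => ?_) ?_
    · obtain ⟨a, ha⟩ := (Submodule.Quotient.mk_eq_zero _).1 (LinearMap.mem_ker.1 hb)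
      have ha' : f a = j b ∧ p a = 0 := Prod.mk.inj (congrArg Subtype.val ha)
      obtain ⟨x, rfl⟩ := (hip a).1 ha'.2
      exact ⟨x, hj (by rw [← h1]; exact ha'.1)⟩
    · rintro _ ⟨x, rfl⟩
      refine LinearMap.mem_ker.2 ((Submodule.Quotient.mk_eq_zero _).2 ⟨i x, Subtype.ext (Prod.ext ?_ ?_)⟩)
      · exact h1 x
      · exact hip.apply_apply_eq_zero x
  let ec : (B' ⧸ LinearMap.range f') ≃ₗ[k] Q ⧸ LinearMap.range h :=
    (Submodule.quotEquivOfEq _ _ hψk.symm).trans (ψ.quotKerEquivOfSurjective hψs)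
  -- the kernel of `g`
  let eg : LinearMap.ker f'' ≃ₗ[k] LinearMap.ker g :=
    { toFun := fun x => ⟨⟨(0, x.1), (hQ _).2 (by rw [map_zero]; exact x.2.symm)⟩, rfl⟩
      map_add' := fun x y => Subtype.ext (Subtype.ext (Prod.ext (add_zero (0 : B)).symm rfl))
      map_smul' := fun c x => Subtype.ext (Subtype.ext (Prod.ext (smul_zero c).symm rfl))
      invFun := fun y => ⟨y.1.1.2, LinearMap.mem_ker.2 (by
        rw [← (hQ _).1 y.1.2, show y.1.1.1 = 0 from y.2, map_zero])⟩
      left_inv := fun x => rfl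
      right_inv := fun y => Subtype.ext (Subtype.ext (Prod.ext y.2.symm rfl)) }
  -- the cokernel of `g`
  have hrg : LinearMap.range g = (LinearMap.range f'').comap q := by
    refine le_antisymm ?_ (fun b hb => ?_)
    · rintro _ ⟨⟨y, hy⟩, rfl⟩
      exact ⟨y.2, ((hQ _).1 hy).symm⟩
    · obtain ⟨a'', ha⟩ := hb
      exact ⟨⟨(b, a''), (hQ _).2 ha.symm⟩, rfl⟩
  let π : B →ₗ[k] B'' ⧸ LinearMap.range f'' := (LinearMap.range f'').mkQ ∘ₗ q
  have hπk : LinearMap.ker π = LinearMap.range g := by
    rw [LinearMap.ker_comp, Submodule.ker_mkQ, hrg]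
  let ecg : (B ⧸ LinearMap.range g) ≃ₗ[k] B'' ⧸ LinearMap.range f'' :=
    (Submodule.quotEquivOfEq _ _ hπk.symm).trans (π.quotKerEquivOfSurjective
      ((Submodule.mkQ_surjective _).comp hq))
  haveI : FiniteDimensional k (LinearMap.ker (g ∘ₗ h)) := hk
  haveI : FiniteDimensional k (B ⧸ LinearMap.range (g ∘ₗ h)) := hc
  have hgk : FiniteDimensional k (LinearMap.ker g) := by
    rcases hδ with hδ | hδ
    · haveI := hδ
      exact (finite_coker_iff_finite_ker h g).1 ec.finiteDimensional
    · haveI := hδ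
      exact eg.finiteDimensional
  haveI := hgk
  haveI : FiniteDimensional k (Q ⧸ LinearMap.range h) := (finite_coker_iff_finite_ker h g).2 hgk
  haveI : FiniteDimensional k (LinearMap.ker h) :=
    Submodule.finiteDimensional_of_le (S₂ := LinearMap.ker f) (LinearMap.ker_le_ker_comp h g)
  haveI : FiniteDimensional k (B ⧸ LinearMap.range g) :=
    Module.Finite.of_surjective (Submodule.factor (LinearMap.range_comp_le_range h g))
      (Submodule.factor_surjective _)
  refine ⟨Module.Finite.equiv eh.symm, Module.Finite.equiv ec.symm, Module.Finite.equiv eg.symm,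
    Module.Finite.equiv ecg, ?_⟩
  rw [← hgh, LinearMap.index_comp]
  simp only [LinearMap.index_eq_finrank_sub]
  rw [eh.finrank_eq, ec.finrank_eq, eg.finrank_eq, ← ecg.finrank_eq]
  ring

end SES

/-- For a map of four-term exact sequences `0 → H → A₁ → A₀ → C → 0` whose middle two maps have finite
index, the outer two have finite index and the differences of the indices agree. -/
theorem index_complex {H A₁ A₀ C H' B₁ B₀ C' : Type*} [AddCommGroup H] [Module k H]
    [AddCommGroup A₁] [Module k A₁] [AddCommGroup A₀] [Module k A₀] [AddCommGroup C] [Module k C]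
    [AddCommGroup H'] [Module k H'] [AddCommGroup B₁] [Module k B₁] [AddCommGroup B₀] [Module k B₀]
    [AddCommGroup C'] [Module k C']
    (ι : H →ₗ[k] A₁) (d : A₁ →ₗ[k] A₀) (π : A₀ →ₗ[k] C)
    (ι' : H' →ₗ[k] B₁) (d' : B₁ →ₗ[k] B₀) (π' : B₀ →ₗ[k] C')
    (β : H →ₗ[k] H') (u : A₁ →ₗ[k] B₁) (v : A₀ →ₗ[k] B₀) (α : C →ₗ[k] C')
    (hι : Function.Injective ι) (hιd : Function.Exact ι d) (hdπ : Function.Exact d π)
    (hπ : Function.Surjective π)
    (hι' : Function.Injective ι') (hιd' : Function.Exact ι' d') (hdπ' : Function.Exact d' π')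
    (hπ' : Function.Surjective π')
    (c1 : ∀ x, u (ι x) = ι' (β x)) (c2 : ∀ x, v (d x) = d' (u x)) (c3 : ∀ x, α (π x) = π' (v x))
    (huk : FiniteDimensional k (LinearMap.ker u))
    (huc : FiniteDimensional k (B₁ ⧸ LinearMap.range u))
    (hvk : FiniteDimensional k (LinearMap.ker v))
    (hvc : FiniteDimensional k (B₀ ⧸ LinearMap.range v)) :
    FiniteDimensional k (LinearMap.ker β) ∧ FiniteDimensional k (H' ⧸ LinearMap.range β) ∧
    FiniteDimensional k (LinearMap.ker α) ∧ FiniteDimensional k (C' ⧸ LinearMap.range α) ∧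
    α.index - β.index = v.index - u.index := by
  haveI := huk
  haveI := huc
  haveI := hvk
  haveI := hvc
  let w : LinearMap.range d →ₗ[k] LinearMap.range d' :=
    (v ∘ₗ (LinearMap.range d).subtype).codRestrict _ (by
      rintro ⟨_, x, rfl⟩
      exact ⟨u x, (c2 x).symm⟩)
  have hwu : ∀ x, w (d.rangeRestrict x) = d'.rangeRestrict (u x) := fun x => Subtype.ext (c2 x)
  haveI hwk : FiniteDimensional k (LinearMap.ker w) := by
    let m : LinearMap.ker w →ₗ[k] LinearMap.ker v :=
      { toFun := fun x => ⟨x.1.1, congrArg Subtype.val x.2⟩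
        map_add' := fun _ _ => rfl
        map_smul' := fun _ _ => rfl }
    exact FiniteDimensional.of_injective m
      (fun x y hxy => Subtype.ext (Subtype.ext (congrArg (fun z : LinearMap.ker v => (z : A₀)) hxy :)))
  have r1 := index_ses ι d.rangeRestrict ι' d'.rangeRestrict β u w hι
    (fun x => by rw [← hιd x]; exact ⟨fun e => congrArg Subtype.val e, fun e => Subtype.ext e⟩)
    d.surjective_rangeRestrict hι'
    (fun x => by rw [← hιd' x]; exact ⟨fun e => congrArg Subtype.val e, fun e => Subtype.ext e⟩)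
    d'.surjective_rangeRestrict c1 hwu huk huc (Or.inr hwk)
  have r2 := index_ses (LinearMap.range d).subtype π (LinearMap.range d').subtype π' w v α
    Subtype.val_injective
    (fun x => (hdπ x).trans ⟨fun ⟨y, hy⟩ => ⟨⟨x, y, hy⟩, rfl⟩, fun ⟨y, hy⟩ => hy ▸ y.2⟩) hπ
    Subtype.val_injective
    (fun x => (hdπ' x).trans ⟨fun ⟨y, hy⟩ => ⟨⟨x, y, hy⟩, rfl⟩, fun ⟨y, hy⟩ => hy ▸ y.2⟩) hπ'
    (fun _ => rfl) c3 hvk hvc (Or.inl r1.2.2.2.1)
  refine ⟨r1.1, r1.2.1, r2.2.2.1, r2.2.2.2.1, ?_⟩
  rw [r1.2.2.2.2, r2.2.2.2.2]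
  ring

/-- The index is unchanged by extension of the field of scalars. -/
theorem index_baseChange {V W : Type*} [AddCommGroup V] [Module k V] [AddCommGroup W] [Module k W]
    (K : Type*) [Field K] [Algebra k K] (f : V →ₗ[k] W)
    [FiniteDimensional k (LinearMap.ker f)] [FiniteDimensional k (W ⧸ LinearMap.range f)] :
    FiniteDimensional K (LinearMap.ker (f.baseChange K)) ∧
    FiniteDimensional K ((K ⊗[k] W) ⧸ LinearMap.range (f.baseChange K)) ∧
    (f.baseChange K).index = f.index := by
  have hinj : Function.Injective ((LinearMap.ker f).subtype.baseChange K) :=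
    Module.Flat.lTensor_preserves_injective_linearMap _ (LinearMap.ker f).injective_subtype
  have hex1 : Function.Exact ((LinearMap.ker f).subtype.baseChange K) (f.baseChange K) :=
    Module.Flat.lTensor_exact K f.exact_subtype_ker_map
  let ek : K ⊗[k] LinearMap.ker f ≃ₗ[K] LinearMap.ker (f.baseChange K) :=
    (LinearEquiv.ofInjective _ hinj).trans (LinearEquiv.ofEq _ _ (LinearMap.exact_iff.1 hex1).symm)
  have hs : Function.Surjective ((LinearMap.range f).mkQ.baseChange K) :=
    LinearMap.lTensor_surjective K (Submodule.mkQ_surjective _)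
  have hex2 : Function.Exact (f.baseChange K) ((LinearMap.range f).mkQ.baseChange K) :=
    lTensor_exact K (LinearMap.exact_map_mkQ_range f) (Submodule.mkQ_surjective _)
  let ec : ((K ⊗[k] W) ⧸ LinearMap.range (f.baseChange K)) ≃ₗ[K] K ⊗[k] (W ⧸ LinearMap.range f) :=
    (Submodule.quotEquivOfEq _ _ (LinearMap.exact_iff.1 hex2).symm).trans
      (LinearMap.quotKerEquivOfSurjective _ hs)
  refine ⟨ek.finiteDimensional, ec.symm.finiteDimensional, ?_⟩
  simp only [LinearMap.index_eq_finrank_sub]
  rw [← ek.finrank_eq, ec.finrank_eq, Module.finrank_baseChange, Module.finrank_baseChange]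

end LinAlg

section Field

variable (F : Type v) [Field F] [PerfectField F]

/-- Cartier's equality: for a finitely generated field extension `L/M` the map
`L ⊗ Ω_M → Ω_L` has index `-trdeg`. -/
theorem index_fg_field (M L : Type u) [Field M] [Field L] [Algebra F M] [Algebra F L] [Algebra M L]
    [IsScalarTower F M L] [Algebra.EssFiniteType M L] :
    FiniteDimensional L (LinearMap.ker (mapBaseChange F M L)) ∧
    FiniteDimensional L (Ω[L⁄F] ⧸ LinearMap.range (mapBaseChange F M L)) ∧
    (mapBaseChange F M L).index = -(Cardinal.toNat (Algebra.trdeg M L) : ℤ) := by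
  classical
  obtain ⟨t, ht⟩ := exists_isTranscendenceBasis M L
  haveI : Finite t := finite_of_isTranscendenceBasis ht
  haveI : Fintype t := Fintype.ofFinite t
  let r := Fintype.card t
  let x : Fin r → L := fun i => ((Fintype.equivFin t).symm i).1
  have hx : IsTranscendenceBasis M x := ht.comp_equiv (Fintype.equivFin t).symm
  have hr : Cardinal.toNat (Algebra.trdeg M L) = r := by
    rw [← ht.cardinalMk_eq_trdeg, Cardinal.mk_toNat_eq_card]
  let P := MvPolynomial (Fin r) M
  letI : Algebra P L := (MvPolynomial.aeval x : P →ₐ[M] L).toRingHom.toAlgebra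
  haveI : IsScalarTower M P L := IsScalarTower.of_algebraMap_eq fun c =>
    ((MvPolynomial.aeval x : P →ₐ[M] L).commutes c).symm
  haveI : IsScalarTower F P L := IsScalarTower.of_algebraMap_eq fun c => by
    rw [IsScalarTower.algebraMap_apply F M L, IsScalarTower.algebraMap_apply F M P,
      ← IsScalarTower.algebraMap_apply M P L]
  haveI : FaithfulSMul P L := (faithfulSMul_iff_algebraMap_injective P L).2 hx.1
  haveI : Algebra.IsAlgebraic P L := by
    haveI := hx.isAlgebraic
    exact Algebra.IsAlgebraic.ringHom_of_comp_eq (R := Algebra.adjoin M (Set.range x))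
      (A := L) (S := P) (B := L) (hx.1.aevalEquiv.symm.toRingHom) (RingHom.id L)
      hx.1.aevalEquiv.symm.injective Function.surjective_id
      (RingHom.ext fun c => by
        obtain ⟨c, rfl⟩ := hx.1.aevalEquiv.surjective c
        simp; rfl)
  let E := FractionRing P
  letI : Algebra E L := FractionRing.liftAlgebra P L
  haveI : IsScalarTower P E L := FractionRing.isScalarTower_liftAlgebra P L
  haveI : IsScalarTower M E L := IsScalarTower.to₁₃₄ M P E L
  haveI : IsScalarTower F E L := IsScalarTower.to₁₃₄ F P E L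
  haveI : Algebra.IsAlgebraic E L :=
    Algebra.IsAlgebraic.extendScalars (R := P) (IsFractionRing.injective P E)
  haveI : Algebra.EssFiniteType E L := Algebra.EssFiniteType.of_comp M E L
  haveI : Module.Finite E L := Algebra.finite_of_essFiniteType_of_isAlgebraic
  obtain ⟨n, φ, hφ⟩ := Algebra.FiniteType.iff_quotient_mvPolynomial''.1
    (inferInstance : Algebra.FiniteType E L)
  rw [MvPolynomial.aeval_unique φ] at hφ
  obtain ⟨hkE, hcE, hiE⟩ := H05EGA4.CotIdx.index_finite_field (F := F) E L n _ hφ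
  haveI := hkE
  haveI := hcE
  obtain ⟨hinj, hc0, hi0⟩ := H05EGA4.CotIdx.toPoly_props (F := F) M L r
  haveI := hc0
  haveI : FiniteDimensional L (LinearMap.ker (H05EGA4.CotIdx.toPoly (F := F) M L r)) := by
    rw [LinearMap.ker_eq_bot.2 hinj]
    infer_instance
  haveI := Algebra.FormallyEtale.of_isLocalization (Rₘ := E) (nonZeroDivisors P)
  let e : L ⊗[P] Ω[P⁄F] ≃ₗ[L] L ⊗[E] Ω[E⁄F] :=
    (AlgebraTensorModule.cancelBaseChange P E L L Ω[P⁄F]).symm ≪≫ₗ
      (LinearEquiv.refl E (E ⊗[P] Ω[P⁄F]) |>.trans (tensorKaehlerEquivOfFormallyEtale F P E)).baseChange E L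
  have he : mapBaseChange F E L ∘ₗ e.toLinearMap = mapBaseChange F P L := by
    refine TensorProduct.AlgebraTensorModule.ext fun l ω => ?_
    have this : e (l ⊗ₜ ω) = l ⊗ₜ KaehlerDifferential.map F F P E ω := by
      simp [e]
    rw [LinearMap.comp_apply, LinearEquiv.coe_coe, this, mapBaseChange_tmul, mapBaseChange_tmul,
      H05EGA4.CotIdx.map_map]
  haveI : FiniteDimensional L (LinearMap.ker (mapBaseChange F P L)) := by
    rw [← he, LinearMap.ker_comp]
    exact Module.Finite.equiv (e.ofSubmodule' (LinearMap.ker (mapBaseChange F E L))).symm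
  haveI : FiniteDimensional L (Ω[L⁄F] ⧸ LinearMap.range (mapBaseChange F P L)) := by
    rw [← he, LinearEquiv.range_comp]
    exact hcE
  have hiP : (mapBaseChange F P L).index = 0 := by
    haveI : FiniteDimensional L (LinearMap.ker e.toLinearMap) := by
      rw [LinearEquiv.ker]; infer_instance
    haveI : FiniteDimensional L ((L ⊗[E] Ω[E⁄F]) ⧸ LinearMap.range e.toLinearMap) := by
      rw [LinearEquiv.range]; infer_instance
    rw [← he, LinearMap.index_comp, hiE, LinearEquiv.index_eq_zero, add_zero]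
  have hcomp := H05EGA4.CotIdx.mapBaseChange_comp_toPoly (F := F) M L r
  refine ⟨?_, ?_, ?_⟩
  · rw [← hcomp, LinearMap.ker_comp]
    infer_instance
  · rw [← hcomp, LinearMap.range_comp]
    infer_instance
  · rw [← hcomp, LinearMap.index_comp, hiP, hi0, hr, zero_add]

end Field

end Groth.Agent.H02CA.CartierField
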