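import Groth.Agent.H02CA.TotCechQ
import Groth.Agent.H15Site.CechTop
import Groth.Agent.H10Coh.Local
import Groth.Prelude.Def_ega3
import Groth.Prelude.Def_CohB1
import Mathlib.AlgebraicGeometry.Morphisms.Separated

/-!
# The augmented Čech complex of basic opens as a complex of `Γ(X, ⊤)`-modules

`cCx g F` has in degree `q` the families of sections over `X_{g a_1} ∩ … ∩ X_{g a_q}` (so `Γ(X, F)` in
degree `0`).  For a quasi-compact separated scheme and quasi-coherent `F` its cohomology is the
extended Čech cohomology of `Γ(X, F)`.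
-/

set_option autoImplicit false
set_option linter.unusedSectionVars false

namespace Groth.Agent.H02CA.CM

universe u

open CategoryTheory CategoryTheory.Limits AlgebraicGeometry Opposite TopologicalSpace

variable {X : Scheme.{u}} {ι : Type u} (g : ι → Γ(X, ⊤)) (F : X.Modules)

/-- Restriction of functions from `X`. -/
noncomputable abbrev ρ (W : X.Opens) : Γ(X, ⊤) →+* Γ(X, W) :=
  (X.presheaf.map (homOfLE (le_top : W ≤ ⊤)).op).hom

/-- Sections over `W` as a `Γ(X, ⊤)`-module. -/
noncomputable def secM (W : X.Opens) : ModuleCat.{u} Γ(X, ⊤) :=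
  @ModuleCat.of Γ(X, ⊤) _ (Γ(F, W)) _ (Module.compHom _ (ρ W))

/-- The underlying section. -/
abbrev sec {W : X.Opens} (x : secM F W) : Γ(F, W) := x

/-- A section as an element of the module. -/
abbrev mkS {W : X.Opens} (x : Γ(F, W)) : secM F W := x

theorem smul_secM (W : X.Opens) (a : Γ(X, ⊤)) (x : secM F W) :
    sec F (a • x) = ρ W a • sec F x := rfl

/-- Restriction as a linear map. -/
noncomputable def resL {V W : X.Opens} (h : W ≤ V) : secM F V →ₗ[Γ(X, ⊤)] secM F W where
  toFun x := F.presheaf.map (homOfLE h).op (sec F x)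
  map_add' x y := map_add (F.presheaf.map (homOfLE h).op).hom x y
  map_smul' a x := by
    change F.presheaf.map (homOfLE h).op (ρ V a • sec F x) =
      ρ W a • F.presheaf.map (homOfLE h).op (sec F x)
    rw [Scheme.Modules.map_smul, H10Coh.rres_rres]

theorem resL_resL {V W Z : X.Opens} (h : W ≤ V) (h' : Z ≤ W) (x : secM F V) :
    resL F h' (resL F h x) = resL F (h'.trans h) x :=
  H10Coh.mres_mres F h h' x

theorem resL_self {V : X.Opens} (h : V ≤ V) (x : secM F V) : resL F h x = x :=
  H15Site.CechTop.res_self F.presheaf h x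

theorem resL_congr {κ : Type*} (W : κ → X.Opens) (x : ∀ a, secM F (W a)) {a a' : κ} (e : a = a')
    {Z : X.Opens} (h : Z ≤ W a) (h' : Z ≤ W a') : resL F h (x a) = resL F h' (x a') := by
  subst e; rfl

/-- `X_{g a_1} ∩ … ∩ X_{g a_q}`. -/
noncomputable abbrev capq {q : ℕ} (a : Fin q → ι) : X.Opens := ⨅ k, X.basicOpen (g (a k))

theorem capq_comp_le {q r : ℕ} (c : Fin q → ι) (f : Fin r → Fin q) :
    capq g c ≤ capq g (c ∘ f) :=
  le_iInf fun k => iInf_le (fun l => X.basicOpen (g (c l))) (f k)

/-- The cochains in degree `q`. -/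
noncomputable abbrev Cq (q : ℕ) : ModuleCat.{u} Γ(X, ⊤) :=
  ModuleCat.of Γ(X, ⊤) (∀ a : Fin q → ι, secM F (capq g a))

/-- The differential. -/
noncomputable def dq (q : ℕ) : Cq g F q →ₗ[Γ(X, ⊤)] Cq g F (q + 1) :=
  LinearMap.pi fun c => ∑ j : Fin (q + 1),
    ((-1 : ℤ) ^ (j : ℕ)) • (resL F (capq_comp_le g c j.succAbove) ∘ₗ LinearMap.proj (c ∘ j.succAbove))

theorem dq_apply (q : ℕ) (x : Cq g F q) (c : Fin (q + 1) → ι) :
    dq g F q x c = ∑ j : Fin (q + 1),
      ((-1 : ℤ) ^ (j : ℕ)) • resL F (capq_comp_le g c j.succAbove) (x (c ∘ j.succAbove)) := by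
  simp [dq, LinearMap.sum_apply]

/-- The opens. -/
noncomputable abbrev U : ι → X.Opens := fun i => X.basicOpen (g i)

/-- Comparison with the Čech complex of the presheaf. -/
noncomputable def eC (q : ℕ) : H15Site.CechTop.C (U g) F.presheaf q ≃+ Cq g F (q + 1) :=
  AddEquiv.ofBijective
    (AddMonoidHom.mk' (fun x a => ((H15Site.CechTop.proj (U g) F.presheaf a).hom x : secM F (capq g a)))
      (fun x y => funext fun a => map_add (H15Site.CechTop.proj (U g) F.presheaf a).hom x y))
    ⟨fun x y h => H15Site.CechTop.hom_ext (U g) F.presheaf fun a => congrFun h a, fun v => by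
      obtain ⟨x, hx⟩ := H15Site.CechTop.exists_proj_eq (U g) F.presheaf (fun a => v a)
      exact ⟨x, funext hx⟩⟩

theorem eC_apply {q : ℕ} (x : H15Site.CechTop.C (U g) F.presheaf q) (a : Fin (q + 1) → ι) :
    eC g F q x a = (H15Site.CechTop.proj (U g) F.presheaf a).hom x := rfl

theorem eC_d {q : ℕ} (x : H15Site.CechTop.C (U g) F.presheaf q) :
    eC g F (q + 1) ((H15Site.CechTop.d (U g) F.presheaf q).hom x) = dq g F (q + 1) (eC g F q x) := by
  funext c
  rw [dq_apply, eC_apply]
  exact H15Site.CechTop.proj_d (U g) F.presheaf x c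

theorem dq_dq : ∀ (q : ℕ) (x : Cq g F q), dq g F (q + 1) (dq g F q x) = 0
  | 0, x => by
    funext c
    rw [dq_apply, Fin.sum_univ_two, dq_apply, dq_apply, Fin.sum_univ_one, Fin.sum_univ_one]
    simp only [Fin.val_zero, pow_zero, one_smul, Fin.val_one, pow_one, neg_smul, resL_resL]
    rw [resL_congr F (fun a : Fin 0 → ι => capq g a) x
      (Subsingleton.elim ((c ∘ (0 : Fin 2).succAbove) ∘ (0 : Fin 1).succAbove)
        ((c ∘ (1 : Fin 2).succAbove) ∘ (0 : Fin 1).succAbove)) (capq_comp_le g c _)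
        (capq_comp_le g c _)]
    exact add_neg_cancel _
  | q + 1, x => by
    obtain ⟨y, rfl⟩ := (eC g F q).surjective x
    rw [← eC_d, ← eC_d, H15Site.CechTop.d_d, map_zero]

/-- Degrees of the augmented complex. -/
noncomputable def cX : ℤ → ModuleCat.{u} Γ(X, ⊤)
  | .ofNat q => Cq g F q
  | .negSucc _ => ModuleCat.of Γ(X, ⊤) PUnit.{u + 1}

/-- Differential of the augmented complex. -/
noncomputable def cd : ∀ n : ℤ, cX g F n ⟶ cX g F (n + 1)
  | .ofNat q => ModuleCat.ofHom (dq g F q)
  | .negSucc _ => 0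

/-- The augmented Čech complex. -/
noncomputable def cCx : CochainComplex (ModuleCat.{u} Γ(X, ⊤)) ℤ :=
  CochainComplex.of (cX g F) (cd g F) fun n => by
    cases n with
    | ofNat q => ext x; exact dq_dq g F q x
    | negSucc k => exact zero_comp

theorem cCx_d (q : ℕ) : (cCx g F).d (q : ℤ) ((q + 1 : ℕ) : ℤ) = ModuleCat.ofHom (dq g F q) :=
  CochainComplex.of_d (cX g F) (cd g F) (q : ℤ)

theorem subsingleton_neg (p : ℤ) (hp : p < 0) : Subsingleton ((cCx g F).X p) := by
  cases p with
  | ofNat q => exact absurd (Int.natCast_nonneg q) (not_le.2 hp)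
  | negSucc k => exact inferInstanceAs (Subsingleton PUnit)

/-- Degree zero is sections over `⊤`. -/
noncomputable def eZero : Cq g F 0 ≃ₗ[Γ(X, ⊤)] secM F ⊤ :=
  LinearEquiv.ofLinearMap
    (resL F (show (⊤ : X.Opens) ≤ capq g (default : Fin 0 → ι) from le_iInf fun k => k.elim0) ∘ₗ
      LinearMap.proj (φ := fun a : Fin 0 → ι => secM F (capq g a)) default)
    (LinearMap.pi fun a : Fin 0 → ι => resL F (le_top : capq g a ≤ ⊤))
    (LinearMap.ext fun m => (resL_resL F _ _ m).trans (resL_self F le_rfl m))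
    (LinearMap.ext fun x => funext fun a => by
      obtain rfl : a = default := Subsingleton.elim _ _
      exact (resL_resL F _ _ _).trans (resL_self F le_rfl _))

theorem ρ_top (a : Γ(X, ⊤)) : ρ (⊤ : X.Opens) a = a := by
  change (X.presheaf.map (homOfLE (le_top : (⊤ : X.Opens) ≤ ⊤)).op).hom a = a
  rw [show (homOfLE (le_top : (⊤ : X.Opens) ≤ ⊤)).op = 𝟙 (op ⊤) from Subsingleton.elim _ _,
    X.presheaf.map_id]
  rfl

/-- Sections over `⊤` are the global module. -/
noncomputable def secTop : secM F ⊤ ≃ₗ[Γ(X, ⊤)] ModuleCat.of Γ(X, ⊤) (F.val.obj (op ⊤)) :=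
  { toFun := fun x => sec F x
    map_add' := fun _ _ => rfl
    map_smul' := fun a x => by
      rw [RingHom.id_apply, smul_secM, ρ_top]
      rfl
    invFun := fun m => mkS F (show Γ(F, ⊤) from m)
    left_inv := fun _ => rfl
    right_inv := fun _ => rfl }

/-- Degree zero is `Γ(X, F)`. -/
noncomputable def e0 : Cq g F 0 ≅ ModuleCat.of Γ(X, ⊤) (F.val.obj (op ⊤)) :=
  ((eZero g F).trans (secTop F)).toModuleIso

variable [Finite ι]

theorem bijective_smul_secM {W : X.Opens} {a : Γ(X, ⊤)} (h : W ≤ X.basicOpen a) :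
    Function.Bijective fun x : secM F W => a • x := by
  have hu : IsUnit (ρ W a) := by
    have h1 := (X.toRingedSpace.isUnit_res_basicOpen a).map (X.presheaf.map (homOfLE h).op).hom
    convert h1 using 1
    exact (H10Coh.rres_rres (X.basicOpen_le a) h a).symm
  obtain ⟨v, hv⟩ := hu
  refine Function.bijective_iff_has_inverse.2 ⟨fun x => mkS F ((v⁻¹).1 • sec F x),
    fun x => ?_, fun x => ?_⟩
  · change (v⁻¹).1 • (ρ W a • sec F x) = sec F x
    rw [smul_smul, ← hv, v.inv_mul, one_smul]
  · change ρ W a • ((v⁻¹).1 • sec F x) = sec F x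
    rw [smul_smul, ← hv, v.mul_inv, one_smul]

theorem totExact_Cq {fs : List Γ(X, ⊤)} (hg : ∀ i, g i ∈ fs) (q : ℕ) :
    TC.TotExact fs (Cq g F (q + 1)) := by
  classical
  have := Fintype.ofFinite ι
  refine TC.totExact_of_sum (fun a : Fin (q + 1) → ι => secM F (capq g a))
    (fun a => (ModuleCat.ofHom (Y := secM F (capq g a))
      (LinearMap.proj (R := Γ(X, ⊤)) (φ := fun b : Fin (q + 1) → ι => secM F (capq g b)) a) :))
    (fun a => (ModuleCat.ofHom (X := secM F (capq g a))
      (LinearMap.single Γ(X, ⊤) (fun b : Fin (q + 1) → ι => secM F (capq g b)) a) :)) ?_ fun a =>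
      TC.totExact_of_bijective (hg (a 0)) (bijective_smul_secM F (iInf_le _ 0))
  refine ModuleCat.hom_ext (LinearMap.ext fun x => ?_)
  rw [ModuleCat.hom_sum, LinearMap.sum_apply, ModuleCat.hom_id, LinearMap.id_apply]
  exact Finset.univ_sum_single x

variable [CompactSpace X] [X.IsSeparated] [F.IsQuasicoherent]

theorem isCompact_capq : ∀ {q : ℕ} (a : Fin q → ι), IsCompact (capq g a : Set X)
  | 0, a => by
    rw [show capq g a = ⊤ from iInf_of_empty _]
    exact isCompact_univ
  | q + 1, a => by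
    have h : capq g a = X.basicOpen (g (a 0)) ⊓ capq g (a ∘ Fin.succ) :=
      le_antisymm (le_inf (iInf_le _ 0) (capq_comp_le g a _)) (le_iInf fun k => by
        cases k using Fin.cases with
        | zero => exact inf_le_left
        | succ k => exact inf_le_right.trans (iInf_le _ k))
    rw [h, Opens.coe_inf]
    exact QuasiSeparatedSpace.inter_isCompact _ _ (X.basicOpen (g (a 0))).2
      (AlgebraicGeometry.isCompact_basicOpen X (by simpa using isCompact_univ) _)
      (capq g (a ∘ Fin.succ)).2 (isCompact_capq (a ∘ Fin.succ))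

theorem exists_pow_smul_eq_zero {W : X.Opens} (hW : IsCompact (W : Set X)) (a : Γ(X, ⊤))
    (x : secM F W) {Z : X.Opens} (hZ : Z ≤ W) (hb : X.basicOpen (ρ W a) ≤ Z) (hx : resL F hZ x = 0) :
    ∃ n : ℕ, a ^ n • x = 0 := by
  obtain ⟨n, hn⟩ := H10Coh.exists_pow_smul_eq_zero_of_isCompact F hW (ρ W a) (sec F x) (by
    change resL F (X.basicOpen_le _) x = 0
    rw [← resL_resL F hZ hb, hx, map_zero])
  refine ⟨n, ?_⟩
  change sec F (a ^ n • x) = 0
  rw [smul_secM, map_pow]
  exact hn

theorem exists_extend {W : X.Opens} (hW : IsCompact (W : Set X)) (a : Γ(X, ⊤))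
    {Z : X.Opens} (hZ : Z ≤ W) (hb : X.basicOpen (ρ W a) ≤ Z) (hb' : Z ≤ X.basicOpen (ρ W a))
    (t : secM F Z) : ∃ (n : ℕ) (s : secM F W), resL F hZ s = a ^ n • t := by
  obtain ⟨n, s, hs⟩ := H10Coh.exists_pow_smul_eq_res_of_isCompact F hW (ρ W a)
    (sec F (resL F hb t))
  have hs' : resL F (X.basicOpen_le (ρ W a)) (mkS F s) = a ^ n • resL F hb t := by
    change _ = sec F (a ^ n • resL F hb t)
    rw [smul_secM]
    refine hs.trans ?_
    rw [← map_pow]
    exact congrArg (· • sec F (resL F hb t)) (H10Coh.rres_rres _ _ _)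
  refine ⟨n, mkS F s, ?_⟩
  have h := congrArg (resL F hb') hs'
  rwa [resL_resL, map_smul, resL_resL, resL_self] at h

theorem basicOpen_ρ (W : X.Opens) (a : Γ(X, ⊤)) : X.basicOpen (ρ W a) = W ⊓ X.basicOpen a :=
  Scheme.basicOpen_res _ _ _

theorem capq_cons {q : ℕ} (i : ι) (a : Fin q → ι) :
    capq g (Fin.cons i a : Fin (q + 1) → ι) = X.basicOpen (ρ (capq g a) (g i)) := by
  rw [basicOpen_ρ]
  refine le_antisymm (le_inf (le_iInf fun k => ?_) ?_) (le_iInf fun k => ?_)
  · exact le_of_le_of_eq (iInf_le _ k.succ) (by simp)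
  · exact le_of_le_of_eq (iInf_le _ 0) (by simp)
  · cases k using Fin.cases with
    | zero => simp
    | succ k => simpa using inf_le_left.trans (iInf_le _ k)

/-- Exactness after inverting `g i`. -/
theorem exists_primitive (i : ι) (q : ℕ) (x : Cq g F (q + 1)) (hx : dq g F (q + 1) x = 0) :
    ∃ (n : ℕ) (y : Cq g F q), dq g F q y = g i ^ n • x := by
  classical
  have := Fintype.ofFinite ι
  have hle : ∀ {r : ℕ} (a : Fin r → ι), capq g (Fin.cons i a : Fin (r + 1) → ι) ≤ capq g a :=
    fun a => (capq_cons g i a).le.trans (X.basicOpen_le _)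
  choose n y hy using fun b : Fin q → ι => exists_extend F (isCompact_capq g b) (g i) (hle b)
    (capq_cons g i b).ge (capq_cons g i b).le (x (Fin.cons i b))
  let N := Finset.univ.sup n
  let y' : Cq g F q := fun b => g i ^ (N - n b) • y b
  have hy' : ∀ b, resL F (hle b) (y' b) = g i ^ N • x (Fin.cons i b) := fun b => by
    rw [map_smul, hy, smul_smul, ← pow_add,
      Nat.sub_add_cancel (Finset.le_sup (Finset.mem_univ b))]
  have hz : ∀ c, resL F (hle c) ((dq g F q y' - g i ^ N • x) c) = 0 := fun c => by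
    have e := congrFun hx (Fin.cons i c)
    rw [dq_apply, Fin.sum_univ_succ, Fin.val_zero, pow_zero, one_smul, Pi.zero_apply] at e
    rw [Pi.sub_apply, Pi.smul_apply, map_sub, map_smul, dq_apply, map_sum]
    have e0 : resL F (capq_comp_le g (Fin.cons i c : Fin (q + 2) → ι) (0 : Fin (q + 2)).succAbove)
        (x ((Fin.cons i c : Fin (q + 2) → ι) ∘ (0 : Fin (q + 2)).succAbove)) =
        resL F (hle c) (x c) :=
      resL_congr F (fun a => capq g a) x (H15Site.CechTop.cons_comp_succAbove_zero i c) _ _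
    rw [e0, add_eq_zero_iff_eq_neg] at e
    rw [e, smul_neg, sub_neg_eq_add, Finset.smul_sum, ← Finset.sum_add_distrib]
    refine Finset.sum_eq_zero fun j _ => ?_
    rw [map_zsmul, resL_resL, smul_comm (g i ^ N), Fin.val_succ, pow_succ, mul_neg, mul_one,
      neg_smul, ← sub_eq_add_neg, sub_eq_zero]
    refine congrArg _ ?_
    have hW : capq g (Fin.cons i c : Fin (q + 2) → ι) ≤
        capq g (Fin.cons i (c ∘ j.succAbove) : Fin (q + 1) → ι) :=
      le_of_le_of_eq (capq_comp_le g _ j.succ.succAbove)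
        (congrArg (fun a => capq g a) (funext fun k => by
          cases k using Fin.cases with
          | zero => simp
          | succ k => simp))
    rw [← resL_resL F (hle (c ∘ j.succAbove)) hW, hy', map_smul]
    refine congrArg _ (resL_congr F (fun a => capq g a) x ?_ _ _)
    funext k
    cases k using Fin.cases with
    | zero => simp
    | succ k => simp
  choose m hm using fun c : Fin (q + 1) → ι => exists_pow_smul_eq_zero F (isCompact_capq g c) (g i)
    _ (hle c) (capq_cons g i c).ge (hz c)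
  refine ⟨Finset.univ.sup m + N, g i ^ Finset.univ.sup m • y', sub_eq_zero.1 (funext fun c => ?_)⟩
  rw [map_smul, pow_add, mul_smul, ← smul_sub, Pi.smul_apply,
    ← Nat.sub_add_cancel (Finset.le_sup (f := m) (Finset.mem_univ c)), pow_add, mul_smul, hm,
    smul_zero]
  rfl

theorem exP_cCx (i : ι) (p : ℤ) : TC.ExP (g i) (cCx g F) p := by
  intro q p' hq hp x hx
  subst hp
  cases p with
  | negSucc k =>
    have := subsingleton_neg g F (Int.negSucc k) (Int.negSucc_lt_zero k)
    exact ⟨0, 0, Subsingleton.elim _ _⟩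
  | ofNat r =>
    rcases r with _ | r
    · refine (show ∃ n : ℕ, g i ^ n • x = 0 from ?_).elim fun n hn => ⟨n, 0, by rw [map_zero, hn]⟩
      have hx' : dq g F 0 x (fun _ => i) = 0 := by
        have h := congrFun ((congrArg (fun e => e.hom x) (cCx_d g F 0)).symm.trans hx) (fun _ => i)
        exact h
      have hx'' := (dq_apply g F 0 x (fun _ => i)).symm.trans hx'
      rw [Fin.sum_univ_one, Fin.val_zero, pow_zero, one_smul] at hx''
      have key : ∀ a : Fin 0 → ι, ∃ n : ℕ, g i ^ n • (x : Cq g F 0) a = 0 := fun a => by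
        have ha : capq g a = ⊤ := iInf_of_empty _
        refine exists_pow_smul_eq_zero F (isCompact_capq g a) (g i) _
          (Z := capq g (fun _ : Fin 1 => i)) (by rw [ha]; exact le_top) ?_ ?_
        · rw [basicOpen_ρ]
          exact le_iInf fun _ => inf_le_right
        · exact (resL_congr F (fun b => capq g b) x (Subsingleton.elim _ _) _ _).trans hx''
      obtain ⟨n, hn⟩ := key default
      exact ⟨n, funext fun a => by rw [Subsingleton.elim a default]; exact hn⟩
    · obtain rfl : q = (r : ℤ) := by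
        change q + 1 = ((r + 1 : ℕ) : ℤ) at hq
        omega
      have hx' : dq g F (r + 1) x = 0 :=
        ((congrArg (fun e => e.hom x) (cCx_d g F (r + 1))).symm.trans hx)
      obtain ⟨n, y, hy⟩ := exists_primitive g F i r x hx'
      exact ⟨n, y, (congrArg (fun e => e.hom y) (cCx_d g F r)).trans hy⟩

theorem nonempty_extCech_equiv {fs : List Γ(X, ⊤)} (hg : ∀ i, g i ∈ fs)
    (hfs : ∀ f ∈ fs, ∃ i, g i = f) (p : ℤ) :
    Nonempty (DerCA.extCechH fs (ModuleCat.of Γ(X, ⊤) (F.val.obj (op ⊤))) p ≃ₗ[Γ(X, ⊤)]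
      (cCx g F).homology p) := by
  refine TC.nonempty_extCech_equiv fs (cCx g F) _ (e0 g F) (subsingleton_neg g F)
    (fun j hj => ?_) (fun f hf j => ?_) p
  · cases j with
    | negSucc k => exact absurd (Int.negSucc_lt_zero k) (not_lt.2 hj.le)
    | ofNat r =>
      rcases r with _ | r
      · exact absurd hj (lt_irrefl _)
      · exact totExact_Cq g F hg r
  · obtain ⟨i, rfl⟩ := hfs f hf
    exact exP_cCx g F i j

end Groth.Agent.H02CA.CM
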