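import Groth.Agent.H02CA.CechMod
import Groth.Agent.H10Coh.CechAffine
import Groth.Agent.H10Coh.LocalizedH

/-!
# Čech cohomology of basic opens and the augmented module complex
-/

set_option autoImplicit false
set_option linter.unusedSectionVars false

namespace Groth.Agent.H02CA.CM

universe u

open CategoryTheory CategoryTheory.Limits AlgebraicGeometry Opposite TopologicalSpace

variable {X : Scheme.{u}} {ι : Type u} (g : ι → Γ(X, ⊤)) (F : X.Modules)

/-- `eC` as an isomorphism in the short complexes. -/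
noncomputable def eCIso (q : ℕ) : H15Site.CechTop.C (U g) F.presheaf q ≅
    (forget₂ (ModuleCat.{u} Γ(X, ⊤)) AddCommGrpCat.{u}).obj ((cCx g F).X ((q + 1 : ℕ) : ℤ)) :=
  (eC g F q).toAddCommGrpIso

theorem nonempty_cechH_succ (p : ℕ) :
    Nonempty (CohB1.cechH (U g) F (p + 1) ≃+ (cCx g F).homology ((p + 2 : ℕ) : ℤ)) := by
  let Fo := forget₂ (ModuleCat.{u} Γ(X, ⊤)) AddCommGrpCat.{u}
  let K := (cechComplexFunctor (A := AddCommGrpCat.{u}) (U g)).obj F.presheaf
  let S : ShortComplex (ModuleCat.{u} Γ(X, ⊤)) :=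
    (cCx g F).sc' ((p + 1 : ℕ) : ℤ) ((p + 2 : ℕ) : ℤ) ((p + 3 : ℕ) : ℤ)
  have comm : ∀ q : ℕ, (eCIso g F q).hom ≫ Fo.map ((cCx g F).d ((q + 1 : ℕ) : ℤ) ((q + 1 + 1 : ℕ) : ℤ)) =
      H15Site.CechTop.d (U g) F.presheaf q ≫ (eCIso g F (q + 1)).hom := fun q => by
    ext x
    change ((cCx g F).d ((q + 1 : ℕ) : ℤ) ((q + 1 + 1 : ℕ) : ℤ)).hom (eC g F q x) = _
    rw [cCx_d g F (q + 1)]
    exact (eC_d g F x).symm
  let i : K.sc' p (p + 1) (p + 2) ≅ S.map Fo :=
    ShortComplex.isoMk (eCIso g F p) (eCIso g F (p + 1)) (eCIso g F (p + 2)) (comm p) (comm (p + 1))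
  exact ⟨((K.homologyIsoSc' p (p + 1) (p + 2) (by simp) (by simp)) ≪≫
    ShortComplex.homologyMapIso i ≪≫ S.mapHomologyIso Fo ≪≫
    Fo.mapIso ((cCx g F).homologyIsoSc' _ ((p + 2 : ℕ) : ℤ) _ (by simp; omega) (by simp; omega)).symm).addCommGroupIsoToAddEquiv⟩

/-- Restriction of a global section to the union, as sections. -/
theorem capq_le_iSup {q : ℕ} (a : Fin (q + 1) → ι) : capq g a ≤ ⨆ i, U g i :=
  (iInf_le _ 0).trans (le_iSup (U g) (a 0))

/-- Sections on the union are the `1`-cocycles of the augmented complex. -/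
theorem exists_ker_equiv :
    ∃ e : F.presheaf.obj (op (⨆ i, U g i)) ≃+ LinearMap.ker (dq g F 1),
      ∀ (s : F.presheaf.obj (op (⨆ i, U g i))) (a : Fin 1 → ι),
        (e s).1 a = mkS F (F.presheaf.map (homOfLE (capq_le_iSup g a)).op s) := by
  have hmem : ∀ s : F.presheaf.obj (op (⨆ i, U g i)),
      (fun a => mkS F (F.presheaf.map (homOfLE (capq_le_iSup g a)).op s) : Cq g F 1) ∈
        LinearMap.ker (dq g F 1) := fun s => by
    rw [LinearMap.mem_ker]
    funext c
    rw [dq_apply, Fin.sum_univ_two, Fin.val_zero, pow_zero, one_smul, Fin.val_one, pow_one, neg_smul,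
      one_smul, Pi.zero_apply]
    change resL F _ (resL F (capq_le_iSup g _) (mkS F s)) +
      -resL F _ (resL F (capq_le_iSup g _) (mkS F s)) = 0
    rw [resL_resL, resL_resL, add_neg_cancel]
  let e₀ : F.presheaf.obj (op (⨆ i, U g i)) →+ LinearMap.ker (dq g F 1) :=
    AddMonoidHom.mk' (fun s => ⟨_, hmem s⟩) fun s t => Subtype.ext (funext fun a =>
      map_add (F.presheaf.map (homOfLE (capq_le_iSup g a)).op).hom s t)
  have hle : ∀ i, U g i ≤ capq g (fun _ : Fin 1 => i) := fun i => le_iInf fun _ => le_rfl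
  refine ⟨AddEquiv.ofBijective e₀ ⟨fun s t h => ?_, fun x => ?_⟩, fun _ _ => rfl⟩
  · refine TopCat.Sheaf.eq_of_locally_eq' (H10Coh.sheafOf F) (U g) _ (fun i => homOfLE (le_iSup (U g) i))
      le_rfl s t fun i => ?_
    have h' := congrArg (fun z : LinearMap.ker (dq g F 1) => resL F (hle i) (z.1 fun _ => i)) h
    change resL F _ (resL F _ (mkS F s)) = resL F _ (resL F _ (mkS F t)) at h'
    rw [resL_resL, resL_resL] at h'
    exact h'
  · let sf : ∀ i, Γ(F, U g i) := fun i => sec F (resL F (hle i) (x.1 fun _ => i))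
    obtain ⟨s, hs, -⟩ := TopCat.Sheaf.existsUnique_gluing' (H10Coh.sheafOf F) (U g) (⨆ i, U g i)
      (fun i => homOfLE (le_iSup (U g) i)) le_rfl sf (fun i j => by
        let c : Fin 2 → ι := ![j, i]
        have hW : U g i ⊓ U g j ≤ capq g c := le_iInf fun k => by fin_cases k <;> simp [c]
        have hx : dq g F 1 x.1 c = 0 := congrFun x.2 c
        rw [dq_apply, Fin.sum_univ_two, Fin.val_zero, pow_zero, one_smul, Fin.val_one, pow_one,
          neg_smul, one_smul, add_neg_eq_zero] at hx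
        have h2 := congrArg (resL F hW) hx
        rw [resL_resL, resL_resL] at h2
        change resL F _ (resL F (hle i) (x.1 fun _ => i)) = resL F _ (resL F (hle j) (x.1 fun _ => j))
        rw [resL_resL, resL_resL,
          resL_congr F (fun a : Fin 1 → ι => capq g a) x.1
            (show (fun _ : Fin 1 => i) = c ∘ (0 : Fin 2).succAbove from
              funext fun k => by fin_cases k; simp [c]) _ (hW.trans (capq_comp_le g c _)),
          resL_congr F (fun a : Fin 1 → ι => capq g a) x.1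
            (show (fun _ : Fin 1 => j) = c ∘ (1 : Fin 2).succAbove from
              funext fun k => by fin_cases k; simp [c]) _ (hW.trans (capq_comp_le g c _))]
        exact h2)
    refine ⟨s, Subtype.ext (funext fun a => ?_)⟩
    have ha : capq g a ≤ U g (a 0) := iInf_le _ 0
    have h := congrArg (resL F ha) (show resL F (le_iSup (U g) (a 0)) (mkS F s) = mkS F (sf (a 0))
      from hs (a 0))
    rw [resL_resL] at h
    refine Eq.trans ?_ ((h.trans (resL_resL F (hle (a 0)) ha _)).trans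
      ((resL_congr F (fun b : Fin 1 → ι => capq g b) x.1
        (show (fun _ : Fin 1 => a 0) = a from funext fun k => by fin_cases k; rfl) _ le_rfl).trans
          (resL_self F le_rfl _)))
    rfl

variable [Finite ι]

/-- The restriction to the union has kernel `H⁰` and cokernel `H¹`. -/
theorem nonempty_ker_coker :
    Nonempty (((Coh.toAb F).obj.map (homOfLE (le_top : (⨆ i, U g i) ≤ ⊤)).op).hom.ker ≃+
      (cCx g F).homology ((0 : ℕ) : ℤ)) ∧
    Nonempty (↑((Coh.toAb F).obj.obj (op (⨆ i, U g i))) ⧸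
        ((Coh.toAb F).obj.map (homOfLE (le_top : (⨆ i, U g i) ≤ ⊤)).op).hom.range ≃+
      (cCx g F).homology ((1 : ℕ) : ℤ)) := by
  let r : F.presheaf.obj (op ⊤) →+ F.presheaf.obj (op (⨆ i, U g i)) :=
    (F.presheaf.map (homOfLE (le_top : (⨆ i, U g i) ≤ ⊤)).op).hom
  obtain ⟨e, he⟩ := exists_ker_equiv g F
  let t : F.presheaf.obj (op ⊤) ≃+ Cq g F 0 := (eZero g F).symm.toAddEquiv
  have hcomm : ∀ m, dq g F 0 (t m) = (e (r m)).1 := fun m => funext fun a => by
    rw [dq_apply, Fin.sum_univ_one, Fin.val_zero, pow_zero, one_smul, he]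
    exact (resL_resL F _ _ (mkS F m)).trans (resL_resL F le_top (capq_le_iSup g a) (mkS F m)).symm
  have hd0 : ∀ x : Cq g F 0, ((cCx g F).d ((0 : ℕ) : ℤ) ((1 : ℕ) : ℤ)).hom x = dq g F 0 x :=
    fun x => congrArg (fun φ => φ.hom x) (cCx_d g F 0)
  have hd1 : ∀ x : Cq g F 1, ((cCx g F).d ((1 : ℕ) : ℤ) ((2 : ℕ) : ℤ)).hom x = dq g F 1 x :=
    fun x => congrArg (fun φ => φ.hom x) (cCx_d g F 1)
  refine ⟨?_, ?_⟩
  · have hmem : ∀ m : r.ker, ((cCx g F).d ((0 : ℕ) : ℤ) ((1 : ℕ) : ℤ)).hom (t m.1) = 0 :=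
      fun m => by
        refine ((hd0 _).trans (hcomm m.1)).trans ?_
        rw [show r m.1 = 0 from m.2, map_zero]
        rfl
    let φ : r.ker →+ (cCx g F).homology ((0 : ℕ) : ℤ) :=
      AddMonoidHom.mk' (fun m => KEC.cls (cCx g F) _ _ (by norm_num) ⟨t m.1, hmem m⟩) fun m m' => by
        rw [← map_add]
        exact congrArg _ (Subtype.ext (map_add t m.1 m'.1))
    refine ⟨AddEquiv.ofBijective φ ⟨(injective_iff_map_eq_zero φ).2 fun m hm => ?_, fun y => ?_⟩⟩
    · obtain ⟨a, ha⟩ := (KEC.cls_eq_zero_iff (cCx g F) (-1) _ _ (by norm_num) (by norm_num) _).1 hm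
      have := subsingleton_neg g F (-1) (by norm_num)
      rw [Subsingleton.elim a 0, map_zero] at ha
      exact Subtype.ext (t.injective (ha.symm.trans (map_zero t).symm))
    · obtain ⟨z, rfl⟩ := KEC.cls_surjective (cCx g F) ((0 : ℕ) : ℤ) ((1 : ℕ) : ℤ) (by norm_num) y
      obtain ⟨m, hm⟩ := t.surjective z.1
      have hr : r m = 0 := by
        apply e.injective
        refine Subtype.ext ((hcomm m).symm.trans ?_)
        rw [map_zero, hm]
        exact (hd0 z.1).symm.trans z.2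
      exact ⟨⟨m, hr⟩, congrArg (KEC.cls (cCx g F) ((0 : ℕ) : ℤ) ((1 : ℕ) : ℤ) (by norm_num)) (Subtype.ext hm)⟩
  · have hmem : ∀ s, ((cCx g F).d ((1 : ℕ) : ℤ) ((2 : ℕ) : ℤ)).hom (e s).1 = 0 := fun s =>
      (hd1 _).trans (e s).2
    let φ : F.presheaf.obj (op (⨆ i, U g i)) →+ (cCx g F).homology ((1 : ℕ) : ℤ) :=
      AddMonoidHom.mk' (fun s => KEC.cls (cCx g F) _ _ (by norm_num) ⟨(e s).1, hmem s⟩) fun s s' => by
        rw [← map_add]
        exact congrArg _ (Subtype.ext (congrArg Subtype.val (map_add e s s')))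
    have hφ : Function.Surjective φ := fun y => by
      obtain ⟨z, rfl⟩ := KEC.cls_surjective (cCx g F) ((1 : ℕ) : ℤ) ((2 : ℕ) : ℤ) (by norm_num) y
      obtain ⟨s, hs⟩ := e.surjective ⟨z.1, (hd1 z.1).symm.trans z.2⟩
      exact ⟨s, congrArg (KEC.cls (cCx g F) ((1 : ℕ) : ℤ) ((2 : ℕ) : ℤ) (by norm_num)) (Subtype.ext (congrArg Subtype.val hs :))⟩
    have hker : r.range = φ.ker := by
      ext s
      rw [AddMonoidHom.mem_ker]
      constructor
      · rintro ⟨m, rfl⟩
        exact (KEC.cls_eq_zero_iff (cCx g F) ((0 : ℕ) : ℤ) _ _ (by norm_num) (by norm_num) _).2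
          ⟨t m, (hd0 _).trans (hcomm m)⟩
      · intro hs
        obtain ⟨a, ha⟩ := (KEC.cls_eq_zero_iff (cCx g F) ((0 : ℕ) : ℤ) _ _ (by norm_num) (by norm_num) _).1 hs
        obtain ⟨m, rfl⟩ := t.surjective a
        exact ⟨m, e.injective (Subtype.ext ((hcomm m).symm.trans ((hd0 _).symm.trans ha)))⟩
    exact ⟨(QuotientAddGroup.quotientAddEquivOfEq hker).trans
      (QuotientAddGroup.quotientKerEquivOfSurjective φ hφ)⟩

theorem nonempty_HHon_HnM (M : X.Modules) (V : X.Opens) (q : ℕ) :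
    Nonempty (Coh.HHon X M V q ≃+ H10Coh.HnM M q V) :=
  ⟨(H10Coh.HHEquiv _ q).trans ((H10Coh.restrEquivM V.ι M q ⊤).symm.trans
    (V.ι_image_top.symm ▸ AddEquiv.refl _ : H10Coh.HnM M q (V.ι ''ᵁ ⊤) ≃+ H10Coh.HnM M q V))⟩

variable [CompactSpace X] [X.IsSeparated] [F.IsQuasicoherent]

/-- The extended Čech cohomology of `Γ(X, F)` against the augmented complex of the listed opens. -/
theorem nonempty_koszulHLim (fs : List Γ(X, ⊤)) (p : ℕ) :
    Nonempty (CohIII.koszulHLim fs (ModuleCat.of Γ(X, ⊤) (F.val.obj (op ⊤))) p ≃+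
      (cCx (fun i : ULift.{u} (Fin fs.length) => fs.get i.down) F).homology (p : ℤ)) := by
  obtain ⟨e⟩ := KEC.nonempty_koszulHLim_equiv (ModuleCat.of Γ(X, ⊤) (F.val.obj (op ⊤))) fs p
  obtain ⟨e'⟩ := nonempty_extCech_equiv (fun i : ULift.{u} (Fin fs.length) => fs.get i.down) F
    (fs := fs) (fun i => fs.get_mem _) (fun f hf => by
      obtain ⟨n, hn⟩ := List.get_of_mem hf
      exact ⟨⟨n⟩, hn⟩) (p : ℤ)
  exact ⟨(e.trans e').toAddEquiv⟩

theorem iSup_ulift (fs : List Γ(X, ⊤)) :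
    (⨆ i, U (fun i : ULift.{u} (Fin fs.length) => fs.get i.down) i) =
      ⨆ i : Fin fs.length, X.basicOpen (fs.get i) :=
  le_antisymm (iSup_le fun i => le_iSup (fun j => X.basicOpen (fs.get j)) i.down)
    (iSup_le fun j => le_iSup (U (fun i : ULift.{u} (Fin fs.length) => fs.get i.down)) ⟨j⟩)

end Groth.Agent.H02CA.CM
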