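import Groth.Agent.H10Coh.Pn.Classes
import Mathlib.Algebra.DirectSum.Basic

/-!
# A family of Čech complexes summing up to another one
-/

set_option autoImplicit false

namespace Groth.Agent.H02CA.CechSum

universe u

open CategoryTheory CategoryTheory.Limits Opposite TopologicalSpace
open Groth.Agent.H15Site Groth.Agent.H10Coh.CechCls

variable {X Y : TopCat.{u}} {ι κ : Type u} (U : ι → Opens X) (V : κ → Opens Y)
  (P : ℤ → ((Opens X)ᵒᵖ ⥤ AddCommGrpCat.{u})) (Q : (Opens Y)ᵒᵖ ⥤ AddCommGrpCat.{u})

theorem nonempty_directSum_cechH (φ : ∀ n q, CechTop.C U (P n) q →+ CechTop.C V Q q)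
    (hd : ∀ n q x, φ n (q + 1) ((CechTop.d U (P n) q).hom x) = (CechTop.d V Q q).hom (φ n q x))
    (hb : ∀ q, Function.Bijective (DirectSum.toAddMonoid (fun n => φ n q))) (k : ℕ) :
    Nonempty (DirectSum ℤ (fun n => (CohTop.cechH (P n) U (k + 1) : Type u)) ≃+
      CohTop.cechH Q V (k + 1)) := by
  classical
  let dmap : ∀ q, DirectSum ℤ (fun n => (CechTop.C U (P n) q : Type u)) →+
      DirectSum ℤ (fun n => (CechTop.C U (P n) (q + 1) : Type u)) := fun q =>
    DirectSum.map fun n => (CechTop.d U (P n) q).hom
  let t : ∀ q, DirectSum ℤ (fun n => (CechTop.C U (P n) q : Type u)) →+ CechTop.C V Q q := fun q =>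
    DirectSum.toAddMonoid fun n => φ n q
  have ht : ∀ q x, t (q + 1) (dmap q x) = (CechTop.d V Q q).hom (t q x) := fun q x => by
    induction x using DirectSum.induction_on with
    | zero => simp
    | of n x => simp [t, dmap, DirectSum.map_of, hd]
    | add x y hx hy => simp [map_add, hx, hy]
  let incl : DirectSum ℤ (fun n => (Zc U (P n) k : Type u)) →+
      DirectSum ℤ (fun n => (CechTop.C U (P n) (k + 1) : Type u)) :=
    DirectSum.map fun n => (Zc U (P n) k).subtype
  have hinc : ∀ x, (CechTop.d V Q (k + 1)).hom (t (k + 1) (incl x)) = 0 := fun x => by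
    rw [← ht]
    have h0 : dmap (k + 1) (incl x) = 0 := DFinsupp.ext fun n => by
      simp only [dmap, incl, DirectSum.map_apply]
      exact (x n).2
    rw [h0, map_zero]
  let Ψ : DirectSum ℤ (fun n => (Zc U (P n) k : Type u)) →+ CohTop.cechH Q V (k + 1) :=
    (cls V Q k).comp (((t (k + 1)).comp incl).codRestrict (Zc V Q k) hinc)
  let π : DirectSum ℤ (fun n => (Zc U (P n) k : Type u)) →+
      DirectSum ℤ (fun n => (CohTop.cechH (P n) U (k + 1) : Type u)) :=
    DirectSum.map fun n => cls U (P n) k
  have hπ : Function.Surjective π := fun y => by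
    induction y using DirectSum.induction_on with
    | zero => exact ⟨0, map_zero _⟩
    | of n y =>
      obtain ⟨z, rfl⟩ := cls_surjective U (P n) k y
      exact ⟨DirectSum.of (fun n => (Zc U (P n) k : Type u)) n z, DirectSum.map_of _ _ _⟩
    | add x y hx hy =>
      obtain ⟨a, rfl⟩ := hx
      obtain ⟨b, rfl⟩ := hy
      exact ⟨a + b, map_add _ _ _⟩
  have hΨ : Function.Surjective Ψ := fun y => by
    obtain ⟨z, rfl⟩ := cls_surjective V Q k y
    obtain ⟨x, hx⟩ := (hb (k + 1)).2 (z : CechTop.C V Q (k + 1))
    have hz : dmap (k + 1) x = 0 := (hb (k + 1 + 1)).1 (by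
      change t _ (dmap (k + 1) x) = t _ 0
      rw [ht, map_zero, show t (k + 1) x = _ from hx]
      exact z.2)
    let w : DirectSum ℤ (fun n => (Zc U (P n) k : Type u)) :=
      DirectSum.mk _ x.support fun n => ⟨x n.1, by
        have h := congrArg (fun v : DirectSum ℤ _ => v n.1) hz
        simp only [dmap, DirectSum.map_apply, DirectSum.zero_apply] at h
        exact h⟩
    have hw : incl w = x := DFinsupp.ext fun n => by
      simp only [incl, DirectSum.map_apply]
      by_cases hn : n ∈ x.support
      · rw [DirectSum.mk_apply_of_mem hn]; rfl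
      · rw [DirectSum.mk_apply_of_notMem hn]
        exact (DFinsupp.notMem_support_iff.1 hn).symm
    refine ⟨w, congrArg (cls V Q k) (Subtype.ext ?_)⟩
    change t (k + 1) (incl w) = _
    rw [hw]; exact hx
  have hker : π.ker = Ψ.ker := by
    ext x
    rw [AddMonoidHom.mem_ker, AddMonoidHom.mem_ker]
    refine Iff.trans ?_ (cls_eq_zero_iff V Q k _).symm
    constructor
    · intro h
      have h' : ∀ n, ∃ v, (CechTop.d U (P n) k).hom v = (x n : CechTop.C U (P n) (k + 1)) := fun n =>
        (cls_eq_zero_iff U (P n) k (x n)).1 (by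
          have := congrArg (fun y : DirectSum ℤ _ => y n) h
          simpa [π] using this)
      choose v hv using h'
      let w : DirectSum ℤ (fun n => (CechTop.C U (P n) k : Type u)) :=
        DirectSum.mk _ x.support fun n => v n.1
      have hw : dmap k w = incl x := DFinsupp.ext fun n => by
        simp only [dmap, incl, DirectSum.map_apply]
        by_cases hn : n ∈ x.support
        · rw [DirectSum.mk_apply_of_mem hn]; exact hv n
        · rw [DirectSum.mk_apply_of_notMem hn, map_zero, DFinsupp.notMem_support_iff.1 hn]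
          rfl
      refine ⟨t k w, ?_⟩
      change _ = t (k + 1) (incl x)
      rw [← ht, hw]
    · rintro ⟨w, hw⟩
      obtain ⟨v, rfl⟩ := (hb k).2 w
      have hv : dmap k v = incl x := (hb (k + 1)).1 (by
        change t _ (dmap k v) = t _ (incl x)
        rw [ht]; exact hw)
      refine DFinsupp.ext fun n => ?_
      rw [show π x n = cls U (P n) k (x n) from DirectSum.map_apply _ _ _]
      refine (cls_eq_zero_iff U (P n) k (x n)).2 ⟨v n, ?_⟩
      have h := congrArg (fun y : DirectSum ℤ _ => y n) hv
      simpa [dmap, incl] using h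
  exact ⟨(QuotientAddGroup.quotientKerEquivOfSurjective π hπ).symm.trans
    ((QuotientAddGroup.quotientAddEquivOfEq hker).trans
      (QuotientAddGroup.quotientKerEquivOfSurjective Ψ hΨ))⟩

end Groth.Agent.H02CA.CechSum
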