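import Mathlib.RingTheory.LocalProperties.Projective
import Mathlib.RingTheory.Localization.BaseChange
import Mathlib.RingTheory.Localization.Free
import Mathlib.RingTheory.LocalRing.Module
import Mathlib.RingTheory.LocalRing.ResidueField.Ideal
import Mathlib.RingTheory.Support
import Mathlib.LinearAlgebra.Matrix.NonsingularInverse
import Mathlib.LinearAlgebra.Matrix.ToLin
import Mathlib.LinearAlgebra.Basis.VectorSpace
import Mathlib.RingTheory.TensorProduct.Finite

/-!
For a map `d : M → N` of finite projective modules: base change of `ker d` surjects onto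
`ker (κ(p) ⊗ d)` iff `coker d` is projective near `p`, iff `d g d = s • d` for some `g : N → M`,
`s ∉ p`.
-/

set_option autoImplicit false

open TensorProduct

namespace Groth.Agent.H02CA.CokerProj

variable {R : Type*} [CommRing R] {M N : Type*} [AddCommGroup M] [Module R M] [AddCommGroup N]
  [Module R N] (d : M →ₗ[R] N)

/-- A quasi-inverse of `d` up to an element of `S`. -/
def QuasiInv (S : Submonoid R) : Prop :=
  ∃ g : N →ₗ[R] M, ∃ s ∈ S, ∀ m, d (g (d m)) = s • d m

variable {d}

theorem QuasiInv.ker_baseChange_le {S : Submonoid R} (h : QuasiInv d S) (B : Type*) [CommRing B]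
    [Algebra R B] (hS : ∀ s ∈ S, IsUnit (algebraMap R B s)) :
    LinearMap.ker (d.baseChange B) ≤
      LinearMap.range ((LinearMap.ker d).subtype.baseChange B) := by
  obtain ⟨g, s, hs, hg⟩ := h
  obtain ⟨u, hu⟩ := hS s hs
  let P : M →ₗ[R] LinearMap.ker d :=
    (s • LinearMap.id - g ∘ₗ d).codRestrict _ fun m => by simp [hg]
  have hP : (LinearMap.ker d).subtype ∘ₗ P = s • LinearMap.id - g ∘ₗ d := rfl
  intro x hx
  refine ⟨(↑u⁻¹ : B) • P.baseChange B x, ?_⟩
  rw [map_smul, ← LinearMap.comp_apply, ← LinearMap.baseChange_comp, hP, LinearMap.baseChange_sub,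
    LinearMap.baseChange_smul, LinearMap.baseChange_id, LinearMap.baseChange_comp]
  simp only [LinearMap.sub_apply, LinearMap.smul_apply, LinearMap.id_apply, LinearMap.comp_apply,
    LinearMap.mem_ker.mp hx, map_zero, sub_zero]
  rw [← algebraMap_smul B s x, ← hu, smul_smul, Units.inv_mul, one_smul]

theorem projective_localizedModule [Module.Projective R N] {S : Submonoid R} (h : QuasiInv d S) :
    Module.Projective (Localization S) (LocalizedModule S (N ⧸ LinearMap.range d)) := by
  obtain ⟨g, s, hs, hg⟩ := h
  haveI : Module.Projective (Localization S) (LocalizedModule S N) :=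
    Module.Projective.of_equiv (LocalizedModule.equivTensorProduct S N).symm
  let e : (N ⧸ LinearMap.range d) →ₗ[R] N := Submodule.liftQ _ (s • LinearMap.id - d ∘ₗ g) (by
    rintro _ ⟨m, rfl⟩
    simp [hg])
  have he : (LinearMap.range d).mkQ ∘ₗ e = s • LinearMap.id := by
    refine Submodule.linearMap_qext _ (LinearMap.ext fun n => ?_)
    simp [e, (Submodule.Quotient.mk_eq_zero (LinearMap.range d) (x := d (g n))).mpr ⟨g n, rfl⟩]
  have hu : IsUnit (algebraMap R (Localization S) s) := IsLocalization.map_units _ ⟨s, hs⟩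
  obtain ⟨u, hu⟩ := hu
  refine Module.Projective.of_split
    ((↑u⁻¹ : Localization S) • LocalizedModule.map S e)
    (LocalizedModule.map S (LinearMap.range d).mkQ) (LinearMap.ext fun x => ?_)
  induction x using LocalizedModule.induction_on with
  | _ q t =>
    have h1 := LinearMap.congr_fun he q
    simp only [LinearMap.comp_apply, LinearMap.smul_apply, LinearMap.id_apply] at h1
    simp only [LinearMap.comp_apply, LinearMap.smul_apply, map_smul, LocalizedModule.map_mk, h1,
      LinearMap.id_apply]
    rw [← LocalizedModule.smul'_mk, ← algebraMap_smul (Localization S) s, ← hu, smul_smul,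
      Units.inv_mul, one_smul]

theorem quasiInv_of_projective_localizedModule [Module.Finite R M] [Module.Finite R N]
    [Module.Projective R N] {S : Submonoid R}
    (h : Module.Projective (Localization S) (LocalizedModule S (N ⧸ LinearMap.range d))) :
    QuasiInv d S := by
  haveI : Module.FinitePresentation R N := Module.finitePresentation_of_projective R N
  haveI : Module.FinitePresentation R (N ⧸ LinearMap.range d) :=
    Module.finitePresentation_of_surjective (LinearMap.range d).mkQ (Submodule.mkQ_surjective _)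
      (by rw [Submodule.ker_mkQ]
          exact (LinearMap.range_eq_map d) ▸ Module.Finite.fg_top.map d)
  obtain ⟨σ, hσ⟩ := Module.projective_lifting_property
    (LocalizedModule.map S (LinearMap.range d).mkQ) LinearMap.id
    (LocalizedModule.map_surjective _ _ (Submodule.mkQ_surjective _))
  obtain ⟨e, s₀, he⟩ := Module.FinitePresentation.exists_lift_of_isLocalizedModule S
    (LocalizedModule.mkLinearMap S N)
    (σ.restrictScalars R ∘ₗ LocalizedModule.mkLinearMap S (N ⧸ LinearMap.range d))
  have h1 : LocalizedModule.mkLinearMap S (N ⧸ LinearMap.range d) ∘ₗ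
      ((LinearMap.range d).mkQ ∘ₗ e) =
      LocalizedModule.mkLinearMap S _ ∘ₗ ((s₀ : R) • LinearMap.id) := by
    refine LinearMap.ext fun q => ?_
    have h2 := LinearMap.congr_fun he q
    have h3 := LinearMap.congr_fun hσ (LocalizedModule.mk q 1)
    simp only [LinearMap.comp_apply, LinearMap.smul_apply, LinearMap.coe_restrictScalars,
      LocalizedModule.mkLinearMap_apply, Submonoid.smul_def, LinearMap.id_apply] at h2 h3 ⊢
    have h4 := congrArg (LocalizedModule.map S (LinearMap.range d).mkQ) h2
    rw [LocalizedModule.map_mk, LinearMap.map_smul_of_tower, h3] at h4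
    rw [h4, LocalizedModule.smul'_mk]
  obtain ⟨t, ht⟩ := Module.Finite.exists_smul_of_comp_eq_of_isLocalizedModule S
    (LocalizedModule.mkLinearMap S (N ⧸ LinearMap.range d)) _ _ h1
  let E : N →ₗ[R] LinearMap.range d :=
    ((((t : R) * s₀) • LinearMap.id - (t : R) • (e ∘ₗ (LinearMap.range d).mkQ)) :
      N →ₗ[R] N).codRestrict _ fun n => by
      rw [← Submodule.Quotient.mk_eq_zero, ← Submodule.mkQ_apply]
      have := LinearMap.congr_fun ht ((LinearMap.range d).mkQ n)
      simp only [LinearMap.smul_apply, LinearMap.comp_apply, Submonoid.smul_def,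
        LinearMap.id_apply, Submodule.mkQ_apply] at this
      simp only [LinearMap.sub_apply, LinearMap.smul_apply, LinearMap.comp_apply,
        LinearMap.id_apply, Submodule.mkQ_apply, Submodule.Quotient.mk_sub,
        Submodule.Quotient.mk_smul, this, mul_smul, sub_self]
  obtain ⟨g, hg⟩ := Module.projective_lifting_property d.rangeRestrict E d.surjective_rangeRestrict
  refine ⟨g, (t : R) * s₀, mul_mem t.2 s₀.2, fun m => ?_⟩
  have h5 := congrArg Subtype.val (LinearMap.congr_fun hg (d m))
  have h0 : (LinearMap.range d).mkQ (d m) = 0 := (Submodule.Quotient.mk_eq_zero _).mpr ⟨m, rfl⟩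
  simp only [E, LinearMap.comp_apply, LinearMap.codRestrict_apply,
    LinearMap.sub_apply, LinearMap.smul_apply, h0, map_zero, smul_zero, sub_zero,
    LinearMap.id_apply] at h5
  exact h5

theorem exists_lift_residueField (p : Ideal R) [p.IsPrime] {ι : Type*} [Finite ι]
    (z : ι → p.ResidueField) : ∃ s ∉ p, ∀ i, ∃ w : R,
      algebraMap R p.ResidueField w = algebraMap R p.ResidueField s * z i := by
  classical
  cases nonempty_fintype ι
  have h : ∀ i, ∃ a b : R, b ∉ p ∧
      algebraMap R p.ResidueField a = algebraMap R p.ResidueField b * z i := by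
    intro i
    obtain ⟨⟨a, b, hb⟩, he⟩ := IsLocalization.surj (nonZeroDivisors (R ⧸ p)) (z i)
    obtain ⟨a, rfl⟩ := Ideal.Quotient.mk_surjective a
    obtain ⟨b, rfl⟩ := Ideal.Quotient.mk_surjective b
    refine ⟨a, b, fun hbp => nonZeroDivisors.ne_zero hb (Ideal.Quotient.eq_zero_iff_mem.mpr hbp), ?_⟩
    rw [IsScalarTower.algebraMap_apply R (R ⧸ p) p.ResidueField a,
      IsScalarTower.algebraMap_apply R (R ⧸ p) p.ResidueField b, Ideal.Quotient.algebraMap_eq, ← he]
    exact mul_comm _ _
  choose a b hb hab using h
  refine ⟨∏ i, b i, Submonoid.prod_mem p.primeCompl fun i _ => hb i,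
    fun i => ⟨(∏ j ∈ Finset.univ.erase i, b j) * a i, ?_⟩⟩
  rw [map_mul, hab, ← mul_assoc, ← map_mul, Finset.prod_erase_mul _ _ (Finset.mem_univ i)]

theorem quasiInv_of_ker_baseChange_le [Module.Finite R M] [Module.Finite R N]
    [Module.Projective R N] (p : Ideal R) [p.IsPrime]
    (h : LinearMap.ker (d.baseChange p.ResidueField) ≤
      LinearMap.range ((LinearMap.ker d).subtype.baseChange p.ResidueField)) :
    QuasiInv d p.primeCompl := by
  classical
  set k := p.ResidueField
  set dk : k ⊗[R] M →ₗ[k] k ⊗[R] N := d.baseChange k with hdk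
  set W := LinearMap.ker dk
  let G : Set ((k ⊗[R] M) ⧸ W) := Set.range fun m : M => W.mkQ (1 ⊗ₜ m)
  obtain ⟨b, hbG, hspan, hli⟩ := exists_linearIndependent k G
  have hGtop : Submodule.span k G = ⊤ := by
    refine eq_top_iff.mpr fun q _ => ?_
    obtain ⟨x, rfl⟩ := W.mkQ_surjective q
    induction x using TensorProduct.induction_on with
    | zero => simp
    | tmul c m =>
      rw [show c ⊗ₜ[R] m = c • ((1 : k) ⊗ₜ[R] m) by rw [smul_tmul', smul_eq_mul, mul_one],
        map_smul]
      exact Submodule.smul_mem _ _ (Submodule.subset_span ⟨m, rfl⟩)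
    | add x y hx hy => rw [map_add]; exact add_mem (hx trivial) (hy trivial)
  haveI : Finite b := hli.finite
  cases nonempty_fintype b
  choose m hm using fun i : b => hbG i.2
  -- the images are independent
  have hind : LinearIndependent k fun i : b => (1 : k) ⊗ₜ[R] d (m i) := by
    have h1 : LinearIndependent k (W.liftQ dk le_rfl ∘ fun i : b => (i : (k ⊗[R] M) ⧸ W)) :=
      hli.map' _ (Submodule.ker_liftQ_eq_bot _ _ _ le_rfl)
    convert! h1 using 1
    funext i
    simp [← hm i, hdk]
  obtain ⟨L, hL⟩ := LinearMap.exists_leftInverse_of_injective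
    (Fintype.linearCombination k fun i : b => (1 : k) ⊗ₜ[R] d (m i))
    (LinearMap.ker_eq_bot.mpr hind.fintypeLinearCombination_injective)
  -- lift `L` to functionals on `N`
  obtain ⟨q, ρ, hρ⟩ := Module.Finite.exists_fin' R N
  obtain ⟨emb, hemb⟩ := Module.projective_lifting_property ρ LinearMap.id hρ
  obtain ⟨s, hs, hw⟩ := exists_lift_residueField p
    fun ia : b × Fin q => L ((1 : k) ⊗ₜ[R] ρ (Pi.single ia.2 1)) ia.1
  choose w hw using hw
  let φ : N →ₗ[R] (b → R) :=
    LinearMap.pi fun i => Fintype.linearCombination R (fun a => w (i, a)) ∘ₗ emb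
  have hφ : ∀ n i, algebraMap R k (φ n i) = algebraMap R k s * L ((1 : k) ⊗ₜ[R] n) i := by
    intro n i
    have hn : n = ∑ a, emb n a • ρ (Pi.single a 1) := by
      conv_lhs => rw [← LinearMap.id_apply (R := R) n, ← hemb, LinearMap.comp_apply,
        ← Finset.univ_sum_single (emb n), map_sum]
      refine Finset.sum_congr rfl fun a _ => ?_
      rw [← map_smul]
      congr 1
      rw [← Pi.single_smul', smul_eq_mul, mul_one]
    conv_rhs => rw [hn, tmul_sum, map_sum, Finset.sum_apply, Finset.mul_sum]
    simp only [φ, LinearMap.pi_apply, LinearMap.comp_apply, Fintype.linearCombination_apply,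
      map_sum, smul_eq_mul, map_mul]
    refine Finset.sum_congr rfl fun a _ => ?_
    rw [hw, tmul_smul, LinearMap.map_smul_of_tower, Pi.smul_apply, Algebra.smul_def]
    ring
  let A : Matrix b b R := Matrix.of fun i j => φ (d (m j)) i
  have hA : A.map (algebraMap R k) = Matrix.scalar b (algebraMap R k s) := by
    ext i j
    have := congrFun (LinearMap.congr_fun hL (Pi.single j (1 : k))) i
    simp only [LinearMap.comp_apply, Fintype.linearCombination_apply_single, one_smul,
      LinearMap.id_apply] at this
    simp only [A, Matrix.map_apply, Matrix.of_apply, hφ, this, Matrix.scalar_apply,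
      Matrix.diagonal_apply, Pi.single_apply]
    split_ifs <;> simp
  have hdet : A.det ∉ p := by
    intro hmem
    have := (Ideal.algebraMap_residueField_eq_zero).mpr hmem
    rw [RingHom.map_det, RingHom.mapMatrix_apply, hA, Matrix.scalar_apply, Matrix.det_diagonal,
      Finset.prod_const] at this
    exact hs (Ideal.algebraMap_residueField_eq_zero.mp (eq_zero_of_pow_eq_zero this))
  let Ψ : (b → R) →ₗ[R] M := Fintype.linearCombination R m
  let g₀ : N →ₗ[R] M := Ψ ∘ₗ Matrix.mulVecLin A.adjugate ∘ₗ φ
  have hg₀ : ∀ c, d (g₀ (d (Ψ c))) = A.det • d (Ψ c) := by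
    intro c
    have h1 : φ (d (Ψ c)) = A.mulVec c := by
      funext i
      simp [Ψ, A, Fintype.linearCombination_apply, Matrix.mulVec, dotProduct, mul_comm]
    simp only [g₀, LinearMap.comp_apply, h1, Matrix.mulVecLin_apply, Matrix.mulVec_mulVec,
      Matrix.adjugate_mul, Matrix.smul_mulVec, Matrix.one_mulVec, map_smul]
  -- Nakayama at `p`
  set U := LinearMap.ker d ⊔ LinearMap.range Ψ
  have hQ : (⊤ : Submodule k (k ⊗[R] M)) ≤ LinearMap.ker (U.mkQ.baseChange k) := by
    have hW : W ≤ LinearMap.ker (U.mkQ.baseChange k) := by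
      refine h.trans ?_
      rintro _ ⟨y, rfl⟩
      rw [LinearMap.mem_ker, ← LinearMap.comp_apply, ← LinearMap.baseChange_comp]
      have : U.mkQ ∘ₗ (LinearMap.ker d).subtype = 0 :=
        LinearMap.ext fun v => (Submodule.Quotient.mk_eq_zero _).mpr (Submodule.mem_sup_left v.2)
      rw [this, LinearMap.baseChange_zero, LinearMap.zero_apply]
    rw [← Submodule.comap_top (W.mkQ), ← hGtop, ← hspan, ← Subtype.range_coe (s := b),
      show Set.range (fun i : b => (i : (k ⊗[R] M) ⧸ W)) =
        W.mkQ '' Set.range (fun i : b => (1 : k) ⊗ₜ[R] m i) by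
          rw [← Set.range_comp]; exact congrArg Set.range (funext fun i => (hm i).symm),
      ← Submodule.map_span, Submodule.comap_map_mkQ]
    refine sup_le hW (Submodule.span_le.mpr ?_)
    rintro _ ⟨i, rfl⟩
    simp only [SetLike.mem_coe, LinearMap.mem_ker, LinearMap.baseChange_tmul]
    rw [(Submodule.Quotient.mk_eq_zero U).mpr (Submodule.mem_sup_right
      ⟨Pi.single i 1, by simp [Ψ, Fintype.linearCombination_apply_single]⟩) |> fun h =>
        (show U.mkQ (m i) = 0 from h), tmul_zero]
  have hsub : Subsingleton (k ⊗[R] (M ⧸ U)) := by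
    refine subsingleton_of_forall_eq 0 fun x => ?_
    obtain ⟨y, rfl⟩ := LinearMap.baseChange_surjective _ U.mkQ_surjective x
    exact hQ (Submodule.mem_top (x := y))
  have hp : (⟨p, inferInstance⟩ : PrimeSpectrum R) ∉ Module.support R (M ⧸ U) := by
    rw [Module.mem_support_iff_nontrivial_residueField_tensorProduct, not_nontrivial_iff_subsingleton]
    exact hsub
  rw [Module.support_eq_zeroLocus, PrimeSpectrum.mem_zeroLocus, Set.not_subset] at hp
  obtain ⟨r, hr, hrp⟩ := hp
  refine ⟨r • g₀, A.det * r, Submonoid.mul_mem p.primeCompl hdet hrp, fun x => ?_⟩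
  have hx : r • x ∈ U := by
    rw [← Submodule.Quotient.mk_eq_zero, Submodule.Quotient.mk_smul]
    exact Module.mem_annihilator.mp hr _
  obtain ⟨y, hy, _, ⟨c, rfl⟩, hyc⟩ := Submodule.mem_sup.mp hx
  have h1 : r • d x = d (Ψ c) := by
    rw [← map_smul, ← hyc, map_add, LinearMap.mem_ker.mp hy, zero_add]
  rw [LinearMap.smul_apply, ← map_smul, h1, hg₀, ← h1, smul_smul]

theorem projective_coker_iff [Module.Finite R M] [Module.Finite R N] [Module.Projective R N] :
    Module.Projective R (N ⧸ LinearMap.range d) ↔ ∀ p : PrimeSpectrum R,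
      LinearMap.ker (d.baseChange p.asIdeal.ResidueField) ≤
        LinearMap.range ((LinearMap.ker d).subtype.baseChange p.asIdeal.ResidueField) := by
  haveI : Module.FinitePresentation R N := Module.finitePresentation_of_projective R N
  haveI : Module.FinitePresentation R (N ⧸ LinearMap.range d) :=
    Module.finitePresentation_of_surjective (LinearMap.range d).mkQ (Submodule.mkQ_surjective _)
      (by rw [Submodule.ker_mkQ]
          exact (LinearMap.range_eq_map d) ▸ Module.Finite.fg_top.map d)
  constructor
  · intro hC p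
    haveI : Module.Projective (Localization (⊥ : Submonoid R))
        (LocalizedModule (⊥ : Submonoid R) (N ⧸ LinearMap.range d)) :=
      Module.Projective.of_equiv (LocalizedModule.equivTensorProduct _ _).symm
    refine (quasiInv_of_projective_localizedModule (S := ⊥) inferInstance).ker_baseChange_le _ ?_
    intro s hs
    rw [Submonoid.mem_bot.mp hs, map_one]
    exact isUnit_one
  · intro H
    refine Module.projective_of_localization_maximal fun I hI => ?_
    exact projective_localizedModule (quasiInv_of_ker_baseChange_le I (H ⟨I, hI.isPrime⟩))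

theorem ker_baseChange_le_iff [Module.Finite R M] [Module.Finite R N] [Module.Projective R N]
    (p : Ideal R) [p.IsPrime] :
    LinearMap.ker (d.baseChange p.ResidueField) ≤
        LinearMap.range ((LinearMap.ker d).subtype.baseChange p.ResidueField) ↔
      ∃ f : R, f ∉ p ∧ Module.Projective (Localization.Away f)
        (LocalizedModule (Submonoid.powers f) (N ⧸ LinearMap.range d)) := by
  constructor
  · intro h
    obtain ⟨g, s, hs, hg⟩ := quasiInv_of_ker_baseChange_le p h
    exact ⟨s, hs, projective_localizedModule ⟨g, s, Submonoid.mem_powers s, hg⟩⟩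
  · rintro ⟨f, hf, hC⟩
    refine (quasiInv_of_projective_localizedModule hC).ker_baseChange_le _ ?_
    rintro _ ⟨n, rfl⟩
    refine isUnit_iff_ne_zero.mpr fun h0 => hf ?_
    exact ‹p.IsPrime›.mem_of_pow_mem n (Ideal.algebraMap_residueField_eq_zero.mp h0)

end Groth.Agent.H02CA.CokerProj
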