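import Groth.Agent.H02CA.ColimTensor
import Mathlib.RingTheory.Smooth.Basic
import Mathlib.RingTheory.Etale.Basic
import Mathlib.RingTheory.Kaehler.TensorProduct
import Mathlib.RingTheory.TensorProduct.Quotient
import Mathlib.RingTheory.IntegralClosure.IntegrallyClosed
import Mathlib.RingTheory.FinitePresentation
import Mathlib.RingTheory.FiniteType
import Mathlib.RingTheory.Finiteness.Cardinality

/-!
# Descent of properties of algebras to a stage of a colimit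
-/

set_option autoImplicit false
universe u

open TensorProduct

namespace Groth.Agent.H02CA.ColimDescent

open ColimTensor

variable {ι : Type u} {A₀ : Type u} [CommRing A₀] {G : ι → Type u} [∀ i, CommRing (G i)]
  [∀ i, Algebra A₀ (G i)] {A : Type u} [CommRing A] [Algebra A₀ A] {g : ∀ i, G i →ₐ[A₀] A}

section abstract

variable {R : Type u} [CommRing R] {X : ι → Type u} [∀ i, CommRing (X i)] [∀ i, Algebra R (X i)]
  {Xb : Type u} [CommRing Xb] [Algebra R Xb] {v : ∀ i, X i →ₐ[R] Xb}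
  {lp : ∀ {i j}, Hom g i j → X i →ₐ[R] X j}

/-- Two homomorphisms from a finite type algebra agree at a stage. -/
theorem eq_hom (hX : Approx g X Xb (fun i ↦ v i) (fun φ ↦ lp φ)) {C : Type u} [CommRing C] [Algebra R C]
    [Algebra.FiniteType R C] {i : ι} (a b : C →ₐ[R] X i) (h : (v i).comp a = (v i).comp b) :
    ∃ (j : ι) (φ : Hom g i j), (lp φ).comp a = (lp φ).comp b := by
  obtain ⟨s, hs⟩ := Algebra.FiniteType.out (R := R) (A := C)
  obtain ⟨j, φ, hφ⟩ := hX.exists_eq i s (fun c ↦ a c) (fun c ↦ b c) fun c _ ↦ AlgHom.congr_fun h c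
  exact ⟨j, φ, AlgHom.ext_of_adjoin_eq_top hs fun c hc ↦ hφ c hc⟩

/-- A homomorphism from a finitely presented algebra lifts to a stage. -/
theorem lift_hom (hX : Approx g X Xb (fun i ↦ v i) (fun φ ↦ lp φ)) {C : Type u} [CommRing C] [Algebra R C]
    [Algebra.FinitePresentation R C] (s : C →ₐ[R] Xb) (i₀ : ι) :
    ∃ (j : ι) (_ : Hom g i₀ j) (t : C →ₐ[R] X j), (v j).comp t = s := by
  classical
  obtain ⟨n, π, hπ, ⟨rel, hrel⟩⟩ := Algebra.FinitePresentation.out (R := R) (A := C)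
  obtain ⟨j, φ, x, hx⟩ := hX.exists_lift (fun _ ↦ 0) i₀ (Finset.univ : Finset (Fin n))
    fun k ↦ s (π (MvPolynomial.X k))
  have hv : (v j).comp (MvPolynomial.aeval x) = s.comp π :=
    MvPolynomial.algHom_ext fun k ↦ by simpa using hx k (Finset.mem_univ k)
  obtain ⟨k, ψ, hψ⟩ := hX.exists_eq j rel (fun r ↦ MvPolynomial.aeval x r) (fun _ ↦ 0) fun r hr ↦ by
    have h0 : π r = 0 := by
      have : r ∈ RingHom.ker π := hrel ▸ Ideal.subset_span hr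
      exact this
    change v j (MvPolynomial.aeval x r) = v j 0
    rw [← AlgHom.comp_apply, hv, AlgHom.comp_apply, h0, map_zero, map_zero]
  let t' : MvPolynomial (Fin n) R →ₐ[R] X k := (lp ψ).comp (MvPolynomial.aeval x)
  have hker : RingHom.ker π ≤ RingHom.ker t' := by
    refine (le_of_eq hrel.symm).trans (Ideal.span_le.mpr fun r hr ↦ ?_)
    change lp ψ (MvPolynomial.aeval x r) = 0
    rw [hψ r hr, map_zero]
  let t : C →ₐ[R] X k := (Ideal.Quotient.liftₐ (RingHom.ker π) t' fun p hp ↦ hker hp).comp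
    (Ideal.quotientKerAlgEquivOfSurjective hπ).symm.toAlgHom
  refine ⟨k, φ.trans ψ, t, ?_⟩
  have ht : t.comp π = t' := by
    refine AlgHom.ext fun p ↦ ?_
    have : (Ideal.quotientKerAlgEquivOfSurjective hπ).symm (π p) = Ideal.Quotient.mk _ p :=
      (AlgEquiv.symm_apply_eq _).mpr rfl
    change (Ideal.Quotient.liftₐ (RingHom.ker π) t' fun p hp ↦ hker hp)
      ((Ideal.quotientKerAlgEquivOfSurjective hπ).symm (π p)) = _
    rw [this]
    rfl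
  refine (AlgHom.cancel_right hπ).mp ?_
  rw [AlgHom.comp_assoc, ht, ← hv]
  exact AlgHom.ext fun p ↦ hX.compat ψ _

end abstract

variable (B₀ : Type u) [CommRing B₀] [Algebra A₀ B₀]

/-- A stage of the base. -/
abbrev E (A₀ : Type u) [CommRing A₀] (B₀ : Type u) [CommRing B₀] [Algebra A₀ B₀] {ι : Type u}
    (G : ι → Type u) [∀ i, CommRing (G i)] [∀ i, Algebra A₀ (G i)] (i : ι) : Type u :=
  B₀ ⊗[A₀] G i

/-- The map of a stage of the base to the colimit. -/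
noncomputable def uE (g : ∀ i, G i →ₐ[A₀] A) (i : ι) : E A₀ B₀ G i →ₐ[B₀] B₀ ⊗[A₀] A :=
  Algebra.TensorProduct.map (AlgHom.id B₀ B₀) (g i)

/-- The transition maps of the base. -/
noncomputable def mE {i j : ι} (φ : Hom g i j) : E A₀ B₀ G i →ₐ[B₀] E A₀ B₀ G j :=
  Algebra.TensorProduct.map (AlgHom.id B₀ B₀) φ.1

variable {B₀}

theorem approxE (hG : Approx g G A (fun i ↦ g i) (fun φ ↦ φ.1)) :
    Approx g (E A₀ B₀ G) (B₀ ⊗[A₀] A) (fun i ↦ uE B₀ g i) (fun φ ↦ mE B₀ φ) := by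
  refine (hG.lTensor (R := A₀) (fun i ↦ (g i).toLinearMap) (fun φ ↦ φ.1.toLinearMap) B₀).congr
    (fun _ ↦ Equiv.refl _) (Equiv.refl _) (fun i x ↦ ?_) fun {i j} φ x ↦ ?_
  · exact LinearMap.congr_fun (f := ((uE B₀ g i).toLinearMap.restrictScalars A₀))
      (g := (g i).toLinearMap.lTensor B₀) (TensorProduct.ext' fun a b ↦ by simp [uE]) x
  · exact LinearMap.congr_fun (f := ((mE B₀ φ).toLinearMap.restrictScalars A₀))
      (g := φ.1.toLinearMap.lTensor B₀) (TensorProduct.ext' fun a b ↦ by simp [mE]) x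

variable (B₀) in
/-- The map to the colimit after tensoring with an algebra. -/
noncomputable def uX (g : ∀ i, G i →ₐ[A₀] A) (C : Type u) [CommRing C] [Algebra B₀ C] (i : ι) :
    E A₀ B₀ G i ⊗[B₀] C →ₐ[B₀] (B₀ ⊗[A₀] A) ⊗[B₀] C :=
  Algebra.TensorProduct.map (uE B₀ g i) (AlgHom.id B₀ C)

variable (B₀) in
/-- The transition maps after tensoring with an algebra. -/
noncomputable def mX (C : Type u) [CommRing C] [Algebra B₀ C] {i j : ι} (φ : Hom g i j) :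
    E A₀ B₀ G i ⊗[B₀] C →ₐ[B₀] E A₀ B₀ G j ⊗[B₀] C :=
  Algebra.TensorProduct.map (mE B₀ φ) (AlgHom.id B₀ C)

theorem approxX (hG : Approx g G A (fun i ↦ g i) (fun φ ↦ φ.1)) (C : Type u) [CommRing C]
    [Algebra B₀ C] : Approx g (fun i ↦ E A₀ B₀ G i ⊗[B₀] C) ((B₀ ⊗[A₀] A) ⊗[B₀] C)
      (fun i ↦ uX B₀ g C i) (fun φ ↦ mX (g := g) B₀ C φ) := by
  refine ((approxE hG).rTensor (R := B₀) (fun i ↦ (uE B₀ g i).toLinearMap)
    (fun φ ↦ (mE B₀ φ).toLinearMap) C).congr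
    (fun _ ↦ Equiv.refl _) (Equiv.refl _) (fun i x ↦ ?_) fun {i j} φ x ↦ ?_
  · exact LinearMap.congr_fun (f := (uX B₀ g C i).toLinearMap)
      (g := (uE B₀ g i).toLinearMap.rTensor C) (TensorProduct.ext' fun a b ↦ by simp [uX]) x
  · exact LinearMap.congr_fun (f := (mX B₀ C φ).toLinearMap)
      (g := (mE B₀ φ).toLinearMap.rTensor C) (TensorProduct.ext' fun a b ↦ by simp [mX]) x

theorem uX_tmul (C : Type u) [CommRing C] [Algebra B₀ C] (i : ι) (a : E A₀ B₀ G i) (c : C) :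
    uX B₀ g C i (a ⊗ₜ[B₀] c) = uE B₀ g i a ⊗ₜ[B₀] c := rfl

theorem mX_tmul (C : Type u) [CommRing C] [Algebra B₀ C] {i j : ι} (φ : Hom g i j) (a : E A₀ B₀ G i)
    (c : C) : mX B₀ C φ (a ⊗ₜ[B₀] c) = mE B₀ φ a ⊗ₜ[B₀] c := rfl

variable (hG : Approx g G A (fun i ↦ g i) (fun φ ↦ φ.1))
variable (C₀ : Type u) [CommRing C₀] [Algebra B₀ C₀]

include hG

theorem finite_stage [Algebra.FiniteType B₀ C₀]
    (h : Module.Finite (B₀ ⊗[A₀] A) ((B₀ ⊗[A₀] A) ⊗[B₀] C₀)) :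
    ∃ i, Module.Finite (E A₀ B₀ G i) (E A₀ B₀ G i ⊗[B₀] C₀) := by
  classical
  obtain ⟨s, hs⟩ := Algebra.FiniteType.out (R := B₀) (A := C₀)
  have hint : ∀ c : C₀, IsIntegral (B₀ ⊗[A₀] A) ((1 : B₀ ⊗[A₀] A) ⊗ₜ[B₀] c) := fun c ↦
    IsIntegral.of_finite _ _
  choose p hp hpc using hint
  have h0 : ∀ c, ((1 : B₀ ⊗[A₀] A) ⊗ₜ[B₀] (c ^ (p c).natDegree)) +
      ∑ k ∈ Finset.range (p c).natDegree, ((p c).coeff k ⊗ₜ[B₀] (c ^ k)) = 0 := by
    intro c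
    refine Eq.trans ?_ (hpc c)
    rw [Polynomial.eval₂_eq_sum_range, Finset.sum_range_succ, add_comm]
    congr 1
    · refine Finset.sum_congr rfl fun k _ ↦ ?_
      simp [Algebra.TensorProduct.tmul_pow, Algebra.TensorProduct.tmul_mul_tmul]
    · simp [Algebra.TensorProduct.tmul_pow, (hp c).coeff_natDegree]
  obtain ⟨i₀⟩ := hG.ne
  obtain ⟨i, -, x, hx⟩ := (approxE (B₀ := B₀) hG).exists_lift (fun _ ↦ 0) i₀
    (s.sigma fun c ↦ Finset.range (p c).natDegree) fun q ↦ (p q.1).coeff q.2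
  let z : ∀ j, (Hom g i j) → C₀ → E A₀ B₀ G j ⊗[B₀] C₀ := fun j φ c ↦
    ((1 : E A₀ B₀ G j) ⊗ₜ[B₀] (c ^ (p c).natDegree)) +
      ∑ k ∈ Finset.range (p c).natDegree, (mE B₀ φ (x ⟨c, k⟩) ⊗ₜ[B₀] (c ^ k))
  obtain ⟨j, φ, hφ⟩ := (approxX (B₀ := B₀) hG C₀).exists_eq i s
    (fun c ↦ ((1 : E A₀ B₀ G i) ⊗ₜ[B₀] (c ^ (p c).natDegree)) +
      ∑ k ∈ Finset.range (p c).natDegree, (x ⟨c, k⟩ ⊗ₜ[B₀] (c ^ k))) (fun _ ↦ 0) fun c hc ↦ by
      rw [map_zero, ← h0 c, map_add, map_sum]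
      refine congrArg₂ (· + ·) ?_ (Finset.sum_congr rfl fun k hk ↦ ?_)
      · rw [uX_tmul, map_one]
      · rw [uX_tmul, hx ⟨c, k⟩ (Finset.mem_sigma.mpr ⟨hc, hk⟩)]
  refine ⟨j, ?_⟩
  have hz : ∀ c ∈ s, z j φ c = 0 := fun c hc ↦ by
    have := hφ c hc
    rw [map_zero, map_add, map_sum] at this
    simp only [mX_tmul, map_one] at this
    exact this
  let Ic := ((integralClosure (E A₀ B₀ G j) (E A₀ B₀ G j ⊗[B₀] C₀)).restrictScalars B₀).comap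
    (Algebra.TensorProduct.includeRight : C₀ →ₐ[B₀] E A₀ B₀ G j ⊗[B₀] C₀)
  have hIc : Ic = ⊤ := by
    rw [← top_le_iff, ← hs, Algebra.adjoin_le_iff]
    intro c hc
    refine ⟨Polynomial.X ^ (p c).natDegree +
      ∑ k ∈ Finset.range (p c).natDegree, Polynomial.C (mE B₀ φ (x ⟨c, k⟩)) * Polynomial.X ^ k, ?_, ?_⟩
    · refine Polynomial.monic_X_pow_add ((Polynomial.degree_sum_le _ _).trans_lt ?_)
      rw [Finset.sup_lt_iff (WithBot.bot_lt_coe _)]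
      exact fun k hk ↦ (Polynomial.degree_C_mul_X_pow_le k _).trans_lt
        (WithBot.coe_lt_coe.mpr (Finset.mem_range.mp hk))
    · refine Eq.trans ?_ (hz c hc)
      simp [z, Polynomial.eval₂_finsetSum, Algebra.TensorProduct.tmul_pow,
        Algebra.TensorProduct.tmul_mul_tmul]
  have : Algebra.IsIntegral (E A₀ B₀ G j) (E A₀ B₀ G j ⊗[B₀] C₀) := ⟨fun w ↦ by
    induction w with
    | zero => exact isIntegral_zero
    | add a b ha hb => exact ha.add hb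
    | tmul e c =>
      rw [show e ⊗ₜ[B₀] c = algebraMap (E A₀ B₀ G j) _ e * ((1 : E A₀ B₀ G j) ⊗ₜ[B₀] c) by
        simp [Algebra.TensorProduct.tmul_mul_tmul]]
      exact isIntegral_algebraMap.mul (hIc ▸ Algebra.mem_top : c ∈ Ic)⟩
  exact Algebra.IsIntegral.finite

theorem surjective_stage [Algebra.FiniteType B₀ C₀]
    (h : Function.Surjective (algebraMap (B₀ ⊗[A₀] A) ((B₀ ⊗[A₀] A) ⊗[B₀] C₀))) :
    ∃ i, Function.Surjective (algebraMap (E A₀ B₀ G i) (E A₀ B₀ G i ⊗[B₀] C₀)) := by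
  classical
  obtain ⟨s, hs⟩ := Algebra.FiniteType.out (R := B₀) (A := C₀)
  choose y hy using fun c : C₀ ↦ h (1 ⊗ₜ c)
  obtain ⟨i₀⟩ := hG.ne
  obtain ⟨i, -, x, hx⟩ := (approxE (B₀ := B₀) hG).exists_lift (fun _ ↦ 0) i₀ s y
  obtain ⟨j, φ, hφ⟩ := (approxX (B₀ := B₀) hG C₀).exists_eq i s
    (fun c ↦ x c ⊗ₜ[B₀] (1 : C₀)) (fun c ↦ (1 : E A₀ B₀ G i) ⊗ₜ[B₀] c) fun c hc ↦ by
      simp only [uX, Algebra.TensorProduct.map_tmul, map_one, AlgHom.coe_id, id_eq, hx c hc]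
      exact hy c
  refine ⟨j, fun w ↦ ?_⟩
  let Ic := (IsScalarTower.toAlgHom B₀ (E A₀ B₀ G j) (E A₀ B₀ G j ⊗[B₀] C₀)).range.comap
    (Algebra.TensorProduct.includeRight : C₀ →ₐ[B₀] E A₀ B₀ G j ⊗[B₀] C₀)
  have hIc : Ic = ⊤ := by
    rw [← top_le_iff, ← hs, Algebra.adjoin_le_iff]
    intro c hc
    refine ⟨mE B₀ φ (x c), ?_⟩
    have := hφ c hc
    simp only [mX_tmul, map_one] at this
    exact this
  induction w with
  | zero => exact ⟨0, map_zero _⟩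
  | add a b ha hb =>
    obtain ⟨a', rfl⟩ := ha
    obtain ⟨b', rfl⟩ := hb
    exact ⟨a' + b', map_add _ _ _⟩
  | tmul e c =>
    obtain ⟨e', he' : algebraMap (E A₀ B₀ G j) _ e' = 1 ⊗ₜ c⟩ := (hIc ▸ Algebra.mem_top : c ∈ Ic)
    exact ⟨e * e', by rw [map_mul, he', Algebra.TensorProduct.algebraMap_apply,
      Algebra.algebraMap_self, RingHom.id_apply, Algebra.TensorProduct.tmul_mul_tmul, mul_one,
      one_mul]⟩

theorem bijective_stage [Algebra.FinitePresentation B₀ C₀]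
    (h : Function.Bijective (algebraMap (B₀ ⊗[A₀] A) ((B₀ ⊗[A₀] A) ⊗[B₀] C₀))) :
    ∃ i, Function.Bijective (algebraMap (E A₀ B₀ G i) (E A₀ B₀ G i ⊗[B₀] C₀)) := by
  classical
  let e := AlgEquiv.ofBijective (IsScalarTower.toAlgHom B₀ (B₀ ⊗[A₀] A) _) h
  obtain ⟨i₀⟩ := hG.ne
  obtain ⟨i, -, r, hr⟩ := lift_hom (approxE (B₀ := B₀) hG)
    (e.symm.toAlgHom.comp (Algebra.TensorProduct.includeRight : C₀ →ₐ[B₀] _)) i₀
  obtain ⟨j, φ, hφ⟩ := eq_hom (approxX (B₀ := B₀) hG C₀)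
    ((IsScalarTower.toAlgHom B₀ (E A₀ B₀ G i) (E A₀ B₀ G i ⊗[B₀] C₀)).comp r)
    Algebra.TensorProduct.includeRight (by
      refine AlgHom.ext fun c ↦ ?_
      change uX B₀ g C₀ i (r c ⊗ₜ 1) = uX B₀ g C₀ i (1 ⊗ₜ c)
      simp only [uX, Algebra.TensorProduct.map_tmul, map_one, AlgHom.coe_id, id_eq]
      rw [show uE B₀ g i (r c) = e.symm (1 ⊗ₜ c) from AlgHom.congr_fun hr c]
      exact e.apply_symm_apply _)
  have hc : ∀ c, algebraMap (E A₀ B₀ G j) (E A₀ B₀ G j ⊗[B₀] C₀) (mE B₀ φ (r c)) = 1 ⊗ₜ c := fun c ↦ by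
    have := AlgHom.congr_fun hφ c
    simpa [mX] using this
  refine ⟨j, ?_, fun w ↦ ?_⟩
  · refine Function.LeftInverse.injective (g := Algebra.TensorProduct.lift
      (AlgHom.id (E A₀ B₀ G j) (E A₀ B₀ G j)) ((mE B₀ φ).comp r) fun x y ↦ by exact mul_comm _ _) fun x ↦ ?_
    refine (Algebra.TensorProduct.lift_tmul _ _ _ x (1 : C₀)).trans ?_
    rw [map_one, mul_one]
    rfl
  · induction w with
    | zero => exact ⟨0, map_zero _⟩
    | add a b ha hb =>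
      obtain ⟨a', rfl⟩ := ha
      obtain ⟨b', rfl⟩ := hb
      exact ⟨a' + b', map_add _ _ _⟩
    | tmul x c => exact ⟨x * mE B₀ φ (r c), by rw [map_mul, hc, Algebra.TensorProduct.algebraMap_apply,
        Algebra.algebraMap_self, RingHom.id_apply, Algebra.TensorProduct.tmul_mul_tmul, mul_one,
        one_mul]⟩

attribute [local instance] Algebra.TensorProduct.rightAlgebra in
theorem unramified_stage [Algebra.FiniteType B₀ C₀]
    (h : Algebra.FormallyUnramified (B₀ ⊗[A₀] A) ((B₀ ⊗[A₀] A) ⊗[B₀] C₀)) :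
    ∃ i, ∀ j, Hom g i j → Algebra.FormallyUnramified (E A₀ B₀ G j) (E A₀ B₀ G j ⊗[B₀] C₀) := by
  classical
  obtain ⟨s, hs⟩ := (Module.Finite.fg_top : (⊤ : Submodule C₀ (Ω[C₀⁄B₀])).FG)
  have : Subsingleton ((B₀ ⊗[A₀] A) ⊗[B₀] Ω[C₀⁄B₀]) :=
    (KaehlerDifferential.tensorKaehlerEquivBase B₀ (B₀ ⊗[A₀] A) C₀
      ((B₀ ⊗[A₀] A) ⊗[B₀] C₀)).toEquiv.subsingleton
  obtain ⟨i₀⟩ := hG.ne
  obtain ⟨i, φ₀, hi⟩ := ((approxE (B₀ := B₀) hG).rTensor (R := B₀) (fun i ↦ (uE B₀ g i).toLinearMap)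
    (fun φ ↦ (mE B₀ φ).toLinearMap) (Ω[C₀⁄B₀])).exists_eq i₀ s
    (fun ω ↦ (1 : E A₀ B₀ G i₀) ⊗ₜ[B₀] ω) (fun _ ↦ 0) fun _ _ ↦ Subsingleton.elim _ _
  refine ⟨i, fun j φ ↦ ⟨?_⟩⟩
  have hzero : ∀ ω : Ω[C₀⁄B₀], ((1 : E A₀ B₀ G j) ⊗ₜ[B₀] ω) = 0 := by
    intro ω
    have hω : ω ∈ Submodule.span C₀ (s : Set (Ω[C₀⁄B₀])) := hs ▸ Submodule.mem_top
    induction hω using Submodule.span_induction with
    | mem x hx =>
      have h1 := congrArg ((mE B₀ φ).toLinearMap.rTensor (Ω[C₀⁄B₀])) (hi x hx)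
      simpa using h1
    | zero => rw [tmul_zero]
    | add a b _ _ ha hb => rw [tmul_add, ha, hb, add_zero]
    | smul c x _ hx =>
      have h1 := congrArg ((Algebra.lsmul B₀ B₀ (Ω[C₀⁄B₀]) c).lTensor (E A₀ B₀ G j)) hx
      simpa using h1
  have : Subsingleton (E A₀ B₀ G j ⊗[B₀] Ω[C₀⁄B₀]) := subsingleton_of_forall_eq 0 fun w ↦ by
    induction w with
    | zero => rfl
    | add a b ha hb => rw [ha, hb, add_zero]
    | tmul e ω => rw [← mul_one e, ← smul_eq_mul, ← smul_tmul', hzero, smul_zero]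
  exact (KaehlerDifferential.tensorKaehlerEquivBase B₀ (E A₀ B₀ G j) C₀
    (E A₀ B₀ G j ⊗[B₀] C₀)).symm.toEquiv.subsingleton

theorem smooth_stage [Algebra.FinitePresentation B₀ C₀]
    (h : Algebra.FormallySmooth (B₀ ⊗[A₀] A) ((B₀ ⊗[A₀] A) ⊗[B₀] C₀)) (i₀ : ι) :
    ∃ (j : ι) (_ : Hom g i₀ j), Algebra.Smooth (E A₀ B₀ G j) (E A₀ B₀ G j ⊗[B₀] C₀) := by
  classical
  obtain ⟨n, π, hπ, -⟩ := Algebra.FinitePresentation.out (R := B₀) (A := C₀)
  let P₀ := MvPolynomial (Fin n) B₀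
  let Q₀ := P₀ ⧸ RingHom.ker π.toRingHom ^ 2
  let π₀ : Q₀ →ₐ[B₀] C₀ := π.kerSquareLift
  let Eb := B₀ ⊗[A₀] A
  let f' : Eb ⊗[B₀] P₀ →ₐ[Eb] Eb ⊗[B₀] C₀ := Algebra.TensorProduct.map (AlgHom.id Eb Eb) π
  have hf' : Function.Surjective f' :=
    Algebra.TensorProduct.map_surjective (AlgHom.id Eb Eb) π Function.surjective_id hπ
  obtain ⟨σ', hσ'⟩ := (Algebra.FormallySmooth.iff_split_surjection f' hf').mp h
  let μ : Eb ⊗[B₀] P₀ →ₐ[Eb] Eb ⊗[B₀] Q₀ :=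
    Algebra.TensorProduct.map (AlgHom.id Eb Eb) (Ideal.Quotient.mkₐ B₀ _)
  have hμ : RingHom.ker f'.toRingHom ^ 2 ≤ RingHom.ker μ.toRingHom := by
    have hk : RingHom.ker f'.toRingHom =
        (RingHom.ker π.toRingHom).map
          (Algebra.TensorProduct.includeRight : P₀ →ₐ[B₀] Eb ⊗[B₀] P₀).toRingHom :=
      Algebra.TensorProduct.lTensor_ker (A := Eb) π hπ
    rw [hk, ← Ideal.map_pow, Ideal.map_le_iff_le_comap]
    intro q hq
    change μ ((1 : Eb) ⊗ₜ[B₀] q) = 0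
    rw [Algebra.TensorProduct.map_tmul, Ideal.Quotient.mkₐ_eq_mk,
      Ideal.Quotient.eq_zero_iff_mem.mpr hq, tmul_zero]
  let μ' : (Eb ⊗[B₀] P₀) ⧸ RingHom.ker f'.toRingHom ^ 2 →ₐ[Eb] Eb ⊗[B₀] Q₀ :=
    Ideal.Quotient.liftₐ _ μ fun x hx ↦ hμ hx
  have hμ' : ∀ w, Algebra.TensorProduct.map (AlgHom.id Eb Eb) π₀ (μ' w) = f'.kerSquareLift w := by
    intro w
    obtain ⟨w, rfl⟩ := Ideal.Quotient.mk_surjective w
    rw [AlgHom.kerSquareLift_mk]
    change Algebra.TensorProduct.map (AlgHom.id Eb Eb) π₀ (μ w) = f' w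
    induction w with
    | zero => simp
    | add a b ha hb => simp only [map_add, ha, hb]
    | tmul a q =>
      simp only [μ, f', Algebra.TensorProduct.map_tmul, AlgHom.coe_id, id_eq]
      congr 1
  let σ : C₀ →ₐ[B₀] Eb ⊗[B₀] Q₀ :=
    ((μ'.comp σ').restrictScalars B₀).comp Algebra.TensorProduct.includeRight
  obtain ⟨i, φ, t, ht⟩ := lift_hom (approxX (B₀ := B₀) hG Q₀) σ i₀
  let πE : ∀ j, E A₀ B₀ G j ⊗[B₀] Q₀ →ₐ[B₀] E A₀ B₀ G j ⊗[B₀] C₀ := fun j ↦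
    Algebra.TensorProduct.map (AlgHom.id B₀ _) π₀
  have hnat : ∀ w : E A₀ B₀ G i ⊗[B₀] Q₀, uX B₀ g C₀ i (πE i w) =
      Algebra.TensorProduct.map (AlgHom.id Eb Eb) π₀ (uX B₀ g Q₀ i w) := by
    intro w
    induction w with
    | zero => simp
    | add a b ha hb => simp only [map_add, ha, hb]
    | tmul a q => simp [πE, uX]
  obtain ⟨j, ψ, hψ⟩ := eq_hom (approxX (B₀ := B₀) hG C₀) ((πE i).comp t)
    Algebra.TensorProduct.includeRight (by
      refine AlgHom.ext fun c ↦ ?_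
      change uX B₀ g C₀ i (πE i (t c)) = uX B₀ g C₀ i (1 ⊗ₜ c)
      rw [hnat, show uX B₀ g Q₀ i (t c) = σ c from AlgHom.congr_fun ht c]
      change Algebra.TensorProduct.map (AlgHom.id Eb Eb) π₀ (μ' (σ' (1 ⊗ₜ c))) = _
      rw [hμ', show f'.kerSquareLift (σ' (1 ⊗ₜ c)) = (1 : Eb) ⊗ₜ[B₀] c from
        AlgHom.congr_fun hσ' (1 ⊗ₜ c)]
      simp [uX])
  refine ⟨j, φ.trans ψ, ?_⟩
  let τ : C₀ →ₐ[B₀] E A₀ B₀ G j ⊗[B₀] Q₀ := (mX B₀ Q₀ ψ).comp t
  have hτ : ∀ c, πE j (τ c) = (1 : E A₀ B₀ G j) ⊗ₜ[B₀] c := fun c ↦ by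
    have h1 : ∀ w : E A₀ B₀ G i ⊗[B₀] Q₀, πE j (mX B₀ Q₀ ψ w) = mX B₀ C₀ ψ (πE i w) := by
      intro w
      induction w with
      | zero => simp
      | add a b ha hb => simp only [map_add, ha, hb]
      | tmul a q => simp [πE, mX]
    refine (h1 (t c)).trans ((AlgHom.congr_fun hψ c).trans ?_)
    simp [mX]
  let Ej := E A₀ B₀ G j
  let fj : Ej ⊗[B₀] P₀ →ₐ[Ej] Ej ⊗[B₀] C₀ := Algebra.TensorProduct.map (AlgHom.id Ej Ej) π
  let ν₀ : Q₀ →ₐ[B₀] (Ej ⊗[B₀] P₀) ⧸ RingHom.ker fj.toRingHom ^ 2 :=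
    Ideal.Quotient.liftₐ _ ((Ideal.Quotient.mkₐ B₀ _).comp Algebra.TensorProduct.includeRight)
      fun q hq ↦ by
        have hk : RingHom.ker π.toRingHom ^ 2 ≤ (RingHom.ker fj.toRingHom ^ 2).comap
            (Algebra.TensorProduct.includeRight : P₀ →ₐ[B₀] Ej ⊗[B₀] P₀).toRingHom := by
          refine le_trans (Ideal.pow_right_mono ?_ 2) (Ideal.le_comap_pow _ 2)
          intro x hx
          change fj ((1 : Ej) ⊗ₜ[B₀] x) = 0
          rw [Algebra.TensorProduct.map_tmul, show π x = 0 from hx, tmul_zero]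
        exact Ideal.Quotient.eq_zero_iff_mem.mpr (hk hq)
  let ν : Ej ⊗[B₀] Q₀ →ₐ[Ej] (Ej ⊗[B₀] P₀) ⧸ RingHom.ker fj.toRingHom ^ 2 :=
    Algebra.TensorProduct.lift (Algebra.ofId Ej _) ν₀ fun x y ↦ Commute.all (S := (Ej ⊗[B₀] P₀) ⧸ RingHom.ker fj.toRingHom ^ 2) _ _
  have hν : ∀ w, fj.kerSquareLift (ν w) = πE j w := by
    intro w
    induction w with
    | zero => exact (congrArg fj.kerSquareLift (map_zero ν)).trans ((map_zero _).trans (map_zero _).symm)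
    | add a b ha hb => simp only [map_add, ha, hb]
    | tmul a q =>
      obtain ⟨q, rfl⟩ := Ideal.Quotient.mk_surjective q
      simp only [ν, Algebra.TensorProduct.lift_tmul, map_mul, Algebra.ofId_apply, AlgHom.commutes]
      change _ * fj ((1 : Ej) ⊗ₜ[B₀] q) = a ⊗ₜ[B₀] π q
      rw [show fj ((1 : Ej) ⊗ₜ[B₀] q) = (1 : Ej) ⊗ₜ[B₀] π q from rfl,
        Algebra.TensorProduct.algebraMap_apply, Algebra.algebraMap_self, RingHom.id_apply,
        Algebra.TensorProduct.tmul_mul_tmul, mul_one, one_mul]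
  let gj : Ej ⊗[B₀] C₀ →ₐ[Ej] (Ej ⊗[B₀] P₀) ⧸ RingHom.ker fj.toRingHom ^ 2 :=
    Algebra.TensorProduct.lift (Algebra.ofId Ej _) ((ν.restrictScalars B₀).comp τ) fun x y ↦ Commute.all (S := (Ej ⊗[B₀] P₀) ⧸ RingHom.ker fj.toRingHom ^ 2) _ _
  have : Algebra.FormallySmooth Ej (Ej ⊗[B₀] C₀) := by
    refine Algebra.FormallySmooth.of_split fj gj (Algebra.TensorProduct.ext' fun a c ↦ ?_)
    simp only [gj, AlgHom.comp_apply, Algebra.TensorProduct.lift_tmul, map_mul, Algebra.ofId_apply,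
      AlgHom.commutes, AlgHom.id_apply]
    change _ * fj.kerSquareLift (ν (τ c)) = _
    rw [hν, hτ]
    rw [Algebra.TensorProduct.algebraMap_apply, Algebra.algebraMap_self, RingHom.id_apply,
        Algebra.TensorProduct.tmul_mul_tmul, mul_one, one_mul]
  exact ⟨this, inferInstance⟩

theorem etale_stage [Algebra.FinitePresentation B₀ C₀]
    (h : Algebra.Etale (B₀ ⊗[A₀] A) ((B₀ ⊗[A₀] A) ⊗[B₀] C₀)) :
    ∃ i, Algebra.Etale (E A₀ B₀ G i) (E A₀ B₀ G i ⊗[B₀] C₀) := by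
  obtain ⟨i, hi⟩ := unramified_stage (B₀ := B₀) hG C₀ inferInstance
  obtain ⟨j, φ, hj⟩ := smooth_stage (B₀ := B₀) hG C₀ inferInstance i
  have := hi j φ
  have := hj.formallySmooth
  exact ⟨j, ⟨Algebra.FormallyEtale.iff_formallyUnramified_and_formallySmooth.mpr ⟨inferInstance, inferInstance⟩,
    inferInstance⟩⟩

end Groth.Agent.H02CA.ColimDescent
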