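import Groth.Agent.H02CA.ColimTensor
import Groth.Agent.H4Depth.Regular
import Groth.Agent.H4Depth.IdealDepth
import Mathlib.RingTheory.Ideal.Cotangent
import Mathlib.RingTheory.KrullDimension.Regular
import Mathlib.RingTheory.Regular.RegularSequence
import Mathlib.RingTheory.Localization.AtPrime.Basic
import Mathlib.RingTheory.RegularLocalRing.Defs

/-!
# Noetherian filtered colimits of regular rings are regular
-/

set_option autoImplicit false
universe u

open IsLocalRing RingTheory.Sequence

namespace Groth.Agent.H02CA.ColimRegular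

theorem isWeaklyRegular_of_linearIndependent (R : Type u) [CommRing R] [IsRegularLocalRing R]
    {m : ℕ} (v : Fin m → maximalIdeal R)
    (hv : LinearIndependent (ResidueField R) fun i ↦ (maximalIdeal R).toCotangent (v i)) :
    IsWeaklyRegular R (List.ofFn fun i ↦ (v i : R)) := by
  classical
  let C := CotangentSpace R
  let W : Submodule (ResidueField R) C := Submodule.span _ (Set.range fun i ↦ (maximalIdeal R).toCotangent (v i))
  let e := Module.finrank (ResidueField R) (C ⧸ W)
  have b := Module.finBasis (ResidueField R) (C ⧸ W)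
  choose w₀ hw₀ using fun j ↦ Submodule.mkQ_surjective W (b j)
  choose w hw using fun j ↦ (maximalIdeal R).toCotangent_surjective (w₀ j)
  let u : Fin (m + e) → maximalIdeal R := Fin.append v w
  have hspan : Submodule.span (ResidueField R) ((maximalIdeal R).toCotangent '' Set.range u) = ⊤ := by
    rw [eq_top_iff]
    intro c _
    have hWle : W ≤ Submodule.span (ResidueField R) ((maximalIdeal R).toCotangent '' Set.range u) :=
      Submodule.span_le.mpr fun _ ⟨i, hi⟩ ↦ hi ▸ Submodule.subset_span
        ⟨v i, ⟨Fin.castAdd e i, Fin.append_left v w i⟩, rfl⟩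
    have hsum : c - ∑ j, b.repr (W.mkQ c) j • w₀ j ∈ W := by
      refine (Submodule.Quotient.mk_eq_zero W).mp ?_
      change W.mkQ (c - ∑ j, b.repr (W.mkQ c) j • w₀ j) = 0
      rw [map_sub, map_sum]
      simp only [map_smul, hw₀, b.sum_repr, sub_self]
    rw [← sub_add_cancel c (∑ j, b.repr (W.mkQ c) j • w₀ j)]
    refine add_mem (hWle hsum) (sum_mem fun j _ ↦ Submodule.smul_mem _ _ (Submodule.subset_span ?_))
    exact ⟨w j, ⟨Fin.natAdd m j, Fin.append_right v w j⟩, hw j⟩
  rw [CotangentSpace.span_image_eq_top_iff] at hspan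
  have hmax : Ideal.span (Set.range fun i ↦ (u i : R)) = maximalIdeal R := by
    have h := congrArg (Submodule.map (maximalIdeal R).subtype) hspan
    rw [Submodule.map_span, Submodule.map_top, Submodule.range_subtype, ← Set.range_comp] at h
    exact h
  have hd : ringKrullDim R = ((m + e : ℕ) : WithBot ℕ∞) := by
    have h1 : Module.finrank (ResidueField R) W = m := by
      rw [finrank_span_eq_card hv, Fintype.card_fin]
    have h2 := Submodule.finrank_quotient_add_finrank W
    rw [h1] at h2
    rw [← (IsRegularLocalRing.iff_finrank_cotangentSpace R).mp inferInstance, ← h2, add_comm]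
  have h := (H4Depth.isRegular_ofFn_of_span_eq (m + e) hd _ hmax).1
  refine H4Depth.isWeaklyRegular_of_prefix ⟨List.ofFn fun j ↦ (w j : R), ?_⟩ h
  rw [← List.ofFn_fin_append]
  congr 1
  funext i
  refine Fin.addCases (fun i ↦ ?_) (fun i ↦ ?_) i
  · rw [Fin.append_left]
    exact congrArg Subtype.val (Fin.append_left v w i).symm
  · rw [Fin.append_right]
    exact congrArg Subtype.val (Fin.append_right v w i).symm

/-- The ideal of the first `k` terms of a family. -/
def initSpan {S : Type u} [CommRing S] {d : ℕ} (z : Fin d → S) (k : Fin d) : Ideal S :=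
  Ideal.span (z '' {l | (l : ℕ) < (k : ℕ)})

theorem map_initSpan {S T : Type u} [CommRing S] [CommRing T] (φ : S →+* T) {d : ℕ} (z : Fin d → S)
    (k : Fin d) : (initSpan z k).map φ = initSpan (φ ∘ z) k := by
  rw [initSpan, Ideal.map_span, ← Set.image_comp]
  rfl

theorem ofList_take {S : Type u} [CommRing S] {d : ℕ} (z : Fin d → S) (k : Fin d) :
    Ideal.ofList ((List.ofFn z).take k) = initSpan z k := by
  refine congrArg Ideal.span (Set.ext fun r ↦ ?_)
  simp only [Set.mem_ofPred_eq, List.mem_take_iff_getElem, List.length_ofFn, List.getElem_ofFn, Set.mem_image]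
  constructor
  · rintro ⟨l, hl, rfl⟩
    exact ⟨⟨l, by omega⟩, by simp only; omega, rfl⟩
  · rintro ⟨l, hl, rfl⟩
    exact ⟨l, by omega, rfl⟩

theorem isWeaklyRegular_ofFn_iff {S : Type u} [CommRing S] {d : ℕ} (z : Fin d → S) :
    IsWeaklyRegular S (List.ofFn z) ↔ ∀ k a, z k * a ∈ initSpan z k → a ∈ initSpan z k := by
  have key : ∀ k : Fin d, IsSMulRegular (S ⧸ (Ideal.ofList ((List.ofFn z).take k) • ⊤ : Submodule S S)) (z k) ↔
      ∀ a, z k * a ∈ initSpan z k → a ∈ initSpan z k := by
    intro k
    have hI : (Ideal.ofList ((List.ofFn z).take k) • ⊤ : Submodule S S) = initSpan z k := by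
      rw [ofList_take, smul_eq_mul, Ideal.mul_top]
    rw [isSMulRegular_iff_right_eq_zero_of_smul]
    constructor
    · intro h a ha
      have := h (Submodule.Quotient.mk a) (by
        rw [← Submodule.Quotient.mk_smul, Submodule.Quotient.mk_eq_zero, hI]
        exact ha)
      rwa [Submodule.Quotient.mk_eq_zero, hI] at this
    · intro h q hq
      obtain ⟨a, rfl⟩ := Submodule.Quotient.mk_surjective _ q
      rw [← Submodule.Quotient.mk_smul, Submodule.Quotient.mk_eq_zero, hI] at hq
      rw [Submodule.Quotient.mk_eq_zero, hI]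
      exact h a hq
  rw [isWeaklyRegular_iff_Fin]
  constructor
  · intro h k
    have := h ⟨k, by simp⟩
    rw [← key k]
    simpa using this
  · intro h i
    have := (key ⟨i, by simpa using i.2⟩).mpr (h _)
    simpa using this

theorem mem_initSpan_iff {S : Type u} [CommRing S] {d : ℕ} (z : Fin d → S) (k : Fin d) (a : S) :
    a ∈ initSpan z k ↔ ∃ c : Fin d → S, (∀ l : Fin d, (k : ℕ) ≤ (l : ℕ) → c l = 0) ∧ ∑ l, c l * z l = a := by
  classical
  constructor
  · intro ha
    induction ha using Submodule.span_induction with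
    | mem a ha =>
      obtain ⟨l, hl, rfl⟩ := ha
      refine ⟨Pi.single l 1, fun l' hl' ↦ Pi.single_eq_of_ne (fun h ↦ ?_) _, by simp [Pi.single_apply]⟩
      subst h
      exact absurd hl (not_lt.mpr hl')
    | zero => exact ⟨0, fun _ _ ↦ rfl, by simp⟩
    | add a b _ _ ha hb =>
      obtain ⟨c, hc, rfl⟩ := ha
      obtain ⟨c', hc', rfl⟩ := hb
      exact ⟨c + c', fun l hl ↦ by simp [hc l hl, hc' l hl], by simp [add_mul, Finset.sum_add_distrib]⟩
    | smul r a _ ha =>
      obtain ⟨c, hc, rfl⟩ := ha
      exact ⟨fun l ↦ r * c l, fun l hl ↦ by simp [hc l hl], by simp [Finset.mul_sum, mul_assoc]⟩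
  · rintro ⟨c, hc, rfl⟩
    refine sum_mem fun l _ ↦ ?_
    by_cases hl : (k : ℕ) ≤ l
    · rw [hc l hl, zero_mul]; exact zero_mem _
    · exact Ideal.mul_mem_left _ _ (Ideal.subset_span ⟨l, not_le.mp hl, rfl⟩)

open ColimTensor in
/-- A Noetherian directed colimit of regular rings is regular. -/
theorem isRegularRing_of_approx {ι : Type u} {A₀ : Type u} [CommRing A₀] {G : ι → Type u}
    [∀ i, CommRing (G i)] [∀ i, Algebra A₀ (G i)] {A : Type u} [CommRing A] [Algebra A₀ A]
    {g : ∀ i, G i →ₐ[A₀] A} {R : Type u} [CommRing R] {X : ι → Type u} [∀ i, CommRing (X i)]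
    [∀ i, Algebra R (X i)] [∀ i, IsRegularRing (X i)] {Xb : Type u} [CommRing Xb] [Algebra R Xb]
    [IsNoetherianRing Xb] {v : ∀ i, X i →ₐ[R] Xb} {lp : ∀ {i j}, Hom g i j → X i →ₐ[R] X j}
    (hX : Approx g X Xb (fun i ↦ v i) (fun φ ↦ lp φ)) : IsRegularRing Xb := by
  classical
  rw [isRegularRing_iff]
  intro q _
  let L := Localization.AtPrime q
  let am := algebraMap Xb L
  let d := Module.finrank (ResidueField L) (CotangentSpace L)
  have b := Module.finBasis (ResidueField L) (CotangentSpace L)
  choose y hy using fun i ↦ (maximalIdeal L).toCotangent_surjective (b i)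
  choose x s hxs using fun i ↦ IsLocalization.exists_mk'_eq q.primeCompl (y i : L)
  have hxq : ∀ i, am (x i) ∈ maximalIdeal L := fun i ↦ by
    rw [show am (x i) = am (s i) * (y i : L) from (by rw [← hxs i, IsLocalization.mk'_spec'])]
    exact Ideal.mul_mem_left _ _ (y i).2
  let z : Fin d → maximalIdeal L := fun i ↦ ⟨am (x i), hxq i⟩
  have hz : LinearIndependent (ResidueField L) fun i ↦ (maximalIdeal L).toCotangent (z i) := by
    have hu : ∀ i, IsUnit (residue L (am (s i))) := fun i ↦
      (IsLocalization.map_units L (s i)).map (residue L)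
    have : (fun i ↦ (maximalIdeal L).toCotangent (z i)) = fun i ↦ (hu i).unit • b i := funext fun i ↦ by
      rw [show z i = am (s i) • y i from Subtype.ext (by
        change am (x i) = am (s i) * (y i : L)
        rw [← hxs i, IsLocalization.mk'_spec']), map_smul, hy]
      exact (algebraMap_smul (ResidueField L) _ _).symm
    rw [this]
    exact b.linearIndependent.units_smul fun i ↦ (hu i).unit
  obtain ⟨i₀⟩ := hX.ne
  -- regularity of the sequence
  have hreg : IsWeaklyRegular L (List.ofFn fun i ↦ am (x i)) := by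
    rw [isWeaklyRegular_ofFn_iff]
    intro k a ha
    obtain ⟨a, sa, rfl⟩ := IsLocalization.exists_mk'_eq q.primeCompl a
    have ha' : am (x k * a) ∈ (initSpan x k).map am := by
      rw [map_initSpan, map_mul]
      change am (x k) * am a ∈ initSpan (fun i ↦ am (x i)) k
      rw [← IsLocalization.mk'_spec L a sa, ← mul_assoc]
      exact Ideal.mul_mem_right _ _ ha
    rw [IsLocalization.algebraMap_mem_map_algebraMap_iff q.primeCompl L] at ha'
    obtain ⟨t, htq, ht⟩ := ha'
    obtain ⟨c, hc, hceq⟩ := (mem_initSpan_iff x k _).mp ht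
    -- pull the data back to a stage
    obtain ⟨j, -, xj, hxj⟩ := hX.exists_lift (fun _ ↦ 0) i₀ (Finset.univ : Finset (Fin d ⊕ Fin d ⊕ Fin 2))
      (Sum.elim x (Sum.elim c ![t, a]))
    obtain ⟨j', φ, hφ⟩ := hX.exists_eq j ({()} : Finset Unit)
      (fun _ ↦ ∑ l : Fin d, (if (k : ℕ) ≤ (l : ℕ) then 0 else xj (Sum.inr (Sum.inl l))) * xj (Sum.inl l))
      (fun _ ↦ xj (Sum.inr (Sum.inr 0)) * (xj (Sum.inl k) * xj (Sum.inr (Sum.inr 1)))) fun _ _ ↦ by
        simp only [map_sum, map_mul, hxj _ (Finset.mem_univ _)]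
        refine Eq.trans (Finset.sum_congr rfl fun l _ ↦ ?_) hceq
        split_ifs with hl
        · simp [hc l hl]
        · simp [hxj _ (Finset.mem_univ _)]
    have hv : ∀ w, v j' (lp φ w) = v j w := fun w ↦ hX.compat φ w
    let qj : Ideal (X j') := q.comap (v j')
    let Lj := Localization.AtPrime qj
    let amj := algebraMap (X j') Lj
    let x' : Fin d → X j' := fun l ↦ lp φ (xj (Sum.inl l))
    have hvx : ∀ l, v j' (x' l) = x l := fun l ↦ (hv _).trans (hxj _ (Finset.mem_univ _))
    have hxqj : ∀ l, amj (x' l) ∈ maximalIdeal Lj := fun l ↦ by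
      rw [IsLocalization.AtPrime.to_map_mem_maximal_iff Lj qj]
      change v j' (x' l) ∈ q
      rw [hvx l, ← IsLocalization.AtPrime.to_map_mem_maximal_iff L q]
      exact hxq l
    let h : Lj →+* L := Localization.localRingHom qj q (v j').toRingHom rfl
    have hh : ∀ w, h (amj w) = am (v j' w) := fun w ↦ Localization.localRingHom_to_map _ _ _ _ w
    have hli : LinearIndependent (ResidueField Lj) fun l ↦
        (maximalIdeal Lj).toCotangent ⟨amj (x' l), hxqj l⟩ := by
      refine Fintype.linearIndependent_iff.mpr fun lam hlam l₀ ↦ ?_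
      choose μ hμ using fun l ↦ residue_surjective (lam l)
      have h1 : ∑ l, μ l * amj (x' l) ∈ maximalIdeal Lj ^ 2 := by
        have h0 : (maximalIdeal Lj).toCotangent (∑ l, μ l • ⟨amj (x' l), hxqj l⟩) = 0 := by
          rw [map_sum, ← hlam]
          refine Finset.sum_congr rfl fun l _ ↦ ?_
          rw [map_smul, ← hμ l]
          exact (algebraMap_smul (ResidueField Lj) _ _).symm
        have := (Ideal.toCotangent_eq_zero _ _).mp h0
        simpa using this
      have h2 : ∑ l, h (μ l) • z l ∈ LinearMap.ker (maximalIdeal L).toCotangent := by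
        rw [Ideal.mem_toCotangent_ker]
        have hmap : (maximalIdeal Lj ^ 2).map h ≤ maximalIdeal L ^ 2 := by
          rw [Ideal.map_pow]
          exact Ideal.pow_right_mono ((local_hom_TFAE h).out 0 2 |>.mp (Localization.isLocalHom_localRingHom _ _ _ rfl)) 2
        have := hmap (Ideal.mem_map_of_mem h h1)
        simpa [map_sum, hh, hvx, z] using this
      have h3 := Fintype.linearIndependent_iff.mp hz (fun l ↦ residue L (h (μ l))) (by
        rw [← LinearMap.mem_ker.mp h2, map_sum]
        refine Finset.sum_congr rfl fun l _ ↦ ?_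
        rw [map_smul]
        exact algebraMap_smul (ResidueField L) _ _) l₀
      rw [← hμ l₀, residue_eq_zero_iff, mem_maximalIdeal, mem_nonunits_iff]
      intro hu
      rw [residue_eq_zero_iff, mem_maximalIdeal, mem_nonunits_iff] at h3
      exact h3 (hu.map h)
    have hreg' := isWeaklyRegular_of_linearIndependent Lj
      (fun l ↦ (⟨amj (x' l), hxqj l⟩ : maximalIdeal Lj)) hli
    rw [isWeaklyRegular_ofFn_iff] at hreg'
    let t' := lp φ (xj (Sum.inr (Sum.inr 0)))
    let a' := lp φ (xj (Sum.inr (Sum.inr 1)))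
    have hs' : amj t' * (amj (x' k) * amj a') ∈ initSpan (fun l ↦ amj (x' l)) k := by
      have h4 := hφ () (Finset.mem_singleton_self _)
      simp only [map_sum, map_mul] at h4
      rw [← map_mul amj, ← map_mul amj, ← h4, map_sum]
      refine sum_mem fun l _ ↦ ?_
      rw [map_mul]
      split_ifs with hl
      · rw [map_zero, map_zero, zero_mul]; exact zero_mem _
      · exact Ideal.mul_mem_left _ _ (Ideal.subset_span ⟨l, not_le.mp hl, rfl⟩)
    have ht' : IsUnit (amj t') := by
      refine IsLocalization.map_units Lj (⟨t', fun hmem ↦ ?_⟩ : qj.primeCompl)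
      refine htq ?_
      have : v j' t' ∈ q := hmem
      rwa [hv, hxj _ (Finset.mem_univ _)] at this
    have h5 := hreg' k (amj a') ((Ideal.unit_mul_mem_iff_mem _ ht').mp hs')
    have h6 := Ideal.mem_map_of_mem h h5
    rw [map_initSpan, hh, hv, hxj _ (Finset.mem_univ _)] at h6
    rw [show h ∘ (fun l ↦ amj (x' l)) = fun i ↦ am (x i) from funext fun l ↦ (hh _).trans (by rw [hvx l])] at h6
    exact IsLocalization.mk'_mem_iff.mpr h6
  -- dimension count
  have hregular : IsRegular L (List.ofFn fun i ↦ am (x i)) :=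
    (IsLocalRing.isRegular_iff_isWeaklyRegular_of_subset_maximalIdeal (fun r hr ↦ by
      obtain ⟨i, rfl⟩ := List.mem_ofFn.mp hr; exact hxq i)).mpr hreg
  have hsum := Module.supportDim_add_length_eq_supportDim_of_isRegular _ hregular
  rw [Module.supportDim_self_eq_ringKrullDim, List.length_ofFn] at hsum
  have hne : (Module.supportDim L (L ⧸ (Ideal.ofList (List.ofFn fun i ↦ am (x i)) • ⊤ : Submodule L L))) ≥ 0 := by
    have : Nontrivial (L ⧸ (Ideal.ofList (List.ofFn fun i ↦ am (x i)) • ⊤ : Submodule L L)) :=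
      Submodule.Quotient.nontrivial_iff.mpr hregular.top_ne_smul.symm
    have hb := Module.supportDim_ne_bot_of_nontrivial L
      (L ⧸ (Ideal.ofList (List.ofFn fun i ↦ am (x i)) • ⊤ : Submodule L L))
    revert hb
    generalize Module.supportDim L (L ⧸ (Ideal.ofList (List.ofFn fun i ↦ am (x i)) • ⊤ : Submodule L L)) = e
    intro hb
    cases e with
    | bot => exact absurd rfl hb
    | coe e => exact WithBot.coe_le_coe.mpr bot_le
  refine IsRegularLocalRing.of_spanFinrank_maximalIdeal_le _ ?_
  have hfr : ((maximalIdeal L).spanFinrank : WithBot ℕ∞) = (d : ℕ) := by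
    rw [spanFinrank_maximalIdeal_eq_finrank_cotangentSpace]
  rw [hfr, ← hsum]
  calc ((d : ℕ) : WithBot ℕ∞) = 0 + (d : ℕ) := (zero_add _).symm
    _ ≤ _ := add_le_add hne le_rfl

end Groth.Agent.H02CA.ColimRegular
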