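import Mathlib.Algebra.Colimit.TensorProduct
import Mathlib.LinearAlgebra.TensorProduct.RightExactness
import Mathlib.LinearAlgebra.TensorProduct.Finiteness
import Mathlib.RingTheory.TensorProduct.Maps
import Mathlib.RingTheory.Finiteness.Basic
import Mathlib.Tactic.Abel

/-!
# Elementwise directed colimits and tensor products
-/

set_option autoImplicit false
universe u

open TensorProduct

namespace Groth.Agent.H02CA.ColimTensor

variable {ι : Type u} {A₀ : Type u} [CommRing A₀] {G : ι → Type u} [∀ i, CommRing (G i)]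
  [∀ i, Algebra A₀ (G i)] {A : Type u} [CommRing A] [Algebra A₀ A]

/-- Maps of stages compatible with the maps to the colimit. -/
def Hom (g : ∀ i, G i →ₐ[A₀] A) (i j : ι) : Type u :=
  {φ : G i →ₐ[A₀] G j // (g j).comp φ = g i}

variable {g : ∀ i, G i →ₐ[A₀] A}

/-- Composition of compatible maps. -/
def Hom.trans {i j k : ι} (φ : Hom g i j) (ψ : Hom g j k) : Hom g i k :=
  ⟨ψ.1.comp φ.1, by rw [← AlgHom.comp_assoc, ψ.2, φ.2]⟩

/-- An elementwise colimit indexed by the compatible maps of `g`. -/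
structure Approx (g : ∀ i, G i →ₐ[A₀] A) (M : ι → Type u) (Mb : Type u) (u : ∀ i, M i → Mb)
    (mp : ∀ {i j}, Hom g i j → M i → M j) : Prop where
  compat : ∀ {i j} (φ : Hom g i j) (x : M i), u j (mp φ x) = u i x
  comp : ∀ {i j k} (φ : Hom g i j) (ψ : Hom g j k) (x : M i), mp (φ.trans ψ) x = mp ψ (mp φ x)
  dir : ∀ i j, ∃ k, Nonempty (Hom g i k) ∧ Nonempty (Hom g j k)
  ne : Nonempty ι
  surj : ∀ y : Mb, ∃ i x, u i x = y
  eq : ∀ i (x y : M i), u i x = u i y → ∃ (j : ι) (φ : Hom g i j), mp φ x = mp φ y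

/-- The basic approximation from a directed system. -/
theorem approx_of_directed [Preorder ι] [IsDirected ι (· ≤ ·)] [Nonempty ι]
    (f : ∀ i j, i ≤ j → (G i →ₐ[A₀] G j)) (hg : ∀ i j (h : i ≤ j), (g j).comp (f i j h) = g i)
    (hsurj : ∀ a : A, ∃ i, ∃ x : G i, g i x = a)
    (hker : ∀ i (x : G i), g i x = 0 → ∃ j, ∃ h : i ≤ j, f i j h x = 0) :
    Approx g G A (fun i ↦ g i) (fun φ ↦ φ.1) where
  compat φ x := AlgHom.congr_fun φ.2 x
  comp _ _ _ := rfl
  dir i j := by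
    obtain ⟨k, hik, hjk⟩ := directed_of (· ≤ ·) i j
    exact ⟨k, ⟨⟨f i k hik, hg i k hik⟩⟩, ⟨⟨f j k hjk, hg j k hjk⟩⟩⟩
  ne := inferInstance
  surj := hsurj
  eq i x y h := by
    obtain ⟨j, hij, hj⟩ := hker i (x - y) (by rw [map_sub, h, sub_self])
    exact ⟨j, ⟨f i j hij, hg i j hij⟩, sub_eq_zero.mp (by rw [← map_sub]; exact hj)⟩

variable {M : ι → Type u} {Mb : Type u} {u : ∀ i, M i → Mb} {mp : ∀ {i j}, Hom g i j → M i → M j}

/-- Finitely many elements come from a stage above any given one. -/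
theorem Approx.exists_lift (hM : Approx g M Mb u mp) (d : ∀ j, M j) (i : ι) {κ : Type*} (s : Finset κ) (y : κ → Mb) :
    ∃ (j : ι) (_ : Hom g i j) (x : κ → M j), ∀ c ∈ s, u j (x c) = y c := by
  classical
  induction s using Finset.induction with
  | empty =>
    obtain ⟨j, ⟨φ⟩, -⟩ := hM.dir i i
    exact ⟨j, φ, fun _ ↦ d j, by simp⟩
  | insert a s ha ih =>
    obtain ⟨j, φ, x, hx⟩ := ih
    obtain ⟨k, xa, hxa⟩ := hM.surj (y a)
    obtain ⟨l, ⟨φ₁⟩, ⟨φ₂⟩⟩ := hM.dir j k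
    refine ⟨l, φ.trans φ₁, fun c ↦ if c = a then mp φ₂ xa else mp φ₁ (x c), fun c hc ↦ ?_⟩
    by_cases hca : c = a
    · subst hca; simp [hM.compat, hxa]
    · simp [hca, hM.compat, hx c ((Finset.mem_insert.mp hc).resolve_left hca)]

/-- Finitely many equalities hold at a later stage. -/
theorem Approx.exists_eq (hM : Approx g M Mb u mp) (i : ι) {κ : Type*} (s : Finset κ)
    (x y : κ → M i) (h : ∀ c ∈ s, u i (x c) = u i (y c)) :
    ∃ (j : ι) (φ : Hom g i j), ∀ c ∈ s, mp φ (x c) = mp φ (y c) := by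
  classical
  induction s using Finset.induction with
  | empty =>
    obtain ⟨j, ⟨φ⟩, -⟩ := hM.dir i i
    exact ⟨j, φ, by simp⟩
  | insert a s ha ih =>
    obtain ⟨j, φ, hφ⟩ := ih fun c hc ↦ h c (Finset.mem_insert_of_mem hc)
    obtain ⟨k, ψ, hψ⟩ := hM.eq j (mp φ (x a)) (mp φ (y a)) (by
      rw [hM.compat, hM.compat, h a (Finset.mem_insert_self _ _)])
    refine ⟨k, φ.trans ψ, fun c hc ↦ ?_⟩
    rw [hM.comp, hM.comp]
    rcases Finset.mem_insert.mp hc with rfl | hc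
    · exact hψ
    · rw [hφ c hc]

variable {R : Type u} [CommRing R] [∀ i, AddCommGroup (M i)] [∀ i, Module R (M i)]
  [AddCommGroup Mb] [Module R Mb]

/-- Elementwise colimits commute with tensor products. -/
theorem Approx.rTensor (v : ∀ i, M i →ₗ[R] Mb) (lp : ∀ {i j}, Hom g i j → M i →ₗ[R] M j)
    (hM : Approx g M Mb (fun i ↦ v i) (fun φ ↦ lp φ)) (N : Type u) [AddCommGroup N] [Module R N] :
    Approx g (fun i ↦ M i ⊗[R] N) (Mb ⊗[R] N) (fun i ↦ (v i).rTensor N)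
      (fun φ ↦ (lp φ).rTensor N) := by
  classical
  have hcompat : ∀ {i j} (φ : Hom g i j), v j ∘ₗ lp φ = v i := fun φ ↦ LinearMap.ext (hM.compat φ)
  have hcomp : ∀ {i j k} (φ : Hom g i j) (ψ : Hom g j k), lp (φ.trans ψ) = lp ψ ∘ₗ lp φ :=
    fun φ ψ ↦ LinearMap.ext (hM.comp φ ψ)
  have comp' : ∀ {i j k} (φ : Hom g i j) (ψ : Hom g j k) (x : M i ⊗[R] N),
      (lp (φ.trans ψ)).rTensor N x = (lp ψ).rTensor N ((lp φ).rTensor N x) := fun φ ψ x ↦ by
    rw [hcomp, LinearMap.rTensor_comp_apply]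
  have compat' : ∀ {i j} (φ : Hom g i j) (x : M i ⊗[R] N),
      (v j).rTensor N ((lp φ).rTensor N x) = (v i).rTensor N x := fun φ x ↦ by
    rw [← LinearMap.rTensor_comp_apply, hcompat]
  -- vanishing at a stage
  have hzero : ∀ i (z : M i ⊗[R] N), (v i).rTensor N z = 0 →
      ∃ (j : ι) (φ : Hom g i j), (lp φ).rTensor N z = 0 := by
    intro i z hz
    obtain ⟨m, a, n, rfl⟩ := TensorProduct.exists_sum_tmul_eq z
    let P₀ : Submodule R Mb := Submodule.span R (Set.range fun k ↦ v i (a k))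
    let y : P₀ ⊗[R] N := ∑ k, (⟨v i (a k), Submodule.subset_span ⟨k, rfl⟩⟩ : P₀) ⊗ₜ n k
    obtain ⟨P, hPfg, hle, hP⟩ := (Submodule.fg_span (Set.finite_range _) : P₀.FG).exists_rTensor_fg_inclusion_eq
      (x := y) (y := 0) (by simpa [y] using hz)
    rw [map_zero] at hP
    obtain ⟨t, ht⟩ := hPfg
    obtain ⟨j, φ, p, hp⟩ := hM.exists_lift (fun _ ↦ 0) i t id
    let Q : Submodule R (M j) := Submodule.span R
      (Set.range (fun k ↦ lp φ (a k)) ∪ p '' (t : Set Mb))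
    have hQP : Q ≤ P.comap (v j) := by
      rw [Submodule.span_le]
      rintro _ (⟨k, rfl⟩ | ⟨c, hc, rfl⟩)
      · change v j (lp φ (a k)) ∈ P
        rw [hM.compat]
        exact hle (Submodule.subset_span ⟨k, rfl⟩)
      · change v j (p c) ∈ P
        rw [hp c hc, ← ht]
        exact Submodule.subset_span hc
    let w : Q →ₗ[R] P := (v j).restrict hQP
    have hw : Function.Surjective w := by
      rintro ⟨x, hx⟩
      have : x ∈ Q.map (v j) := by
        rw [← ht] at hx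
        refine Submodule.span_le.mpr ?_ hx
        intro c hc
        exact ⟨p c, Submodule.subset_span (Or.inr ⟨c, hc, rfl⟩), hp c hc⟩
      obtain ⟨x', hx', hxx'⟩ := this
      exact ⟨⟨x', hx'⟩, Subtype.ext hxx'⟩
    let z' : Q ⊗[R] N := ∑ k, (⟨lp φ (a k), Submodule.subset_span (Or.inl ⟨k, rfl⟩)⟩ : Q) ⊗ₜ n k
    have hwz : w.rTensor N z' = 0 := by
      rw [← hP]
      simp only [z', y, map_sum, LinearMap.rTensor_tmul]
      refine Finset.sum_congr rfl fun k _ ↦ ?_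
      congr 1
      exact Subtype.ext (hM.compat φ (a k))
    obtain ⟨κ, hκ⟩ := (rTensor_exact N (LinearMap.exact_subtype_ker_map w) hw z').mp hwz
    obtain ⟨m', b, n', rfl⟩ := TensorProduct.exists_sum_tmul_eq κ
    obtain ⟨l, ψ, hψ⟩ := hM.exists_eq j (Finset.univ : Finset (Fin m'))
      (fun k ↦ ((b k : Q) : M j)) (fun _ ↦ 0) fun k _ ↦ by
        rw [map_zero]; exact congrArg Subtype.val (b k).2
    refine ⟨l, φ.trans ψ, ?_⟩
    have h1 : (lp φ).rTensor N (∑ k, a k ⊗ₜ n k) = Q.subtype.rTensor N z' := by simp [z']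
    rw [comp', h1, ← hκ]
    simp only [map_sum, LinearMap.rTensor_tmul, Submodule.coe_subtype]
    exact Finset.sum_eq_zero fun k _ ↦ by rw [hψ k (Finset.mem_univ k), map_zero, zero_tmul]
  exact
  { compat := compat'
    comp := comp'
    dir := hM.dir
    ne := hM.ne
    surj := fun z ↦ by
      obtain ⟨m, a, n, rfl⟩ := TensorProduct.exists_sum_tmul_eq z
      obtain ⟨i₀⟩ := hM.ne
      obtain ⟨j, -, x, hx⟩ := hM.exists_lift (fun _ ↦ 0) i₀ (Finset.univ : Finset (Fin m)) a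
      exact ⟨j, ∑ k, x k ⊗ₜ n k, by simp [fun k ↦ hx k (Finset.mem_univ k)]⟩
    eq := fun i x y h ↦ by
      obtain ⟨j, φ, hφ⟩ := hzero i (x - y) (by rw [map_sub]; exact sub_eq_zero.mpr h)
      exact ⟨j, φ, sub_eq_zero.mp (by rw [← map_sub]; exact hφ)⟩ }

omit [∀ i, AddCommGroup (M i)] [AddCommGroup Mb] in
/-- Transport along bijections. -/
theorem Approx.congr {M' : ι → Type u} {Mb' : Type u} {u' : ∀ i, M' i → Mb'}
    {mp' : ∀ {i j}, Hom g i j → M' i → M' j} (hM : Approx g M Mb u mp)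
    (e : ∀ i, M i ≃ M' i) (eb : Mb ≃ Mb') (hu : ∀ i x, u' i (e i x) = eb (u i x))
    (hmp : ∀ {i j} (φ : Hom g i j) x, mp' φ (e i x) = e j (mp φ x)) :
    Approx g M' Mb' u' mp' where
  compat {i j} φ x := by
    obtain ⟨x, rfl⟩ := (e i).surjective x
    rw [hmp, hu, hu, hM.compat]
  comp {i j k} φ ψ x := by
    obtain ⟨x, rfl⟩ := (e i).surjective x
    rw [hmp, hmp, hmp, hM.comp]
  dir := hM.dir
  ne := hM.ne
  surj y := by
    obtain ⟨i, x, hx⟩ := hM.surj (eb.symm y)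
    exact ⟨i, e i x, by rw [hu, hx, Equiv.apply_symm_apply]⟩
  eq i x y h := by
    obtain ⟨x, rfl⟩ := (e i).surjective x
    obtain ⟨y, rfl⟩ := (e i).surjective y
    rw [hu, hu] at h
    obtain ⟨j, φ, hφ⟩ := hM.eq i x y (eb.injective h)
    exact ⟨j, φ, by rw [hmp, hmp, hφ]⟩

/-- The left tensor version. -/
theorem Approx.lTensor (v : ∀ i, M i →ₗ[R] Mb) (lp : ∀ {i j}, Hom g i j → M i →ₗ[R] M j)
    (hM : Approx g M Mb (fun i ↦ v i) (fun φ ↦ lp φ)) (N : Type u) [AddCommGroup N] [Module R N] :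
    Approx g (fun i ↦ N ⊗[R] M i) (N ⊗[R] Mb) (fun i ↦ (v i).lTensor N)
      (fun φ ↦ (lp φ).lTensor N) := by
  refine (Approx.rTensor v lp hM N).congr (fun i ↦ (TensorProduct.comm R (M i) N).toEquiv)
    (TensorProduct.comm R Mb N).toEquiv (fun i x ↦ ?_) fun {i j} φ x ↦ ?_
  · exact LinearMap.congr_fun (f := (v i).lTensor N ∘ₗ (TensorProduct.comm R (M i) N).toLinearMap)
      (g := (TensorProduct.comm R Mb N).toLinearMap ∘ₗ (v i).rTensor N)
      (TensorProduct.ext' fun a b ↦ by simp) x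
  · exact LinearMap.congr_fun (f := (lp φ).lTensor N ∘ₗ (TensorProduct.comm R (M i) N).toLinearMap)
      (g := (TensorProduct.comm R (M j) N).toLinearMap ∘ₗ (lp φ).rTensor N)
      (TensorProduct.ext' fun a b ↦ by simp) x

end Groth.Agent.H02CA.ColimTensor
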