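import Groth.Prelude.Def_FSch3
import Groth.Agent.H24Adic.RigFinite
import Mathlib.RingTheory.LocalRing.ResidueField.Fiber
import Mathlib.RingTheory.AdicCompletion.Completeness
import Mathlib.RingTheory.AdicCompletion.LocalRing
import Mathlib.RingTheory.HopkinsLevitzki

/-!
Completion of a local algebra with finite fibre.
-/

set_option autoImplicit false
set_option linter.style.haveILetI false
set_option linter.unusedSectionVars false

universe u

open scoped TensorProduct
open IsLocalRing

namespace Groth.Agent.H02CA.ComplFibre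

theorem evalₐ_complMap {S T : Type u} [CommRing S] [CommRing T] (I : Ideal S) (K : Ideal T) (g : S →+* T)
    (h : I.map g ≤ K) (n : ℕ) (x : AdicCompletion I S) :
    AdicCompletion.evalₐ K n (FSch.complMap I K g h x) =
      Ideal.quotientMap (K ^ n) g (FSch.pow_le_comap_pow_of_map_le I K g h n) (AdicCompletion.evalₐ I n x) := by
  unfold FSch.complMap
  refine AdicCompletion.evalₐ_liftRingHom K
    (fun n => (Ideal.quotientMap (K ^ n) g (FSch.pow_le_comap_pow_of_map_le I K g h n)).comp
      (AdicCompletion.evalₐ I n).toRingHom) (fun {a b} hab => RingHom.ext fun z => ?_) n x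
  obtain ⟨y, rfl⟩ := AdicCompletion.mk_surjective I S z
  simp only [RingHom.coe_comp, Function.comp_apply, AlgHom.toRingHom_eq_coe, RingHom.coe_coe,
    AdicCompletion.evalₐ_mk, Ideal.quotientMap_mk, Ideal.Quotient.factorPow, Ideal.Quotient.factor_mk]
  rw [Ideal.Quotient.eq, ← map_sub]
  have hy := y.2 hab
  rw [SModEq.sub_mem, smul_eq_mul, Ideal.mul_top] at hy
  refine FSch.pow_le_comap_pow_of_map_le I K g h a ?_
  simpa using neg_mem hy

/-- Completions for cofinal ideals agree. -/
theorem bijective_complMap_id {S : Type u} [CommRing S] (I K : Ideal S) (h : I.map (RingHom.id S) ≤ K)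
    (c : ℕ) (hc1 : 1 ≤ c) (hc : K ^ c ≤ I) : Function.Bijective (FSch.complMap I K (RingHom.id S) h) := by
  have hck : ∀ k, K ^ (c * k) ≤ I ^ k := fun k => by rw [pow_mul]; exact Ideal.pow_right_mono hc k
  have hle : I ≤ K := by rwa [Ideal.map_id] at h
  constructor
  · rw [injective_iff_map_eq_zero]
    intro x hx
    obtain ⟨y, rfl⟩ := AdicCompletion.mk_surjective I S x
    refine AdicCompletion.ext_evalₐ fun k => ?_
    rw [AdicCompletion.evalₐ_mk, map_zero, Ideal.Quotient.eq_zero_iff_mem]
    have h1 := congrArg (AdicCompletion.evalₐ K (c * k)) hx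
    rw [map_zero] at h1
    have e : AdicCompletion.evalₐ K (c * k) (FSch.complMap I K (RingHom.id S) h (AdicCompletion.mk I S y)) =
        Ideal.Quotient.mk _ (y.1 (c * k)) := by
      rw [evalₐ_complMap]
      simp
    rw [e, Ideal.Quotient.eq_zero_iff_mem] at h1
    have h2 := hck k h1
    have hk : k ≤ c * k := Nat.le_mul_of_pos_left k hc1
    have h3 := y.2 hk
    rw [SModEq.sub_mem, smul_eq_mul, Ideal.mul_top] at h3
    simpa using add_mem h3 h2
  · intro z
    obtain ⟨y, rfl⟩ := AdicCompletion.mk_surjective K S z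
    let w : AdicCompletion.AdicCauchySequence I S := ⟨fun k => y.1 (c * k), fun {m n} hmn => by
      have h3 := y.2 (Nat.mul_le_mul_left c hmn)
      rw [SModEq.sub_mem, smul_eq_mul, Ideal.mul_top] at h3 ⊢
      exact hck m h3⟩
    refine ⟨AdicCompletion.mk I S w, AdicCompletion.ext_evalₐ fun k => ?_⟩
    have e : AdicCompletion.evalₐ K k (FSch.complMap I K (RingHom.id S) h (AdicCompletion.mk I S w)) =
        Ideal.Quotient.mk _ (w.1 k) := by
      rw [evalₐ_complMap]
      simp
    rw [e, AdicCompletion.evalₐ_mk, Ideal.Quotient.eq]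
    have hk : k ≤ c * k := Nat.le_mul_of_pos_left k hc1
    have h3 := y.2 hk
    rw [SModEq.sub_mem, smul_eq_mul, Ideal.mul_top] at h3
    exact (Submodule.neg_mem_iff _).1 (by simpa [w] using h3)

variable (R S : Type u) [CommRing R] [CommRing S] [IsLocalRing R] [IsLocalRing S] [Algebra R S]
  [IsLocalHom (algebraMap R S)]

local notation "mS" => Ideal.map (algebraMap R S) (maximalIdeal R)

theorem finite_quot (hfib : Module.Finite (maximalIdeal R).ResidueField ((maximalIdeal R).Fiber S)) :
    Module.Finite R (S ⧸ mS) := by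
  let m := maximalIdeal R
  have hb := Ideal.bijective_algebraMap_quotient_residueField m
  haveI : Module.Finite (R ⧸ m) m.ResidueField :=
    Module.Finite.of_surjective (Algebra.linearMap (R ⧸ m) m.ResidueField) hb.2
  haveI : Module.Finite R m.ResidueField := Module.Finite.trans (R ⧸ m) _
  haveI := hfib
  haveI : Module.Finite R (m.ResidueField ⊗[R] S) := Module.Finite.trans m.ResidueField _
  let e : (R ⧸ m) ≃ₗ[R] m.ResidueField :=
    LinearEquiv.ofBijective (IsScalarTower.toAlgHom R (R ⧸ m) m.ResidueField).toLinearMap hb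
  have h1 : Module.Finite R (S ⧸ (m • ⊤ : Submodule R S)) :=
    Module.Finite.equiv ((TensorProduct.congr e.symm (LinearEquiv.refl R S)).trans
      (TensorProduct.quotTensorEquivQuotSMul S m))
  rw [Ideal.smul_top_eq_map] at h1
  exact Module.Finite.equiv (Submodule.Quotient.restrictScalarsEquiv R mS)

theorem exists_pow_le (hfin : Module.Finite R (S ⧸ mS)) : ∃ c, 1 ≤ c ∧ maximalIdeal S ^ c ≤ mS := by
  letI : Algebra (R ⧸ maximalIdeal R) (S ⧸ mS) :=
    (Ideal.quotientMap mS (algebraMap R S) Ideal.le_comap_map).toAlgebra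
  haveI : IsScalarTower R (R ⧸ maximalIdeal R) (S ⧸ mS) := IsScalarTower.of_algebraMap_eq fun x => rfl
  haveI : Module.Finite (R ⧸ maximalIdeal R) (S ⧸ mS) := Module.Finite.of_restrictScalars_finite R _ _
  letI := Ideal.Quotient.field (maximalIdeal R)
  haveI : IsArtinianRing (S ⧸ mS) := IsArtinianRing.of_finite (R ⧸ maximalIdeal R) _
  obtain ⟨c, hc⟩ := IsArtinianRing.isNilpotent_jacobson_bot (R := S ⧸ mS)
  refine ⟨c + 1, by omega, ?_⟩
  have hne : mS ≠ ⊤ := fun h => (maximalIdeal.isMaximal S).ne_top
    (top_le_iff.1 (h.ge.trans (map_maximalIdeal_le _)))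
  haveI : Nontrivial (S ⧸ mS) := Ideal.Quotient.nontrivial_iff.2 hne
  haveI : IsLocalRing (S ⧸ mS) := IsLocalRing.of_surjective' _ Ideal.Quotient.mk_surjective
  rw [← Ideal.mk_ker (I := mS), ← Ideal.map_eq_bot_iff_le_ker, Ideal.map_pow,
    map_maximalIdeal_of_surjective _ Ideal.Quotient.mk_surjective, pow_succ]
  rw [jacobson_eq_maximalIdeal _ bot_ne_top] at hc
  rw [hc]
  simp

theorem finite_complMap (hm : (maximalIdeal R).FG) (hfin : Module.Finite R (S ⧸ mS)) :
    (FSch.complMap (maximalIdeal R) mS (algebraMap R S) le_rfl).Finite := by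
  let A := AdicCompletion (maximalIdeal R) R
  let T := AdicCompletion mS S
  letI : Algebra A T := (FSch.complMap (maximalIdeal R) mS (algebraMap R S) le_rfl).toAlgebra
  haveI : IsScalarTower R A T := IsScalarTower.of_algebraMap_eq fun x => AdicCompletion.ext fun n => rfl
  let J : Ideal A := (maximalIdeal R).map (algebraMap R A)
  haveI : IsAdicComplete J A := AdicCompletion.isAdicComplete_self _ hm
  haveI : IsAdicComplete ((mS).map (algebraMap S T)) T :=
    AdicCompletion.isAdicComplete_self _ (Ideal.FG.map (f := algebraMap R S) hm)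
  have hJ : J.map (algebraMap A T) = (mS).map (algebraMap S T) := by
    rw [Ideal.map_map, Ideal.map_map, ← IsScalarTower.algebraMap_eq, ← IsScalarTower.algebraMap_eq]
  haveI : IsHausdorff (J.map (algebraMap A T)) T := by rw [hJ]; infer_instance
  have hsurj : Function.Surjective ((Ideal.Quotient.mk (J.map (algebraMap A T))).comp (algebraMap S T)) := by
    intro z
    obtain ⟨t, rfl⟩ := Ideal.Quotient.mk_surjective z
    obtain ⟨s, hs⟩ := Ideal.Quotient.mk_surjective (AdicCompletion.evalOneₐ mS t)
    refine ⟨s, Ideal.Quotient.eq.2 ?_⟩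
    rw [hJ, ← AdicCompletion.ker_evalOneₐ_eq_map mS (Ideal.FG.map (f := algebraMap R S) hm), RingHom.mem_ker]
    show AdicCompletion.evalOneₐ mS (algebraMap S T s - t) = 0
    rw [map_sub, AlgHom.commutes, ← hs, Ideal.Quotient.algebraMap_eq, sub_self]
  let q : (S ⧸ mS) →ₐ[R] T ⧸ J.map (algebraMap A T) :=
    Ideal.Quotient.liftₐ mS ((Ideal.Quotient.mkₐ R _).comp (IsScalarTower.toAlgHom R S T)) fun a ha => by
      refine Ideal.Quotient.eq_zero_iff_mem.2 ?_
      rw [hJ]; exact Ideal.mem_map_of_mem _ ha
  have hq : Function.Surjective q := fun z => by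
    obtain ⟨s, hs⟩ := hsurj z
    exact ⟨Ideal.Quotient.mk _ s, hs⟩
  haveI : Module.Finite R (T ⧸ J.map (algebraMap A T)) := Module.Finite.of_surjective q.toLinearMap hq
  have h : Module.Finite A (T ⧸ J.map (algebraMap A T)) := Module.Finite.of_restrictScalars_finite R A _
  exact H24Adic.finite_of_finite_algebra_quotient (A := A) (I := J) (D := T) h

end Groth.Agent.H02CA.ComplFibre
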