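import Groth.Agent.H05EGA4.FormalFibres
import Mathlib.RingTheory.Ideal.AssociatedPrime.Finiteness

/-!
# Compatible families over complete local flat algebras
-/

set_option autoImplicit false
set_option linter.style.haveILetI false
set_option maxHeartbeats 800000

universe u

open IsLocalRing TensorProduct

namespace Groth.Agent.H02CA.CompleteFlatPoints

variable (A : Type u) [CommRing A] [IsNoetherianRing A]

/-- A compatible family over complete Noetherian local flat algebras. -/
def Compat (M : Type u) [AddCommGroup M] [Module A M]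
    (x : ∀ (B : Type u) [CommRing B] [Algebra A B] [IsNoetherianRing B] [IsLocalRing B],
      IsAdicComplete (maximalIdeal B) B → Module.Flat A B → B ⊗[A] M) : Prop :=
  ∀ (B : Type u) [CommRing B] [Algebra A B] [IsNoetherianRing B] [IsLocalRing B]
    (hB : IsAdicComplete (maximalIdeal B) B) (hBf : Module.Flat A B) (B' : Type u) [CommRing B'] [Algebra A B']
    [IsNoetherianRing B'] [IsLocalRing B'] (hB' : IsAdicComplete (maximalIdeal B') B') (hB'f : Module.Flat A B')
    (g : B →ₐ[A] B'), LinearMap.rTensor M g.toLinearMap (x B hB hBf) = x B' hB' hB'f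

/-- Every compatible family is constant. -/
def Constant (M : Type u) [AddCommGroup M] [Module A M] : Prop :=
  ∀ x, Compat A M x → ∃ m : M, ∀ (B : Type u) [CommRing B] [Algebra A B] [IsNoetherianRing B] [IsLocalRing B]
    (hB : IsAdicComplete (maximalIdeal B) B) (hBf : Module.Flat A B), x B hB hBf = (1 : B) ⊗ₜ[A] m

variable {A}

theorem cpl_props (R : Type u) [CommRing R] [IsNoetherianRing R] [IsLocalRing R] [Algebra A R] [Module.Flat A R] :
    IsNoetherianRing (EGA4.Cpl R) ∧ IsAdicComplete (maximalIdeal (EGA4.Cpl R)) (EGA4.Cpl R) ∧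
      Module.Flat A (EGA4.Cpl R) ∧ Module.FaithfullyFlat R (EGA4.Cpl R) := by
  refine ⟨H05EGA4.isNoetherianRing_cpl R, ?_, ?_, H05EGA4.faithfullyFlat_cpl R⟩
  · rw [AdicCompletion.maximalIdeal_eq_map]
    exact AdicCompletion.isAdicComplete_self _ (IsNoetherian.noetherian _)
  · haveI := H05EGA4.flat_cpl R
    exact Module.Flat.trans A R (EGA4.Cpl R)

theorem exists_algHom_cpl (R S : Type u) [CommRing R] [CommRing S] [IsLocalRing R] [IsLocalRing S] [Algebra R S]
    [IsLocalHom (algebraMap R S)] : Nonempty (EGA4.Cpl R →ₐ[R] EGA4.Cpl S) := by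
  have hm : ∀ n : ℕ, maximalIdeal R ^ n ≤ (maximalIdeal S ^ n).comap (algebraMap R S) := fun n => by
    rw [← Ideal.map_le_iff_le_comap, Ideal.map_pow]
    exact Ideal.pow_right_mono (((local_hom_TFAE (algebraMap R S)).out 0 2).mp ‹_›) n
  let f : ∀ n : ℕ, EGA4.Cpl R →ₐ[R] S ⧸ maximalIdeal S ^ n := fun n =>
    (Ideal.quotientMapₐ (R₁ := R) (maximalIdeal S ^ n) (Algebra.ofId R S) (hm n)).comp (AdicCompletion.evalₐ _ n)
  refine ⟨AdicCompletion.liftAlgHom (maximalIdeal S) f fun {a b} hab => AlgHom.ext fun x => ?_⟩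
  induction x using AdicCompletion.induction_on with
  | h c =>
    simp only [f, AlgHom.comp_apply, AdicCompletion.evalₐ_mk]
    show Ideal.Quotient.mk _ (algebraMap R S (c.val b)) = Ideal.Quotient.mk _ (algebraMap R S (c.val a))
    rw [Ideal.Quotient.eq, ← map_sub]
    refine hm a ?_
    have := SModEq.sub_mem.mp (c.2 hab).symm
    rwa [smul_eq_mul, Ideal.mul_top] at this

variable {M : Type u} [AddCommGroup M] [Module A M]

/-- Elements vanishing in all completions vanish. -/
theorem eq_zero_of_forall_cpl {m : M}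
    (h : ∀ (𝔪 : Ideal A) [𝔪.IsMaximal], (1 : EGA4.Cpl (Localization.AtPrime 𝔪)) ⊗ₜ[A] m = 0) : m = 0 := by
  by_contra hm
  have hI : LinearMap.ker (LinearMap.toSpanSingleton A M m) ≠ ⊤ := fun h' =>
    hm (by simpa using (h' ▸ Submodule.mem_top : (1 : A) ∈ LinearMap.ker (LinearMap.toSpanSingleton A M m)))
  obtain ⟨𝔪, h𝔪, hle⟩ := Ideal.exists_le_maximal _ hI
  haveI : IsNoetherianRing (Localization.AtPrime 𝔪) := IsLocalization.isNoetherianRing 𝔪.primeCompl _ inferInstance
  haveI := H05EGA4.faithfullyFlat_cpl (Localization.AtPrime 𝔪)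
  have h1 : (1 : Localization.AtPrime 𝔪) ⊗ₜ[A] m = 0 := by
    have := congrArg (AlgebraTensorModule.cancelBaseChange A (Localization.AtPrime 𝔪) (Localization.AtPrime 𝔪)
      (EGA4.Cpl (Localization.AtPrime 𝔪)) M).symm (h 𝔪)
    rw [AlgebraTensorModule.cancelBaseChange_symm_tmul, map_zero] at this
    exact Module.FaithfullyFlat.tensorProduct_mk_injective _ (this.trans (TensorProduct.tmul_zero _ _).symm)
  obtain ⟨c, hc⟩ := (IsLocalizedModule.eq_zero_iff 𝔪.primeCompl
    (TensorProduct.mk A (Localization.AtPrime 𝔪) M 1)).mp h1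
  exact c.2 (hle (LinearMap.mem_ker.mpr hc))

theorem constant_of_exact {N₁ N₂ N₃ : Type u} [AddCommGroup N₁] [Module A N₁] [AddCommGroup N₂] [Module A N₂]
    [AddCommGroup N₃] [Module A N₃] (f : N₁ →ₗ[A] N₂) (g : N₂ →ₗ[A] N₃) (hf : Function.Injective f)
    (hg : Function.Surjective g) (hfg : Function.Exact f g) (h₁ : Constant A N₁) (h₃ : Constant A N₃) :
    Constant A N₂ := by
  intro x hx
  obtain ⟨m₃, hm₃⟩ := h₃ (fun B _ _ _ _ hB hBf => g.lTensor B (x B hB hBf))
    fun B _ _ _ _ hB hBf B' _ _ _ _ hB' hB'f e => by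
      rw [← LinearMap.comp_apply, LinearMap.rTensor_comp_lTensor, ← LinearMap.lTensor_comp_rTensor,
        LinearMap.comp_apply, hx B hB hBf B' hB' hB'f e]
  obtain ⟨m, rfl⟩ := hg m₃
  have hker : ∀ (B : Type u) [CommRing B] [Algebra A B] [IsNoetherianRing B] [IsLocalRing B]
      (hB : IsAdicComplete (maximalIdeal B) B) (hBf : Module.Flat A B),
      ∃ z, f.lTensor B z = x B hB hBf - (1 : B) ⊗ₜ[A] m := fun B _ _ _ _ hB hBf =>
    ((lTensor_exact B hfg hg) _).mp (by rw [map_sub, LinearMap.lTensor_tmul, hm₃ B hB hBf, sub_self])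
  choose z hz using hker
  obtain ⟨m₁, hm₁⟩ := h₁ (fun B _ _ _ _ hB hBf => z B hB hBf) fun B _ _ _ _ hB hBf B' _ _ _ _ hB' hB'f e => by
    haveI := hB'f
    refine Module.Flat.lTensor_preserves_injective_linearMap f hf ?_
    rw [← LinearMap.comp_apply, LinearMap.lTensor_comp_rTensor, ← LinearMap.rTensor_comp_lTensor,
      LinearMap.comp_apply, hz, map_sub, hx B hB hBf B' hB' hB'f e, hz, LinearMap.rTensor_tmul]
    simp
  refine ⟨f m₁ + m, fun B _ _ _ _ hB hBf => ?_⟩
  rw [TensorProduct.tmul_add, ← LinearMap.lTensor_tmul, ← hm₁ B hB hBf, hz]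
  exact (sub_add_cancel _ _).symm

theorem constant_quotient_prime (p : Ideal A) [p.IsPrime] : Constant A (A ⧸ p) := by
  intro x hx
  let K := p.ResidueField
  let j : (A ⧸ p) →ₗ[A] K := (IsScalarTower.toAlgHom A (A ⧸ p) K).toLinearMap
  have hj : Function.Injective j := p.injective_algebraMap_quotient_residueField
  haveI : IsNoetherianRing (Localization.AtPrime p) := IsLocalization.isNoetherianRing p.primeCompl _ inferInstance
  haveI : Module.Flat A (Localization.AtPrime p) := IsLocalization.flat _ p.primeCompl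
  let C := EGA4.Cpl (Localization.AtPrime p)
  obtain ⟨hC1, hC2, hC3, -⟩ := cpl_props (A := A) (Localization.AtPrime p)
  -- the value at the completion at `p`
  have hsurj : ∀ t : C ⊗[A] K, ∃ k : K, (1 : C) ⊗ₜ[A] k = t := by
    intro t
    induction t using TensorProduct.induction_on with
    | zero => exact ⟨0, TensorProduct.tmul_zero _ _⟩
    | add t t' h h' =>
      obtain ⟨k, rfl⟩ := h; obtain ⟨k', rfl⟩ := h'
      exact ⟨k + k', TensorProduct.tmul_add _ _ _⟩
    | tmul c k =>
      obtain ⟨a, ha⟩ := Ideal.Quotient.mk_surjective (AdicCompletion.evalOneₐ (maximalIdeal (Localization.AtPrime p)) c)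
      obtain ⟨a₀, s, hs⟩ := IsLocalization.exists_mk'_eq p.primeCompl a
      have hmem : c - algebraMap (Localization.AtPrime p) C a ∈ p.map (algebraMap A C) := by
        rw [IsScalarTower.algebraMap_eq A (Localization.AtPrime p) C, ← Ideal.map_map,
          Localization.AtPrime.map_eq_maximalIdeal, ← AdicCompletion.maximalIdeal_eq_map]
        letI := Ideal.Quotient.field (maximalIdeal (Localization.AtPrime p))
        rw [← IsLocalRing.eq_maximalIdeal (RingHom.ker_isMaximal_of_surjective
          (AdicCompletion.evalOneₐ (maximalIdeal (Localization.AtPrime p))) (AdicCompletion.evalOneₐ_surjective _)),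
          RingHom.mem_ker, map_sub, AlgHom.commutes, sub_eq_zero, ← ha]
        rfl
      have hzero : ∀ y ∈ p.map (algebraMap A C), y ⊗ₜ[A] k = (0 : C ⊗[A] K) := by
        intro y hy
        refine Submodule.span_induction ?_ (TensorProduct.zero_tmul _ _) ?_ ?_ hy
        · rintro _ ⟨q, hq, rfl⟩
          rw [Algebra.algebraMap_eq_smul_one, TensorProduct.smul_tmul, Algebra.smul_def,
            Ideal.algebraMap_residueField_eq_zero.mpr hq, zero_mul, TensorProduct.tmul_zero]
        · intro a b _ _ ha hb; rw [TensorProduct.add_tmul, ha, hb, add_zero]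
        · intro d y _ hy
          have := congrArg (d • ·) hy
          simpa [TensorProduct.smul_tmul'] using this
      have hs0 : algebraMap A K s ≠ 0 := fun h => s.2 (Ideal.algebraMap_residueField_eq_zero.mp h)
      refine ⟨a₀ • ((algebraMap A K s)⁻¹ * k), ?_⟩
      have h1 : c ⊗ₜ[A] k = algebraMap (Localization.AtPrime p) C a ⊗ₜ[A] k := by
        rw [← sub_eq_zero, ← TensorProduct.sub_tmul]; exact hzero _ hmem
      have h2 : (s : A) • algebraMap (Localization.AtPrime p) C a = a₀ • (1 : C) := by
        rw [Algebra.smul_def, Algebra.smul_def, mul_one, IsScalarTower.algebraMap_apply A (Localization.AtPrime p) C,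
          IsScalarTower.algebraMap_apply A (Localization.AtPrime p) C, ← map_mul, ← hs, IsLocalization.mk'_spec']
      rw [h1, ← TensorProduct.smul_tmul, ← h2, TensorProduct.smul_tmul, Algebra.smul_def, ← mul_assoc,
        mul_inv_cancel₀ hs0, one_mul]
  obtain ⟨f, hf⟩ := hsurj (j.lTensor C (x C hC2 hC3))
  -- the value everywhere
  have key : ∀ (B : Type u) [CommRing B] [Algebra A B] [IsNoetherianRing B] [IsLocalRing B]
      (hB : IsAdicComplete (maximalIdeal B) B) (hBf : Module.Flat A B),
      j.lTensor B (x B hB hBf) = (1 : B) ⊗ₜ[A] f := by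
    intro B _ _ _ _ hB hBf
    let d := j.lTensor B (x B hB hBf) - (1 : B) ⊗ₜ[A] f
    by_contra hne
    have hd : d ≠ 0 := fun h => hne (sub_eq_zero.mp h)
    obtain ⟨P, ⟨hP, hd'⟩⟩ := exists_le_isAssociatedPrime_of_isNoetherianRing B d hd
    obtain ⟨hPp, y, hy⟩ := (isAssociatedPrime_iff_exists_injective_linearMap P _).mp hP
    haveI := hPp
    let w := y (Submodule.Quotient.mk (1 : B))
    have hPA : P.comap (algebraMap A B) = p := by
      have hw : ∀ b, b • w = 0 ↔ b ∈ P := fun b => by
        rw [← map_smul, map_eq_zero_iff y hy]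
        show (Submodule.Quotient.mk (b • (1 : B)) : B ⧸ P) = 0 ↔ _
        rw [Submodule.Quotient.mk_eq_zero, smul_eq_mul, mul_one]
      ext a
      rw [Ideal.mem_comap, ← hw, algebraMap_smul]
      have hact : ∀ t : B ⊗[A] K, a • t = (LinearMap.mulLeft A (algebraMap A K a)).lTensor B t := fun t => by
        induction t using TensorProduct.induction_on with
        | zero => simp
        | add t t' h h' => rw [smul_add, map_add, h, h']
        | tmul b k => rw [TensorProduct.smul_tmul', TensorProduct.smul_tmul, LinearMap.lTensor_tmul]; rw [Algebra.smul_def]; rfl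
      constructor
      · intro h
        by_contra ha
        have h0 : algebraMap A K a ≠ 0 := fun h' => ha (Ideal.algebraMap_residueField_eq_zero.mp h')
        have hw0 : w = 0 := by
          have := congrArg ((LinearMap.mulLeft A (algebraMap A K a)⁻¹).lTensor B) (hact w ▸ h)
          rw [map_zero, ← LinearMap.comp_apply, ← LinearMap.lTensor_comp] at this
          convert this using 1
          rw [show LinearMap.mulLeft A (algebraMap A K a)⁻¹ ∘ₗ LinearMap.mulLeft A (algebraMap A K a) =
            LinearMap.id from LinearMap.ext fun k => inv_mul_cancel_left₀ h0 k, LinearMap.lTensor_id]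
          rfl
        exact hPp.ne_top ((Ideal.eq_top_iff_one _).mpr ((hw 1).mp (by rw [hw0, smul_zero])))
      · intro ha
        rw [hact, show LinearMap.mulLeft A (algebraMap A K a) = 0 from
          LinearMap.ext fun k => by rw [LinearMap.mulLeft_apply, LinearMap.zero_apply]; erw [Ideal.algebraMap_residueField_eq_zero.mpr ha, zero_mul]]
        simp
    let BP := Localization.AtPrime P
    haveI : IsNoetherianRing BP := IsLocalization.isNoetherianRing P.primeCompl _ inferInstance
    haveI := hBf
    haveI : Module.Flat B BP := IsLocalization.flat _ P.primeCompl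
    haveI : Module.Flat A BP := Module.Flat.trans A B BP
    obtain ⟨hB1, hB2, hB3, hB4⟩ := cpl_props (A := A) BP
    let φ : Localization.AtPrime p →+* BP := Localization.localRingHom p P (algebraMap A B) hPA.symm
    letI : Algebra (Localization.AtPrime p) BP := φ.toAlgebra
    haveI : IsLocalHom (algebraMap (Localization.AtPrime p) BP) :=
      Localization.isLocalHom_localRingHom p P (algebraMap A B) hPA.symm
    haveI : IsScalarTower A (Localization.AtPrime p) BP := IsScalarTower.of_algebraMap_eq fun a => by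
      show _ = φ _
      rw [Localization.localRingHom_to_map, ← IsScalarTower.algebraMap_apply]
    obtain ⟨h₀⟩ := exists_algHom_cpl (Localization.AtPrime p) BP
    let h : C →ₐ[A] EGA4.Cpl BP :=
      { h₀.toRingHom with
        commutes' := fun a => by
          show h₀ _ = _
          rw [IsScalarTower.algebraMap_apply A (Localization.AtPrime p) C, h₀.commutes, ← IsScalarTower.algebraMap_apply] }
    let g : B →ₐ[A] EGA4.Cpl BP := IsScalarTower.toAlgHom A B _
    have h1 : g.toLinearMap.rTensor K (j.lTensor B (x B hB hBf)) = j.lTensor _ (x _ hB2 hB3) := by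
      rw [← LinearMap.comp_apply, LinearMap.rTensor_comp_lTensor, ← LinearMap.lTensor_comp_rTensor,
        LinearMap.comp_apply, hx B hB hBf _ hB2 hB3 g]
    have h2 : j.lTensor _ (x _ hB2 hB3) = (1 : EGA4.Cpl BP) ⊗ₜ[A] f := by
      rw [← hx C hC2 hC3 _ hB2 hB3 h, ← LinearMap.comp_apply, LinearMap.lTensor_comp_rTensor,
        ← LinearMap.rTensor_comp_lTensor, LinearMap.comp_apply, ← hf, LinearMap.rTensor_tmul]
      exact congrArg (· ⊗ₜ[A] f) (map_one h)
    have h3 : g.toLinearMap.rTensor K d = 0 := by
      rw [map_sub, h1, h2, LinearMap.rTensor_tmul]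
      simp
    have h4 : ∀ t, AlgebraTensorModule.cancelBaseChange A B B (EGA4.Cpl BP) K ((1 : EGA4.Cpl BP) ⊗ₜ[B] t) =
        g.toLinearMap.rTensor K t := fun t => by
      induction t using TensorProduct.induction_on with
      | zero => simp
      | add t t' e e' => rw [TensorProduct.tmul_add, map_add, e, e', map_add]
      | tmul b k => simp [g, Algebra.smul_def]
    have h5 : (1 : EGA4.Cpl BP) ⊗ₜ[B] d = 0 := by
      refine (AlgebraTensorModule.cancelBaseChange A B B (EGA4.Cpl BP) K).injective ?_
      rw [h4, h3, map_zero]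
    have h6 : (1 : BP) ⊗ₜ[B] d = 0 := by
      have := congrArg (AlgebraTensorModule.cancelBaseChange B BP BP (EGA4.Cpl BP) (B ⊗[A] K)).symm h5
      rw [AlgebraTensorModule.cancelBaseChange_symm_tmul, map_zero] at this
      exact Module.FaithfullyFlat.tensorProduct_mk_injective _ (this.trans (TensorProduct.tmul_zero _ _).symm)
    obtain ⟨c, hc⟩ := (IsLocalizedModule.eq_zero_iff P.primeCompl (TensorProduct.mk B BP (B ⊗[A] K) 1)).mp h6
    exact c.2 (hd' (Submodule.mem_colon_singleton.mpr (by exact hc)))
  -- integrality of the value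
  obtain ⟨a, b, hb, hab⟩ : ∃ a b : A ⧸ p, b ≠ 0 ∧ algebraMap _ K a / algebraMap _ K b = f := by
    obtain ⟨a, b, hb, h⟩ := IsFractionRing.div_surjective (A ⧸ p) f
    exact ⟨a, b, nonZeroDivisors.ne_zero hb, h⟩
  let I : Submodule A (A ⧸ p) := Submodule.restrictScalars A (Ideal.span {b} : Ideal (A ⧸ p))
  have hbN : Submodule.mkQ I a = 0 := by
    refine eq_zero_of_forall_cpl (A := A) (M := (A ⧸ p) ⧸ I) fun 𝔪 _ => ?_
    haveI : IsNoetherianRing (Localization.AtPrime 𝔪) := IsLocalization.isNoetherianRing 𝔪.primeCompl _ inferInstance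
    haveI : Module.Flat A (Localization.AtPrime 𝔪) := IsLocalization.flat _ 𝔪.primeCompl
    obtain ⟨hB1, hB2, hB3, -⟩ := cpl_props (A := A) (Localization.AtPrime 𝔪)
    haveI := hB3
    let mb : (A ⧸ p) →ₗ[A] (A ⧸ p) := (LinearMap.mul (A ⧸ p) (A ⧸ p) b).restrictScalars A
    have e : mb.lTensor (EGA4.Cpl (Localization.AtPrime 𝔪)) (x _ hB2 hB3) = (1 : EGA4.Cpl (Localization.AtPrime 𝔪)) ⊗ₜ[A] a := by
      refine Module.Flat.lTensor_preserves_injective_linearMap j hj ?_
      rw [← LinearMap.comp_apply, ← LinearMap.lTensor_comp,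
        show j ∘ₗ mb = (LinearMap.mulLeft A (algebraMap (A ⧸ p) K b)) ∘ₗ j from LinearMap.ext fun q => by
          show algebraMap _ K (b * q) = _
          rw [map_mul]; rfl,
        LinearMap.lTensor_comp, LinearMap.comp_apply, key _ hB2 hB3, LinearMap.lTensor_tmul, LinearMap.lTensor_tmul]
      congr 1
      show algebraMap (A ⧸ p) K b * f = algebraMap _ K a
      rw [← hab, mul_div_cancel₀]
      exact fun h => hb (p.injective_algebraMap_quotient_residueField (h.trans (map_zero _).symm))
    rw [← LinearMap.lTensor_tmul, ← e, ← LinearMap.comp_apply, ← LinearMap.lTensor_comp,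
      show Submodule.mkQ I ∘ₗ mb = 0 from LinearMap.ext fun q => by
        show Submodule.Quotient.mk (b * q) = 0
        rw [Submodule.Quotient.mk_eq_zero]
        exact Ideal.mul_mem_right _ _ (Ideal.mem_span_singleton_self b)]
    simp
  rw [Submodule.mkQ_apply, Submodule.Quotient.mk_eq_zero] at hbN
  replace hbN := Ideal.mem_span_singleton.mp (show a ∈ Ideal.span {b} from hbN)
  obtain ⟨m, rfl⟩ := hbN
  refine ⟨m, fun B _ _ _ _ hB hBf => ?_⟩
  haveI := hBf
  refine Module.Flat.lTensor_preserves_injective_linearMap j hj ?_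
  rw [key B hB hBf, LinearMap.lTensor_tmul]
  congr 1
  show f = algebraMap _ K m
  rw [← hab, map_mul, mul_div_cancel_left₀]
  exact fun h => hb (p.injective_algebraMap_quotient_residueField (h.trans (map_zero _).symm))

theorem constant_of_finite (M : Type u) [AddCommGroup M] [Module A M] [Module.Finite A M] : Constant A M := by
  induction ‹Module.Finite A M› using IsNoetherianRing.induction_on_isQuotientEquivQuotientPrime A with
  | subsingleton N =>
    intro x _
    refine ⟨0, fun B _ _ _ _ hB hBf => ?_⟩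
    haveI : Subsingleton (B ⊗[A] N) := inferInstance
    exact Subsingleton.elim _ _
  | quotient N p e =>
    intro x hx
    obtain ⟨m, hm⟩ := constant_quotient_prime p.1 (fun B _ _ _ _ hB hBf => e.toLinearMap.lTensor B (x B hB hBf))
      fun B _ _ _ _ hB hBf B' _ _ _ _ hB' hB'f g => by
        rw [← LinearMap.comp_apply, LinearMap.rTensor_comp_lTensor, ← LinearMap.lTensor_comp_rTensor,
          LinearMap.comp_apply, hx B hB hBf B' hB' hB'f g]
    refine ⟨e.symm m, fun B _ _ _ _ hB hBf => ?_⟩
    apply (LinearEquiv.lTensor B e).injective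
    show e.toLinearMap.lTensor B _ = e.toLinearMap.lTensor B _
    rw [hm B hB hBf, LinearMap.lTensor_tmul]
    simp
  | exact N₁ N₂ N₃ f g hf hg hfg h₁ h₃ => exact constant_of_exact f g hf hg hfg h₁ h₃

end Groth.Agent.H02CA.CompleteFlatPoints
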