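import Groth.Agent.H05EGA4.Completion
import Groth.Agent.H02CA.PowerSeries
import Groth.Agent.H7Flat.LocalCriterion
import Groth.Agent.H7Flat.FibreCriterion
import Groth.Agent.H4Depth.Regular

/-!
Maps between completions of Noetherian local rings.
-/

set_option autoImplicit false
set_option linter.style.haveILetI false

universe u

open IsLocalRing TensorProduct

namespace Groth.Agent.H02CA

/-- Flatness over a local base passes to a local algebra with the same maximal ideal. -/
theorem flat_of_map_maximalIdeal (A A' S : Type u) [CommRing A] [CommRing A'] [CommRing S]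
    [IsNoetherianRing A'] [IsNoetherianRing S] [IsLocalRing A] [IsLocalRing A'] [IsLocalRing S]
    [Algebra A A'] [Algebra A' S] [Algebra A S] [IsScalarTower A A' S]
    [IsLocalHom (algebraMap A' S)]
    (hm : (maximalIdeal A).map (algebraMap A A') = maximalIdeal A') [Module.Flat A S] :
    Module.Flat A' S := by
  refine H7Flat.flat_of_injective (S := S) ?_
  let m := maximalIdeal A
  let m' := maximalIdeal A'
  have hmem : ∀ r : m, algebraMap A A' r ∈ m' := fun r => hm.le (Ideal.mem_map_of_mem _ r.2)
  let f : S →+ m →+ S ⊗[A'] m' :=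
    AddMonoidHom.mk' (fun b => AddMonoidHom.mk' (fun r => b ⊗ₜ[A'] (⟨_, hmem r⟩ : m'))
      (fun r r' => by rw [← TensorProduct.tmul_add]; exact congrArg _ (Subtype.ext (map_add _ _ _))))
      (fun b b' => by ext r; simp [TensorProduct.add_tmul])
  have hf : ∀ (a : A) (b : S) (r : m), f (a • b) r = f b (a • r) := by
    intro a b r
    simp only [f, AddMonoidHom.mk'_apply]
    rw [← algebraMap_smul A' a b, TensorProduct.smul_tmul]
    exact congrArg _ (Subtype.ext (by simp [Algebra.smul_def]))
  let g := TensorProduct.liftAddHom f hf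
  have hgsurj : Function.Surjective g := by
    intro w
    induction w using TensorProduct.induction_on with
    | zero => exact ⟨0, map_zero g⟩
    | add x y hx hy =>
      obtain ⟨c, rfl⟩ := hx
      obtain ⟨d, rfl⟩ := hy
      exact ⟨c + d, map_add g c d⟩
    | tmul b y =>
      obtain ⟨y, hy⟩ := y
      have hy' : y ∈ Submodule.span A' (algebraMap A A' '' m) := by
        have : y ∈ m.map (algebraMap A A') := by rw [hm]; exact hy
        exact this
      revert b hy
      induction hy' using Submodule.span_induction with
      | mem x hx =>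
        obtain ⟨r, hr, rfl⟩ := hx
        exact fun b _ => ⟨b ⊗ₜ ⟨r, hr⟩, rfl⟩
      | zero =>
        intro b h
        exact ⟨0, by rw [map_zero, show (⟨0, h⟩ : m') = 0 from rfl, TensorProduct.tmul_zero]⟩
      | add x y hx hy ihx ihy =>
        intro b h
        have hx' : x ∈ m' := hm.le hx
        have hy' : y ∈ m' := hm.le hy
        obtain ⟨c, hc⟩ := ihx b hx'
        obtain ⟨d, hd⟩ := ihy b hy'
        exact ⟨c + d, by
          rw [map_add, hc, hd, ← TensorProduct.tmul_add]
          rfl⟩
      | smul a x hx ihx =>
        intro b h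
        have hx' : x ∈ m' := hm.le hx
        obtain ⟨c, hc⟩ := ihx (a • b) hx'
        exact ⟨c, by rw [hc, TensorProduct.smul_tmul]; rfl⟩
  have hA : Function.Injective (m.subtype.lTensor S) :=
    Module.Flat.lTensor_preserves_injective_linearMap _ Subtype.val_injective
  have key : ∀ z, TensorProduct.rid A' S (m'.subtype.lTensor S (g z)) =
      TensorProduct.rid A S (m.subtype.lTensor S z) := by
    intro z
    induction z using TensorProduct.induction_on with
    | zero => simp
    | tmul b r => simp [g, f, m, m']
    | add x y hx hy => simp only [map_add, hx, hy]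
  rw [injective_iff_map_eq_zero]
  intro w hw
  obtain ⟨z, rfl⟩ := hgsurj w
  have h1 := key z
  rw [hw, map_zero, eq_comm, LinearEquiv.map_eq_zero_iff] at h1
  rw [show z = 0 from hA (by rw [h1, map_zero]), map_zero]

section completion

variable {A B : Type u} [CommRing A] [CommRing B] [IsLocalRing A] [IsLocalRing B]
  [IsNoetherianRing A] [IsNoetherianRing B] (φ : A →+* B)
  (ψ : AdicCompletion (maximalIdeal A) A →+* AdicCompletion (maximalIdeal B) B)
  (hψ : ψ.comp (algebraMap A (AdicCompletion (maximalIdeal A) A)) =
    (algebraMap B (AdicCompletion (maximalIdeal B) B)).comp φ)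

include hψ in
theorem map_maximalIdeal_completion_le [IsLocalHom φ] :
    (maximalIdeal (AdicCompletion (maximalIdeal A) A)).map ψ ≤
      maximalIdeal (AdicCompletion (maximalIdeal B) B) := by
  rw [AdicCompletion.maximalIdeal_eq_map, Ideal.map_map, hψ, ← Ideal.map_map,
    AdicCompletion.maximalIdeal_eq_map]
  exact Ideal.map_mono (((local_hom_TFAE φ).out 0 2).mp ‹_›)

include hψ in
theorem isLocalHom_completion [IsLocalHom φ] : IsLocalHom ψ :=
  ((local_hom_TFAE ψ).out 0 2).mpr (map_maximalIdeal_completion_le φ ψ hψ)

include hψ in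
theorem flat_completion_iff [IsLocalHom φ] : ψ.Flat ↔ φ.Flat := by
  have hloc := isLocalHom_completion φ ψ hψ
  letI : Algebra A B := φ.toAlgebra
  letI : Algebra (AdicCompletion (maximalIdeal A) A) (AdicCompletion (maximalIdeal B) B) :=
    ψ.toAlgebra
  haveI : IsScalarTower A B (AdicCompletion (maximalIdeal B) B) := inferInstance
  haveI : IsScalarTower A (AdicCompletion (maximalIdeal A) A) (AdicCompletion (maximalIdeal B) B) :=
    IsScalarTower.of_algebraMap_eq fun a => by
      rw [IsScalarTower.algebraMap_apply A B (AdicCompletion (maximalIdeal B) B)]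
      exact (RingHom.congr_fun hψ a).symm
  haveI := H05EGA4.isNoetherianRing_adicCompletion A (maximalIdeal A)
  haveI := H05EGA4.isNoetherianRing_adicCompletion B (maximalIdeal B)
  haveI : IsLocalHom (algebraMap (AdicCompletion (maximalIdeal A) A)
      (AdicCompletion (maximalIdeal B) B)) := hloc
  change Module.Flat (AdicCompletion (maximalIdeal A) A) (AdicCompletion (maximalIdeal B) B) ↔
    Module.Flat A B
  constructor
  · intro h
    haveI : Module.Flat A (AdicCompletion (maximalIdeal B) B) :=
      Module.Flat.trans A (AdicCompletion (maximalIdeal A) A) _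
    haveI : Module.FaithfullyFlat B (AdicCompletion (maximalIdeal B) B) :=
      Module.FaithfullyFlat.of_flat_of_isLocalHom
    exact H7Flat.flat_of_faithfullyFlat (M := AdicCompletion (maximalIdeal B) B)
  · intro h
    haveI : Module.Flat A (AdicCompletion (maximalIdeal B) B) :=
      Module.Flat.trans A B _
    exact flat_of_map_maximalIdeal A (AdicCompletion (maximalIdeal A) A)
      (AdicCompletion (maximalIdeal B) B) AdicCompletion.maximalIdeal_eq_map.symm

include hψ in
theorem surjective_completion [IsLocalHom φ] (hk : Function.Surjective (ResidueField.map φ))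
    (hcot : maximalIdeal B ≤ (maximalIdeal A).map φ ⊔ maximalIdeal B ^ 2) :
    Function.Surjective ψ := by
  refine PS.surjective_of_approx ψ (maximalIdeal (AdicCompletion (maximalIdeal A) A))
    (maximalIdeal (AdicCompletion (maximalIdeal B) B))
    (fun x hx => map_maximalIdeal_completion_le φ ψ hψ (Ideal.mem_map_of_mem ψ hx)) ?_ ?_
  · intro s
    obtain ⟨b, hb⟩ : ∃ b : B, algebraMap B _ b - s ∈
        maximalIdeal (AdicCompletion (maximalIdeal B) B) := by
      obtain ⟨c, hc⟩ := (AdicCompletion.residueField_map_bijective B).2 (residue _ s)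
      obtain ⟨b, rfl⟩ := residue_surjective c
      rw [ResidueField.map_residue] at hc
      exact ⟨b, Ideal.Quotient.eq.mp hc⟩
    obtain ⟨c, hc⟩ := hk (residue B b)
    obtain ⟨a, rfl⟩ := residue_surjective c
    rw [ResidueField.map_residue] at hc
    refine ⟨algebraMap A _ a, ?_⟩
    have h1 : algebraMap B (AdicCompletion (maximalIdeal B) B) (φ a - b) ∈
        maximalIdeal (AdicCompletion (maximalIdeal B) B) := by
      rw [AdicCompletion.maximalIdeal_eq_map]
      exact Ideal.mem_map_of_mem _ (Ideal.Quotient.eq.mp hc)
    have h2 := add_mem h1 hb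
    rw [map_sub, sub_add_sub_cancel] at h2
    rw [show ψ (algebraMap A _ a) = algebraMap B _ (φ a) from RingHom.congr_fun hψ a]
    exact h2
  · intro s hs
    have h : maximalIdeal (AdicCompletion (maximalIdeal B) B) ≤
        (maximalIdeal (AdicCompletion (maximalIdeal A) A)).map ψ ⊔
          maximalIdeal (AdicCompletion (maximalIdeal B) B) ^ 2 := by
      rw [AdicCompletion.maximalIdeal_eq_map, AdicCompletion.maximalIdeal_eq_map, Ideal.map_map,
        hψ, ← Ideal.map_map, ← Ideal.map_pow, ← Ideal.map_sup]
      exact Ideal.map_mono hcot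
    -- elements of the image ideal are images of the maximal ideal up to squares
    obtain ⟨y, hy, z, hz, rfl⟩ := Submodule.mem_sup.mp (h hs)
    suffices H : ∃ x ∈ maximalIdeal (AdicCompletion (maximalIdeal A) A),
        ψ x - y ∈ maximalIdeal (AdicCompletion (maximalIdeal B) B) ^ 2 by
      obtain ⟨x, hx, hxy⟩ := H
      refine ⟨x, hx, ?_⟩
      rw [show ψ x - (y + z) = ψ x - y - z by ring]
      exact sub_mem hxy hz
    clear hs
    induction hy using Submodule.span_induction with
    | mem x hx =>
      obtain ⟨w, hw, rfl⟩ := hx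
      exact ⟨w, hw, by simp⟩
    | zero => exact ⟨0, zero_mem _, by simp⟩
    | add x x' _ _ hx hx' =>
      obtain ⟨w, hw, hwx⟩ := hx
      obtain ⟨w', hw', hwx'⟩ := hx'
      refine ⟨w + w', add_mem hw hw', ?_⟩
      rw [map_add, add_sub_add_comm]
      exact add_mem hwx hwx'
    | smul c x hxmem hx =>
      obtain ⟨w, hw, hwx⟩ := hx
      obtain ⟨r, hr⟩ : ∃ r, ψ r - c ∈ maximalIdeal (AdicCompletion (maximalIdeal B) B) := by
        obtain ⟨b, hb⟩ : ∃ b : B, algebraMap B _ b - c ∈
            maximalIdeal (AdicCompletion (maximalIdeal B) B) := by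
          obtain ⟨d, hd⟩ := (AdicCompletion.residueField_map_bijective B).2 (residue _ c)
          obtain ⟨b, rfl⟩ := residue_surjective d
          rw [ResidueField.map_residue] at hd
          exact ⟨b, Ideal.Quotient.eq.mp hd⟩
        obtain ⟨d, hd⟩ := hk (residue B b)
        obtain ⟨a, rfl⟩ := residue_surjective d
        rw [ResidueField.map_residue] at hd
        refine ⟨algebraMap A _ a, ?_⟩
        have h1 : algebraMap B (AdicCompletion (maximalIdeal B) B) (φ a - b) ∈
            maximalIdeal (AdicCompletion (maximalIdeal B) B) := by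
          rw [AdicCompletion.maximalIdeal_eq_map]
          exact Ideal.mem_map_of_mem _ (Ideal.Quotient.eq.mp hd)
        have h2 := add_mem h1 hb
        rw [map_sub, sub_add_sub_cancel] at h2
        rw [show ψ (algebraMap A _ a) = algebraMap B _ (φ a) from RingHom.congr_fun hψ a]
        exact h2
      refine ⟨r * w, Ideal.mul_mem_left _ _ hw, ?_⟩
      rw [smul_eq_mul, show ψ (r * w) - c * x = (ψ r - c) * ψ w + c * (ψ w - x) by
        rw [map_mul]; ring]
      refine add_mem ?_ (Ideal.mul_mem_left _ _ hwx)
      rw [pow_two]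
      exact Ideal.mul_mem_mul hr
        (map_maximalIdeal_completion_le φ ψ hψ (Ideal.mem_map_of_mem ψ hw))

end completion

theorem isRegularLocalRing_adicCompletion (A : Type u) [CommRing A] [IsRegularLocalRing A] :
    IsRegularLocalRing (AdicCompletion (maximalIdeal A) A) := by
  haveI := H05EGA4.isNoetherianRing_adicCompletion A (maximalIdeal A)
  rw [isRegularLocalRing_iff, AdicCompletion.spanFinrank_maximalIdeal_eq,
    H05EGA4.ringKrullDim_adicCompletion, IsRegularLocalRing.spanFinrank_maximalIdeal]

end Groth.Agent.H02CA
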