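import Mathlib

/-!
Schanuel type comparison of conormal modules of two presentations, allowing localization:
`T ⊗ I/I² × T^m ≅ T ⊗ J/J² × T^n`.
-/

namespace Groth.Agent.H02CA.ConormalSchanuel

universe u

open Algebra TensorProduct

/-- Homotopy equivalent two-term complexes have stably isomorphic first terms. -/
theorem unipotent {T A B A' B' : Type u} [CommRing T] [AddCommGroup A] [Module T A]
    [AddCommGroup B] [Module T B] [AddCommGroup A'] [Module T A'] [AddCommGroup B'] [Module T B']
    (d : A →ₗ[T] B) (e : A' →ₗ[T] B') (f0 : A →ₗ[T] A') (f1 : B →ₗ[T] B') (g0 : A' →ₗ[T] A)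
    (g1 : B' →ₗ[T] B) (h : B →ₗ[T] A) (k : B' →ₗ[T] A')
    (hf : ∀ a, f1 (d a) = e (f0 a)) (hg : ∀ a, g1 (e a) = d (g0 a))
    (h1 : ∀ a, g0 (f0 a) - a = h (d a)) (h2 : ∀ b, g1 (f1 b) - b = d (h b))
    (k1 : ∀ a, f0 (g0 a) - a = k (e a)) (k2 : ∀ b, f1 (g1 b) - b = e (k b)) :
    Nonempty ((A × B') ≃ₗ[T] (A' × B)) := by
  let Φ : A × B' →ₗ[T] A' × B :=
    LinearMap.prod (f0.comp (LinearMap.fst T A B') - k.comp (LinearMap.snd T A B'))
      (g1.comp (LinearMap.snd T A B') - d.comp (LinearMap.fst T A B'))
  let Ψ : A' × B →ₗ[T] A × B' :=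
    LinearMap.prod (g0.comp (LinearMap.fst T A' B) + h.comp (LinearMap.snd T A' B))
      (e.comp (LinearMap.fst T A' B) + f1.comp (LinearMap.snd T A' B))
  have hΨΦ : ∀ x : A × B', Ψ (Φ x) = (x.1 + (h (g1 x.2) - g0 (k x.2)), x.2) := by
    rintro ⟨a, b⟩
    ext
    · have := h1 a
      change g0 (f0 a - k b) + h (g1 b - d a) = a + (h (g1 b) - g0 (k b))
      rw [map_sub, map_sub, ← this]; abel
    · have := k2 b
      change e (f0 a - k b) + f1 (g1 b - d a) = b
      rw [map_sub, map_sub, hf, ← this]; abel
  have hΦΨ : ∀ x : A' × B, Φ (Ψ x) = (x.1 + (f0 (h x.2) - k (f1 x.2)), x.2) := by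
    rintro ⟨a, b⟩
    ext
    · have := k1 a
      change f0 (g0 a + h b) - k (e a + f1 b) = a + (f0 (h b) - k (f1 b))
      rw [map_add, map_add, ← this]; abel
    · have := h2 b
      change g1 (e a + f1 b) - d (g0 a + h b) = b
      rw [map_add, map_add, hg, ← this]; abel
  refine ⟨LinearEquiv.ofBijective Φ ⟨fun x y hxy => ?_, fun z => ?_⟩⟩
  · have := congrArg Ψ hxy
    rw [hΨΦ, hΨΦ, Prod.mk.injEq] at this
    obtain ⟨ha, hb⟩ := this
    rw [hb] at ha
    exact Prod.ext (add_right_cancel ha) hb
  · refine ⟨Ψ (z.1 - (f0 (h z.2) - k (f1 z.2)), z.2), ?_⟩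
    rw [hΦΨ]; simp

/-- Two extensions with maps in both directions. -/
theorem schanuel {R T : Type u} [CommRing R] [CommRing T] [Algebra R T]
    (P P' : Extension.{u} R T) (f : P.Hom P') (g : P'.Hom P) :
    Nonempty ((P.Cotangent × P'.CotangentSpace) ≃ₗ[T] (P'.Cotangent × P.CotangentSpace)) := by
  refine unipotent P.cotangentComplex P'.cotangentComplex (Extension.Cotangent.map f)
    (Extension.CotangentSpace.map f) (Extension.Cotangent.map g) (Extension.CotangentSpace.map g)
    ((g.comp f).sub (Extension.Hom.id P)) ((f.comp g).sub (Extension.Hom.id P'))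
    (Extension.CotangentSpace.map_cotangentComplex f) (Extension.CotangentSpace.map_cotangentComplex g)
    (fun a => ?_) (fun b => ?_) (fun a => ?_) (fun b => ?_)
  · have := LinearMap.congr_fun (Extension.Cotangent.map_sub_map (g.comp f) (Extension.Hom.id P)) a
    simpa [Extension.Cotangent.map_comp, Extension.Cotangent.map_id] using this
  · have := LinearMap.congr_fun (Extension.CotangentSpace.map_sub_map (g.comp f) (Extension.Hom.id P)) b
    simpa [Extension.CotangentSpace.map_comp, Extension.CotangentSpace.map_id] using this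
  · have := LinearMap.congr_fun (Extension.Cotangent.map_sub_map (f.comp g) (Extension.Hom.id P')) a
    simpa [Extension.Cotangent.map_comp, Extension.Cotangent.map_id] using this
  · have := LinearMap.congr_fun (Extension.CotangentSpace.map_sub_map (f.comp g) (Extension.Hom.id P')) b
    simpa [Extension.CotangentSpace.map_comp, Extension.CotangentSpace.map_id] using this

variable {R S T : Type u} [CommRing R] [CommRing S] [CommRing T] [Algebra R S] [Algebra R T]
  [Algebra S T] [IsScalarTower R S T]

set_option backward.isDefEq.respectTransparency false in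
/-- Localizing an extension. -/
theorem localize (P : Extension.{u} R S) (M : Submonoid S) [IsLocalization M T]
    (hM : ∀ s, IsUnit (algebraMap S T s) → s ∈ M) :
    ∃ Q : Extension.{u} R T, Nonempty (T ⊗[S] P.Cotangent ≃ₗ[T] Q.Cotangent) ∧
      Nonempty (T ⊗[S] P.CotangentSpace ≃ₗ[T] Q.CotangentSpace) ∧
      (∀ q : Q.Ring, IsUnit (algebraMap Q.Ring T q) → IsUnit q) ∧
      ∀ Q' : Extension.{u} R T, (∀ q : Q'.Ring, IsUnit (algebraMap Q'.Ring T q) → IsUnit q) →
        ∀ φ : P.Ring →ₐ[R] Q'.Ring,
          (∀ x, algebraMap Q'.Ring T (φ x) = algebraMap S T (algebraMap P.Ring S x)) →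
          Nonempty (Q.Hom Q') := by
  let M' := M.comap (algebraMap P.Ring S)
  let fQ : Localization M' →ₐ[R] T := IsLocalization.liftAlgHom (M := M')
    (f := (IsScalarTower.toAlgHom R S T).comp (IsScalarTower.toAlgHom R P.Ring S)) (fun ⟨y, hy⟩ ↦
    by simpa using IsLocalization.map_units T ⟨algebraMap P.Ring S y, hy⟩)
  let Q : Extension R T := .ofSurjective fQ (by
    intro x
    obtain ⟨x, ⟨s, hs⟩, rfl⟩ := IsLocalization.exists_mk'_eq M x
    obtain ⟨x, rfl⟩ := P.algebraMap_surjective x
    obtain ⟨s, rfl⟩ := P.algebraMap_surjective s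
    refine ⟨IsLocalization.mk' _ x ⟨s, show s ∈ M' from hs⟩, ?_⟩
    simp only [fQ, IsLocalization.coe_liftAlgHom, AlgHom.toRingHom_eq_coe]
    rw [IsLocalization.lift_mk'_spec]
    simp)
  let f : P.Hom Q :=
  { toRingHom := algebraMap P.Ring (Localization M')
    toRingHom_algebraMap x := (IsScalarTower.algebraMap_apply R P.Ring (Localization M') _).symm
    algebraMap_toRingHom x := @IsLocalization.lift_eq .. }
  letI : Algebra P.Ring Q.Ring := (inferInstance : Algebra P.Ring (Localization M'))
  letI := ((algebraMap S T).comp (algebraMap P.Ring S)).toAlgebra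
  letI := fQ.toRingHom.toAlgebra
  haveI : IsScalarTower P.Ring S T := .of_algebraMap_eq' rfl
  haveI : IsScalarTower P.Ring (Localization M') T :=
    .of_algebraMap_eq fun r ↦ (f.algebraMap_toRingHom r).symm
  haveI : IsLocalizedModule M' (IsScalarTower.toAlgHom P.Ring S T).toLinearMap := by
    rw [isLocalizedModule_iff_isLocalization]
    convert! ‹IsLocalization M T› using 1
    exact Submonoid.map_comap_eq_of_surjective P.algebraMap_surjective _
  have H₁ : f.toRingHom.FormallyEtale := RingHom.formallyEtale_algebraMap.mpr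
      (FormallyEtale.of_isLocalization (M := M') (Rₘ := Localization M'))
  have H₂ : Function.Bijective ((f.mapKer rfl).liftBaseChange Q.Ring) := by
    let F : P.ker →ₗ[P.Ring] RingHom.ker fQ := f.mapKer rfl
    refine (isLocalizedModule_iff_isBaseChange M' (Localization M') F).mp ?_
    have : (LinearMap.ker <| Algebra.linearMap P.Ring S).localized' (Localization M') M'
        (Algebra.linearMap P.Ring (Localization M')) = RingHom.ker fQ := by
      rw [LinearMap.localized'_ker_eq_ker_localizedMap (Localization M') M'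
        (Algebra.linearMap P.Ring (Localization M'))
        (f' := (IsScalarTower.toAlgHom P.Ring S T).toLinearMap)]
      ext x
      obtain ⟨x, ⟨s, hs⟩, rfl⟩ := IsLocalization.exists_mk'_eq M' x
      simp only [LinearMap.mem_ker, LinearMap.extendScalarsOfIsLocalization_apply', RingHom.mem_ker,
        IsLocalization.coe_liftAlgHom, AlgHom.toRingHom_eq_coe, IsLocalization.lift_mk'_spec,
        RingHom.coe_coe, AlgHom.coe_comp, IsScalarTower.coe_toAlgHom', Function.comp_apply,
        mul_zero, fQ]
      have : IsLocalization.mk' (Localization M') x ⟨s, hs⟩ =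
          IsLocalizedModule.mk' (Algebra.linearMap P.Ring (Localization M')) x ⟨s, hs⟩ := by
        rw [IsLocalization.mk'_eq_iff_eq_mul, mul_comm, ← Algebra.smul_def, ← Submonoid.smul_def,
          IsLocalizedModule.mk'_cancel']
        rfl
      simp [this, ← IsScalarTower.algebraMap_apply]
    have : F = ((LinearEquiv.ofEq _ _ this).restrictScalars P.Ring).toLinearMap ∘ₗ
      P.ker.toLocalized' (Localization M') M' (Algebra.linearMap P.Ring (Localization M')) := by
      ext; rfl
    rw [this]
    exact IsLocalizedModule.of_linearEquiv _ _ _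
  refine ⟨Q, ⟨Extension.tensorCotangent f rfl H₂⟩,
    ⟨Extension.tensorCotangentSpaceOfFormallyEtale f H₁⟩, ?_, ?_⟩
  · intro (q : Localization M') (hq : IsUnit (fQ q))
    obtain ⟨a, s, rfl⟩ := IsLocalization.exists_mk'_eq M' q
    have ha : IsUnit (fQ (algebraMap P.Ring (Localization M') a)) := by
      rw [← IsLocalization.mk'_spec (Localization M') a s, map_mul]
      exact hq.mul ((IsLocalization.map_units (Localization M') s).map fQ)
    have ha' : a ∈ M' := hM _ (by
      have e : fQ (algebraMap P.Ring (Localization M') a) = algebraMap S T (algebraMap P.Ring S a) :=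
        f.algebraMap_toRingHom a
      rwa [e] at ha)
    exact isUnit_of_mul_isUnit_left (y := algebraMap P.Ring (Localization M') (s : P.Ring))
      ((IsLocalization.mk'_spec (Localization M') a s).symm ▸ IsLocalization.map_units (Localization M') ⟨a, ha'⟩)
  · intro Q' hQ' φ hφ
    have hu : ∀ y : M', IsUnit (φ y) := fun y => hQ' _ (by
      rw [hφ]; exact IsLocalization.map_units T ⟨algebraMap P.Ring S y, y.2⟩)
    let ψ : Localization M' →+* Q'.Ring := IsLocalization.lift (g := φ.toRingHom) hu
    refine ⟨{ toRingHom := ψ, toRingHom_algebraMap := fun r => ?_, algebraMap_toRingHom := fun q => ?_ }⟩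
    · change ψ (algebraMap R (Localization M') r) = algebraMap R Q'.Ring r
      rw [IsScalarTower.algebraMap_apply R P.Ring (Localization M')]
      exact (IsLocalization.lift_eq hu _).trans (φ.commutes r)
    · change algebraMap Q'.Ring T (ψ q) = fQ q
      refine RingHom.congr_fun (IsLocalization.ringHom_ext (S := Localization M') M'
        (j := (algebraMap Q'.Ring T).comp ψ) (k := fQ.toRingHom) (RingHom.ext fun x => ?_)) q
      change algebraMap Q'.Ring T (ψ (algebraMap P.Ring _ x)) = fQ (algebraMap P.Ring _ x)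
      rw [show ψ (algebraMap P.Ring _ x) = φ x from IsLocalization.lift_eq hu _, hφ]
      exact (f.algebraMap_toRingHom x).symm

/-- The comparison for two presentations by polynomial rings, after a common localization. -/
theorem main {S' : Type u} [CommRing S'] [Algebra R S'] [Algebra S' T] [IsScalarTower R S' T]
    (M : Submonoid S) [IsLocalization M T] (hM : ∀ s, IsUnit (algebraMap S T s) → s ∈ M)
    (M' : Submonoid S') [IsLocalization M' T] (hM' : ∀ s, IsUnit (algebraMap S' T s) → s ∈ M')
    (n m : ℕ) (α : MvPolynomial (Fin n) R →ₐ[R] S) (hα : Function.Surjective α)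
    (β : MvPolynomial (Fin m) R →ₐ[R] S') (hβ : Function.Surjective β) :
    Nonempty ((T ⊗[S] (Extension.ofSurjective α hα).Cotangent × (Fin m → T)) ≃ₗ[T]
      (T ⊗[S'] (Extension.ofSurjective β hβ).Cotangent × (Fin n → T))) := by
  obtain ⟨Q, ⟨eC⟩, ⟨eS⟩, hu, hom⟩ := localize (T := T) (Extension.ofSurjective α hα) M hM
  obtain ⟨Q', ⟨eC'⟩, ⟨eS'⟩, hu', hom'⟩ := localize (T := T) (Extension.ofSurjective β hβ) M' hM'
  choose a ha using fun i => Q'.algebraMap_surjective (algebraMap S T (α (MvPolynomial.X i)))
  choose b hb using fun i => Q.algebraMap_surjective (algebraMap S' T (β (MvPolynomial.X i)))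
  obtain ⟨F⟩ := hom Q' hu' (MvPolynomial.aeval a : MvPolynomial (Fin n) R →ₐ[R] Q'.Ring) (by
    intro x
    refine AlgHom.congr_fun (φ₁ := (IsScalarTower.toAlgHom R Q'.Ring T).comp (MvPolynomial.aeval a))
      (φ₂ := (IsScalarTower.toAlgHom R S T).comp α) (MvPolynomial.algHom_ext fun i => ?_) x
    simp [ha])
  obtain ⟨G⟩ := hom' Q hu (MvPolynomial.aeval b : MvPolynomial (Fin m) R →ₐ[R] Q.Ring) (by
    intro x
    refine AlgHom.congr_fun (φ₁ := (IsScalarTower.toAlgHom R Q.Ring T).comp (MvPolynomial.aeval b))
      (φ₂ := (IsScalarTower.toAlgHom R S' T).comp β) (MvPolynomial.algHom_ext fun i => ?_) x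
    simp [hb])
  obtain ⟨E⟩ := schanuel Q Q' F G
  letI := α.toAlgebra
  letI := β.toAlgebra
  let bS : Module.Basis (Fin n) S (Extension.ofSurjective α hα).CotangentSpace :=
    (KaehlerDifferential.mvPolynomialBasis R (Fin n)).baseChange S
  let bS' : Module.Basis (Fin m) S' (Extension.ofSurjective β hβ).CotangentSpace :=
    (KaehlerDifferential.mvPolynomialBasis R (Fin m)).baseChange S'
  exact ⟨(eC.prodCongr ((bS'.baseChange T).equivFun.symm.trans eS')).trans
    (E.trans (eC'.symm.prodCongr (eS.symm.trans (bS.baseChange T).equivFun)))⟩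

end Groth.Agent.H02CA.ConormalSchanuel
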