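import Groth.Agent.H20Comod.Basic
import Groth.Prelude.Def_W4c3ghconstell
import Groth.Prelude.Def_GLin
import Mathlib

/-!
# Isotypic parts of equivariant modules and weight comparison
-/

universe u v w w'

open TensorProduct HopfRep W4c3ghconstell

namespace Groth.Agent.H02CA.Constell

open Groth.Agent.H20Comod

section Coalg

variable {k : Type u} [Field k] {A : Type v} [AddCommGroup A] [Module k A] [Coalgebra k A]
  {V : Type w} [AddCommGroup V] [Module k V] [Comod k A V]

theorem coact_actL (f : A →ₗ[k] k) (v : V) :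
    Comod.coact (k := k) (A := A) (actL f v) =
      (actL (V := A) f).lTensor V (Comod.coact (k := k) (A := A) v) := by
  rw [← sub_eq_zero]
  refine eq_zero_of_forall_sliceR fun g => ?_
  rw [map_sub, sliceR_lTensor, ← actL_apply g (actL f v), ← actL_conv, actL_apply, sub_eq_zero]
  congr 2
  ext a
  show conv g f a = g (sliceR f (CoalgebraStruct.comul (R := k) a))
  rw [conv, LinearMap.comp_apply, LinearMap.comp_apply]
  induction CoalgebraStruct.comul (R := k) a using TensorProduct.induction_on with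
  | zero => simp
  | tmul x y => simp [mul_comm]
  | add x y hx hy => simp only [map_add, hx, hy]

theorem actL_mem_of_subcoalg {D : Submodule k A} (hD : W4c3ghconstell.IsSubcoalg k A D)
    (f : A →ₗ[k] k) {a : A} (ha : a ∈ D) : actL (V := A) f a ∈ D :=
  ((mem_range_map_subtype_iff D _).1 (hD a ha)).1 f

theorem isSubcomod_isoComp (D : SimpSub k A) :
    IsSubcomod (k := k) (A := A) (isoComp V D.1) := by
  rw [isSubcomod_iff_forall_actL]
  intro v hv f
  obtain ⟨y, hy⟩ := hv
  show Comod.coact (k := k) (A := A) (actL f v) ∈ LinearMap.range (LinearMap.lTensor V D.1.subtype)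
  rw [coact_actL, ← hy, ← LinearMap.comp_apply, ← LinearMap.lTensor_comp]
  refine ⟨((actL (V := A) f).restrict fun a => actL_mem_of_subcoalg D.2.2.1 f).lTensor V y, ?_⟩
  rw [← LinearMap.comp_apply, ← LinearMap.lTensor_comp]
  rfl

theorem exists_counit_on {D E : Submodule k A} (h : D ⊓ E = ⊥) :
    ∃ g : A →ₗ[k] k, (∀ d ∈ D, g d = CoalgebraStruct.counit (R := k) (A := A) d) ∧
      ∀ e ∈ E, g e = 0 := by
  obtain ⟨r, hr⟩ := LinearMap.exists_leftInverse_of_injective (E.mkQ ∘ₗ D.subtype) (by
    rw [LinearMap.ker_eq_bot']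
    intro d hd
    have : (d : A) ∈ D ⊓ E := ⟨d.2, (Submodule.Quotient.mk_eq_zero E).1 hd⟩
    rw [h, Submodule.mem_bot] at this
    exact Subtype.ext this)
  refine ⟨CoalgebraStruct.counit (R := k) (A := A) ∘ₗ D.subtype ∘ₗ r ∘ₗ E.mkQ, fun d hd => ?_,
    fun e he => ?_⟩
  · have := LinearMap.congr_fun hr ⟨d, hd⟩
    simp only [LinearMap.comp_apply, LinearMap.id_apply, Submodule.coe_subtype] at this ⊢
    rw [this]
  · simp [(Submodule.Quotient.mk_eq_zero E).2 he]

theorem isSubcoalg_sup' {E F : Submodule k A} (hE : W4c3ghconstell.IsSubcoalg k A E)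
    (hF : W4c3ghconstell.IsSubcoalg k A F) : H20Comod.IsSubcoalg (k := k) (E ⊔ F) :=
  sup_eq_iSup E F ▸ isSubcoalg_iSup (fun b : Bool => cond b E F) (Bool.rec hF hE)

theorem disjoint_of_le_sup {D E F : Submodule k A} (hD : IsSimpleSubcoalg k A D)
    (hE : W4c3ghconstell.IsSubcoalg k A E) (hF : W4c3ghconstell.IsSubcoalg k A F)
    (hDE : D ⊓ E = ⊥) (hDF : D ⊓ F = ⊥) : D ⊓ (E ⊔ F) = ⊥ := by
  rcases hD.2.2 _ inf_le_left (isSubcoalg_inf hD.2.1
    (isSubcoalg_sup' hE hF)) with h | h
  · exact h
  exfalso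
  have hle : D ≤ E ⊔ F := inf_eq_left.1 h
  let ε : A →ₗ[k] k := CoalgebraStruct.counit (R := k) (A := A)
  obtain ⟨g, hgD, hgE⟩ := exists_counit_on hDE
  apply hD.1
  rw [eq_bot_iff]
  intro d hd
  have key : sliceL g (CoalgebraStruct.comul (R := k) d) = d := by
    obtain ⟨z, hz⟩ := hD.2.1 d hd
    have h0 := congrArg (TensorProduct.lid k A) (Coalgebra.rTensor_counit_comul (R := k) d)
    rw [TensorProduct.lid_tmul, one_smul] at h0
    refine Eq.trans ?_ h0
    show _ = sliceL ε _
    rw [← hz]
    clear hz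
    induction z using TensorProduct.induction_on with
    | zero => simp
    | tmul a b => simp [ε, hgD _ a.2]
    | add a b ha hb => simp only [map_add, ha, hb]
  have hd1 : sliceL g (CoalgebraStruct.comul (R := k) d) ∈ D :=
    ((mem_range_map_subtype_iff D _).1 (hD.2.1 d hd)).2 g
  have hd2 : sliceL g (CoalgebraStruct.comul (R := k) d) ∈ F := by
    obtain ⟨e, he, f, hf, hef⟩ := Submodule.mem_sup.1 (hle hd)
    rw [← hef, map_add, map_add]
    refine add_mem ?_ (((mem_range_map_subtype_iff F _).1 (hF f hf)).2 g)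
    obtain ⟨z, hz⟩ := hE e he
    rw [← hz]
    convert F.zero_mem
    clear hz
    induction z using TensorProduct.induction_on with
    | zero => simp
    | tmul a b => simp [hgE _ a.2]
    | add a b ha hb => simp only [map_add, ha, hb, add_zero]
  exact hDF ▸ (key ▸ Submodule.mem_inf.2 ⟨hd1, hd2⟩)

theorem disjoint_sup_finset (D : SimpSub k A) (s : Finset (SimpSub k A)) (hs : D ∉ s) :
    D.1 ⊓ (⨆ E ∈ s, E.1) = ⊥ := by
  classical
  induction s using Finset.induction with
  | empty => simp
  | @insert E s hE ih =>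
    rw [Finset.iSup_insert]
    simp only [Finset.mem_insert, not_or] at hs
    refine disjoint_of_le_sup D.2 E.2.2.1
      (isSubcoalg_iSup _ fun E => isSubcoalg_iSup _ fun _ => E.2.2.1) ?_ (ih hs.2)
    rcases D.2.2.2 _ inf_le_left (isSubcoalg_inf D.2.2.1 E.2.2.1) with h | h
    · exact h
    · rcases E.2.2.2 _ (inf_eq_left.1 h) D.2.2.1 with h' | h'
      · exact absurd h' D.2.1
      · exact absurd (Subtype.ext h') hs.1

theorem exists_mem_isoComp_ne_zero (hV : (⨆ D : SimpSub k A, isoComp V D.1) = ⊤)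
    {N : Submodule k V} (hN : IsSubcomod (k := k) (A := A) N) (hne : N ≠ ⊥) :
    ∃ D : SimpSub k A, N ⊓ isoComp V D.1 ≠ ⊥ := by
  classical
  obtain ⟨v, hvN, hv0⟩ := Submodule.exists_mem_ne_zero_of_ne_bot hne
  obtain ⟨c, hc, hcv⟩ := (Submodule.mem_iSup_iff_exists_finsupp _ v).1 (hV ▸ Submodule.mem_top : v ∈ _)
  obtain ⟨D, hD⟩ : c.support.Nonempty := by
    rw [Finsupp.support_nonempty_iff]
    rintro rfl
    exact hv0 (by simpa using hcv.symm)
  refine ⟨D, ?_⟩
  let s := c.support.erase D
  let S : Submodule k A := ⨆ E ∈ s, E.1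
  let ε : A →ₗ[k] k := CoalgebraStruct.counit (R := k) (A := A)
  obtain ⟨f, hfD, hfS⟩ := exists_counit_on (disjoint_sup_finset D s (by simp [s]))
  have h1 : actL f (c D) = c D := by
    conv_rhs => rw [← actL_counit (k := k) (A := A) (c D)]
    obtain ⟨y, hy⟩ := hc D
    rw [actL_apply, actL_apply, ← hy, sliceR_lTensor, sliceR_lTensor]
    congr 2
    ext a
    exact hfD a.1 a.2
  have h2 : ∀ E ∈ s, actL f (c E) = 0 := by
    intro E hE
    obtain ⟨y, hy⟩ := hc E
    rw [actL_apply, ← hy, sliceR_lTensor,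
      show f ∘ₗ E.1.subtype = 0 from LinearMap.ext fun a =>
        hfS a.1 (Submodule.mem_iSup_of_mem E (Submodule.mem_iSup_of_mem hE a.2))]
    simp [sliceR]
  have hfv : actL f v = c D := by
    rw [← hcv, Finsupp.sum, map_sum, ← Finset.add_sum_erase _ _ hD, h1,
      Finset.sum_eq_zero h2, add_zero]
  intro hbot
  have : c D ∈ N ⊓ isoComp V D.1 := ⟨hfv ▸ actL_mem_of_isSubcomod hN f hvN, hc D⟩
  rw [hbot, Submodule.mem_bot] at this
  exact (Finsupp.mem_support_iff.1 hD) this

end Coalg

section Weights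

variable {k : Type u} [Field k] {A : Type v} [CommRing A] [Bialgebra k A]
  {R : Type w} [CommRing R] [Algebra k R] [Comod k A R]
  {M : Type w'} [AddCommGroup M] [Module k M] [Module R M] [IsScalarTower k R M]
  [Comod k A M] [TameAct.IsHopfMod k A R M]

theorem isSubcomod_span (W : Submodule k M) (hW : IsSubcomod (k := k) (A := A) W) :
    IsSubcomod (k := k) (A := A) ((Submodule.span R (W : Set M)).restrictScalars k) := by
  intro x hx
  change x ∈ Submodule.span R (W : Set M) at hx
  induction hx using Submodule.span_induction with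
  | mem x hx =>
    obtain ⟨y, hy⟩ := hW x hx
    refine ⟨(Submodule.inclusion (show W ≤ (Submodule.span R (W : Set M)).restrictScalars k
      from fun z hz => Submodule.subset_span hz)).rTensor A y, ?_⟩
    rw [← LinearMap.comp_apply, ← LinearMap.rTensor_comp]
    exact hy
  | zero => simp
  | add x y _ _ hx hy => rw [map_add]; exact add_mem hx hy
  | smul r x _ hx =>
    rw [TameAct.IsHopfMod.coact_smul r x]
    obtain ⟨y, hy⟩ := hx
    rw [← hy]
    induction Comod.coact (k := k) (A := A) r using TensorProduct.induction_on with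
    | zero => simp
    | add a b ha hb => rw [map_add, LinearMap.add_apply]; exact add_mem ha hb
    | tmul b a =>
      clear hy
      induction y using TensorProduct.induction_on with
      | zero => simp
      | add u v hu hv => rw [map_add, map_add]; exact add_mem hu hv
      | tmul m a' =>
        rw [LinearMap.rTensor_tmul, TameAct.hmSMul_tmul]
        exact ⟨⟨b • m.1, Submodule.smul_mem _ b m.2⟩ ⊗ₜ (a * a'), rfl⟩

theorem genIn_le (S : Set (SimpSub k A)) (N : Submodule R M) : genIn k A R M S N ≤ N := by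
  rw [genIn, Submodule.span_le]
  simp only [Set.iUnion_subset_iff]
  exact fun D _ x hx => hx.1

theorem le_genIn (S : Set (SimpSub k A)) (N : Submodule R M) {D : SimpSub k A} (hD : D ∈ S) :
    N.restrictScalars k ⊓ isoComp M D.1 ≤ (genIn k A R M S N).restrictScalars k := fun _ hx =>
  Submodule.subset_span (Set.mem_biUnion hD hx)

theorem genIn_inf (S : Set (SimpSub k A)) (N : Submodule R M) {D : SimpSub k A} (hD : D ∈ S) :
    (genIn k A R M S N).restrictScalars k ⊓ isoComp M D.1 = N.restrictScalars k ⊓ isoComp M D.1 :=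
  le_antisymm (inf_le_inf_right _ fun _ hx => genIn_le S N hx)
    (le_inf (le_genIn S N hD) inf_le_right)

theorem genIn_idem (S : Set (SimpSub k A)) (N : Submodule R M) :
    genIn k A R M S (genIn k A R M S N) = genIn k A R M S N := by
  show Submodule.span R _ = Submodule.span R _
  congr 1
  exact Set.iUnion₂_congr fun D hD => by rw [genIn_inf S N hD]

theorem isSubcomod_genIn (S : Set (SimpSub k A)) {N : Submodule R M}
    (hN : IsSubcomod (k := k) (A := A) (N.restrictScalars k)) :
    IsSubcomod (k := k) (A := A) ((genIn k A R M S N).restrictScalars k) := by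
  have e : genIn k A R M S N = Submodule.span R
      ((⨆ D ∈ S, (N.restrictScalars k ⊓ isoComp M D.1) : Submodule k M) : Set M) := by
    refine le_antisymm (Submodule.span_mono ?_) (Submodule.span_le.2 ?_)
    · simp only [Set.iUnion_subset_iff]
      exact fun D hD x hx => Submodule.mem_iSup_of_mem D (Submodule.mem_iSup_of_mem hD hx)
    · intro x hx
      have : (⨆ D ∈ S, (N.restrictScalars k ⊓ isoComp M D.1)) ≤
          (genIn k A R M S N).restrictScalars k := iSup₂_le fun D hD => le_genIn S N hD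
      exact this hx
  rw [e]
  refine isSubcomod_span (R := R) (⨆ D ∈ S, (N.restrictScalars k ⊓ isoComp M D.1)) ?_
  refine isSubcomod_iSup (V := M) (fun D => ⨆ (_ : D ∈ S), (N.restrictScalars k ⊓ isoComp M D.1))
    fun D => isSubcomod_iSup (V := M) (fun _ : D ∈ S => N.restrictScalars k ⊓ isoComp M D.1)
      fun _ => isSubcomod_inf hN (isSubcomod_isoComp D)

variable {h : SimpSub k A → ℕ} (hM : IsConstellation k A R M h)

include hM in
theorem hilb_le (N : Submodule k M) (D : SimpSub k A) : hilbAt M N D ≤ h D := by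
  haveI := (hM.2.2 D).1
  exact (Submodule.finrank_mono inf_le_right).trans (hM.2.2 D).2.le

include hM in
theorem hilb_mono {N N' : Submodule k M} (hle : N ≤ N') (D : SimpSub k A) :
    hilbAt M N D ≤ hilbAt M N' D := by
  haveI := (hM.2.2 D).1
  haveI : Module.Finite k ↥(N' ⊓ isoComp M D.1) :=
    Submodule.finiteDimensional_of_le inf_le_right
  exact Submodule.finrank_mono (inf_le_inf_right _ hle)

include hM in
theorem hilb_eq_imp {N : Submodule k M} {D : SimpSub k A} (he : hilbAt M N D = h D) :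
    isoComp M D.1 ≤ N := by
  haveI := (hM.2.2 D).1
  exact inf_eq_right.1 (Submodule.eq_of_le_of_finrank_eq inf_le_right (he.trans (hM.2.2 D).2.symm))

include hM in
theorem hilb_top (D : SimpSub k A) : hilbAt M (⊤ : Submodule k M) D = h D := by
  rw [hilbAt, top_inf_eq, (hM.2.2 D).2]

theorem hilb_bot (D : SimpSub k A) : hilbAt M (⊥ : Submodule k M) D = 0 := by
  rw [hilbAt, bot_inf_eq, finrank_bot]

include hM in
theorem hilb_pos {N : Submodule k M} {D : SimpSub k A} (hne : N ⊓ isoComp M D.1 ≠ ⊥) :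
    0 < hilbAt M N D := by
  haveI := (hM.2.2 D).1
  haveI : Module.Finite k ↥(N ⊓ isoComp M D.1) :=
    Submodule.finiteDimensional_of_le inf_le_right
  exact Nat.pos_of_ne_zero fun he => hne (Submodule.finrank_eq_zero.1 he)

variable (θ : SimpSub k A → ℚ)

omit [Module R M] [IsScalarTower k R M] [TameAct.IsHopfMod k A R M] in
theorem summable_of_le {h : SimpSub k A → ℕ} (hs : Summable fun D => (θ D : ℝ) * (h D : ℝ))
    {g : SimpSub k A → ℕ} (hg : ∀ D, g D ≤ h D) :
    Summable fun D => (θ D : ℝ) * (g D : ℝ) := by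
  refine Summable.of_norm_bounded hs.norm fun D => ?_
  simp only [norm_mul, Real.norm_eq_abs, Nat.abs_cast]
  exact mul_le_mul_of_nonneg_left (by exact_mod_cast hg D) (abs_nonneg _)

include hM in
/-- Passing to a submodule with the same negative parts lowers the weight. -/
theorem theta_le {N N' : Submodule k M} (hs : Summable fun D => (θ D : ℝ) * (h D : ℝ))
    (hle : N ≤ N') (hneg : ∀ D, θ D < 0 → hilbAt M N D = hilbAt M N' D) :
    theta M θ N ≤ theta M θ N' := by
  refine Summable.tsum_le_tsum (fun D => ?_) (summable_of_le θ hs (hilb_le hM N))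
    (summable_of_le θ hs (hilb_le hM N'))
  rcases lt_or_ge (θ D) 0 with hd | hd
  · rw [hneg D hd]
  · exact mul_le_mul_of_nonneg_left (Nat.cast_le.2 (hilb_mono hM hle D)) (Rat.cast_nonneg.2 hd)

include hM in
/-- Equality in `theta_le`. -/
theorem eq_of_theta_le {N N' : Submodule k M} (hs : Summable fun D => (θ D : ℝ) * (h D : ℝ))
    (hle : N ≤ N') (hneg : ∀ D, θ D < 0 → hilbAt M N D = hilbAt M N' D)
    (he : theta M θ N' ≤ theta M θ N) (D : SimpSub k A) (hD : θ D ≠ 0) :
    hilbAt M N D = hilbAt M N' D := by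
  by_contra hne
  have hd : 0 < θ D := lt_of_le_of_ne (not_lt.1 fun hd => hne (hneg D hd)) (Ne.symm hD)
  have hlt : (θ D : ℝ) * (hilbAt M N D : ℝ) < (θ D : ℝ) * (hilbAt M N' D : ℝ) :=
    mul_lt_mul_of_pos_left
      (Nat.cast_lt.2 (lt_of_le_of_ne (hilb_mono hM hle D) hne)) (Rat.cast_pos.2 hd)
  have := Summable.tsum_lt_tsum (i := D) (fun D => ?_) hlt (summable_of_le θ hs (hilb_le hM N))
    (summable_of_le θ hs (hilb_le hM N'))
  · exact absurd this (not_lt.2 he)
  rcases lt_or_ge (θ D) 0 with hd | hd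
  · rw [hneg D hd]
  · exact mul_le_mul_of_nonneg_left (Nat.cast_le.2 (hilb_mono hM hle D)) (Rat.cast_nonneg.2 hd)

include hM in
theorem theta_bot : theta M θ (⊥ : Submodule k M) = 0 := by
  simp [theta, hilb_bot]

include hM in
theorem theta_top (hs : HasSum (fun D => (θ D : ℝ) * (h D : ℝ)) 0) :
    theta M θ (⊤ : Submodule k M) = 0 := by
  simp only [theta, hilb_top hM]
  exact hs.tsum_eq

include hM in
/-- A non-zero subcomodule without negative part has positive weight. -/
theorem theta_pos {N : Submodule k M} (hs : Summable fun D => (θ D : ℝ) * (h D : ℝ))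
    (hN : IsSubcomod (k := k) (A := A) N) (hne : N ≠ ⊥)
    (hθ : ∀ D, h D ≠ 0 → θ D ≠ 0) (hneg : ∀ D, θ D < 0 → hilbAt M N D = 0) :
    0 < theta M θ N := by
  obtain ⟨D, hD⟩ := exists_mem_isoComp_ne_zero hM.2.1 hN hne
  have hp := hilb_pos hM hD
  have hneg' : ∀ D, θ D < 0 → hilbAt M (⊥ : Submodule k M) D = hilbAt M N D := fun D hd => by
    rw [hilb_bot, hneg D hd]
  refine lt_of_not_ge fun hle => hp.ne ?_
  have := eq_of_theta_le hM θ hs bot_le hneg' (by rwa [theta_bot hM]) D
    (hθ D fun h0 => by have := hilb_le hM N D; omega)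
  rwa [hilb_bot] at this

end Weights

end Groth.Agent.H02CA.Constell
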