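import Mathlib

/-!
Images of constructible sets under ring maps of finite type (not nec. of finite presentation):
the image contains an open dense subset of the closure of each of its points; closed points for
Jacobson rings.
-/

namespace Groth.Agent.H02CA.ConstructibleImage

universe u

variable {R S : Type u} [CommRing R] [CommRing S] [Algebra R S]

/-- A prime of a finite type algebra: over a basic open of the closure of its image, primes exist. -/
theorem exists_notMem_forall_exists_comap [Algebra.FiniteType R S] (q : Ideal S) [q.IsPrime] :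
    ∃ c : R, c ∉ q.comap (algebraMap R S) ∧ ∀ P : Ideal R, P.IsPrime →
      q.comap (algebraMap R S) ≤ P → c ∉ P →
        ∃ Q : Ideal S, Q.IsPrime ∧ Q.comap (algebraMap R S) = P := by
  classical
  let p := q.comap (algebraMap R S)
  let F := p.Fiber S
  have hF : Nontrivial F := by
    have := (PrimeSpectrum.preimageEquivFiber R S ⟨p, inferInstance⟩)
      ⟨⟨q, inferInstance⟩, rfl⟩
    exact Ideal.Quotient.nontrivial_iff.mpr this.2.ne_top |> fun h =>
      (Ideal.Quotient.mk this.asIdeal).domain_nontrivial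
  obtain ⟨m, hm⟩ := Ideal.exists_maximal F
  let L := F ⧸ m
  let _ : Field L := Ideal.Quotient.field m
  have : Algebra.FiniteType p.ResidueField L :=
    Algebra.FiniteType.of_surjective (Ideal.Quotient.mkₐ p.ResidueField m)
      Ideal.Quotient.mk_surjective
  have : Module.Finite p.ResidueField L := finite_of_finite_type_of_isJacobsonRing _ _
  let h : S →ₐ[R] L := (Ideal.Quotient.mkₐ R m).comp Algebra.TensorProduct.includeRight
  have hker : ∀ a : R, algebraMap R L a = 0 → a ∈ p := fun a ha => by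
    rw [IsScalarTower.algebraMap_apply R p.ResidueField L, map_eq_zero] at ha
    exact Ideal.algebraMap_residueField_eq_zero.mp ha
  have hker' : ∀ a ∈ p, algebraMap R L a = 0 := fun a ha => by
    rw [IsScalarTower.algebraMap_apply R p.ResidueField L,
      Ideal.algebraMap_residueField_eq_zero.mpr ha, map_zero]
  have halg : ∀ t : L, ∃ c : R, c ∉ p ∧ IsIntegral R (algebraMap R L c * t) := fun t => by
    have := IsScalarTower.of_algebraMap_eq (R := R ⧸ p) (S := p.ResidueField) (A := L)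
      fun x => by
        obtain ⟨a, rfl⟩ := Ideal.Quotient.mk_surjective x
        change algebraMap R L a =
          algebraMap p.ResidueField L (algebraMap (R ⧸ p) p.ResidueField (algebraMap R (R ⧸ p) a))
        rw [← IsScalarTower.algebraMap_apply R (R ⧸ p) p.ResidueField,
          ← IsScalarTower.algebraMap_apply R p.ResidueField L]
    have := IsScalarTower.of_algebraMap_eq (R := R) (S := R ⧸ p) (A := L) fun a => rfl
    obtain ⟨d, hd, hint⟩ := ((IsFractionRing.isAlgebraic_iff (R ⧸ p) p.ResidueField L).mpr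
      (IsAlgebraic.of_finite p.ResidueField t)).exists_integral_multiple
    obtain ⟨c, rfl⟩ := Ideal.Quotient.mk_surjective d
    refine ⟨c, fun h => hd (Ideal.Quotient.eq_zero_iff_mem.mpr h), ?_⟩
    have : Algebra.IsIntegral R (R ⧸ p) := .of_finite R (R ⧸ p)
    have hi : IsIntegral (R ⧸ p) (algebraMap R L c * t) := by
      convert hint using 1
      · rfl
      · exact (Algebra.smul_def (Ideal.Quotient.mk p c) t).symm
    exact isIntegral_trans _ hi
  obtain ⟨T, hT⟩ := Algebra.FiniteType.out (R := R) (A := S)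
  choose c hc hint using fun t : S => halg (h t)
  let d : R := ∏ t ∈ T, c t
  have hd : d ∉ p := fun hmem => by
    obtain ⟨t, -, ht⟩ := Ideal.IsPrime.prod_mem_iff.mp hmem
    exact hc t ht
  refine ⟨d, hd, fun P hP hpP hdP => ?_⟩
  let δ := algebraMap R L d
  have key : ∀ z : S, ∃ n, IsIntegral R (δ ^ n * h z) := fun z => by
    have hz : z ∈ Algebra.adjoin R (T : Set S) := hT ▸ trivial
    induction hz using Algebra.adjoin_induction with
    | mem t ht =>
      refine ⟨1, ?_⟩
      rw [pow_one, show δ = algebraMap R L (c t) * algebraMap R L (∏ s ∈ T.erase t, c s) by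
        rw [← map_mul, Finset.mul_prod_erase T c ht], mul_right_comm]
      exact (hint t).mul isIntegral_algebraMap
    | algebraMap a => exact ⟨0, by rw [pow_zero, one_mul, h.commutes]; exact isIntegral_algebraMap⟩
    | add x y _ _ hx hy =>
      obtain ⟨n, hn⟩ := hx
      obtain ⟨k, hk⟩ := hy
      refine ⟨n + k, ?_⟩
      rw [map_add, show δ ^ (n + k) * (h x + h y) = δ ^ k * (δ ^ n * h x) + δ ^ n * (δ ^ k * h y) by
        ring]
      exact ((isIntegral_algebraMap.pow k).mul hn).add ((isIntegral_algebraMap.pow n).mul hk)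
    | mul x y _ _ hx hy =>
      obtain ⟨n, hn⟩ := hx
      obtain ⟨k, hk⟩ := hy
      refine ⟨n + k, ?_⟩
      rw [map_mul, show δ ^ (n + k) * (h x * h y) = δ ^ n * h x * (δ ^ k * h y) by ring]
      exact hn.mul hk
  let C := integralClosure R L
  obtain ⟨Q, -, hQ, hQP⟩ := Ideal.exists_ideal_over_prime_of_isIntegral (R := R) (S := C) P ⊥
    (fun a ha => hpP (hker a (congrArg (algebraMap C L) (show algebraMap R C a = 0 from ha) |>.trans
      (map_zero _))))
  have hdQ : algebraMap R C d ∉ Q := fun hmem => hdP (hQP ▸ hmem)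
  have indep : ∀ (z : S) (n k : ℕ) (a b : C), (a : L) = δ ^ n * h z → (b : L) = δ ^ k * h z →
      a ∈ Q → b ∈ Q := fun z n k a b ha hb haQ => by
    have heq : algebraMap R C d ^ n * b = algebraMap R C d ^ k * a := Subtype.ext (by
      change δ ^ n * (b : L) = δ ^ k * (a : L)
      rw [ha, hb]; ring)
    refine (hQ.mem_or_mem (heq ▸ Ideal.mul_mem_left Q _ haQ)).resolve_left fun h' => ?_
    exact hdQ (hQ.mem_of_pow_mem n h')
  refine ⟨{ carrier := {z | ∃ (n : ℕ) (a : C), (a : L) = δ ^ n * h z ∧ a ∈ Q}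
            add_mem' := ?_, zero_mem' := ⟨0, 0, by simp, Q.zero_mem⟩, smul_mem' := ?_ }, ⟨?_, ?_⟩, ?_⟩
  · rintro x y ⟨n, a, ha, haQ⟩ ⟨k, b, hb, hbQ⟩
    refine ⟨n + k, algebraMap R C d ^ k * a + algebraMap R C d ^ n * b, ?_,
      add_mem (Q.mul_mem_left _ haQ) (Q.mul_mem_left _ hbQ)⟩
    change δ ^ k * (a : L) + δ ^ n * (b : L) = δ ^ (n + k) * h (x + y)
    rw [ha, hb, map_add]; ring
  · rintro s x ⟨n, a, ha, haQ⟩
    obtain ⟨k, hk⟩ := key s
    refine ⟨k + n, ⟨δ ^ k * h s, hk⟩ * a, ?_, Q.mul_mem_left _ haQ⟩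
    change δ ^ k * h s * (a : L) = δ ^ (k + n) * h (s • x)
    rw [ha, smul_eq_mul, map_mul]; ring
  · intro htop
    obtain ⟨n, a, ha, haQ⟩ := (Ideal.eq_top_iff_one _).mp htop
    have : a = algebraMap R C d ^ n := Subtype.ext (by
      change (a : L) = δ ^ n
      rw [ha, map_one, mul_one])
    exact hdQ (hQ.mem_of_pow_mem n (this ▸ haQ))
  · rintro x y ⟨n, a, ha, haQ⟩
    obtain ⟨i, hi⟩ := key x
    obtain ⟨j, hj⟩ := key y
    have := indep (x * y) n (i + j) a (⟨_, hi⟩ * ⟨_, hj⟩) ha (by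
      change δ ^ i * h x * (δ ^ j * h y) = δ ^ (i + j) * h (x * y)
      rw [map_mul]; ring) haQ
    exact (hQ.mem_or_mem this).imp (fun h' => ⟨i, _, rfl, h'⟩) (fun h' => ⟨j, _, rfl, h'⟩)
  · ext a
    constructor
    · rintro ⟨n, b, hb, hbQ⟩
      have := indep (algebraMap R S a) n 0 b (algebraMap R C a) hb (by
        rw [pow_zero, one_mul, h.commutes]; rfl) hbQ
      rw [← hQP]; exact this
    · intro ha
      refine ⟨0, algebraMap R C a, by rw [pow_zero, one_mul, h.commutes]; rfl, ?_⟩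
      rw [← hQP] at ha; exact ha

/-- Every point of a constructible set has a locally closed, affine neighbourhood inside it. -/
lemma exists_basic {E : Set (PrimeSpectrum S)} (hE : Topology.IsConstructible E)
    {y : PrimeSpectrum S} (hy : y ∈ E) :
    ∃ (g : S) (Z : Set (PrimeSpectrum S)), IsClosed Z ∧ y ∈ Z ∧ g ∉ y.asIdeal ∧
      Z ∩ ↑(PrimeSpectrum.basicOpen g) ⊆ E := by
  obtain ⟨D, rfl⟩ := PrimeSpectrum.exists_constructibleSetData_iff.mpr hE
  obtain ⟨C, hC, h1, h2⟩ := Set.mem_iUnion₂.mp hy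
  refine ⟨C.f, PrimeSpectrum.zeroLocus (Set.range C.g), PrimeSpectrum.isClosed_zeroLocus _, h1,
    fun h => h2 (Set.singleton_subset_iff.mpr h), fun z hz => Set.mem_iUnion₂.mpr ⟨C, hC, hz.1, ?_⟩⟩
  exact fun h => hz.2 (Set.singleton_subset_iff.mp h)

/-- The image contains an open neighbourhood of `ξ` in its closure. -/
theorem exists_open_inter_closure_subset [Algebra.FiniteType R S] {E : Set (PrimeSpectrum S)}
    (hE : Topology.IsConstructible E) {ξ : PrimeSpectrum R}
    (hξ : ξ ∈ PrimeSpectrum.comap (algebraMap R S) '' E) :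
    ∃ U : Set (PrimeSpectrum R), IsOpen U ∧ ξ ∈ U ∧
      U ∩ closure {ξ} ⊆ PrimeSpectrum.comap (algebraMap R S) '' E := by
  obtain ⟨y, hy, rfl⟩ := hξ
  obtain ⟨g, Z, hZ, hyZ, hg, hsub⟩ := exists_basic hE hy
  let q := y.asIdeal
  let T := Localization.Away (Ideal.Quotient.mk q g)
  have hne : Ideal.Quotient.mk q g ≠ 0 := fun h => hg (Ideal.Quotient.eq_zero_iff_mem.mp h)
  have : IsDomain T := IsLocalization.isDomain_localization
    (Submonoid.powers_le.mpr (mem_nonZeroDivisors_of_ne_zero hne))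
  have : Algebra.FiniteType (S ⧸ q) T := inferInstance
  have : Algebra.FiniteType R T := Algebra.FiniteType.trans (inferInstance : Algebra.FiniteType R (S ⧸ q)) this
  obtain ⟨c, hc, hP⟩ := exists_notMem_forall_exists_comap (R := R) (S := T) (⊥ : Ideal T)
  have hinj : Function.Injective (algebraMap (S ⧸ q) T) := IsLocalization.injective T
    (Submonoid.powers_le.mpr (mem_nonZeroDivisors_of_ne_zero hne))
  have hbot : (⊥ : Ideal T).comap (algebraMap R T) = q.comap (algebraMap R S) := by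
    ext a
    rw [Ideal.mem_comap, Ideal.mem_bot, Ideal.mem_comap,
      IsScalarTower.algebraMap_apply R (S ⧸ q) T, map_eq_zero_iff _ hinj,
      IsScalarTower.algebraMap_apply R S (S ⧸ q), Ideal.Quotient.algebraMap_eq,
      Ideal.Quotient.eq_zero_iff_mem]
  refine ⟨PrimeSpectrum.basicOpen c, (PrimeSpectrum.basicOpen c).isOpen, ?_, ?_⟩
  · show c ∉ q.comap (algebraMap R S)
    rwa [← hbot]
  · rintro P ⟨hcP, hP'⟩
    rw [← specializes_iff_mem_closure, ← PrimeSpectrum.le_iff_specializes] at hP'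
    obtain ⟨Q, hQ, hQP⟩ := hP P.asIdeal P.2 (hbot ▸ hP') hcP
    let z : PrimeSpectrum S := PrimeSpectrum.comap (algebraMap S T) ⟨Q, hQ⟩
    refine ⟨z, hsub ⟨?_, ?_⟩, ?_⟩
    · refine ((PrimeSpectrum.le_iff_specializes y z).mp ?_).mem_closed hZ hyZ
      intro s hs
      change algebraMap S T s ∈ Q
      rw [IsScalarTower.algebraMap_apply S (S ⧸ q) T, Ideal.Quotient.algebraMap_eq,
        Ideal.Quotient.eq_zero_iff_mem.mpr hs, map_zero]
      exact Q.zero_mem
    · intro hgQ
      refine hQ.ne_top (Ideal.eq_top_of_isUnit_mem _ hgQ ?_)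
      rw [IsScalarTower.algebraMap_apply S (S ⧸ q) T, Ideal.Quotient.algebraMap_eq]
      exact IsLocalization.Away.algebraMap_isUnit _
    · ext1
      change Ideal.comap (algebraMap R S) (Ideal.comap (algebraMap S T) Q) = P.asIdeal
      rw [Ideal.comap_comap, ← IsScalarTower.algebraMap_eq, hQP]

/-- If `ξ` is not in the image then the image is not dense in the closure of `ξ`. -/
theorem exists_basicOpen_disjoint {E : Set (PrimeSpectrum S)} (hE : Topology.IsConstructible E)
    {ξ : PrimeSpectrum R} (hξ : ξ ∉ PrimeSpectrum.comap (algebraMap R S) '' E) :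
    ∃ r : R, r ∉ ξ.asIdeal ∧
      Disjoint (↑(PrimeSpectrum.basicOpen r) ∩ closure {ξ})
        (PrimeSpectrum.comap (algebraMap R S) '' E) := by
  classical
  obtain ⟨D, rfl⟩ := PrimeSpectrum.exists_constructibleSetData_iff.mpr hE
  have key : ∀ C ∈ D, ∃ r : R, r ∉ ξ.asIdeal ∧ ∀ y ∈ C.toSet,
      ξ.asIdeal ≤ y.asIdeal.comap (algebraMap R S) → algebraMap R S r ∈ y.asIdeal := by
    intro C hC
    let J : Ideal S := Ideal.span (Set.range C.g) ⊔ ξ.asIdeal.map (algebraMap R S)
    let M : Submonoid S := ξ.asIdeal.primeCompl.map (algebraMap R S) ⊔ Submonoid.powers C.f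
    by_cases hdis : Disjoint (J : Set S) ↑M
    · obtain ⟨Q, hQ, hJQ, hQM⟩ := Ideal.exists_le_prime_disjoint _ _ hdis
      refine absurd ⟨⟨Q, hQ⟩, Set.mem_iUnion₂.mpr ⟨C, hC, ?_, ?_⟩, ?_⟩ hξ
      · exact fun s hs => hJQ (Ideal.mem_sup_left (Ideal.subset_span hs))
      · exact fun h => Set.disjoint_left.mp hQM (h rfl)
          (SetLike.le_def.mp le_sup_right (Submonoid.mem_powers C.f))
      · ext1
        refine le_antisymm (fun a ha => by_contra fun ha' => ?_) fun a ha =>
          hJQ (Ideal.mem_sup_right (Ideal.mem_map_of_mem _ ha))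
        exact Set.disjoint_left.mp hQM ha (SetLike.le_def.mp le_sup_left ⟨a, ha', rfl⟩)
    · obtain ⟨z, hzJ, hzM⟩ := Set.not_disjoint_iff.mp hdis
      obtain ⟨_, ⟨r, hr, rfl⟩, _, ⟨n, rfl⟩, rfl⟩ := Submonoid.mem_sup.mp hzM
      refine ⟨r, hr, fun y hy hle => ?_⟩
      have hJy : J ≤ y.asIdeal :=
        sup_le (Ideal.span_le.mpr hy.1) (Ideal.map_le_iff_le_comap.mpr hle)
      refine (y.2.mem_or_mem (hJy hzJ)).resolve_right fun h => hy.2 ?_
      exact Set.singleton_subset_iff.mpr (y.2.mem_of_pow_mem n h)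
  choose r hr hrmem using key
  refine ⟨∏ C ∈ D.attach, r C C.2, fun h => ?_, ?_⟩
  · obtain ⟨C, -, hC⟩ := Ideal.IsPrime.prod_mem_iff.mp h
    exact hr C C.2 hC
  · rw [Set.disjoint_left]
    rintro _ ⟨hP, hclos⟩ ⟨y, hy, rfl⟩
    rw [← specializes_iff_mem_closure, ← PrimeSpectrum.le_iff_specializes] at hclos
    obtain ⟨C, hC, hyC⟩ := Set.mem_iUnion₂.mp hy
    apply hP
    change algebraMap R S (∏ C ∈ D.attach, r C C.2) ∈ y.asIdeal
    rw [map_prod]
    exact Ideal.IsPrime.prod_mem_iff.mpr ⟨⟨C, hC⟩, Finset.mem_attach _ _, hrmem C hC y hyC hclos⟩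

section Jacobson

variable [IsJacobsonRing R] [Algebra.FiniteType R S]

theorem isClosed_comap {y : PrimeSpectrum S} (hy : IsClosed ({y} : Set (PrimeSpectrum S))) :
    IsClosed ({PrimeSpectrum.comap (algebraMap R S) y} : Set (PrimeSpectrum R)) := by
  rw [PrimeSpectrum.isClosed_singleton_iff_isMaximal] at hy ⊢
  let _ : Field (S ⧸ y.asIdeal) := Ideal.Quotient.field y.asIdeal
  have : Module.Finite R (S ⧸ y.asIdeal) := finite_of_finite_type_of_isJacobsonRing _ _
  have h := Ideal.isMaximal_comap_of_isIntegral_of_isMaximal (R := R) (⊥ : Ideal (S ⧸ y.asIdeal))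
  have e : (⊥ : Ideal (S ⧸ y.asIdeal)).comap (algebraMap R (S ⧸ y.asIdeal)) =
      (PrimeSpectrum.comap (algebraMap R S) y).asIdeal := by
    rw [IsScalarTower.algebraMap_eq R S (S ⧸ y.asIdeal), ← Ideal.comap_comap]
    congr 1
    ext s
    simp [Ideal.Quotient.eq_zero_iff_mem]
  rw [← e]; exact h

variable [IsJacobsonRing S] {E : Set (PrimeSpectrum S)} (hE : Topology.IsConstructible E)
include hE

omit [IsJacobsonRing R] [Algebra.FiniteType R S] in
theorem closed_in_iff (y : PrimeSpectrum S) :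
    (y ∈ E ∧ closure {y} ∩ E = {y}) ↔ y ∈ E ∧ IsClosed ({y} : Set (PrimeSpectrum S)) := by
  refine and_congr_right fun hy => ⟨fun h => ?_, fun h => ?_⟩
  · obtain ⟨g, Z, hZ, hyZ, hg, hsub⟩ := exists_basic hE hy
    have hne : ((closure {y} ∩ Z ∩ ↑(PrimeSpectrum.basicOpen g)) : Set (PrimeSpectrum S)).Nonempty :=
      ⟨y, ⟨subset_closure rfl, hyZ⟩, hg⟩
    obtain ⟨w, hw, hwc⟩ := nonempty_inter_closedPoints hne
      ((isClosed_closure.inter hZ).isLocallyClosed.inter
        (PrimeSpectrum.basicOpen g).isOpen.isLocallyClosed)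
    have : w ∈ closure {y} ∩ E := ⟨hw.1.1, hsub ⟨hw.1.2, hw.2⟩⟩
    rw [h, Set.mem_singleton_iff] at this
    rw [← this]; exact hwc
  · rw [h.closure_eq]
    exact Set.inter_eq_left.mpr (Set.singleton_subset_iff.mpr hy)

theorem image_closed_eq :
    PrimeSpectrum.comap (algebraMap R S) '' {y | y ∈ E ∧ closure {y} ∩ E = {y}} =
      {x | IsClosed ({x} : Set (PrimeSpectrum R))} ∩ PrimeSpectrum.comap (algebraMap R S) '' E := by
  ext x
  constructor
  · rintro ⟨y, hy, rfl⟩
    exact ⟨isClosed_comap ((closed_in_iff hE y).mp hy).2, y, hy.1, rfl⟩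
  · rintro ⟨hx, y, hy, rfl⟩
    obtain ⟨g, Z, hZ, hyZ, hg, hsub⟩ := exists_basic hE hy
    let W := PrimeSpectrum.comap (algebraMap R S) ⁻¹' {PrimeSpectrum.comap (algebraMap R S) y}
    have hW : IsClosed W := hx.preimage (PrimeSpectrum.continuous_comap (algebraMap R S))
    obtain ⟨w, hw, hwc⟩ := nonempty_inter_closedPoints
      (show ((W ∩ Z) ∩ ↑(PrimeSpectrum.basicOpen g)).Nonempty from ⟨y, ⟨rfl, hyZ⟩, hg⟩)
      ((hW.inter hZ).isLocallyClosed.inter (PrimeSpectrum.basicOpen g).isOpen.isLocallyClosed)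
    exact ⟨w, (closed_in_iff hE w).mpr ⟨hsub ⟨hw.1.2, hw.2⟩, hwc⟩, hw.1.1⟩

theorem closed_in_image_eq :
    {x | x ∈ PrimeSpectrum.comap (algebraMap R S) '' E ∧
        closure {x} ∩ PrimeSpectrum.comap (algebraMap R S) '' E = {x}} =
      {x | IsClosed ({x} : Set (PrimeSpectrum R))} ∩ PrimeSpectrum.comap (algebraMap R S) '' E := by
  ext x
  constructor
  · rintro ⟨hx, hxe⟩
    refine ⟨?_, hx⟩
    obtain ⟨U, hU, hxU, hsub⟩ := exists_open_inter_closure_subset hE hx
    obtain ⟨w, hw, hwc⟩ := nonempty_inter_closedPoints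
      (show (closure {x} ∩ U).Nonempty from ⟨x, subset_closure rfl, hxU⟩)
      (isClosed_closure.isLocallyClosed.inter hU.isLocallyClosed)
    have : w ∈ closure {x} ∩ PrimeSpectrum.comap (algebraMap R S) '' E :=
      ⟨hw.1, hsub ⟨hw.2, hw.1⟩⟩
    rw [hxe, Set.mem_singleton_iff] at this
    show IsClosed {x}
    rw [← this]; exact hwc
  · rintro ⟨hx, hxE⟩
    refine ⟨hxE, ?_⟩
    rw [show closure {x} = {x} from IsClosed.closure_eq hx]
    exact Set.inter_eq_left.mpr (Set.singleton_subset_iff.mpr hxE)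

theorem mem_image_iff_dense (ξ : PrimeSpectrum R) :
    ξ ∈ PrimeSpectrum.comap (algebraMap R S) '' E ↔
      closure ({ξ} : Set (PrimeSpectrum R)) ⊆ closure (closure {ξ} ∩
        PrimeSpectrum.comap (algebraMap R S) '' {y | y ∈ E ∧ closure {y} ∩ E = {y}}) := by
  constructor
  · intro hξ
    refine closure_minimal (Set.singleton_subset_iff.mpr ?_) isClosed_closure
    obtain ⟨U, hU, hξU, hsub⟩ := exists_open_inter_closure_subset hE hξ
    rw [mem_closure_iff]
    intro W hW hξW
    obtain ⟨w, hw, hwc⟩ := nonempty_inter_closedPoints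
      (show (closure {ξ} ∩ (W ∩ U)).Nonempty from ⟨ξ, subset_closure rfl, hξW, hξU⟩)
      (isClosed_closure.isLocallyClosed.inter (hW.inter hU).isLocallyClosed)
    exact ⟨w, hw.2.1, hw.1, (image_closed_eq hE).ge ⟨hwc, hsub ⟨hw.2.2, hw.1⟩⟩⟩
  · intro h
    by_contra hξ
    obtain ⟨r, hr, hdis⟩ := exists_basicOpen_disjoint hE hξ
    obtain ⟨w, hw, hwcl, z, hz, rfl⟩ := mem_closure_iff.mp (h (subset_closure rfl)) _
      (PrimeSpectrum.basicOpen r).isOpen hr
    exact Set.disjoint_left.mp hdis ⟨hw, hwcl⟩ ⟨z, hz.1, rfl⟩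

end Jacobson

end Groth.Agent.H02CA.ConstructibleImage
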