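import Mathlib.RingTheory.DedekindDomain.AdicValuation
import Mathlib.RingTheory.Valuation.ValuationSubring

/-!
Valuation subrings containing a Dedekind domain.
-/

set_option autoImplicit false

universe u

namespace Groth.Agent.H02CA

open IsDedekindDomain

theorem valuationSubring_ne_top_containing_iff {A K : Type u} [CommRing A] [IsDedekindDomain A]
    [Field K] [Algebra A K] [IsFractionRing A K] (O : ValuationSubring K) :
    ((algebraMap A K).range ≤ O.toSubring ∧ O ≠ ⊤) ↔
      ∃ v : HeightOneSpectrum A, O = (v.valuation K).valuationSubring := by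
  constructor
  · rintro ⟨hA, hO⟩
    let f : A →+* O := (algebraMap A K).codRestrict O.toSubring fun a => hA ⟨a, rfl⟩
    let P : Ideal A := (IsLocalRing.maximalIdeal O).comap f
    haveI : P.IsPrime := Ideal.comap_isPrime f _
    have hunit : ∀ a : A, a ∉ P → ∀ x : K, x * algebraMap A K a ∈ O → x ∈ O := by
      intro a ha x hx
      have hu : IsUnit (f a) := by
        by_contra hc
        exact ha ((IsLocalRing.mem_maximalIdeal _).mpr hc)
      obtain ⟨u, hu⟩ := hu
      have : x = (x * algebraMap A K a) * ((↑u⁻¹ : O) : K) := by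
        have h1 : (algebraMap A K a) * ((↑u⁻¹ : O) : K) = 1 := by
          have h2 : f a * (↑u⁻¹ : O) = 1 := by rw [← hu, Units.mul_inv]
          exact congrArg Subtype.val h2
        rw [mul_assoc, h1, mul_one]
      rw [this]
      exact mul_mem hx (Subtype.coe_prop _)
    have hP : P ≠ ⊥ := by
      intro hP
      refine hO (eq_top_iff.mpr fun x _ => ?_)
      obtain ⟨a, b, hb, rfl⟩ := IsFractionRing.div_surjective A x
      refine hunit b (by simpa [hP] using nonZeroDivisors.ne_zero hb) _ ?_
      rw [div_mul_cancel₀ _ (IsFractionRing.to_map_ne_zero_of_mem_nonZeroDivisors hb)]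
      exact hA ⟨a, rfl⟩
    let v : HeightOneSpectrum A := ⟨P, inferInstance, hP⟩
    refine ⟨v, le_antisymm (fun x hx => ?_) fun x hx => ?_⟩
    · rw [Valuation.mem_valuationSubring_iff]
      by_contra hlt
      rw [not_le] at hlt
      have hx0 : x ≠ 0 := by rintro rfl; simp at hlt
      have hinv : v.valuation K x⁻¹ < 1 := by
        rw [map_inv₀]; exact inv_lt_one_of_one_lt₀ hlt
      obtain ⟨n, d, hnd⟩ := v.exists_primeCompl_mul_eq_of_integer x⁻¹ hinv.le
      have hn : n ∈ P := by
        have h1 : v.valuation K (algebraMap A K n) < 1 := by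
          rw [← hnd, map_mul]
          exact mul_lt_one_of_lt_of_le hinv (v.valuation_le_one _)
        exact (v.valuation_lt_one_iff_mem n).mp h1
      have h2 : f n * (⟨x, hx⟩ : O) = f d.1 := Subtype.ext <| by
        change algebraMap A K n * x = algebraMap A K d.1
        rw [← hnd]; field_simp
      exact d.2 (show f d.1 ∈ IsLocalRing.maximalIdeal O from
        h2 ▸ Ideal.mul_mem_right _ _ hn)
    · obtain ⟨n, d, hnd⟩ := v.exists_primeCompl_mul_eq_of_integer x
        ((Valuation.mem_valuationSubring_iff _ _).mp hx)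
      exact hunit d.1 d.2 x (hnd ▸ hA ⟨n, rfl⟩)
  · rintro ⟨v, rfl⟩
    refine ⟨?_, ?_⟩
    · rintro _ ⟨a, rfl⟩
      exact v.valuation_le_one a
    · intro h
      obtain ⟨π, hπ⟩ := v.valuation_exists_uniformizer K
      have h1 : π⁻¹ ∈ (v.valuation K).valuationSubring := h ▸ trivial
      rw [Valuation.mem_valuationSubring_iff, map_inv₀, hπ] at h1
      revert h1
      rw [← WithZero.exp_neg, ← WithZero.exp_zero, WithZero.exp_le_exp]
      omega

end Groth.Agent.H02CA
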