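import Groth.Agent.S0557
import Groth.Agent.S2856
import Groth.Agent.S6320
import Mathlib.RingTheory.Jacobson.Ring
import Mathlib.RingTheory.Localization.Submodule

/-!
Degree times order inequality for finite type extensions of one-dimensional local domains.
-/

set_option autoImplicit false
set_option linter.style.haveILetI false
set_option linter.unusedSectionVars false

universe u

open IsLocalRing nonZeroDivisors
open scoped Pointwise

namespace Groth.Agent.H02CA.DegreeOrd

variable {A B K L : Type u}
  [CommRing A] [IsDomain A] [IsNoetherianRing A] [IsLocalRing A]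
  [CommRing B] [IsDomain B] [Algebra A B] [FaithfulSMul A B]
  [Field K] [Field L] [Algebra A K] [IsFractionRing A K] [Algebra B L] [IsFractionRing B L]
  [Algebra K L] [Algebra A L] [IsScalarTower A K L] [IsScalarTower A B L] [FiniteDimensional K L]

variable (K L) in
/-- The embedding into a finite dimensional space. -/
noncomputable def emb : B →ₗ[A] (Fin (Module.finrank K L) → K) :=
  ((Module.finBasis K L).equivFun.restrictScalars A).toLinearMap ∘ₗ
    (IsScalarTower.toAlgHom A B L).toLinearMap

theorem emb_injective : Function.Injective (emb K L : B →ₗ[A] _) := fun _ _ h =>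
  IsFractionRing.injective B L (((Module.finBasis K L).equivFun.restrictScalars A).injective h)

/-- Multiples of `x`. -/
abbrev X (x : A) : Ideal B := Ideal.span {algebraMap A B x}

theorem mem_X {x : A} {b : B} : b ∈ (X x : Ideal B) ↔ ∃ c : B, x • c = b := by
  rw [Ideal.mem_span_singleton']
  exact exists_congr fun c => by rw [Algebra.smul_def, mul_comm]

theorem mem_span_smul_top {N : Type u} [AddCommGroup N] [Module A N] {x : A} {n : N} :
    n ∈ Ideal.span ({x} : Set A) • (⊤ : Submodule A N) ↔ ∃ m : N, x • m = n := by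
  rw [Submodule.ideal_span_singleton_smul, Submodule.mem_smul_pointwise_iff_exists]
  simp

/-- A quotient of a submodule maps to the quotient of the ring. -/
noncomputable def toQuot (M : Submodule A B) (x : A) :
    (M ⧸ Ideal.span ({x} : Set A) • (⊤ : Submodule A M)) →ₗ[A] B ⧸ (X x : Ideal B) :=
  (Ideal.span ({x} : Set A) • (⊤ : Submodule A M)).liftQ
    ((Ideal.Quotient.mkₐ A (X x : Ideal B)).toLinearMap ∘ₗ M.subtype) (by
      intro m hm
      obtain ⟨c, rfl⟩ := mem_span_smul_top.1 hm
      exact Ideal.Quotient.eq_zero_iff_mem.2 (mem_X.2 ⟨c.1, rfl⟩))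

theorem toQuot_mk (M : Submodule A B) (x : A) (m : M) :
    toQuot M x (Submodule.Quotient.mk m) = Ideal.Quotient.mk (X x) m.1 := rfl

theorem length_quot_X_le (K L : Type u) [Field K] [Field L] [Algebra A K] [IsFractionRing A K]
    [Algebra B L] [IsFractionRing B L] [Algebra K L] [Algebra A L] [IsScalarTower A K L]
    [IsScalarTower A B L] [FiniteDimensional K L] (hdim : ringKrullDim A = 1) {x : A} (hx0 : x ≠ 0) :
    Module.length A (B ⧸ (X x : Ideal B)) ≤
      (Module.finrank K L : ℕ∞) * Module.length A (A ⧸ Ideal.span ({x} : Set A)) := by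
  let M := LinearMap.range (emb K L : B →ₗ[A] _)
  let e : B ≃ₗ[A] M := LinearEquiv.ofInjective _ emb_injective
  let g : (M ⧸ Ideal.span ({x} : Set A) • (⊤ : Submodule A M)) →ₗ[A] B ⧸ (X x : Ideal B) :=
    (Ideal.span ({x} : Set A) • (⊤ : Submodule A M)).liftQ
      ((Ideal.Quotient.mkₐ A (X x : Ideal B)).toLinearMap ∘ₗ e.symm.toLinearMap) (by
        intro m hm
        obtain ⟨c, rfl⟩ := mem_span_smul_top.1 hm
        exact Ideal.Quotient.eq_zero_iff_mem.2 (mem_X.2 ⟨e.symm c, (map_smul e.symm x c).symm⟩))
  have hg : Function.Surjective g := fun q => by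
    obtain ⟨b, rfl⟩ := Ideal.Quotient.mk_surjective q
    exact ⟨Submodule.Quotient.mk (e b), congrArg (Ideal.Quotient.mk _) (e.symm_apply_apply b)⟩
  exact (Module.length_le_of_surjective g hg).trans (S0557.result A hdim K _ M x hx0).2

/-- Full rank finite submodules have the expected length. -/
theorem length_sub_quot (K L : Type u) [Field K] [Field L] [Algebra A K] [IsFractionRing A K]
    [Algebra B L] [IsFractionRing B L] [Algebra K L] [Algebra A L] [IsScalarTower A K L]
    [IsScalarTower A B L] [FiniteDimensional K L] (hdim : ringKrullDim A = 1) {x : A}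
    (hx : x ∈ maximalIdeal A) (hx0 : x ≠ 0) (M : Submodule A B) [Module.Finite A M]
    (hM : Submodule.span K (algebraMap B L '' (M : Set B)) = ⊤) :
    Module.length A (M ⧸ Ideal.span ({x} : Set A) • (⊤ : Submodule A M)) =
      (Module.finrank K L : ℕ∞) * Module.length A (A ⧸ Ideal.span ({x} : Set A)) := by
  let ι : M →ₗ[A] L := (IsScalarTower.toAlgHom A B L).toLinearMap ∘ₗ M.subtype
  have hι : Function.Injective ι := fun a b h => Subtype.ext (IsFractionRing.injective B L h)
  haveI : IsLocalizedModule A⁰ ι := by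
    constructor
    · intro s
      have hs : algebraMap A L s ≠ 0 := by
        rw [IsScalarTower.algebraMap_apply A K L]
        exact (map_ne_zero _).2 (IsFractionRing.to_map_ne_zero_of_mem_nonZeroDivisors s.2)
      rw [Module.End.isUnit_iff]
      refine ⟨fun a b h => ?_, fun y => ⟨(algebraMap A L s)⁻¹ * y, ?_⟩⟩
      · simp only [Module.algebraMap_end_apply, Algebra.smul_def] at h
        exact mul_left_cancel₀ hs h
      · simp only [Module.algebraMap_end_apply, Algebra.smul_def]
        rw [← mul_assoc, mul_inv_cancel₀ hs, one_mul]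
    · intro y
      have hy : y ∈ Submodule.span K (algebraMap B L '' (M : Set B)) := hM ▸ trivial
      induction hy using Submodule.span_induction with
      | mem y hy =>
        obtain ⟨b, hb, rfl⟩ := hy
        exact ⟨(⟨b, hb⟩, 1), one_smul _ _⟩
      | zero => exact ⟨(0, 1), by rw [smul_zero, map_zero]⟩
      | add y z _ _ hy hz =>
        obtain ⟨⟨a, s⟩, ha⟩ := hy
        obtain ⟨⟨b, t⟩, hb⟩ := hz
        dsimp only at ha hb
        refine ⟨(t • a + s • b, s * t), ?_⟩
        simp only [Submonoid.smul_def, Submonoid.coe_mul] at ha hb ⊢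
        rw [map_add, map_smul, map_smul, ← ha, ← hb, smul_add, smul_smul, smul_smul, mul_comm (t : A)]
      | smul k y _ hy =>
        obtain ⟨⟨a, s⟩, ha⟩ := hy
        obtain ⟨⟨c, t⟩, hc⟩ := IsLocalization.surj A⁰ k
        refine ⟨(c • a, t * s), ?_⟩
        simp only [Submonoid.smul_def, Submonoid.coe_mul] at ha ⊢
        rw [map_smul, ← ha, smul_smul, ← smul_assoc, ← algebraMap_smul K (c * (s : A)) y]
        congr 1
        rw [Algebra.smul_def, map_mul, map_mul, ← hc]
        ring
    · intro a b h
      exact ⟨1, by rw [hι h]⟩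
  let d := Module.finrank K L
  let e₀ : K ≃ₐ[A] Localization A⁰ := IsLocalization.algEquiv A⁰ K (Localization A⁰)
  let e₁ : L ≃ₗ[A] (Fin d → Localization A⁰) :=
    ((Module.finBasis K L).equivFun.restrictScalars A).trans
      (LinearEquiv.piCongrRight fun _ => e₀.toLinearEquiv)
  have h2 := S2856.result A hdim x (mem_nonZeroDivisors_of_ne_zero hx0) hx M d
    ⟨LinearEquiv.extendScalarsOfIsLocalization A⁰ (Localization A⁰)
      ((IsLocalizedModule.iso A⁰ ι).trans e₁)⟩
  have hker : Module.length A (LinearMap.ker (x • (LinearMap.id : M →ₗ[A] M))) = 0 := by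
    rw [Module.length_eq_zero_iff, Submodule.subsingleton_iff_eq_bot, eq_bot_iff]
    intro m hm
    have h := congrArg ι (LinearMap.mem_ker.1 hm)
    rw [LinearMap.smul_apply, LinearMap.id_apply, map_smul, map_zero, Algebra.smul_def,
      mul_eq_zero] at h
    rcases h with h | h
    · rw [IsScalarTower.algebraMap_apply A K L, map_eq_zero] at h
      exact absurd ((IsFractionRing.injective A K) (h.trans (map_zero _).symm)) hx0
    · exact hι (h.trans (map_zero ι).symm)
  rw [hker, zero_add] at h2
  rw [← h2]
  exact (Submodule.quotEquivOfEq _ _ (Submodule.ideal_span_singleton_smul x ⊤)).length_eq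

theorem exists_fg_span_top (K L : Type u) [Field K] [Field L] [Algebra A K] [IsFractionRing A K]
    [Algebra B L] [IsFractionRing B L] [Algebra K L] [Algebra A L] [IsScalarTower A K L]
    [IsScalarTower A B L] [FiniteDimensional K L] :
    ∃ M : Submodule A B, M.FG ∧ Submodule.span K (algebraMap B L '' (M : Set B)) = ⊤ := by
  classical
  let V := Submodule.span K (Set.range (algebraMap B L))
  let C : Subalgebra K L := Algebra.adjoin K (Set.range (algebraMap B L))
  have hCV : Subalgebra.toSubmodule C = V := by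
    show Subalgebra.toSubmodule (Algebra.adjoin K (Set.range (algebraMap B L))) = V
    rw [Algebra.adjoin_eq_span]
    congr 1
    exact congrArg SetLike.coe (Submonoid.closure_eq (MonoidHom.mrange (algebraMap B L).toMonoidHom))
  haveI : Algebra.IsAlgebraic K L := Algebra.IsAlgebraic.of_finite K L
  have hV : V = ⊤ := by
    rw [← hCV, Algebra.toSubmodule_eq_top, eq_top_iff]
    rintro l -
    obtain ⟨a, b, hb, rfl⟩ := IsFractionRing.div_surjective B l
    rw [div_eq_mul_inv]
    exact C.mul_mem (Algebra.subset_adjoin ⟨a, rfl⟩)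
      (C.inv_mem_of_algebraic (x := ⟨algebraMap B L b, Algebra.subset_adjoin ⟨b, rfl⟩⟩)
        (Algebra.IsAlgebraic.isAlgebraic _))
  obtain ⟨s, hs⟩ := (IsNoetherian.noetherian (⊤ : Submodule K L))
  have hfin : ∀ y ∈ Submodule.span K (Set.range (algebraMap B L)), ∃ t : Finset B,
      y ∈ Submodule.span K (algebraMap B L '' (t : Set B)) := fun y hy => by
    obtain ⟨t, ht, hy'⟩ := Submodule.mem_span_finite_of_mem_span hy
    rw [← Set.image_univ] at ht
    obtain ⟨t', -, rfl⟩ := Finset.subset_set_image_iff.1 ht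
    exact ⟨t', by simpa using hy'⟩
  choose t ht using fun y : s => hfin y.1 (by rw [show Submodule.span K (Set.range (algebraMap B L)) = ⊤ from hV]; trivial)
  refine ⟨Submodule.span A ((Finset.univ.biUnion t : Finset B) : Set B), Submodule.fg_span (Finset.finite_toSet _), ?_⟩
  rw [eq_top_iff, ← hs, Submodule.span_le]
  intro y hy
  refine Submodule.span_mono (Set.image_mono ?_) (ht ⟨y, hy⟩)
  intro b hb
  exact Submodule.subset_span (Finset.mem_coe.2 (Finset.mem_biUnion.2 ⟨⟨y, hy⟩, Finset.mem_univ _, hb⟩))

theorem finite_iff_eq (K L : Type u) [Field K] [Field L] [Algebra A K] [IsFractionRing A K]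
    [Algebra B L] [IsFractionRing B L] [Algebra K L] [Algebra A L] [IsScalarTower A K L]
    [IsScalarTower A B L] [FiniteDimensional K L] (hdim : ringKrullDim A = 1) {x : A}
    (hx : x ∈ maximalIdeal A) (hx0 : x ≠ 0) :
    Module.length A (B ⧸ (X x : Ideal B)) =
      (Module.finrank K L : ℕ∞) * Module.length A (A ⧸ Ideal.span ({x} : Set A)) ↔
    Module.Finite A B := by
  constructor
  · intro heq
    have htop : Module.length A (B ⧸ (X x : Ideal B)) ≠ ⊤ := by
      rw [heq]
      exact WithTop.mul_ne_top (ENat.natCast_ne_top _) (S0557.result A hdim K 0 ⊥ x hx0).1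
    haveI : IsNoetherian A (B ⧸ (X x : Ideal B)) :=
      (isFiniteLength_iff_isNoetherian_isArtinian.1 (Module.length_ne_top_iff.1 htop)).1
    obtain ⟨s, hs⟩ := (IsNoetherian.noetherian (⊤ : Submodule A (B ⧸ (X x : Ideal B))))
    classical
    obtain ⟨M₁, hM₁, hsp⟩ := exists_fg_span_top (A := A) (B := B) K L
    choose g hg using fun q : B ⧸ (X x : Ideal B) => Ideal.Quotient.mk_surjective q
    let M₀ := M₁ ⊔ Submodule.span A ((s.image g : Finset B) : Set B)
    have hM₀ : M₀.FG := hM₁.sup (Submodule.fg_span (Finset.finite_toSet _))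
    have hsurj : ∀ q : B ⧸ (X x : Ideal B), ∃ m ∈ M₀, Ideal.Quotient.mk (X x) m = q := fun q => by
      have h : (⊤ : Submodule A (B ⧸ (X x : Ideal B))) ≤
          M₀.map (Ideal.Quotient.mkₐ A (X x : Ideal B)).toLinearMap := by
        rw [← hs, Submodule.span_le]
        intro q hq
        exact ⟨g q, le_sup_right (a := M₁) (Submodule.subset_span (Finset.mem_coe.2 (Finset.mem_image_of_mem g hq))), hg q⟩
      obtain ⟨m, hm, hmq⟩ := h (trivial : q ∈ (⊤ : Submodule A (B ⧸ (X x : Ideal B))))
      exact ⟨m, hm, hmq⟩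
    suffices h : ∀ b : B, b ∈ M₀ from ⟨by rwa [show (⊤ : Submodule A B) = M₀ from (eq_top_iff.2 fun b _ => h b).symm]⟩
    intro b
    let M := M₀ ⊔ Submodule.span A {b}
    have hMfg : M.FG := hM₀.sup (Submodule.fg_span (Set.finite_singleton b))
    haveI : Module.Finite A M := Module.Finite.iff_fg.2 hMfg
    have hl := length_sub_quot K L hdim hx hx0 M
      (top_le_iff.1 (hsp ▸ Submodule.span_mono (Set.image_mono (le_sup_left.trans le_sup_left : M₁ ≤ M))))
    have hq : Function.Surjective (toQuot M x) := fun q => by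
      obtain ⟨m, hm, rfl⟩ := hsurj q
      exact ⟨Submodule.Quotient.mk ⟨m, le_sup_left (b := Submodule.span A {b}) hm⟩, rfl⟩
    have hinj : Function.Injective (toQuot M x) := by
      have h := Module.length_eq_add_of_exact (LinearMap.ker (toQuot M x)).subtype (toQuot M x)
        Subtype.coe_injective hq (LinearMap.exact_subtype_ker_map _)
      rw [hl, ← heq] at h
      have h0 : Module.length A (LinearMap.ker (toQuot M x)) = 0 :=
        WithTop.add_right_cancel htop (h.symm.trans (zero_add _).symm)
      rw [← LinearMap.ker_eq_bot]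
      exact Submodule.subsingleton_iff_eq_bot.1 (Module.length_eq_zero_iff.1 h0)
    have hle : M ≤ M₀ ⊔ Ideal.span ({x} : Set A) • M := by
      intro m hm
      obtain ⟨m₀, hm₀, h⟩ := hsurj (Ideal.Quotient.mk _ m)
      have hm₀' : m₀ ∈ M := le_sup_left (b := Submodule.span A {b}) hm₀
      have hd : toQuot M x (Submodule.Quotient.mk (⟨m, hm⟩ - ⟨m₀, hm₀'⟩ : M)) = 0 := by
        rw [toQuot_mk]
        show Ideal.Quotient.mk _ (m - m₀) = 0
        rw [map_sub, h, sub_self]
      rw [← map_zero (toQuot M x)] at hd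
      obtain ⟨c, hc⟩ := mem_span_smul_top.1 ((Submodule.Quotient.mk_eq_zero _).1 (hinj hd))
      refine Submodule.mem_sup.2 ⟨m₀, hm₀, x • c.1, ?_, ?_⟩
      · exact Submodule.smul_mem_smul (Ideal.mem_span_singleton_self x) c.2
      · rw [show x • c.1 = m - m₀ from congrArg Subtype.val hc, add_sub_cancel]
    exact Submodule.le_of_le_smul_of_le_jacobson_bot hMfg
      ((Ideal.span_singleton_le_iff_mem _).2 (IsLocalRing.jacobson_eq_maximalIdeal (⊥ : Ideal A) bot_ne_top ▸ hx))
      hle (le_sup_right (a := M₀) (Submodule.mem_span_singleton_self b))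
  · intro hfin
    refine le_antisymm (length_quot_X_le K L hdim hx0) ?_
    haveI : Module.Finite A (⊤ : Submodule A B) := Module.Finite.iff_fg.2 hfin.fg_top
    obtain ⟨M₁, -, hsp⟩ := exists_fg_span_top (A := A) (B := B) K L
    rw [← length_sub_quot K L hdim hx hx0 ⊤
      (top_le_iff.1 (hsp ▸ Submodule.span_mono (Set.image_mono (le_top : M₁ ≤ ⊤))))]
    refine Module.length_le_of_injective (toQuot ⊤ x) ?_
    rw [← LinearMap.ker_eq_bot, eq_bot_iff]
    intro z hz
    obtain ⟨z, rfl⟩ := Submodule.Quotient.mk_surjective _ z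
    obtain ⟨c, hc⟩ := mem_X.1 (Ideal.Quotient.eq_zero_iff_mem.1 ((toQuot_mk ⊤ x z).symm.trans (LinearMap.mem_ker.1 hz)))
    exact (Submodule.Quotient.mk_eq_zero _).2 (mem_span_smul_top.2 ⟨⟨c, trivial⟩, Subtype.ext hc⟩)

end Groth.Agent.H02CA.DegreeOrd

namespace Groth.Agent.H02CA.DegreeOrd

variable {A B K L : Type u}
  [CommRing A] [IsDomain A] [IsNoetherianRing A] [IsLocalRing A]
  [CommRing B] [IsDomain B] [Algebra A B] [FaithfulSMul A B]
  [Field K] [Field L] [Algebra A K] [IsFractionRing A K] [Algebra B L] [IsFractionRing B L]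
  [Algebra K L] [Algebra A L] [IsScalarTower A K L] [IsScalarTower A B L] [FiniteDimensional K L]

theorem comap_eq_maximalIdeal (K L : Type u) [Field K] [Field L] [Algebra A K] [IsFractionRing A K]
    [Algebra B L] [IsFractionRing B L] [Algebra K L] [Algebra A L] [IsScalarTower A K L]
    [IsScalarTower A B L] [FiniteDimensional K L] (hdim : ringKrullDim A = 1) (m : Ideal B)
    [m.IsPrime] (hm : m ≠ ⊥) : m.comap (algebraMap A B) = maximalIdeal A := by
  haveI : Ring.KrullDimLE 1 A := Ring.krullDimLE_iff.mpr (le_of_eq hdim)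
  refine IsLocalRing.eq_maximalIdeal (Ideal.IsPrime.isMaximal_of_ne_bot inferInstance ?_)
  obtain ⟨b, hb, hb0⟩ := Submodule.exists_mem_ne_zero_of_ne_bot hm
  have halg : IsAlgebraic A b := (isAlgebraic_algebraMap_iff (IsFractionRing.injective B L)).1
    ((IsFractionRing.isAlgebraic_iff A K L).2 (Algebra.IsAlgebraic.isAlgebraic (R := K) _))
  obtain ⟨r, hr, hdvd⟩ := halg.exists_nonzero_dvd (mem_nonZeroDivisors_of_ne_zero hb0)
  exact fun h => hr ((Submodule.eq_bot_iff _).1 h r (Ideal.mem_comap.2 (Ideal.mem_of_dvd _ hdvd hb)))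

/-- Quotients of the localization. -/
theorem length_localized_quot (m : Ideal B) [m.IsPrime] (J : Ideal B) :
    Module.length (Localization.AtPrime m) (LocalizedModule m.primeCompl (B ⧸ J)) =
      Module.length (Localization.AtPrime m)
        (Localization.AtPrime m ⧸ J.map (algebraMap B (Localization.AtPrime m))) := by
  let f := Algebra.linearMap B (Localization.AtPrime m)
  refine ((IsLocalizedModule.iso m.primeCompl
    (Submodule.toLocalizedQuotient' (Localization.AtPrime m) m.primeCompl f J)).extendScalarsOfIsLocalization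
      m.primeCompl (Localization.AtPrime m)).length_eq.trans ?_
  exact (Submodule.quotEquivOfEq _ _ (Ideal.localized'_eq_map (Localization.AtPrime m) m.primeCompl J)).length_eq

theorem length_quot_maximal [Algebra.FiniteType A B] (m : Ideal B) [m.IsMaximal]
    (h : m.comap (algebraMap A B) = maximalIdeal A) :
    Module.Finite (A ⧸ m.comap (algebraMap A B)) (B ⧸ m) ∧
      Module.length A (B ⧸ m) = (Module.finrank (A ⧸ m.comap (algebraMap A B)) (B ⧸ m) : ℕ∞) := by
  haveI : (m.comap (algebraMap A B)).IsMaximal := h ▸ maximalIdeal.isMaximal A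
  letI := Ideal.Quotient.field (m.comap (algebraMap A B))
  letI := Ideal.Quotient.field m
  haveI : Algebra.FiniteType A (B ⧸ m) :=
    (inferInstance : Algebra.FiniteType A B).of_surjective (Ideal.Quotient.mkₐ A m) Ideal.Quotient.mk_surjective
  haveI : Algebra.FiniteType (A ⧸ m.comap (algebraMap A B)) (B ⧸ m) :=
    Algebra.FiniteType.of_restrictScalars_finiteType A _ _
  haveI hf : Module.Finite (A ⧸ m.comap (algebraMap A B)) (B ⧸ m) :=
    finite_of_finite_type_of_isJacobsonRing _ _
  refine ⟨hf, ?_⟩
  rw [← Module.length_eq_finrank]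
  exact Module.length_eq_of_surjective Ideal.Quotient.mk_surjective

theorem finite_maximalSpectrum_and_formula [Algebra.FiniteType A B]
    (K L : Type u) [Field K] [Field L] [Algebra A K] [IsFractionRing A K]
    [Algebra B L] [IsFractionRing B L] [Algebra K L] [Algebra A L] [IsScalarTower A K L]
    [IsScalarTower A B L] [FiniteDimensional K L] (hdim : ringKrullDim A = 1) {x : A}
    (hx : x ∈ maximalIdeal A) (hx0 : x ≠ 0) :
    Finite (MaximalSpectrum B) ∧
      (∑ᶠ m : MaximalSpectrum B, Module.length A (B ⧸ m.asIdeal) *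
        Module.length (Localization.AtPrime m.asIdeal) (Localization.AtPrime m.asIdeal ⧸
          Ideal.span ({algebraMap A (Localization.AtPrime m.asIdeal) x} : Set _))) =
        Module.length A (B ⧸ (X x : Ideal B)) := by
  have hx0' : algebraMap A B x ≠ 0 := fun h =>
    hx0 (FaithfulSMul.algebraMap_injective A B (h.trans (map_zero _).symm))
  have hspan : ∀ m : MaximalSpectrum B, (X x : Ideal B).map (algebraMap B (Localization.AtPrime m.asIdeal)) =
      Ideal.span ({algebraMap A (Localization.AtPrime m.asIdeal) x} : Set _) := fun m => by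
    rw [Ideal.map_span, Set.image_singleton, ← IsScalarTower.algebraMap_apply]
  by_cases hB : IsField B
  · have hbot : ∀ m : MaximalSpectrum B, m.asIdeal = ⊥ := fun m => by
      letI := hB.toField
      exact (Ideal.eq_bot_or_top m.asIdeal).resolve_right m.isMaximal.ne_top
    haveI : Subsingleton (MaximalSpectrum B) :=
      ⟨fun a b => MaximalSpectrum.ext ((hbot a).trans (hbot b).symm)⟩
    refine ⟨inferInstance, ?_⟩
    have hu : IsUnit (algebraMap A B x) := by
      obtain ⟨c, hc⟩ := hB.mul_inv_cancel hx0'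
      exact IsUnit.of_mul_eq_one _ hc
    haveI : Subsingleton (B ⧸ (X x : Ideal B)) :=
      Ideal.Quotient.subsingleton_iff.2 (Ideal.span_singleton_eq_top.2 hu)
    rw [Module.length_eq_zero_iff.2 ‹_›]
    refine finsum_eq_zero_of_forall_eq_zero fun m => ?_
    haveI hsub : Subsingleton (Localization.AtPrime m.asIdeal ⧸
        Ideal.span ({algebraMap A (Localization.AtPrime m.asIdeal) x} : Set _)) :=
      Ideal.Quotient.subsingleton_iff.2 (Ideal.span_singleton_eq_top.2
        (by rw [IsScalarTower.algebraMap_apply A B (Localization.AtPrime m.asIdeal)]; exact hu.map _))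
    exact mul_eq_zero_of_right _ (Module.length_eq_zero_iff.2 hsub)
  have hover : ∀ m : MaximalSpectrum B, m.asIdeal.comap (algebraMap A B) = maximalIdeal A := fun m =>
    haveI := m.isMaximal.isPrime
    comap_eq_maximalIdeal K L hdim m.asIdeal fun h =>
      hB (Ring.isField_iff_maximal_bot.2 (h ▸ m.isMaximal))
  have hmem : ∀ m : MaximalSpectrum B, (X x : Ideal B) ≤ m.asIdeal := fun m =>
    (Ideal.span_singleton_le_iff_mem _).2 (Ideal.mem_comap.1 ((hover m).ge hx))
  have htop : Module.length A (B ⧸ (X x : Ideal B)) ≠ ⊤ :=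
    ne_top_of_le_ne_top (WithTop.mul_ne_top (ENat.natCast_ne_top _) (S0557.result A hdim K 0 ⊥ x hx0).1)
      (length_quot_X_le K L hdim hx0)
  have hfinA := isFiniteLength_iff_isNoetherian_isArtinian.1 (Module.length_ne_top_iff.1 htop)
  have hfinB : IsFiniteLength B (B ⧸ (X x : Ideal B)) :=
    isFiniteLength_iff_isNoetherian_isArtinian.2
      ⟨isNoetherian_of_tower A hfinA.1, isArtinian_of_tower A hfinA.2⟩
  haveI hart : IsArtinianRing (B ⧸ (X x : Ideal B)) := by
    haveI := (isFiniteLength_iff_isNoetherian_isArtinian.1 hfinB).2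
    exact isArtinian_of_tower B this
  have hmax : ∀ m : MaximalSpectrum B, (m.asIdeal.map (Ideal.Quotient.mk (X x))).IsMaximal := fun m => by
    haveI := m.isMaximal
    exact Ideal.IsMaximal.map_of_surjective_of_ker_le Ideal.Quotient.mk_surjective
      (by rw [Ideal.mk_ker]; exact hmem m)
  haveI : Finite (MaximalSpectrum B) := by
    refine Finite.of_injective (β := MaximalSpectrum (B ⧸ (X x : Ideal B)))
      (fun m => ⟨_, hmax m⟩) fun a b hab => ?_
    have := congrArg (fun q : MaximalSpectrum (B ⧸ (X x : Ideal B)) => q.asIdeal.comap (Ideal.Quotient.mk _)) hab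
    simp only [Ideal.comap_map_of_surjective _ Ideal.Quotient.mk_surjective, ← RingHom.ker_eq_comap_bot,
      Ideal.mk_ker, sup_eq_left.mpr (hmem a), sup_eq_left.mpr (hmem b)] at this
    exact MaximalSpectrum.ext this
  refine ⟨inferInstance, ?_⟩
  rw [S6320.result hover (fun m => (length_quot_maximal m.asIdeal (hover m)).1) (B ⧸ (X x : Ideal B)) hfinB]
  refine finsum_congr fun m => ?_
  rw [(length_quot_maximal m.asIdeal (hover m)).2, length_localized_quot, hspan]

end Groth.Agent.H02CA.DegreeOrd
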