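import Mathlib.RingTheory.RegularLocalRing.Defs
import Mathlib.RingTheory.KrullDimension.Regular
import Mathlib.RingTheory.Kaehler.Basic
import Mathlib.RingTheory.Smooth.Kaehler
import Mathlib.RingTheory.Smooth.Field
import Mathlib.RingTheory.LocalRing.ResidueField.Basic
import Mathlib.RingTheory.Derivation.Basic

/-!
# Derivations and regularity
-/

set_option autoImplicit false
set_option linter.style.haveILetI false
universe u

open IsLocalRing TensorProduct Pointwise

namespace Groth.Agent.H02CA.DerivationCriterion

/-- Minimal primes of a Noetherian algebra over a field of characteristic zero are stable under derivations. -/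
theorem mem_minimalPrime_of_derivation {k R : Type u} [Field k] [CharZero k] [CommRing R] [IsNoetherianRing R]
    [Algebra k R] (D : Derivation k R R) {q : Ideal R} (hq : q ∈ minimalPrimes R) {a : R} (ha : a ∈ q) :
    D a ∈ q := by
  classical
  haveI := Ideal.minimalPrimes_isPrime hq
  have hnil : IsNilpotent (algebraMap R (Localization.AtPrime q) a) := by
    rw [← mem_nilradical, nilradical_eq_sInf, Submodule.mem_sInf]
    intro (P : Ideal (Localization.AtPrime q)) (hP : P.IsPrime)
    have hle : P.comap (algebraMap R (Localization.AtPrime q)) ≤ q := fun r hr => by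
      by_contra hrq
      exact hP.ne_top (P.eq_top_of_isUnit_mem hr
        (IsLocalization.map_units (Localization.AtPrime q) (⟨r, hrq⟩ : q.primeCompl)))
    exact hq.2 ⟨inferInstance, bot_le⟩ hle ha
  have hex : ∃ N : ℕ, ∃ s, s ∉ q ∧ s * a ^ N = 0 := by
    obtain ⟨N, hN⟩ := hnil
    rw [← map_pow] at hN
    obtain ⟨⟨s, hs⟩, hs'⟩ := (IsLocalization.map_eq_zero_iff q.primeCompl _ _).mp hN
    exact ⟨N, s, hs, hs'⟩
  obtain ⟨s, hs, hsa⟩ := Nat.find_spec hex
  rcases hN : Nat.find hex with _ | M
  · rw [hN, pow_zero, mul_one] at hsa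
    exact absurd (hsa ▸ q.zero_mem) hs
  by_contra hDa
  rw [hN] at hsa
  have h1 : s * ((↑(M + 1) : R) * a ^ M * D a) + a ^ (M + 1) * D s = 0 := by
    have h2 : D (s * a ^ (M + 1)) = 0 := by rw [hsa, map_zero]
    rw [D.leibniz, D.leibniz_pow, Nat.add_sub_cancel] at h2
    simp only [smul_eq_mul, nsmul_eq_mul] at h2
    rw [← h2]
    ring
  have h3 : (s * s * (↑(M + 1) : R) * D a) * a ^ M = 0 := by
    have := congrArg (s * ·) h1
    simp only [mul_zero, mul_add] at this
    rw [show s * (a ^ (M + 1) * D s) = s * a ^ (M + 1) * D s by ring, hsa, zero_mul, add_zero] at this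
    rw [← this]; ring
  refine Nat.find_min hex (hN ▸ Nat.lt_succ_self M) ⟨_, ?_, h3⟩
  have hu : IsUnit ((↑(M + 1) : R)) := by
    rw [← map_natCast (algebraMap k R)]
    exact (isUnit_iff_ne_zero.mpr (Nat.cast_ne_zero.mpr (Nat.succ_ne_zero M))).map _
  intro hmem
  rcases Ideal.IsPrime.mem_or_mem ‹_› hmem with h | h
  · rcases Ideal.IsPrime.mem_or_mem ‹_› h with h | h
    · rcases Ideal.IsPrime.mem_or_mem ‹_› h with h | h <;> exact hs h
    · exact Ideal.IsPrime.ne_top ‹_› (q.eq_top_of_isUnit_mem h hu)
  · exact hDa h

/-- A derivation killing an element descends to the quotient by it. -/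
noncomputable def quotientDerivation {k R : Type u} [Field k] [CommRing R] [Algebra k R] (D : Derivation k R R)
    (x : R) (hx : D x = 0) : Derivation k (R ⧸ Ideal.span {x}) (R ⧸ Ideal.span {x}) :=
  have hI : ∀ r ∈ Ideal.span {x}, D r ∈ Ideal.span {x} := fun r hr => by
    obtain ⟨c, rfl⟩ := Ideal.mem_span_singleton.mp hr
    rw [D.leibniz, hx, smul_zero, add_zero, smul_eq_mul]
    exact Ideal.mul_mem_right _ _ (Ideal.mem_span_singleton_self x)
  let L : (R ⧸ Ideal.span {x}) →ₗ[k] (R ⧸ Ideal.span {x}) :=
    (Submodule.restrictScalars k (Ideal.span {x})).mapQ (Submodule.restrictScalars k (Ideal.span {x}))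
      D.toLinearMap fun r hr => hI r hr
  Derivation.mk' L fun a b => by
    obtain ⟨a, rfl⟩ := Ideal.Quotient.mk_surjective a
    obtain ⟨b, rfl⟩ := Ideal.Quotient.mk_surjective b
    change Ideal.Quotient.mk (Ideal.span {x}) (D (a * b)) = Ideal.Quotient.mk (Ideal.span {x}) a * Ideal.Quotient.mk (Ideal.span {x}) (D b) + Ideal.Quotient.mk (Ideal.span {x}) b * Ideal.Quotient.mk (Ideal.span {x}) (D a)
    rw [D.leibniz, map_add, smul_eq_mul, smul_eq_mul, map_mul, map_mul]

theorem quotientDerivation_mk {k R : Type u} [Field k] [CommRing R] [Algebra k R] (D : Derivation k R R)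
    (x : R) (hx : D x = 0) (r : R) :
    quotientDerivation D x hx (Ideal.Quotient.mk _ r) = Ideal.Quotient.mk _ (D r) := rfl

/-- Generators of the maximal ideal dual to derivations give regularity, in characteristic zero. -/
theorem isRegularLocalRing_of_derivations (k : Type u) [Field k] [CharZero k] : ∀ (n : ℕ) (R : Type u) [CommRing R]
    [IsLocalRing R] [IsNoetherianRing R] [Algebra k R] (x : Fin n → R),
    maximalIdeal R = Ideal.span (Set.range x) → ∀ (D : Fin n → Derivation k R R),
      (∀ i j, D i (x j) = if i = j then 1 else 0) → IsRegularLocalRing R ∧ ringKrullDim R = n := by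
  intro n
  induction n with
  | zero =>
    intro R _ _ _ _ x hx _ _
    have hm : maximalIdeal R = ⊥ := by rw [hx, Set.range_eq_empty, Ideal.span_empty]
    have hf : IsField R := IsLocalRing.isField_iff_maximalIdeal_eq.mpr hm
    refine ⟨?_, by rw [ringKrullDim_eq_zero_of_isField hf]; rfl⟩
    refine IsRegularLocalRing.of_spanFinrank_maximalIdeal_le R ?_
    rw [ringKrullDim_eq_zero_of_isField hf, hm]
    simp
  | succ n ih =>
    intro R _ _ _ _ x hx D hD
    let I := Ideal.span {x 0}
    have hx0 : x 0 ∈ maximalIdeal R := hx ▸ Ideal.subset_span ⟨0, rfl⟩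
    have hI : I ≠ ⊤ := ne_top_of_le_ne_top (maximalIdeal.isMaximal R).ne_top
      ((Ideal.span_singleton_le_iff_mem _).mpr hx0)
    haveI : Nontrivial (R ⧸ I) := Ideal.Quotient.nontrivial_iff.mpr hI
    haveI : IsLocalRing (R ⧸ I) := .of_surjective' _ Ideal.Quotient.mk_surjective
    have hD0 : ∀ i : Fin n, D i.succ (x 0) = 0 := fun i => by rw [hD, if_neg (Fin.succ_ne_zero i)]
    obtain ⟨hreg, hdim⟩ := ih (R ⧸ I) (fun j => Ideal.Quotient.mk I (x j.succ)) (by
        rw [← IsLocalRing.map_maximalIdeal_of_surjective _ Ideal.Quotient.mk_surjective, hx, Ideal.map_span,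
          ← Set.range_comp]
        refine le_antisymm (Ideal.span_le.mpr ?_) (Ideal.span_mono (Set.range_comp_subset_range Fin.succ (Ideal.Quotient.mk I ∘ x)))
        rintro _ ⟨j, rfl⟩
        refine Fin.cases ?_ (fun j => Ideal.subset_span ⟨j, rfl⟩) j
        rw [Function.comp_apply, SetLike.mem_coe, Ideal.Quotient.eq_zero_iff_mem.mpr (Ideal.mem_span_singleton_self _)]
        exact zero_mem _)
      (fun i => quotientDerivation (D i.succ) (x 0) (hD0 i)) (fun i j => by
        rw [quotientDerivation_mk, hD]
        by_cases h : i = j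
        · subst h; simp
        · rw [if_neg (fun h' => h (Fin.succ_injective _ h')), if_neg h, map_zero])
    have hmin : ∀ p ∈ (Module.annihilator R R).minimalPrimes, x 0 ∉ p := by
      intro p hp hxp
      rw [Module.annihilator_eq_bot.mpr inferInstance] at hp
      have h1 := mem_minimalPrime_of_derivation (D 0) hp hxp
      rw [hD, if_pos rfl] at h1
      exact (Ideal.minimalPrimes_isPrime hp).ne_top ((Ideal.eq_top_iff_one _).mpr h1)
    have hge := Module.supportDim_quotSMulTop_succ_le_of_notMem_minimalPrimes (M := R) hmin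
    rw [Module.supportDim_self_eq_ringKrullDim, Module.supportDim_quotient_eq_ringKrullDim] at hge
    have he : (x 0 • (⊤ : Ideal R)) = I := by simp [I, ← Submodule.ideal_span_singleton_smul]
    rw [he, hdim] at hge
    have hle : (maximalIdeal R).spanFinrank ≤ n + 1 := by
      rw [hx]
      refine (Submodule.spanFinrank_span_le_ncard_of_finite (Set.finite_range x)).trans ?_
      rw [← Nat.card_coe_set_eq]
      exact (Finite.card_range_le x).trans (by simp)
    refine ⟨IsRegularLocalRing.of_spanFinrank_maximalIdeal_le R (le_trans ?_ hge),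
      le_antisymm ((ringKrullDim_le_spanFinrank_maximalIdeal R).trans (by exact_mod_cast hle)) (by exact_mod_cast hge)⟩
    exact_mod_cast hle

variable (k R : Type u) [Field k] [CommRing R] [IsLocalRing R] [Algebra k R]

/-- At a rational point the cotangent space computes the fibre of the differentials. -/
theorem nonempty_kaehler_equiv_cotangent (hres : Function.Surjective (algebraMap k (ResidueField R))) :
    Nonempty (((ResidueField R) ⊗[R] Ω[R⁄k]) ≃ₗ[ResidueField R] CotangentSpace R) := by
  have hbij : Function.Bijective (algebraMap k (ResidueField R)) := ⟨(algebraMap k (ResidueField R)).injective, hres⟩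
  let e : k ≃ₐ[k] ResidueField R := AlgEquiv.ofBijective (Algebra.ofId k _) hbij
  haveI : Subsingleton (Ω[(ResidueField R)⁄k]) := KaehlerDifferential.subsingleton_of_surjective k _ hres
  have hf : Function.Surjective (algebraMap R (ResidueField R)) := residue_surjective
  obtain ⟨l, hl⟩ := (retractionKerCotangentToTensorEquivSection (R := k) hf).symm
    ⟨(Algebra.ofId k _).comp e.symm.toAlgHom, AlgHom.ext fun x => by
      obtain ⟨c, rfl⟩ := e.surjective x
      change ((IsScalarTower.toAlgHom k R (ResidueField R)).kerSquareLift) (algebraMap k _ (e.symm (e c))) = e c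
      rw [e.symm_apply_apply, AlgHom.commutes]
      exact (e.commutes c).symm⟩
  let φ := KaehlerDifferential.kerCotangentToTensor k R (ResidueField R)
  have hinj : Function.Injective φ := Function.LeftInverse.injective (g := l) fun x => LinearMap.congr_fun hl x
  have hsurj : Function.Surjective φ := fun x =>
    (KaehlerDifferential.exact_kerCotangentToTensor_mapBaseChange k R (ResidueField R) hf x).mp (Subsingleton.elim _ _)
  have hker : RingHom.ker (algebraMap R (ResidueField R)) = maximalIdeal R := ker_residue
  have e₁ : ((ResidueField R) ⊗[R] Ω[R⁄k]) ≃ₗ[R] (RingHom.ker (algebraMap R (ResidueField R))).Cotangent :=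
    (LinearEquiv.ofBijective φ ⟨hinj, hsurj⟩).symm
  rw [hker] at e₁
  exact ⟨e₁.extendScalarsOfSurjective hf⟩

/-- Free differentials at a rational point, in characteristic zero, force regularity. -/
theorem isRegularLocalRing_of_kaehler_free [CharZero k] [IsNoetherianRing R]
    (hres : Function.Surjective (algebraMap k (ResidueField R))) {n : ℕ} (e : Ω[R⁄k] ≃ₗ[R] (Fin n → R)) :
    IsRegularLocalRing R ∧ ringKrullDim R = n := by
  classical
  obtain ⟨E⟩ := nonempty_kaehler_equiv_cotangent k R hres
  have hfr : Module.finrank (ResidueField R) (CotangentSpace R) = n := by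
    rw [← E.finrank_eq, (LinearEquiv.baseChange R (ResidueField R) _ _ e).finrank_eq, Module.finrank_baseChange,
      Module.finrank_fin_fun]
  have hs : (maximalIdeal R).spanFinrank = n := by rw [spanFinrank_maximalIdeal_eq_finrank_cotangentSpace, hfr]
  obtain ⟨y, hy⟩ : ∃ y : Fin n → R, Ideal.span (Set.range y) = maximalIdeal R := by
    obtain ⟨f, hf⟩ := Submodule.FG.exists_span_set_encard_eq_spanFinrank (p := maximalIdeal R) (IsNoetherian.noetherian _)
    obtain ⟨hfin, hcard⟩ : f.Finite ∧ f.ncard = n := by
      rw [hs] at hf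
      have hfin : f.Finite := Set.finite_of_encard_eq_coe hf.1
      refine ⟨hfin, ?_⟩
      have := hfin.cast_ncard_eq.trans hf.1
      exact_mod_cast this
    haveI := hfin.fintype
    let ε : Fin n ≃ f := (Fintype.equivFinOfCardEq (by rw [← Nat.card_eq_fintype_card, Nat.card_coe_set_eq, hcard])).symm
    refine ⟨fun i => ε i, ?_⟩
    rw [show Set.range (fun i => (ε i : R)) = f by ext r; exact ⟨by rintro ⟨i, rfl⟩; exact (ε i).2, fun hr => ⟨ε.symm ⟨r, hr⟩, by simp⟩⟩]
    exact hf.2
  -- the differentials of the generators form a basis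
  let v : Fin n → Ω[R⁄k] := fun i => KaehlerDifferential.D k R (y i)
  have hspan : Submodule.span R (Set.range v) = ⊤ := by
    haveI : Module.Finite R Ω[R⁄k] := Module.Finite.equiv e.symm
    refine top_le_iff.mp (Submodule.le_of_le_smul_of_le_jacobson_bot (I := maximalIdeal R) Module.Finite.fg_top
      (maximalIdeal_le_jacobson _) ?_)
    rw [← KaehlerDifferential.span_range_derivation, Submodule.span_le]
    rintro _ ⟨r, rfl⟩
    obtain ⟨c, hc⟩ := hres (residue R r)
    have hmem : r - algebraMap k R c ∈ maximalIdeal R := by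
      rw [← residue_eq_zero_iff, map_sub, ← hc, IsScalarTower.algebraMap_apply k R (ResidueField R)]
      exact sub_self _
    rw [← hy, Submodule.mem_span_range_iff_exists_fun] at hmem
    obtain ⟨b, hb⟩ := hmem
    have : KaehlerDifferential.D k R r = ∑ i, (b i • v i + y i • KaehlerDifferential.D k R (b i)) := by
      rw [show r = (∑ i, b i • y i) + algebraMap k R c by rw [hb]; ring, map_add, Derivation.map_algebraMap, add_zero, map_sum]
      exact Finset.sum_congr rfl fun i _ => by rw [smul_eq_mul, Derivation.leibniz]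
    rw [SetLike.mem_coe, this]
    refine sum_mem fun i _ => Submodule.add_mem_sup (Submodule.smul_mem _ _ (Submodule.subset_span ⟨i, rfl⟩)) ?_
    exact Submodule.smul_mem_smul (hy ▸ Ideal.subset_span ⟨i, rfl⟩) (Submodule.subset_span ⟨_, rfl⟩)
  haveI : Module.Free R Ω[R⁄k] := Module.Free.of_equiv e.symm
  haveI : Module.Finite R Ω[R⁄k] := Module.Finite.equiv e.symm
  let T : (Fin n → R) →ₗ[R] Ω[R⁄k] := Fintype.linearCombination R v
  have hT : Function.Surjective T := LinearMap.range_eq_top.mp (by rw [Fintype.range_linearCombination, hspan])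
  have hTe : Function.Injective (e.toLinearMap.comp T) :=
    OrzechProperty.injective_of_surjective_endomorphism _ (e.surjective.comp hT)
  let T' := LinearEquiv.ofBijective T ⟨Function.Injective.of_comp (f := e) hTe, hT⟩
  refine isRegularLocalRing_of_derivations k n R y hy.symm
    (fun i => ((LinearMap.proj i).comp T'.symm.toLinearMap).compDer (KaehlerDifferential.D k R)) fun i j => ?_
  have : T'.symm (v j) = Pi.single j 1 := T'.symm_apply_eq.mpr (by
    change v j = T (Pi.single j 1)
    simp [T, Fintype.linearCombination_apply, Pi.single_apply])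
  change T'.symm (v j) i = _
  rw [this, Pi.single_apply]

end Groth.Agent.H02CA.DerivationCriterion
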