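import Groth.Prelude.Def_Found
import Mathlib.RingTheory.Localization.Integral
import Mathlib.RingTheory.Localization.LocalizationLocalization
import Mathlib.RingTheory.Finiteness.Basic
import Mathlib.RingTheory.LocalProperties.Submodule

/-!
N-1 and N-2 domains: independence of the chosen fraction field, passing to and from localizations.
-/

namespace Groth.Agent.H02CA

universe u

section
variable {R S : Type u} [CommRing R] [CommRing S] [Algebra R S]
  {L : Type u} [Field L] [Algebra R L] [Algebra S L] [IsScalarTower R S L]

/-- The integral closure of a localization is generated by the integral closure. -/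
lemma finite_integralClosure_of_isLocalization (M : Submonoid R) [IsLocalization M S]
    (h : Module.Finite R (integralClosure R L)) : Module.Finite S (integralClosure S L) := by
  classical
  obtain ⟨T, hT⟩ := (Module.Finite.fg_top (R := R) (M := integralClosure R L))
  have hi : ∀ x : integralClosure R L, (x : L) ∈ integralClosure S L := fun x => x.2.tower_top
  refine ⟨⟨T.image fun (x : integralClosure R L) => (⟨x, hi x⟩ : integralClosure S L), ?_⟩⟩
  rw [eq_top_iff]
  intro z _
  obtain ⟨m, hm⟩ := IsIntegral.exists_multiple_integral_of_isLocalization M (z : L) z.2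
  have hspan : ∀ x : integralClosure R L, (⟨x, hi x⟩ : integralClosure S L) ∈
      Submodule.span S (↑(T.image fun (x : integralClosure R L) => (⟨x, hi x⟩ : integralClosure S L)) : Set _) := by
    intro x
    have hx : x ∈ Submodule.span R (T : Set (integralClosure R L)) := hT ▸ trivial
    induction hx using Submodule.span_induction with
    | mem x hx => exact Submodule.subset_span (Finset.mem_coe.mpr (Finset.mem_image_of_mem _ hx))
    | zero => exact zero_mem _
    | add a b _ _ ha hb => exact add_mem ha hb
    | smul c a _ ha =>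
      convert Submodule.smul_mem _ (algebraMap R S c) ha using 1
      refine Subtype.ext ?_
      simp [algebraMap_smul]
  have h1 := Submodule.smul_mem _ (IsLocalization.mk' S 1 m) (hspan ⟨(m : R) • (z : L), hm⟩)
  have h2 : IsLocalization.mk' S 1 m • (⟨(m : R) • (z : L), hi ⟨_, hm⟩⟩ : integralClosure S L) = z := by
    refine Subtype.ext ?_
    show IsLocalization.mk' S 1 m • ((m : R) • (z : L)) = z
    rw [← algebraMap_smul S (m : R) (z : L), smul_smul, IsLocalization.mk'_spec, map_one, one_smul]
  rwa [h2] at h1

end

section
variable {R : Type u} [CommRing R] [IsDomain R]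

lemma finite_integralClosure_of_isN2 (h : CAlg.IsN2 R) (K L : Type u) [Field K] [Algebra R K]
    [IsFractionRing R K] [Field L] [Algebra R L] [Algebra K L] [IsScalarTower R K L]
    [FiniteDimensional K L] : Module.Finite R (integralClosure R L) := by
  let e := FractionRing.algEquiv R K
  letI : Algebra (FractionRing R) L := ((algebraMap K L).comp e.toRingEquiv.toRingHom).toAlgebra
  haveI : IsScalarTower R (FractionRing R) L := IsScalarTower.of_algebraMap_eq fun r => by
    show _ = algebraMap K L (e (algebraMap R (FractionRing R) r))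
    rw [e.commutes, ← IsScalarTower.algebraMap_apply]
  refine h L ?_
  have h1 : (algebraMap (FractionRing R) L).Finite :=
    (RingHom.finite_algebraMap.mpr ‹_›).comp (RingHom.Finite.of_surjective _ e.surjective)
  exact RingHom.finite_algebraMap.mp h1

lemma finite_integralClosure_of_isN1 (h : CAlg.IsN1 R) (K : Type u) [Field K] [Algebra R K]
    [IsFractionRing R K] : Module.Finite R (integralClosure R K) := by
  haveI : Module.Finite R (integralClosure R (FractionRing R)) := h
  let e := FractionRing.algEquiv R K
  have h1 : ∀ x : integralClosure R (FractionRing R), e (x : FractionRing R) ∈ integralClosure R K :=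
    fun x => x.2.map e.toAlgHom
  refine Module.Finite.of_surjective
    (((e.toAlgHom.comp (integralClosure R (FractionRing R)).val).codRestrict _ h1).toLinearMap) fun y => ?_
  exact ⟨⟨e.symm y.1, y.2.map e.symm.toAlgHom⟩, Subtype.ext (e.apply_symm_apply _)⟩

/-- Finiteness of the integral closure is local on the base. -/
lemma finite_integralClosure_of_cover {ι : Type*} [Finite ι] (f : ι → R) (hf : Ideal.span (Set.range f) = ⊤)
    (Rf : ι → Type u) [∀ i, CommRing (Rf i)] [∀ i, Algebra R (Rf i)]
    [∀ i, IsLocalization.Away (f i) (Rf i)] {L : Type u} [Field L] [Algebra R L] [∀ i, Algebra (Rf i) L]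
    [∀ i, IsScalarTower R (Rf i) L] (h : ∀ i, Module.Finite (Rf i) (integralClosure (Rf i) L)) :
    Module.Finite R (integralClosure R L) := by
  classical
  haveI := Fintype.ofFinite ι
  have hT : ∀ i, ∃ T : Finset (integralClosure R L), ∀ x : integralClosure R L, ∃ n : ℕ,
      f i ^ n • x ∈ Submodule.span R (T : Set (integralClosure R L)) := by
    intro i
    obtain ⟨G, hG⟩ := (h i).fg_top
    choose m hm using fun z : integralClosure (Rf i) L =>
      IsIntegral.exists_multiple_integral_of_isLocalization (Submonoid.powers (f i)) (z : L) z.2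
    let c : integralClosure (Rf i) L → integralClosure R L := fun z => ⟨_, hm z⟩
    refine ⟨G.image c, fun x => ?_⟩
    suffices H : ∀ z : integralClosure (Rf i) L, ∃ n : ℕ, ∃ y ∈ Submodule.span R (↑(G.image c) : Set (integralClosure R L)),
        ((y : integralClosure R L) : L) = f i ^ n • (z : L) by
      obtain ⟨n, y, hy, hyx⟩ := H ⟨x, x.2.tower_top⟩
      exact ⟨n, (show y = f i ^ n • x from Subtype.ext hyx) ▸ hy⟩
    intro z
    have hz : z ∈ Submodule.span (Rf i) (G : Set (integralClosure (Rf i) L)) := hG ▸ trivial
    induction hz using Submodule.span_induction with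
    | mem z hz =>
      obtain ⟨n, hn⟩ := (m z).2
      exact ⟨n, c z, Submodule.subset_span (Finset.mem_coe.mpr (Finset.mem_image_of_mem _ hz)), by
        show (m z : R) • (z : L) = _
        rw [← hn]⟩
    | zero => exact ⟨0, 0, zero_mem _, by simp⟩
    | add a b _ _ ha hb =>
      obtain ⟨n, y, hy, hy'⟩ := ha; obtain ⟨k, y', hy1, hy1'⟩ := hb
      refine ⟨n + k, f i ^ k • y + f i ^ n • y', add_mem (Submodule.smul_mem _ _ hy) (Submodule.smul_mem _ _ hy1), ?_⟩
      simp [hy', hy1', smul_smul, ← pow_add, add_comm k n]
    | smul r a _ ha =>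
      obtain ⟨n, y, hy, hy'⟩ := ha
      obtain ⟨⟨r₀, ⟨_, k, rfl⟩⟩, hr⟩ := IsLocalization.surj (Submonoid.powers (f i)) r
      refine ⟨n + k, r₀ • y, Submodule.smul_mem _ _ hy, ?_⟩
      show r₀ • ((y : integralClosure R L) : L) = f i ^ (n + k) • (r • (a : L))
      rw [hy', smul_smul, mul_comm, ← smul_smul, ← algebraMap_smul (Rf i) r₀, ← hr, ← smul_smul,
        algebraMap_smul, pow_add, ← smul_smul, smul_comm r (f i ^ k)]
  choose T hT using hT
  refine ⟨⟨Finset.univ.biUnion T, ?_⟩⟩
  rw [eq_top_iff]
  intro x _
  refine Submodule.mem_of_span_eq_top_of_smul_pow_mem _ (Set.range f) hf x ?_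
  rintro ⟨_, i, rfl⟩
  obtain ⟨n, hn⟩ := hT i x
  refine ⟨n, Submodule.span_mono ?_ hn⟩
  intro y hy
  exact Finset.mem_coe.mpr (Finset.mem_biUnion.mpr ⟨i, Finset.mem_univ _, hy⟩)

omit [IsDomain R] in
/-- The fraction field of a localization which is a domain is a fraction field of the base domain. -/
lemma isFractionRing_of_localization [IsDomain R] (M : Submonoid R) (S : Type u) [CommRing S] [IsDomain S]
    [Algebra R S] [IsLocalization M S] (F : Type u) [Field F] [Algebra S F] [IsFractionRing S F]
    [Algebra R F] [IsScalarTower R S F] : IsFractionRing R F := by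
  have hM : M ≤ nonZeroDivisors R := fun m hm => mem_nonZeroDivisors_of_ne_zero fun h0 =>
    not_subsingleton S (IsLocalization.subsingleton (M := M) (h0 ▸ hm))
  haveI : FaithfulSMul R F := (faithfulSMul_iff_algebraMap_injective R F).mpr <| by
    rw [IsScalarTower.algebraMap_eq R S F]
    exact (IsFractionRing.injective S F).comp (IsLocalization.injective S hM)
  refine IsFractionRing.of_field R F fun z => ?_
  obtain ⟨a, b, -, rfl⟩ := IsFractionRing.div_surjective (A := S) z
  obtain ⟨⟨a₀, m⟩, ha⟩ := IsLocalization.surj M a
  obtain ⟨⟨b₀, n⟩, hb⟩ := IsLocalization.surj M b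
  simp only at ha hb
  refine ⟨a₀ * n, b₀ * m, ?_⟩
  have hne : ∀ m : M, algebraMap S F (algebraMap R S (m : R)) ≠ 0 := fun m =>
    ((IsLocalization.map_units S m).map (algebraMap S F)).ne_zero
  rw [IsScalarTower.algebraMap_apply R S F, IsScalarTower.algebraMap_apply R S F, map_mul (algebraMap R S),
    map_mul (algebraMap R S), ← ha, ← hb, map_mul (algebraMap S F), map_mul (algebraMap S F),
    map_mul (algebraMap S F), map_mul (algebraMap S F)]
  rw [mul_assoc, mul_assoc, mul_comm (algebraMap S F (algebraMap R S n)), mul_div_mul_right _ _ (mul_ne_zero (hne m) (hne n))]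

omit [IsDomain R] in
lemma ne_zero_of_away_nontrivial (r : R) (S : Type*) [CommRing S] [Nontrivial S] [Algebra R S]
    [IsLocalization.Away r S] : r ≠ 0 := by
  rintro rfl
  exact not_subsingleton S (IsLocalization.subsingleton (M := Submonoid.powers (0 : R)) (Submonoid.mem_powers 0))

end

end Groth.Agent.H02CA
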