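import Groth.Agent.H16Derived.ProjFormula.ClosedImm
import Groth.Agent.H16Derived.DerComp.SingleRight
import Groth.Agent.H16Derived.QCohD.RpushUnb
import Groth.Prelude.Def_DualFM

/-!
# The Fourier–Mukai functor of the diagonal is the identity

For a closed immersion `δ`, `- ⊗^L δ_* O ≅ Rδ_* Lδ^*` naturally.
-/

set_option autoImplicit false
set_option linter.style.haveILetI false

universe u

open CategoryTheory CategoryTheory.Limits AlgebraicGeometry

attribute [local instance] HasDerivedCategory.standard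

namespace Groth.Agent.H02CA.DiagKernel

open H16Derived H16Derived.KFlat H16Derived.KFlat.Stalk H16Derived.ProjFormula

variable {X Y : Scheme.{u}}

section closed

variable (δ : X ⟶ Y) [IsClosedImmersion δ]

/-- `δ_* O`. -/
noncomputable abbrev pushO : Y.Modules := (push δ).obj (Coh.structureModule X)

/-- The braiding of the tensor product. -/
noncomputable def symm' (M N : Y.Modules) :
    ((DCoh.tensorBi (X := Y)).obj M).obj N ≅ ((DCoh.tensorBi (X := Y)).obj N).obj M :=
  (CohB1.sheafifyMod Y).mapIso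
    (show (CohB1.tensorPre M N : Y.PresheafOfModules) ≅ (CohB1.tensorPre N M : Y.PresheafOfModules) from
      (β_ (CohB1.toPMod M) (CohB1.toPMod N)))

theorem isIso_unit_tensor (N : Y.Modules) :
    IsIso ((adj δ).unit.app (((DCoh.tensorBi (X := Y)).obj N).obj (pushO δ))) := by
  let S := HomologicalComplex.single X.Modules (ComplexShape.up ℤ) 0
  let S' := HomologicalComplex.single Y.Modules (ComplexShape.up ℤ) 0
  let I := S.obj (Coh.structureModule X)
  let P := S'.obj N
  have hI : ∀ p : ℤ, p ≠ 0 → IsZero (((pushCx δ).obj I).X p) := fun p hp =>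
    (push δ).map_isZero (HomologicalComplex.isZero_single_obj_X (ComplexShape.up ℤ) 0 _ p hp)
  let e₁ := (HomologicalComplex.eval Y.Modules (ComplexShape.up ℤ) 0).mapIso
    (singleLeftIso (DCoh.tensorBi (X := Y)) ((pushCx δ).obj I) P hI)
  let e₂ : ((DCoh.tensorBi (X := Y)).obj (((pushCx δ).obj I).X 0)).obj (P.X 0) ≅
      ((DCoh.tensorBi (X := Y)).obj N).obj (pushO δ) :=
    ((DCoh.tensorBi (X := Y)).obj _).mapIso (HomologicalComplex.singleObjXSelf (ComplexShape.up ℤ) 0 N) ≪≫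
      ((DCoh.tensorBi (X := Y)).mapIso ((push δ).mapIso
        (HomologicalComplex.singleObjXSelf (ComplexShape.up ℤ) 0 (Coh.structureModule X)))).app N ≪≫
      symm' _ _
  let e := e₁.symm ≪≫ e₂
  haveI : IsIso ((adj δ).unit.app ((HomologicalComplex.eval Y.Modules (ComplexShape.up ℤ) 0).obj
      ((tot (DCoh.tensorBi (X := Y)) ((pushCx δ).obj I)).obj P))) :=
    isIso_unit_of_killed δ (killed_tot δ I P 0)
  have h := (adj δ).unit.naturality e.hom
  haveI : IsIso ((𝟭 Y.Modules).map e.hom) := inferInstance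
  haveI : IsIso ((𝟭 Y.Modules).map e.hom ≫ (adj δ).unit.app (((DCoh.tensorBi (X := Y)).obj N).obj (pushO δ))) :=
    h ▸ inferInstance
  exact IsIso.of_isIso_comp_left ((𝟭 Y.Modules).map e.hom) _

/-- `δ^* δ_* O = O`. -/
noncomputable def pullPushO : (pull δ).obj (pushO δ) ≅ Coh.structureModule X :=
  haveI := isIso_counit_of_isClosedImmersion δ (Coh.structureModule X)
  asIso ((adj δ).counit.app (Coh.structureModule X))

/-- `- ⊗ δ_* O = δ_* δ^*`. -/
noncomputable def tensorPushOIso :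
    (DCoh.tensorBi (X := Y)).flip.obj (pushO δ) ≅ pull δ ⋙ push δ :=
  let G := (DCoh.tensorBi (X := Y)).flip.obj (pushO δ)
  haveI : ∀ N, IsIso ((Functor.whiskerLeft G (adj δ).unit).app N) := fun N => isIso_unit_tensor δ N
  haveI := NatIso.isIso_of_isIso_app (Functor.whiskerLeft G (adj δ).unit)
  G.rightUnitor.symm ≪≫ asIso (Functor.whiskerLeft G (adj δ).unit) ≪≫
    (Functor.associator G (pull δ) (push δ)).symm ≪≫
    Functor.isoWhiskerRight (pullTensorLIso δ (pushO δ) ≪≫
      Functor.isoWhiskerLeft (pull δ) ((DCoh.tensorBi (X := X)).flip.mapIso (pullPushO δ) ≪≫ ρ X) ≪≫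
      (pull δ).rightUnitor) (push δ)

/-- The unit of `Rδ_*` on complexes. -/
noncomputable def rpushQHom [DCoh.HasRpush δ] :
    pushCx δ ⋙ DerivedCategory.Q ⟶ DerivedCategory.Q ⋙ DCoh.Rpush δ :=
  Functor.whiskerLeft (pushCx δ) (DerivedCategory.quotientCompQhIso Y.Modules).inv ≫
    (Functor.associator _ _ _).inv ≫
    Functor.whiskerRight ((push δ).mapHomotopyCategoryFactors (ComplexShape.up ℤ)).inv DerivedCategory.Qh ≫
    (Functor.associator _ _ _).hom ≫
    Functor.whiskerLeft (HomotopyCategory.quotient _ _) (rpushUnit δ) ≫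
    (Functor.associator _ _ _).inv ≫
    Functor.whiskerRight (DerivedCategory.quotientCompQhIso X.Modules).hom (DCoh.Rpush δ)

theorem isIso_rpushQHom [DCoh.HasRpush δ] : IsIso (rpushQHom δ) := by
  haveI := preservesHomology_push δ
  haveI := isGrothendieckAbelian_modules (X := X)
  obtain ⟨N, j, hN⟩ := KInjRes.exists_resolution_functor (A := X.Modules)
  refine @NatIso.isIso_of_isIso_app _ _ _ _ _ _ (rpushQHom δ) fun K => ?_
  haveI := (hN K).2.1
  haveI := (hN K).2.2.1
  haveI : IsIso ((rpushUnit δ).app ((HomotopyCategory.quotient _ _).obj (N.obj K))) := isIso_rpushUnit δ (N.obj K)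
  haveI : IsIso ((rpushQHom δ).app (N.obj K)) := by
    simp only [rpushQHom, NatTrans.comp_app, Functor.whiskerLeft_app, Functor.whiskerRight_app,
      Functor.associator_hom_app, Functor.associator_inv_app]
    infer_instance
  haveI : IsIso (DerivedCategory.Q.map (j.app K)) :=
    (DerivedCategory.isIso_Q_map_iff_quasiIso X.Modules _).2 inferInstance
  haveI : IsIso (DerivedCategory.Q.map ((pushCx δ).map (j.app K))) :=
    (DerivedCategory.isIso_Q_map_iff_quasiIso Y.Modules _).2 inferInstance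
  have h := (rpushQHom δ).naturality (j.app K)
  haveI : IsIso ((pushCx δ ⋙ DerivedCategory.Q).map (j.app K) ≫ (rpushQHom δ).app (N.obj K)) :=
    inferInstanceAs (IsIso (DerivedCategory.Q.map ((pushCx δ).map (j.app K)) ≫ _))
  haveI : IsIso ((DerivedCategory.Q ⋙ DCoh.Rpush δ).map (j.app K)) :=
    inferInstanceAs (IsIso ((DCoh.Rpush δ).map (DerivedCategory.Q.map (j.app K))))
  haveI : IsIso ((rpushQHom δ).app K ≫ (DerivedCategory.Q ⋙ DCoh.Rpush δ).map (j.app K)) := h ▸ inferInstance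
  exact IsIso.of_isIso_comp_right _ ((DerivedCategory.Q ⋙ DCoh.Rpush δ).map (j.app K))

/-- `- ⊗^L K ≅ Rδ_* Lδ^*` for `K ≅ δ_* O`. -/
theorem nonempty_ltensor_iso (K : CochainComplex Y.Modules ℤ)
    (hK : Nonempty (DCoh.toD Y K ≅ DCoh.inD Y (pushO δ)))
    [DCoh.HasLTensorCx K] [DCoh.HasLpull δ] [DCoh.HasRpush δ] :
    Nonempty (DCoh.LTensorCx K ≅ DCoh.Lpull δ ⋙ DCoh.Rpush δ) := by
  obtain ⟨eK⟩ := hK
  let W := (HomologicalComplex.single Y.Modules (ComplexShape.up ℤ) 0).obj (pushO δ)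
  let e : DerivedCategory.Q.obj K ≅ DerivedCategory.Q.obj W :=
    eK ≪≫ (DerivedCategory.singleFunctorIsoCompQ Y.Modules 0).app (pushO δ)
  obtain ⟨L, g, s, hs, hg⟩ := DerivedCategory.left_fac e.hom
  haveI := hs
  haveI : IsIso (DerivedCategory.Q.map g) := by
    have : DerivedCategory.Q.map g = e.hom ≫ DerivedCategory.Q.map s := by rw [hg]; simp
    rw [this]; infer_instance
  haveI : QuasiIso g := (DerivedCategory.isIso_Q_map_iff_quasiIso Y.Modules g).1 inferInstance
  haveI : QuasiIso s := (DerivedCategory.isIso_Q_map_iff_quasiIso Y.Modules s).1 inferInstance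
  let ρl : CochainComplex Y.Modules ℤ ⥤ (lkflat Y).FullSubcategory := (lkflat Y).lift res isKFlat_flip_res
  let ρr : CochainComplex Y.Modules ℤ ⥤ (kflat Y).FullSubcategory := (kflat Y).lift res isKFlat_res
  let T₂ := (DCoh.tensorCx (X := Y)).flip
  -- changing the kernel
  have hchange : ∀ {E E' : CochainComplex Y.Modules ℤ} (φ : E ⟶ E') [QuasiIso φ],
      IsIso (Functor.whiskerRight (Functor.whiskerLeft res (T₂.map φ)) DerivedCategory.Q) := by
    intro E E' φ _
    refine @NatIso.isIso_of_isIso_app _ _ _ _ _ _ _ fun P => ?_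
    refine H16Derived.KFlat.Stalk.isIso_Q_map _ ?_
    exact quasiIso_tot_map_of_isKFlat_left (DCoh.tensorBi (X := Y)) (res.obj P) φ fun V hV =>
      acyclic_tot_of_isKFlat_flip (isKFlat_flip_res P) hV
  haveI := hchange g
  haveI := hchange s
  let eflip : res ⋙ T₂.obj K ⋙ DerivedCategory.Q ≅ res ⋙ T₂.obj W ⋙ DerivedCategory.Q :=
    asIso (Functor.whiskerRight (Functor.whiskerLeft res (T₂.map g)) DerivedCategory.Q) ≪≫
      (asIso (Functor.whiskerRight (Functor.whiskerLeft res (T₂.map s)) DerivedCategory.Q)).symm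
  let esingle : T₂.obj W ≅ pullCx δ ⋙ pushCx δ :=
    (DerCompLib.singleRightIso (DCoh.tensorBi (X := Y)) (pushO δ)).symm ≪≫
      NatIso.mapHomologicalComplex (tensorPushOIso δ) (ComplexShape.up ℤ) ≪≫
      NatIso.ofComponents (fun P => HomologicalComplex.Hom.isoOfComponents (fun _ => Iso.refl _)
        (fun i j _ => (Category.id_comp _).trans (Category.comp_id _).symm))
        (fun {P P'} φ => HomologicalComplex.hom_ext _ _ fun i =>
          (Category.comp_id _).trans (Category.id_comp _).symm)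
  haveI := isIso_rpushQHom δ
  let eL : (res (X := Y) ⋙ DerivedCategory.Q) ⋙ DCoh.LTensorCx K ≅ res ⋙ T₂.obj K ⋙ DerivedCategory.Q :=
    Functor.isoWhiskerLeft ρl (ltensorCxIso K)
  let eR : (res (X := Y) ⋙ DerivedCategory.Q) ⋙ DCoh.Lpull δ ⋙ DCoh.Rpush δ ≅
      res ⋙ (pullCx δ ⋙ pushCx δ) ⋙ DerivedCategory.Q :=
    Functor.isoWhiskerRight (Functor.isoWhiskerLeft ρr (lpullIso δ)) (DCoh.Rpush δ) ≪≫
      Functor.isoWhiskerLeft (res ⋙ pullCx δ) (asIso (rpushQHom δ)).symm
  let eres : (res (X := Y) ⋙ DerivedCategory.Q) ≅ DerivedCategory.Q :=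
    haveI : ∀ P, IsIso ((Functor.whiskerRight (resψ (X := Y)) DerivedCategory.Q).app P) := fun P =>
      H16Derived.KFlat.Stalk.isIso_Q_map _ (quasiIso_resψ P)
    haveI := NatIso.isIso_of_isIso_app (Functor.whiskerRight (resψ (X := Y)) DerivedCategory.Q)
    asIso (Functor.whiskerRight (resψ (X := Y)) DerivedCategory.Q) ≪≫ DerivedCategory.Q.leftUnitor
  let e' : DerivedCategory.Q ⋙ DCoh.LTensorCx K ≅ DerivedCategory.Q ⋙ (DCoh.Lpull δ ⋙ DCoh.Rpush δ) :=
    Functor.isoWhiskerRight eres.symm (DCoh.LTensorCx K) ≪≫ eL ≪≫ eflip ≪≫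
      Functor.isoWhiskerLeft res (Functor.isoWhiskerRight esingle DerivedCategory.Q) ≪≫ eR.symm ≪≫
      Functor.isoWhiskerRight eres (DCoh.Lpull δ ⋙ DCoh.Rpush δ)
  exact ⟨Localization.liftNatIso DerivedCategory.Q (HomologicalComplex.quasiIso Y.Modules (ComplexShape.up ℤ)) _ _ _ _ e'⟩

end closed

theorem nonempty_lpull_id [DCoh.HasLpull (𝟙 X)] : Nonempty (DCoh.Lpull (𝟙 X) ≅ 𝟭 (DCoh.D X)) := by
  let ec : pullCx (𝟙 X) ≅ 𝟭 (CochainComplex X.Modules ℤ) :=
    NatIso.mapHomologicalComplex (Scheme.Modules.pullbackId X) (ComplexShape.up ℤ) ≪≫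
      NatIso.ofComponents (fun P => HomologicalComplex.Hom.isoOfComponents (fun _ => Iso.refl _)
        (fun i j _ => (Category.id_comp _).trans (Category.comp_id _).symm))
        (fun {P P'} φ => HomologicalComplex.hom_ext _ _ fun i =>
          (Category.comp_id _).trans (Category.id_comp _).symm)
  haveI := LeftDerTri.isLocalization (pullAdapted (𝟙 X))
  exact ⟨Localization.liftNatIso ((kflat X).ι ⋙ DerivedCategory.Q) (LeftDerTri.qis _) _ _ _ _
    (lpullIso (𝟙 X) ≪≫ Functor.isoWhiskerLeft (kflat X).ι (Functor.isoWhiskerRight ec DerivedCategory.Q ≪≫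
      DerivedCategory.Q.leftUnitor))⟩

theorem nonempty_lpull_of_eq (f : X ⟶ X) (h : f = 𝟙 X) [DCoh.HasLpull f] :
    Nonempty (DCoh.Lpull f ≅ 𝟭 (DCoh.D X)) := by
  subst h; exact nonempty_lpull_id

theorem nonempty_rpush_of_eq (f : X ⟶ X) (h : f = 𝟙 X) [DCoh.HasRpush f] :
    Nonempty (DCoh.Rpush f ≅ 𝟭 (DCoh.D X)) := by
  subst h
  haveI := hasLpull (𝟙 X)
  obtain ⟨e⟩ := nonempty_lpull_id (X := X)
  exact ⟨((lpullRpushAdj (𝟙 X)).ofNatIsoLeft e).rightAdjointUniq Adjunction.id⟩

/-- The Fourier–Mukai functor with kernel the diagonal is the identity. -/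
theorem nonempty_phi_diag {S : Scheme.{u}} (a : X ⟶ S) [IsSeparated a]
    (K : CochainComplex (Limits.pullback a a).Modules ℤ) (hK : Nonempty (DCoh.toD _ K ≅ FMK.diagO a))
    [DCoh.HasLpull (Limits.pullback.fst a a)] [DCoh.HasLTensorCx K] [DCoh.HasRpush (Limits.pullback.snd a a)] :
    Nonempty (FMK.phi a a K ≅ 𝟭 (DCoh.D X)) := by
  let δ := pullback.diagonal a
  haveI := hasLpull δ
  haveI := hasLpull (δ ≫ pullback.fst a a)
  haveI := H16Derived.QCohD.hasRpush δ
  haveI := H16Derived.QCohD.hasRpush (δ ≫ pullback.snd a a)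
  obtain ⟨e⟩ := nonempty_ltensor_iso δ K hK
  obtain ⟨e₁⟩ := nonempty_lpullCompIso δ (pullback.fst a a)
  obtain ⟨e₂⟩ := nonempty_rpushCompIso δ (pullback.snd a a)
  obtain ⟨i₁⟩ := nonempty_lpull_of_eq (δ ≫ pullback.fst a a) (pullback.diagonal_fst a)
  obtain ⟨i₂⟩ := nonempty_rpush_of_eq (δ ≫ pullback.snd a a) (pullback.diagonal_snd a)
  exact ⟨Functor.isoWhiskerLeft _ (Functor.isoWhiskerRight e _) ≪≫
    Functor.isoWhiskerLeft _ (Functor.associator _ _ _) ≪≫
    Functor.isoWhiskerLeft _ (Functor.isoWhiskerLeft _ e₂) ≪≫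
    (Functor.associator _ _ _).symm ≪≫ Functor.isoWhiskerRight e₁ _ ≪≫
    Functor.isoWhiskerRight i₁ _ ≪≫ Functor.leftUnitor _ ≪≫ i₂⟩

end Groth.Agent.H02CA.DiagKernel
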