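import Mathlib.RingTheory.PiTensorProduct
import Mathlib.RingTheory.Filtration
import Mathlib.RingTheory.Kaehler.Basic
import Mathlib.RingTheory.Derivation.Basic
import Mathlib.Algebra.TrivSqZeroExt.Basic
import Mathlib.RingTheory.Smooth.Basic
import Mathlib.Tactic

/-!
Invariants in the intersection of the three diagonal ideals of a triple tensor power lie in their product.
-/

set_option autoImplicit false

universe u v w

namespace Groth.Agent.H02CA.DiagThree

section Generalities

variable {k : Type u} {R : Type w} [CommRing k] [CommRing R] [Algebra k R]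

theorem derivation_pow (δ : Derivation k R R) (I : Ideal R) :
    ∀ (n : ℕ) {z : R}, z ∈ I ^ (n + 1) → δ z ∈ I ^ n := by
  intro n
  induction n with
  | zero => intro z _; rw [pow_zero, Ideal.one_eq_top]; trivial
  | succ n ih =>
    intro z hz
    rw [pow_succ] at hz
    induction hz using Submodule.mul_induction_on' with
    | mem_mul_mem a ha b hb =>
      rw [Derivation.leibniz, smul_eq_mul, smul_eq_mul]
      refine add_mem (Ideal.mul_mem_right _ _ ha) ?_
      rw [pow_succ, mul_comm (I ^ n) I]
      exact Ideal.mul_mem_mul hb (ih ha)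
    | add a _ b _ ha hb => rw [map_add]; exact add_mem ha hb

theorem derivation_span (δ : Derivation k R R) {ι : Type*} (g : ι → R) (hg : ∀ a, δ (g a) = 0) {z : R}
    (hz : z ∈ Ideal.span (Set.range g)) : δ z ∈ Ideal.span (Set.range g) := by
  induction hz using Submodule.span_induction with
  | mem z hz => obtain ⟨a, rfl⟩ := hz; rw [hg]; exact zero_mem _
  | zero => rw [map_zero]; exact zero_mem _
  | add a b _ _ ha hb => rw [map_add]; exact add_mem ha hb
  | smul c a hca ha =>
    rw [smul_eq_mul, Derivation.leibniz, smul_eq_mul, smul_eq_mul]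
    exact add_mem (Ideal.mul_mem_left _ _ ha) (Ideal.mul_mem_right _ _ hca)

theorem derivation_pow_of_preserves (δ : Derivation k R R) (I : Ideal R) (h : ∀ z ∈ I, δ z ∈ I) :
    ∀ (n : ℕ) {z : R}, z ∈ I ^ n → δ z ∈ I ^ n := by
  intro n
  induction n with
  | zero => intro z _; rw [pow_zero, Ideal.one_eq_top]; trivial
  | succ n ih =>
    intro z hz
    rw [pow_succ] at hz ⊢
    induction hz using Submodule.mul_induction_on' with
    | mem_mul_mem a ha b hb =>
      rw [Derivation.leibniz, smul_eq_mul, smul_eq_mul]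
      refine add_mem (Ideal.mul_mem_mul ha (h b hb)) ?_
      rw [mul_comm b]
      exact Ideal.mul_mem_mul (ih ha) hb
    | add a _ b _ ha hb => rw [map_add]; exact add_mem ha hb

/-- Intersection with a diagonal ideal that is killed by a retraction. -/
theorem mem_mul_of_retraction (φ : R →+* R) {ι ι' : Type*} (g : ι → R) (h : ι' → R) (hg : ∀ a, φ (g a) = g a)
    (hh : ∀ a, φ (h a) = 0) (hφ : ∀ r, φ r - r ∈ Ideal.span (Set.range h)) {y : R}
    (hy : y ∈ Ideal.span (Set.range g)) (hy' : y ∈ Ideal.span (Set.range h)) :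
    y ∈ Ideal.span (Set.range g) * Ideal.span (Set.range h) := by
  have h0 : φ y = 0 := by
    clear hy
    induction hy' using Submodule.span_induction with
    | mem z hz => obtain ⟨a, rfl⟩ := hz; exact hh a
    | zero => exact map_zero _
    | add a b _ _ ha hb => rw [map_add, ha, hb, add_zero]
    | smul c a _ ha => rw [smul_eq_mul, map_mul, ha, mul_zero]
  have h1 : y - φ y ∈ Ideal.span (Set.range g) * Ideal.span (Set.range h) := by
    clear hy' h0
    induction hy using Submodule.span_induction with
    | mem z hz => obtain ⟨a, rfl⟩ := hz; rw [hg, sub_self]; exact zero_mem _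
    | zero => simp
    | add a b _ _ ha hb => rw [map_add, add_sub_add_comm]; exact add_mem ha hb
    | smul c a hca ha =>
      rw [smul_eq_mul, map_mul, show c * a - φ c * φ a = a * -(φ c - c) + φ c * (a - φ a) by ring]
      exact add_mem (Ideal.mul_mem_mul hca (neg_mem (hφ c))) (Ideal.mul_mem_left _ _ ha)
  rwa [h0, sub_zero] at h1

end Generalities

variable (k : Type u) (A : Type v) (R : Type w) [Field k] [CharZero k] [CommRing A] [Algebra k A] [CommRing R]
  [Algebra k R]

/-- Three points with coordinates and partial derivatives. -/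
structure Cfg (d : ℕ) where
  /-- the three factors -/
  e : Fin 3 → A →ₐ[k] R
  /-- coordinates -/
  x : Fin d → A
  /-- dual derivations -/
  D : Fin d → A → A
  /-- partial derivatives -/
  pd : Fin 3 → Fin d → Derivation k R R
  pd_e : ∀ l i m a, pd l i (e m a) = if m = l then e l (D i a) else 0
  retr : ∀ σ : Fin 3 → Fin 3, ∃ φ : R →ₐ[k] R, ∀ m a, φ (e m a) = e (σ m) a
  close : ∀ (φ : R →ₐ[k] R) (J : Ideal R), (∀ m a, φ (e m a) - e m a ∈ J) → ∀ r, φ r - r ∈ J
  key : ∀ (l m : Fin 3) (a : A), (e l a - e m a) - ∑ i, e m (D i a) * (e l (x i) - e m (x i)) ∈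
    Ideal.span (Set.range fun b : A => e l b - e m b) ^ 2

namespace Cfg

variable {k A R} {d : ℕ} (C : Cfg k A R d)

/-- a difference -/
def u (a : A) : R := C.e 0 a - C.e 1 a
/-- a difference -/
def v (a : A) : R := C.e 1 a - C.e 2 a
/-- a difference -/
def w (a : A) : R := C.e 0 a - C.e 2 a
/-- the first diagonal ideal -/
def I : Ideal R := Ideal.span (Set.range C.u)
/-- the second diagonal ideal -/
def K : Ideal R := Ideal.span (Set.range C.v)
/-- the third diagonal ideal -/
def L : Ideal R := Ideal.span (Set.range C.w)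
/-- the product -/
def P : Ideal R := C.I * C.L * C.K

theorem w_eq (a : A) : C.w a = C.u a + C.v a := by simp only [w, u, v]; ring
theorem u_mem (a : A) : C.u a ∈ C.I := Ideal.subset_span ⟨a, rfl⟩
theorem v_mem (a : A) : C.v a ∈ C.K := Ideal.subset_span ⟨a, rfl⟩
theorem w_mem (a : A) : C.w a ∈ C.L := Ideal.subset_span ⟨a, rfl⟩

theorem mem_P {a b c : R} (ha : a ∈ C.I) (hb : b ∈ C.L) (hc : c ∈ C.K) : a * b * c ∈ C.P :=
  Ideal.mul_mem_mul (Ideal.mul_mem_mul ha hb) hc

theorem P_le_L : C.P ≤ C.L := (Ideal.mul_le_left : C.I * C.L * C.K ≤ C.I * C.L).trans Ideal.mul_le_right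

theorem sym {y : R} (hy : y ∈ C.I) (b c : A) : y * (C.u b * C.v c - C.u c * C.v b) ∈ C.P := by
  rw [show y * (C.u b * C.v c - C.u c * C.v b) = y * C.w b * C.v c - y * C.w c * C.v b by
    rw [C.w_eq, C.w_eq]; ring]
  exact sub_mem (C.mem_P hy (C.w_mem b) (C.v_mem c)) (C.mem_P hy (C.w_mem c) (C.v_mem b))

theorem inter_IK {y : R} (h1 : y ∈ C.I) (h2 : y ∈ C.K) : y ∈ C.I * C.K := by
  obtain ⟨φ, hφ⟩ := C.retr ![0, 1, 1]
  refine mem_mul_of_retraction φ.toRingHom C.u C.v (fun a => ?_) (fun a => ?_) (C.close φ _ fun m a => ?_) h1 h2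
  · show φ (C.u a) = _
    simp [u, hφ]
  · show φ (C.v a) = _
    simp [v, hφ]
  · rw [hφ]
    fin_cases m
    · simp
    · simp
    · exact C.v_mem a

theorem inter_IL {y : R} (h1 : y ∈ C.I) (h2 : y ∈ C.L) : y ∈ C.I * C.L := by
  obtain ⟨φ, hφ⟩ := C.retr ![0, 1, 0]
  refine mem_mul_of_retraction φ.toRingHom C.u C.w (fun a => ?_) (fun a => ?_) (C.close φ _ fun m a => ?_) h1 h2
  · show φ (C.u a) = _
    simp [u, hφ]
  · show φ (C.w a) = _
    simp [w, hφ]
  · rw [hφ]
    fin_cases m
    · simp
    · simp
    · exact C.w_mem a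

theorem IKK_le (n : ℕ) : C.I ^ (n + 1) * (C.K * C.K) ≤ C.P ⊔ C.I ^ (n + 2) * C.K := by
  rw [← mul_assoc, pow_succ', mul_assoc C.I]
  refine Ideal.mul_le.2 fun r hr s hs => ?_
  induction hr using Submodule.mul_induction_on' with
  | mem_mul_mem a ha b hb =>
    induction hb using Submodule.mul_induction_on' with
    | mem_mul_mem b hb c hc =>
      induction hc using Submodule.span_induction with
      | mem c hc =>
        obtain ⟨t, rfl⟩ := hc
        rw [show a * (b * C.v t) * s = b * (a * C.w t * s) + -(a * b * C.u t * s) by rw [C.w_eq]; ring]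
        refine Submodule.add_mem_sup (Ideal.mul_mem_left _ _ (C.mem_P ha (C.w_mem t) hs)) (neg_mem ?_)
        rw [pow_succ, pow_succ']
        exact Ideal.mul_mem_mul (Ideal.mul_mem_mul (Ideal.mul_mem_mul ha hb) (C.u_mem t)) hs
      | zero => simp
      | add c c' _ _ hc hc' => rw [mul_add, mul_add, add_mul]; exact add_mem hc hc'
      | smul r c _ hc =>
        rw [smul_eq_mul, show a * (b * (r * c)) * s = r * (a * (b * c) * s) by ring]
        exact Ideal.mul_mem_left _ _ hc
    | add b _ c _ hb hc => rw [mul_add, add_mul]; exact add_mem hb hc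
  | add a _ b _ ha hb => rw [add_mul]; exact add_mem ha hb

/-- the polarization -/
noncomputable def theta : Derivation k R R := ∑ i, C.v (C.x i) • C.pd 0 i
/-- the Euler derivation -/
noncomputable def euler : Derivation k R R := ∑ i, C.u (C.x i) • C.pd 1 i

theorem theta_apply (r : R) : C.theta r = ∑ i, C.v (C.x i) * C.pd 0 i r := by
  rw [theta, ← Derivation.coeFnAddMonoidHom_apply, map_sum, Finset.sum_apply]
  rfl

theorem euler_apply (r : R) : C.euler r = ∑ i, C.u (C.x i) * C.pd 1 i r := by
  rw [euler, ← Derivation.coeFnAddMonoidHom_apply, map_sum, Finset.sum_apply]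
  rfl

theorem theta_mem (r : R) : C.theta r ∈ C.K := by
  rw [theta_apply]
  exact Ideal.sum_mem _ fun i _ => Ideal.mul_mem_right _ _ (C.v_mem _)

theorem key_u (a : A) : C.u a - ∑ i, C.e 1 (C.D i a) * C.u (C.x i) ∈ C.I ^ 2 := C.key 0 1 a

theorem key_v (a : A) : C.v a - ∑ i, C.e 2 (C.D i a) * C.v (C.x i) ∈ C.K ^ 2 := C.key 1 2 a

theorem theta_u (b : A) : C.theta (C.u b) - C.v b ∈ C.K * (C.I ⊔ C.K) := by
  have h : C.theta (C.u b) - C.v b =
      ∑ i, C.v (C.x i) * (C.e 0 (C.D i b) - C.e 2 (C.D i b)) - (C.v b - ∑ i, C.e 2 (C.D i b) * C.v (C.x i)) := by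
    rw [theta_apply]
    simp only [u, map_sub, C.pd_e, if_pos, show (1 : Fin 3) ≠ 0 from by decide, if_false, sub_zero, mul_sub,
      Finset.sum_sub_distrib, mul_comm (C.e 2 _)]
    ring
  rw [h]
  refine sub_mem (Ideal.sum_mem _ fun i _ => Ideal.mul_mem_mul (C.v_mem _) ?_) ?_
  · rw [show C.e 0 (C.D i b) - C.e 2 (C.D i b) = C.u (C.D i b) + C.v (C.D i b) by simp only [u, v]; ring]
    exact Submodule.add_mem_sup (C.u_mem _) (C.v_mem _)
  · have := C.key_v b
    rw [pow_two] at this
    exact Ideal.mul_mono_right le_sup_right this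

theorem euler_pow : ∀ (n : ℕ) {y : R}, y ∈ C.I ^ n → C.euler y + (n : R) * y ∈ C.I ^ (n + 1) := by
  intro n
  induction n with
  | zero =>
    intro y _
    rw [Nat.cast_zero, zero_mul, add_zero, zero_add, pow_one, euler_apply]
    exact Ideal.sum_mem _ fun i _ => Ideal.mul_mem_right _ _ (C.u_mem _)
  | succ n ih =>
    have h1 : ∀ s ∈ C.I, C.euler s + s ∈ C.I ^ 2 := fun s hs => by
      induction hs using Submodule.span_induction with
      | mem s hs =>
        obtain ⟨a, rfl⟩ := hs
        have h : C.euler (C.u a) + C.u a = C.u a - ∑ i, C.e 1 (C.D i a) * C.u (C.x i) := by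
          rw [euler_apply]
          simp only [u, map_sub, C.pd_e, if_pos, show (0 : Fin 3) ≠ 1 from by decide, if_false, zero_sub,
            mul_neg, Finset.sum_neg_distrib, mul_comm (C.e 1 _)]
          ring
        rw [h]
        exact C.key_u a
      | zero => simp
      | add a b _ _ ha hb => rw [map_add, add_add_add_comm]; exact add_mem ha hb
      | smul c a hca ha =>
        rw [smul_eq_mul, Derivation.leibniz, smul_eq_mul, smul_eq_mul,
          show c * C.euler a + a * C.euler c + c * a = c * (C.euler a + a) + C.euler c * a by ring]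
        refine add_mem (Ideal.mul_mem_left _ _ ha) ?_
        rw [pow_two]
        refine Ideal.mul_mem_mul ?_ hca
        rw [euler_apply]
        exact Ideal.sum_mem _ fun i _ => Ideal.mul_mem_right _ _ (C.u_mem _)
    intro y hy
    rw [pow_succ] at hy
    induction hy using Submodule.mul_induction_on' with
    | mem_mul_mem a ha b hb =>
      rw [Derivation.leibniz, smul_eq_mul, smul_eq_mul, Nat.cast_succ,
        show a * C.euler b + b * C.euler a + ((n : R) + 1) * (a * b) =
          a * (C.euler b + b) + (C.euler a + (n : R) * a) * b by ring]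
      refine add_mem ?_ ?_
      · rw [show n + 1 + 1 = n + 2 from rfl, pow_add]
        exact Ideal.mul_mem_mul ha (h1 b hb)
      · rw [pow_succ C.I (n + 1)]
        exact Ideal.mul_mem_mul (ih ha) hb
    | add a _ b _ ha hb => rw [map_add, mul_add, add_add_add_comm]; exact add_mem ha hb

/-- Elements of a power in the third ideal. -/
theorem mem_M_mul_pow : ∀ (n : ℕ) {q : R}, q ∈ C.L → q ∈ C.I ^ n → q ∈ (C.I ⊔ C.L) * C.I ^ n := by
  intro n
  induction n with
  | zero =>
    intro q hq _
    rw [pow_zero, mul_one]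
    exact Submodule.mem_sup_right hq
  | succ n ih =>
    intro q hq hq'
    have hL : ∀ i, C.pd 1 i q ∈ C.L := fun i => derivation_span _ C.w (fun a => by
      simp only [w, map_sub, C.pd_e, show (0 : Fin 3) ≠ 1 from by decide, show (2 : Fin 3) ≠ 1 from by decide,
        if_false, sub_self]) hq
    have h1 : C.euler q ∈ (C.I ⊔ C.L) * C.I ^ (n + 1) := by
      rw [euler_apply]
      refine Ideal.sum_mem _ fun i _ => ?_
      have h := Ideal.mul_mem_mul (C.u_mem (C.x i)) (ih (hL i) (derivation_pow _ _ n hq'))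
      rwa [← mul_assoc, mul_comm C.I, mul_assoc, ← pow_succ'] at h
    have h2 : C.euler q + ((n + 1 : ℕ) : R) * q ∈ (C.I ⊔ C.L) * C.I ^ (n + 1) := by
      have h := C.euler_pow (n + 1) hq'
      rw [pow_succ' C.I (n + 1)] at h
      exact Ideal.mul_mono_left le_sup_left h
    have h3 : ((n + 1 : ℕ) : R) * q ∈ (C.I ⊔ C.L) * C.I ^ (n + 1) := by
      simpa using sub_mem h2 h1
    have h4 := Ideal.mul_mem_left _ (algebraMap k R ((n + 1 : ℕ) : k)⁻¹) h3
    rwa [← mul_assoc, ← map_natCast (algebraMap k R), ← map_mul, inv_mul_cancel₀ (by exact_mod_cast Nat.succ_ne_zero n),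
      map_one, one_mul] at h4

theorem theta_C : ∀ (n : ℕ) {y : R}, y ∈ C.I ^ n → ∀ (b : A) {s : R}, s ∈ C.I →
    (C.theta y * C.u b - (n : R) * y * C.v b) * s ∈ C.P ⊔ C.I ^ (n + 2) * C.K := by
  intro n
  induction n with
  | zero =>
    intro y _ b s hs
    refine Submodule.mem_sup_right ?_
    rw [Nat.cast_zero, zero_mul, zero_mul, sub_zero, show C.theta y * C.u b * s = C.u b * s * C.theta y by ring,
      zero_add, pow_two]
    exact Ideal.mul_mem_mul (Ideal.mul_mem_mul (C.u_mem b) hs) (C.theta_mem y)
  | succ n ih =>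
    intro y hy b s hs
    rw [pow_succ] at hy
    induction hy using Submodule.mul_induction_on' with
    | mem_mul_mem y hy t ht =>
      induction ht using Submodule.span_induction with
      | mem t ht =>
        obtain ⟨a, rfl⟩ := ht
        rw [Derivation.leibniz, smul_eq_mul, smul_eq_mul, Nat.cast_succ,
          show ((y * C.theta (C.u a) + C.u a * C.theta y) * C.u b - ((n : R) + 1) * (y * C.u a) * C.v b) * s =
            (C.theta y * C.u a - (n : R) * y * C.v a) * (C.u b * s) + y * C.u b * s * (C.theta (C.u a) - C.v a)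
              + ((n : R) + 1) * y * (s * (C.u b * C.v a - C.u a * C.v b)) by ring]
        refine add_mem (add_mem ?_ ?_) (Submodule.mem_sup_left (Ideal.mul_mem_left _ _ (C.sym hs b a)))
        · have h := ih hy a hs
          rw [show (C.theta y * C.u a - (n : R) * y * C.v a) * (C.u b * s) =
            ((C.theta y * C.u a - (n : R) * y * C.v a) * s) * C.u b by ring]
          obtain ⟨p, hp, z, hz, hpz⟩ := Submodule.mem_sup.1 h
          rw [← hpz, add_mul]
          refine Submodule.add_mem_sup (Ideal.mul_mem_right _ _ hp) ?_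
          have h' := Ideal.mul_mem_mul (C.u_mem b) hz
          rw [← mul_assoc C.I, ← pow_succ', mul_comm (C.u b)] at h'
          exact h'
        · have hyb : y * C.u b * s ∈ C.I ^ (n + 2) := by
            rw [show n + 2 = n + 1 + 1 from rfl, pow_succ, pow_succ]
            exact Ideal.mul_mem_mul (Ideal.mul_mem_mul hy (C.u_mem b)) hs
          have h := Ideal.mul_mem_mul hyb (C.theta_u a)
          rw [mul_comm C.K, ← mul_assoc, Ideal.mul_sup, ← pow_succ, Ideal.sup_mul, mul_assoc (C.I ^ (n + 2)) C.K] at h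
          exact sup_le (le_sup_right (a := C.P)) (C.IKK_le (n + 1)) h
      | zero => simp
      | add t t' _ _ ht ht' =>
        rw [mul_add, map_add, show ((C.theta (y * t) + C.theta (y * t')) * C.u b -
            ((n + 1 : ℕ) : R) * (y * t + y * t') * C.v b) * s =
          (C.theta (y * t) * C.u b - ((n + 1 : ℕ) : R) * (y * t) * C.v b) * s +
            (C.theta (y * t') * C.u b - ((n + 1 : ℕ) : R) * (y * t') * C.v b) * s by ring]
        exact add_mem ht ht'
      | smul r t htI ht =>
        rw [smul_eq_mul, show y * (r * t) = r * (y * t) by ring, Derivation.leibniz, smul_eq_mul, smul_eq_mul,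
          show ((r * C.theta (y * t) + y * t * C.theta r) * C.u b - ((n + 1 : ℕ) : R) * (r * (y * t)) * C.v b) * s =
            r * ((C.theta (y * t) * C.u b - ((n + 1 : ℕ) : R) * (y * t) * C.v b) * s) +
              y * t * C.u b * s * C.theta r by ring]
        refine add_mem (Ideal.mul_mem_left _ _ ht) (Submodule.mem_sup_right ?_)
        rw [show n + 1 + 2 = n + 1 + 1 + 1 from rfl, pow_succ, pow_succ, pow_succ]
        exact Ideal.mul_mem_mul (Ideal.mul_mem_mul (Ideal.mul_mem_mul (Ideal.mul_mem_mul hy htI) (C.u_mem b)) hs)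
          (C.theta_mem r)
    | add y _ y' _ hy hy' =>
      rw [map_add, show ((C.theta y + C.theta y') * C.u b - ((n + 1 : ℕ) : R) * (y + y') * C.v b) * s =
        (C.theta y * C.u b - ((n + 1 : ℕ) : R) * y * C.v b) * s +
          (C.theta y' * C.u b - ((n + 1 : ℕ) : R) * y' * C.v b) * s by ring]
      exact add_mem hy hy'

/-- The degree-raising step. -/
theorem step (n : ℕ) {z : R} (hz : z ∈ C.I ^ (n + 2) * C.K) (hzL : z ∈ C.L) :
    z ∈ C.P ⊔ C.I ^ (n + 3) * C.K := by
  have hlift : ∀ z' ∈ C.I ^ (n + 2) * C.K, ∃ q ∈ C.I ^ (n + 3), q + z' ∈ C.L ∧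
      C.theta q - ((n + 3 : ℕ) : R) * z' ∈ C.P ⊔ C.I ^ (n + 3) * C.K := by
    intro z' hz'
    induction hz' using Submodule.mul_induction_on' with
    | mem_mul_mem y hy t ht =>
      revert y
      induction ht using Submodule.span_induction with
      | mem t ht =>
        obtain ⟨b, rfl⟩ := ht
        intro y hy
        refine ⟨y * C.u b, ?_, ?_, ?_⟩
        · rw [pow_succ]; exact Ideal.mul_mem_mul hy (C.u_mem b)
        · rw [← mul_add, ← C.w_eq]; exact Ideal.mul_mem_left _ _ (C.w_mem b)
        · rw [pow_succ] at hy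
          induction hy using Submodule.mul_induction_on' with
          | mem_mul_mem y hy s hs =>
            induction hs using Submodule.span_induction with
            | mem s hs =>
              obtain ⟨a, rfl⟩ := hs
              rw [Derivation.leibniz, Derivation.leibniz, smul_eq_mul, smul_eq_mul, smul_eq_mul, smul_eq_mul,
                show y * C.u a * C.theta (C.u b) + C.u b * (y * C.theta (C.u a) + C.u a * C.theta y) -
                    ((n + 3 : ℕ) : R) * (y * C.u a * C.v b) =
                  (C.theta y * C.u b - ((n + 1 : ℕ) : R) * y * C.v b) * C.u a +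
                    (y * C.u a * (C.theta (C.u b) - C.v b) + y * C.u b * (C.theta (C.u a) - C.v a)) +
                    y * (C.u b * C.v a - C.u a * C.v b) by push_cast; ring]
              have hy1 : y ∈ C.I := Ideal.pow_le_self (Nat.succ_ne_zero n) hy
              refine add_mem (add_mem (C.theta_C (n + 1) hy b (C.u_mem a)) ?_) (Submodule.mem_sup_left (C.sym hy1 b a))
              have herr : ∀ c c' : A, y * C.u c * (C.theta (C.u c') - C.v c') ∈ C.P ⊔ C.I ^ (n + 3) * C.K := by
                intro c c'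
                have hyc : y * C.u c ∈ C.I ^ (n + 2) := by
                  rw [pow_succ]; exact Ideal.mul_mem_mul hy (C.u_mem c)
                have h := Ideal.mul_mem_mul hyc (C.theta_u c')
                rw [mul_comm C.K, ← mul_assoc, Ideal.mul_sup, ← pow_succ, Ideal.sup_mul, mul_assoc (C.I ^ (n + 2)) C.K] at h
                exact sup_le le_sup_right (C.IKK_le (n + 1)) h
              exact add_mem (herr a b) (herr b a)
            | zero => simp
            | add s s' _ _ hs hs' =>
              rw [mul_add, add_mul, map_add, show C.theta (y * s * C.u b) + C.theta (y * s' * C.u b) -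
                  ((n + 3 : ℕ) : R) * ((y * s + y * s') * C.v b) =
                (C.theta (y * s * C.u b) - ((n + 3 : ℕ) : R) * (y * s * C.v b)) +
                  (C.theta (y * s' * C.u b) - ((n + 3 : ℕ) : R) * (y * s' * C.v b)) by ring]
              exact add_mem hs hs'
            | smul r s hsI hs =>
              rw [smul_eq_mul, show y * (r * s) * C.u b = r * (y * s * C.u b) by ring, Derivation.leibniz,
                smul_eq_mul, smul_eq_mul,
                show r * C.theta (y * s * C.u b) + y * s * C.u b * C.theta r -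
                    ((n + 3 : ℕ) : R) * (y * (r * s) * C.v b) =
                  r * (C.theta (y * s * C.u b) - ((n + 3 : ℕ) : R) * (y * s * C.v b)) +
                    y * s * C.u b * C.theta r by ring]
              refine add_mem (Ideal.mul_mem_left _ _ hs) (Submodule.mem_sup_right ?_)
              rw [pow_succ, pow_succ]
              exact Ideal.mul_mem_mul (Ideal.mul_mem_mul (Ideal.mul_mem_mul hy hsI) (C.u_mem b)) (C.theta_mem r)
          | add y _ y' _ hy hy' =>
            rw [add_mul, map_add, add_mul, mul_add, add_sub_add_comm]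
            exact add_mem hy hy'
      | zero => intro y _; exact ⟨0, zero_mem _, by simp, by simp⟩
      | add t t' _ _ ht ht' =>
        intro y hy
        obtain ⟨q, h1, h2, h3⟩ := ht y hy
        obtain ⟨q', h1', h2', h3'⟩ := ht' y hy
        refine ⟨q + q', add_mem h1 h1', ?_, ?_⟩
        · rw [mul_add, add_add_add_comm]; exact add_mem h2 h2'
        · rw [map_add, mul_add, mul_add, add_sub_add_comm]; exact add_mem h3 h3'
      | smul r t _ ht =>
        intro y hy
        obtain ⟨q, h1, h2, h3⟩ := ht (r * y) (Ideal.mul_mem_left _ _ hy)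
        have e : y * (r • t) = r * y * t := by rw [smul_eq_mul]; ring
        exact ⟨q, h1, by rw [e]; exact h2, by rw [e]; exact h3⟩
    | add a _ b _ ha hb =>
      obtain ⟨q, h1, h2, h3⟩ := ha
      obtain ⟨q', h1', h2', h3'⟩ := hb
      refine ⟨q + q', add_mem h1 h1', ?_, ?_⟩
      · rw [add_add_add_comm]; exact add_mem h2 h2'
      · rw [map_add, mul_add, add_sub_add_comm]; exact add_mem h3 h3'
  obtain ⟨q, hqI, hqL, hq⟩ := hlift z hz
  have hqL' : q ∈ C.L := by simpa using sub_mem hqL hzL
  have hth : C.theta q ∈ C.P ⊔ C.I ^ (n + 3) * C.K := by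
    have h := C.mem_M_mul_pow (n + 3) hqL' hqI
    clear hq hqL hqL' hqI
    induction h using Submodule.mul_induction_on' with
    | mem_mul_mem a ha y hy =>
      rw [Derivation.leibniz, smul_eq_mul, smul_eq_mul]
      refine add_mem ?_ (Submodule.mem_sup_right (Ideal.mul_mem_mul hy (C.theta_mem a)))
      have hty : C.theta y ∈ C.I ^ (n + 2) * C.K := by
        rw [mul_comm, theta_apply]
        exact Ideal.sum_mem _ fun i _ => Ideal.mul_mem_mul (C.v_mem _) (derivation_pow _ _ (n + 2) hy)
      obtain ⟨a₁, ha₁, a₂, ha₂, rfl⟩ := Submodule.mem_sup.1 ha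
      rw [add_mul]
      refine Submodule.mem_sup.2 ⟨a₂ * C.theta y, ?_, a₁ * C.theta y, ?_, add_comm _ _⟩
      · have h' : a₂ * C.theta y ∈ C.L * (C.I ^ (n + 2) * C.K) := Ideal.mul_mem_mul ha₂ hty
        rw [pow_succ', ← mul_assoc, ← mul_assoc, mul_comm C.L] at h'
        exact Ideal.mul_mono_left Ideal.mul_le_left h'
      · have h' := Ideal.mul_mem_mul ha₁ hty
        rwa [← mul_assoc, ← pow_succ'] at h'
    | add a _ b _ ha hb => rw [map_add]; exact add_mem ha hb
  have h3 : ((n + 3 : ℕ) : R) * z ∈ C.P ⊔ C.I ^ (n + 3) * C.K := by simpa using sub_mem hth hq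
  have h4 := Ideal.mul_mem_left _ (algebraMap k R ((n + 3 : ℕ) : k)⁻¹) h3
  rwa [← mul_assoc, ← map_natCast (algebraMap k R), ← map_mul, inv_mul_cancel₀ (by exact_mod_cast Nat.succ_ne_zero (n + 2)),
    map_one, one_mul] at h4

/-- The square of the first ideal. -/
theorem first_step {y : R} (hy : y ∈ C.I * C.K) (hy' : y ∈ C.I ^ 2) : y ∈ C.P ⊔ C.I ^ 2 * C.K := by
  let ψ : R → R := fun r => ∑ i, C.v (C.x i) * C.pd 2 i r
  have hpres : ∀ i, ∀ z ∈ C.I, C.pd 2 i z ∈ C.I := fun i z hz => derivation_span _ C.u (fun a => by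
    simp only [u, map_sub, C.pd_e, show (0 : Fin 3) ≠ 2 from by decide, show (1 : Fin 3) ≠ 2 from by decide,
      if_false, sub_self]) hz
  have h1 : ψ y ∈ C.I ^ 2 * C.K := by
    rw [mul_comm]
    exact Ideal.sum_mem _ fun i _ => Ideal.mul_mem_mul (C.v_mem _) (derivation_pow_of_preserves _ _ (hpres i) 2 hy')
  have hK2 : C.I * (C.K * C.K) ≤ C.P ⊔ C.I ^ 2 * C.K := by simpa using C.IKK_le 0
  have h2 : ψ y + y ∈ C.P ⊔ C.I ^ 2 * C.K := by
    clear h1 hy'
    induction hy using Submodule.mul_induction_on' with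
    | mem_mul_mem a ha b hb =>
      have hψ : ∀ r, ψ r ∈ C.K := fun r => Ideal.sum_mem _ fun i _ => Ideal.mul_mem_right _ _ (C.v_mem _)
      have hψI : ψ a ∈ C.I * C.K := by
        rw [mul_comm]
        exact Ideal.sum_mem _ fun i _ => Ideal.mul_mem_mul (C.v_mem _) (hpres i a ha)
      have hb2 : ψ b + b ∈ C.K * C.K := by
        induction hb using Submodule.span_induction with
        | mem b hb =>
          obtain ⟨c, rfl⟩ := hb
          have h : ψ (C.v c) + C.v c = C.v c - ∑ i, C.e 2 (C.D i c) * C.v (C.x i) := by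
            simp only [ψ, v, map_sub, C.pd_e, if_pos, show (1 : Fin 3) ≠ 2 from by decide, if_false, zero_sub,
              mul_neg, Finset.sum_neg_distrib, mul_comm (C.e 2 _)]
            ring
          rw [h, ← pow_two]
          exact C.key_v c
        | zero => simp [ψ]
        | add b b' _ _ h h' =>
          simp only [ψ, map_add, mul_add, Finset.sum_add_distrib] at h h' ⊢
          rw [add_add_add_comm]
          exact add_mem h h'
        | smul r b hb h =>
          have e : ψ (r • b) + r • b = r * (ψ b + b) + ψ r * b := by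
            simp only [ψ, smul_eq_mul, Derivation.leibniz, mul_add, Finset.sum_add_distrib, Finset.mul_sum,
              Finset.sum_mul, ← mul_assoc]
            have e1 : ∀ i, C.v (C.x i) * r * C.pd 2 i b = r * C.v (C.x i) * C.pd 2 i b := fun i => by ring
            have e2 : ∀ i, C.v (C.x i) * b * C.pd 2 i r = C.v (C.x i) * C.pd 2 i r * b := fun i => by ring
            simp only [e1, e2]
            ring
          rw [e]
          exact add_mem (Ideal.mul_mem_left _ _ h) (Ideal.mul_mem_mul (hψ r) hb)
      have hsum : ψ (a * b) = a * ψ b + b * ψ a := by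
        simp only [ψ, Derivation.leibniz, smul_eq_mul, mul_add, Finset.sum_add_distrib, Finset.mul_sum]
        congr 1 <;> exact Finset.sum_congr rfl fun i _ => by ring
      rw [hsum, show a * ψ b + b * ψ a + a * b = a * (ψ b + b) + b * ψ a by ring]
      refine add_mem (hK2 (Ideal.mul_mem_mul ha hb2)) (hK2 ?_)
      rw [mul_comm b, ← mul_assoc]
      exact Ideal.mul_mem_mul hψI hb
    | add a _ b _ ha hb =>
      simp only [ψ, map_add, mul_add, Finset.sum_add_distrib] at ha hb ⊢
      rw [add_add_add_comm]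
      exact add_mem ha hb
  simpa using sub_mem h2 (Submodule.mem_sup_right h1 : ψ y ∈ C.P ⊔ C.I ^ 2 * C.K)

/-- The main statement. -/
theorem mem_P_of_mem [IsNoetherianRing R] {y : R} (hI : y ∈ C.I) (hI2 : y ∈ C.I ^ 2) (hK : y ∈ C.K)
    (hL : y ∈ C.L) : y ∈ C.P := by
  obtain ⟨p, hp, z, hz, rfl⟩ := Submodule.mem_sup.1 (C.first_step (C.inter_IK hI hK) hI2)
  refine add_mem hp ?_
  have hzL : z ∈ C.L := by simpa using sub_mem hL (C.P_le_L hp)
  have hIz : ∀ i ∈ C.I, i * z ∈ C.P := by
    have hq : ∀ z' ∈ C.I ^ 2 * C.K, ∃ q ∈ C.I, q + z' ∈ C.L ∧ ∀ f : A, C.u f * z' - q * C.v f ∈ C.P := by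
      intro z' hz'
      induction hz' using Submodule.mul_induction_on' with
      | mem_mul_mem y hy t ht =>
        revert y
        induction ht using Submodule.span_induction with
        | mem t ht =>
          obtain ⟨b, rfl⟩ := ht
          intro y hy
          refine ⟨y * C.u b, Ideal.mul_mem_left _ _ (C.u_mem b), ?_, fun f => ?_⟩
          · rw [← mul_add, ← C.w_eq]; exact Ideal.mul_mem_left _ _ (C.w_mem b)
          · rw [show C.u f * (y * C.v b) - y * C.u b * C.v f = y * (C.u f * C.v b - C.u b * C.v f) by ring]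
            exact C.sym (Ideal.pow_le_self two_ne_zero hy) f b
        | zero => intro y _; exact ⟨0, zero_mem _, by simp, by simp⟩
        | add t t' _ _ ht ht' =>
          intro y hy
          obtain ⟨q, h1, h2, h3⟩ := ht y hy
          obtain ⟨q', h1', h2', h3'⟩ := ht' y hy
          refine ⟨q + q', add_mem h1 h1', ?_, fun f => ?_⟩
          · rw [mul_add, add_add_add_comm]; exact add_mem h2 h2'
          · rw [mul_add, mul_add, add_mul, add_sub_add_comm]; exact add_mem (h3 f) (h3' f)
        | smul r t _ ht =>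
          intro y hy
          obtain ⟨q, h1, h2, h3⟩ := ht (r * y) (Ideal.mul_mem_left _ _ hy)
          have e : y * (r • t) = r * y * t := by rw [smul_eq_mul]; ring
          exact ⟨q, h1, by rw [e]; exact h2, fun f => by rw [e]; exact h3 f⟩
      | add a _ b _ ha hb =>
        obtain ⟨q, h1, h2, h3⟩ := ha
        obtain ⟨q', h1', h2', h3'⟩ := hb
        refine ⟨q + q', add_mem h1 h1', ?_, fun f => ?_⟩
        · rw [add_add_add_comm]; exact add_mem h2 h2'
        · rw [mul_add, add_mul, add_sub_add_comm]; exact add_mem (h3 f) (h3' f)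
    obtain ⟨q, hqI, hqL, hqf⟩ := hq z hz
    have hqL' : q ∈ C.L := by simpa using sub_mem hqL hzL
    have hqIL := C.inter_IL hqI hqL'
    intro i hi
    induction hi using Submodule.span_induction with
    | mem i hi =>
      obtain ⟨f, rfl⟩ := hi
      have h := add_mem (hqf f) (Ideal.mul_mem_mul hqIL (C.v_mem f) : q * C.v f ∈ C.P)
      simpa using h
    | zero => simp
    | add a b _ _ ha hb => rw [add_mul]; exact add_mem ha hb
    | smul c a _ ha => rw [smul_eq_mul, mul_assoc]; exact Ideal.mul_mem_left _ _ ha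
  have hall : ∀ n, z ∈ C.P ⊔ C.I ^ (n + 2) * C.K := by
    intro n
    induction n with
    | zero => exact Submodule.mem_sup_right hz
    | succ n ih =>
      obtain ⟨p', hp', z', hz', rfl⟩ := Submodule.mem_sup.1 ih
      exact add_mem (Submodule.mem_sup_left hp')
        (C.step n hz' (by simpa using sub_mem hzL (C.P_le_L hp')))
  let π := Ideal.Quotient.mk C.P
  have hinf : π z ∈ (⨅ i : ℕ, (C.I.map π) ^ i • ⊤ : Submodule (R ⧸ C.P) (R ⧸ C.P)) := by
    rw [Submodule.mem_iInf]
    intro i
    rw [smul_eq_mul, Ideal.mul_top, ← Ideal.map_pow]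
    obtain ⟨p', hp', z', hz', hpz⟩ := Submodule.mem_sup.1 (hall i)
    rw [← hpz, map_add, Ideal.Quotient.eq_zero_iff_mem.2 hp', zero_add]
    exact Ideal.mem_map_of_mem _ (Ideal.pow_le_pow_right (Nat.le_add_right i 2) (Ideal.mul_le_left hz'))
  obtain ⟨⟨r, hr⟩, hrz⟩ := ((C.I.map π).mem_iInf_smul_pow_eq_bot_iff _).1 hinf
  obtain ⟨i, hi, rfl⟩ := (Ideal.mem_map_iff_of_surjective π Ideal.Quotient.mk_surjective).1 hr
  rw [← Ideal.Quotient.eq_zero_iff_mem]
  rw [← hrz, smul_eq_mul, ← map_mul, Ideal.Quotient.eq_zero_iff_mem]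
  exact hIz i hi

end Cfg

end Groth.Agent.H02CA.DiagThree
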