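import Groth.Agent.H02CA.DiagThree
import Mathlib.RingTheory.FiniteType
import Mathlib.RingTheory.TensorProduct.Finite
import Mathlib.RingTheory.Extension.Cotangent.Basic

/-!
The triple tensor power of a smooth algebra as a configuration of three points.
-/

set_option autoImplicit false

universe u v w

open TensorProduct

namespace Groth.Agent.H02CA.DiagThree

variable (k : Type u) (A : Type v) [Field k] [CharZero k] [CommRing A] [Algebra k A]

/-- The triple tensor power. -/
abbrev T3 := ⨂[k] _ : Fin 3, A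

/-- The embedding of a factor. -/
noncomputable def ee (i : Fin 3) : A →ₐ[k] T3 k A :=
  PiTensorProduct.singleAlgHom (R := k) (A := fun _ : Fin 3 => A) i

variable {k A}

/-- The universal property of the triple tensor power. -/
theorem exists_lift {S : Type w} [CommRing S] [Algebra k S] (f : Fin 3 → A →ₐ[k] S) :
    ∃ φ : T3 k A →ₐ[k] S, ∀ i a, φ (ee k A i a) = f i a := by
  refine ⟨PiTensorProduct.liftAlgHom
    ((MultilinearMap.mkPiAlgebra k (Fin 3) S).compLinearMap fun i => (f i).toLinearMap) ?_ ?_, fun i a => ?_⟩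
  · simp
  · intro x y
    simp [Finset.prod_mul_distrib]
  · simp only [ee, PiTensorProduct.singleAlgHom_apply, PiTensorProduct.liftAlgHom_apply, PiTensorProduct.lift.tprod,
      MultilinearMap.compLinearMap_apply, MultilinearMap.mkPiAlgebra_apply, MonoidHom.mulSingle_apply,
      AlgHom.toLinearMap_apply]
    rw [Finset.prod_eq_single i (fun j _ hji => by simp [hji]) (fun h => absurd (Finset.mem_univ i) h),
      Pi.mulSingle_eq_same]

theorem algHom_ext' {S : Type w} [CommRing S] [Algebra k S] {f g : T3 k A →ₐ[k] S}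
    (h : ∀ i a, f (ee k A i a) = g (ee k A i a)) : f = g :=
  PiTensorProduct.algHom_ext fun i => AlgHom.ext fun a => h i a

/-- Extending a derivation of one factor. -/
theorem exists_pd (D₀ : Derivation k A A) (l : Fin 3) :
    ∃ δ : Derivation k (T3 k A) (T3 k A), ∀ m a, δ (ee k A m a) = if m = l then ee k A l (D₀ a) else 0 := by
  classical
  let T := T3 k A
  let f : Fin 3 → A →ₐ[k] TrivSqZeroExt T T := fun m =>
    { toFun := fun a => TrivSqZeroExt.inl (ee k A m a) + TrivSqZeroExt.inr (if m = l then ee k A l (D₀ a) else 0)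
      map_one' := by simp
      map_mul' := fun a b => by
        ext
        · simp
        · by_cases hm : m = l
          · subst hm
            simp [D₀.leibniz, smul_eq_mul, mul_comm]
          · simp [hm]
      map_zero' := by simp
      map_add' := fun a b => by
        ext
        · simp
        · by_cases hm : m = l <;> simp [hm]
      commutes' := fun r => by
        ext
        · simp [T, TrivSqZeroExt.algebraMap_eq_inl']
        · simp [TrivSqZeroExt.algebraMap_eq_inl'] }
  obtain ⟨φ, hφ⟩ := exists_lift f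
  have hfst : ∀ z, TrivSqZeroExt.fst (φ z) = z := fun z =>
    AlgHom.congr_fun (algHom_ext' (f := (TrivSqZeroExt.fstHom k T T).comp φ) (g := AlgHom.id k T)
      fun m a => by simp [hφ, f]; rfl) z
  refine ⟨Derivation.mk'
    { toFun := fun z => TrivSqZeroExt.snd (φ z)
      map_add' := fun a b => by simp
      map_smul' := fun c a => by simp } (fun a b => by
    show TrivSqZeroExt.snd (φ (a * b)) = a • TrivSqZeroExt.snd (φ b) + b • TrivSqZeroExt.snd (φ a)
    rw [map_mul, TrivSqZeroExt.snd_mul, hfst, hfst, op_smul_eq_smul]), fun m a => ?_⟩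
  show TrivSqZeroExt.snd (φ (ee k A m a)) = _
  simp [hφ, f]

theorem exists_cfg [Algebra.Smooth k A] :
    ∃ (d : ℕ) (C : Cfg k A (T3 k A) d), C.e = ee k A := by
  classical
  haveI : Module.Finite A Ω[A⁄k] := inferInstance
  haveI : Module.Projective A Ω[A⁄k] := inferInstance
  obtain ⟨d, ω, hω⟩ := Module.Finite.exists_fin (R := A) (M := Ω[A⁄k])
  have hfin : ∀ i, ∃ t : Finset A, ω i ∈ Submodule.span A ((KaehlerDifferential.D k A) '' (t : Set A)) := fun i => by
    obtain ⟨S', hS', hmem⟩ := Submodule.mem_span_finite_of_mem_span (R := A)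
      (show ω i ∈ Submodule.span A (Set.range (KaehlerDifferential.D k A)) by
        rw [KaehlerDifferential.span_range_derivation]; trivial)
    choose g hg using fun y : S' => hS' y.2
    refine ⟨Finset.univ.image g, Submodule.span_mono ?_ hmem⟩
    intro y hy
    exact ⟨g ⟨y, hy⟩, by simp, hg ⟨y, hy⟩⟩
  choose t ht using hfin
  let tt := Finset.univ.biUnion t
  let x : Fin tt.card → A := fun i => (tt.equivFin.symm i : A)
  let π : (Fin tt.card → A) →ₗ[A] Ω[A⁄k] := Fintype.linearCombination A fun i => KaehlerDifferential.D k A (x i)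
  have hπ : Function.Surjective π := by
    rw [← LinearMap.range_eq_top, eq_top_iff, ← hω, Submodule.span_le]
    rintro _ ⟨i, rfl⟩
    refine Submodule.span_le.2 ?_ (ht i)
    rintro _ ⟨a, ha, rfl⟩
    have hat : a ∈ tt := Finset.mem_biUnion.2 ⟨i, Finset.mem_univ _, ha⟩
    exact ⟨Pi.single (tt.equivFin ⟨a, hat⟩) 1, by simp [π, x, Fintype.linearCombination_apply_single]⟩
  obtain ⟨sec, hsec⟩ := Module.projective_lifting_property π LinearMap.id hπ
  let D₀ : Fin tt.card → Derivation k A A := fun i =>
    ((LinearMap.proj i).comp sec).compDer (KaehlerDifferential.D k A)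
  have hD : ∀ a, KaehlerDifferential.D k A a = ∑ i, D₀ i a • KaehlerDifferential.D k A (x i) := fun a =>
    (LinearMap.congr_fun hsec (KaehlerDifferential.D k A a)).symm
  choose pd hpd using fun (l : Fin 3) (i : Fin tt.card) => exists_pd (D₀ i) l
  refine ⟨tt.card,
    { e := ee k A
      x := x
      D := fun i a => D₀ i a
      pd := pd
      pd_e := fun l i m a => hpd l i m a
      retr := fun σ => exists_lift fun m => ee k A (σ m)
      close := fun φ J h r => ?_
      key := fun l m a => ?_ }, rfl⟩
  · exact Ideal.Quotient.eq.1 (AlgHom.congr_fun (algHom_ext' (f := (Ideal.Quotient.mkₐ k J).comp φ)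
      (g := Ideal.Quotient.mkₐ k J) fun i b => Ideal.Quotient.eq.2 (h i b)) r)
  · let F : A ⊗[k] A →ₐ[k] T3 k A :=
      Algebra.TensorProduct.lift (ee k A m) (ee k A l) fun _ _ => Commute.all _ _
    let dg : A → A ⊗[k] A := fun b => (1 : A) ⊗ₜ[k] b - b ⊗ₜ[k] (1 : A)
    have hdg : ∀ b, dg b ∈ KaehlerDifferential.ideal k A := fun b =>
      KaehlerDifferential.one_smul_sub_smul_one_mem_ideal k b
    let z : KaehlerDifferential.ideal k A := ⟨dg a, hdg a⟩ - ∑ i, (D₀ i a ⊗ₜ[k] (1 : A)) • ⟨dg (x i), hdg _⟩
    have hz : (z : A ⊗[k] A) ∈ KaehlerDifferential.ideal k A ^ 2 := by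
      refine (Ideal.toCotangent_eq_zero _ z).1 ?_
      rw [map_sub, map_sum, sub_eq_zero]
      refine (hD a).trans (Finset.sum_congr rfl fun i _ => ?_)
      rw [map_smul, KaehlerDifferential.D_apply]
      exact (algebraMap_smul (A ⊗[k] A) (D₀ i a) _).symm
    have hmap : (KaehlerDifferential.ideal k A).map F ≤
        Ideal.span (Set.range fun b : A => ee k A l b - ee k A m b) := by
      rw [← KaehlerDifferential.span_range_eq_ideal, Ideal.map_span, Ideal.span_le]
      rintro _ ⟨_, ⟨b, rfl⟩, rfl⟩
      exact Ideal.subset_span ⟨b, by simp [F]⟩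
    have h := Ideal.pow_right_mono hmap 2 (by rw [← Ideal.map_pow]; exact Ideal.mem_map_of_mem F hz)
    simpa [z, dg, F, map_sum, mul_sub] using h

theorem isNoetherian_T3 [Algebra.Smooth k A] : IsNoetherianRing (T3 k A) := by
  let f : A ⊗[k] (A ⊗[k] A) →ₐ[k] T3 k A :=
    Algebra.TensorProduct.lift (ee k A 0)
      (Algebra.TensorProduct.lift (ee k A 1) (ee k A 2) fun _ _ => Commute.all _ _) fun _ _ => Commute.all _ _
  obtain ⟨g, hg⟩ := exists_lift (k := k) (A := A) (S := A ⊗[k] (A ⊗[k] A))
    ![Algebra.TensorProduct.includeLeft,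
      Algebra.TensorProduct.includeRight.comp Algebra.TensorProduct.includeLeft,
      Algebra.TensorProduct.includeRight.comp Algebra.TensorProduct.includeRight]
  have h : f.comp g = AlgHom.id k (T3 k A) := algHom_ext' fun i a => by
    fin_cases i <;> simp [hg, f]
  haveI : Algebra.FiniteType k A := inferInstance
  haveI : Algebra.FiniteType k (A ⊗[k] A) := Algebra.FiniteType.trans (R := k) (S := A) inferInstance inferInstance
  haveI : Algebra.FiniteType k (A ⊗[k] (A ⊗[k] A)) := Algebra.FiniteType.trans (R := k) (S := A) inferInstance inferInstance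
  haveI : IsNoetherianRing (A ⊗[k] (A ⊗[k] A)) := Algebra.FiniteType.isNoetherianRing k _
  exact isNoetherianRing_of_surjective _ _ f.toRingHom fun z => ⟨g z, AlgHom.congr_fun h z⟩

theorem mem_prod [Algebra.Smooth k A] (x : T3 k A)
    (hx : ∀ σ : Equiv.Perm (Fin 3), PiTensorProduct.reindex k (fun _ : Fin 3 => A) σ x = x)
    (hmem : ∀ p : Fin 3 × Fin 3, p.1 < p.2 →
      x ∈ Ideal.span (Set.range fun a : A => ee k A p.1 a - ee k A p.2 a)) :
    x ∈ ∏ p ∈ Finset.univ.filter (fun p : Fin 3 × Fin 3 => p.1 < p.2),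
      Ideal.span (Set.range fun a : A => ee k A p.1 a - ee k A p.2 a) := by
  classical
  obtain ⟨d, C, hC⟩ := exists_cfg (k := k) (A := A)
  haveI := isNoetherian_T3 (k := k) (A := A)
  have hIe : C.I = Ideal.span (Set.range fun a : A => ee k A 0 a - ee k A 1 a) := by rw [← hC]; rfl
  have hKe : C.K = Ideal.span (Set.range fun a : A => ee k A 1 a - ee k A 2 a) := by rw [← hC]; rfl
  have hLe : C.L = Ideal.span (Set.range fun a : A => ee k A 0 a - ee k A 2 a) := by rw [← hC]; rfl
  have hI : x ∈ C.I := hIe ▸ hmem (0, 1) (by decide)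
  have hK : x ∈ C.K := hKe ▸ hmem (1, 2) (by decide)
  have hL : x ∈ C.L := hLe ▸ hmem (0, 2) (by decide)
  -- the swap
  obtain ⟨τ, hτ⟩ := exists_lift (k := k) (A := A) fun i => ee k A (Equiv.swap (0 : Fin 3) 1 i)
  have hτeq : τ.toLinearMap = (PiTensorProduct.reindex k (fun _ : Fin 3 => A) (Equiv.swap (0 : Fin 3) 1)).toLinearMap := by
    refine PiTensorProduct.ext (MultilinearMap.ext fun f => ?_)
    have hf : PiTensorProduct.tprod k f = ee k A 0 (f 0) * ee k A 1 (f 1) * ee k A 2 (f 2) := by
      simp only [ee, PiTensorProduct.singleAlgHom_apply, PiTensorProduct.tprod_mul_tprod]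
      congr 1
      funext i
      fin_cases i <;> simp [Pi.mulSingle_apply]
    simp only [LinearMap.compMultilinearMap_apply, AlgHom.toLinearMap_apply, LinearEquiv.coe_coe,
      PiTensorProduct.reindex_tprod, Equiv.symm_swap]
    rw [hf, map_mul, map_mul, hτ, hτ, hτ, Equiv.swap_apply_left, Equiv.swap_apply_right,
      Equiv.swap_apply_of_ne_of_ne (show (2 : Fin 3) ≠ 0 by decide) (show (2 : Fin 3) ≠ 1 by decide)]
    simp only [ee, PiTensorProduct.singleAlgHom_apply, PiTensorProduct.tprod_mul_tprod]
    congr 1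
    funext i
    fin_cases i <;> simp [Pi.mulSingle_apply, Equiv.swap_apply_of_ne_of_ne]
  have hτx : τ x = x := (LinearMap.congr_fun hτeq x).trans (hx _)
  have hsq : ∀ z ∈ C.I, τ z + z ∈ C.I ^ 2 := by
    intro z hz
    have hu : ∀ a, τ (C.u a) = -C.u a := fun a => by simp [Cfg.u, hC, hτ]
    have hcl : ∀ r, τ r - r ∈ C.I := C.close τ _ fun m a => by
      rw [hC, hτ]
      fin_cases m
      · simpa [Cfg.u, hC] using neg_mem (C.u_mem a)
      · simpa [Cfg.u, hC] using C.u_mem a
      · simp [Equiv.swap_apply_of_ne_of_ne]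
    unfold Cfg.I at hz
    induction hz using Submodule.span_induction with
    | mem z hz => obtain ⟨a, rfl⟩ := hz; rw [hu, neg_add_cancel]; exact zero_mem _
    | zero => simp
    | add a b _ _ ha hb => rw [map_add, add_add_add_comm]; exact add_mem ha hb
    | smul c a hca ha =>
      have hτa : τ a ∈ C.I := by
        have := add_mem (hcl a) (show a ∈ C.I from hca)
        simpa using this
      rw [smul_eq_mul, map_mul, show τ c * τ a + c * a = (τ c - c) * τ a + c * (τ a + a) by ring]
      refine add_mem ?_ (Ideal.mul_mem_left _ _ ha)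
      rw [pow_two]
      exact Ideal.mul_mem_mul (hcl c) hτa
  have hI2 : x ∈ C.I ^ 2 := by
    have h2 := hsq x hI
    rw [hτx] at h2
    have h3 := Ideal.mul_mem_left _ (algebraMap k (T3 k A) (2 : k)⁻¹) h2
    rwa [← two_mul, ← mul_assoc, ← map_ofNat (algebraMap k (T3 k A)) 2, ← map_mul, inv_mul_cancel₀ two_ne_zero,
      map_one, one_mul] at h3
  have hP := C.mem_P_of_mem hI hI2 hK hL
  have hfilter : Finset.univ.filter (fun p : Fin 3 × Fin 3 => p.1 < p.2) = {(0, 1), (0, 2), (1, 2)} := by decide
  rw [hfilter, Finset.prod_insert (by decide), Finset.prod_insert (by decide), Finset.prod_singleton, ← mul_assoc]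
  rw [Cfg.P, hIe, hKe, hLe] at hP
  exact hP

end Groth.Agent.H02CA.DiagThree
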