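import Mathlib.RingTheory.OrderOfVanishing.Basic
import Mathlib.RingTheory.Localization.FractionRing
import Mathlib.RingTheory.Localization.Integer
import Mathlib.RingTheory.Length
import Mathlib.RingTheory.Finiteness.Basic
import Mathlib.RingTheory.Noetherian.Basic
import Mathlib.LinearAlgebra.Pi

/-!
Modules over one-dimensional Noetherian domains: `M ⧸ x M` has finite length for `M ⊆ K ^ r`.
-/

namespace Groth.Agent.H02CA

universe u v
variable {R : Type u} [CommRing R]

/-- The length is bounded by a bound on the lengths of the finitely generated submodules. -/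
lemma length_le_of_forall_fg {M : Type v} [AddCommGroup M] [Module R M] {c : ℕ∞}
    (h : ∀ P : Submodule R M, P.FG → Module.length R P ≤ c) : Module.length R M ≤ c := by
  classical
  rw [← WithBot.coe_le_coe, Module.coe_length, Order.krullDim]
  refine iSup_le fun p => ?_
  have hstep : ∀ i : Fin p.length, ∃ y ∈ p i.succ, y ∉ p i.castSucc := fun i =>
    Set.exists_of_ssubset (p.step i)
  choose y hy hy' using hstep
  let P : Submodule R M := Submodule.span R (Set.range y)
  have hlt : ∀ i : Fin p.length, (p i.castSucc).comap P.subtype < (p i.succ).comap P.subtype := fun i =>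
    lt_of_le_of_ne (Submodule.comap_mono (p.step i).le) fun he => by
      have : (⟨y i, Submodule.subset_span ⟨i, rfl⟩⟩ : P) ∈ (p i.succ).comap P.subtype := hy i
      rw [← he] at this
      exact hy' i this
  let q : LTSeries (Submodule R P) := ⟨p.length, fun i => (p i).comap P.subtype, hlt⟩
  calc (p.length : WithBot ℕ∞) = q.length := rfl
    _ ≤ Order.krullDim (Submodule R P) := le_iSup (fun s : LTSeries _ => (s.length : WithBot ℕ∞)) q
    _ = (Module.length R P : WithBot ℕ∞) := (Module.coe_length R P).symm
    _ ≤ c := WithBot.coe_le_coe.mpr (h P (Submodule.fg_span (Set.finite_range y)))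

section
variable {M : Type v} [AddCommGroup M] [Module R M]

/-- Subadditivity of `M ↦ length (M / x M)`. -/
lemma length_quotient_smul_le_add {L : Type v} [AddCommGroup L] [Module R L]
    {N : Type v} [AddCommGroup N] [Module R N] (I : Ideal R) (i : N →ₗ[R] M) (g : M →ₗ[R] L)
    (hg : Function.Surjective g) (hig : Function.Exact i g) :
    Module.length R (M ⧸ (I • ⊤ : Submodule R M)) ≤
      Module.length R (N ⧸ (I • ⊤ : Submodule R N)) + Module.length R (L ⧸ (I • ⊤ : Submodule R L)) := by
  have hmi : (I • ⊤ : Submodule R N) ≤ (I • ⊤ : Submodule R M).comap i := by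
    rw [← Submodule.map_le_iff_le_comap, Submodule.map_smul'']
    exact Submodule.smul_mono le_rfl le_top
  have hmg : (I • ⊤ : Submodule R M) ≤ (I • ⊤ : Submodule R L).comap g := by
    rw [← Submodule.map_le_iff_le_comap, Submodule.map_smul'']
    exact Submodule.smul_mono le_rfl le_top
  set i' := Submodule.mapQ _ _ i hmi
  set g' := Submodule.mapQ _ _ g hmg
  have hg' : Function.Surjective g' := by
    intro z
    obtain ⟨z, rfl⟩ := Submodule.mkQ_surjective _ z
    obtain ⟨w, rfl⟩ := hg z
    exact ⟨Submodule.Quotient.mk w, rfl⟩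
  rw [Module.length_eq_add_of_exact (LinearMap.ker g').subtype g' (Submodule.subtype_injective _) hg'
    (LinearMap.exact_subtype_ker_map g')]
  refine add_le_add ?_ le_rfl
  refine (Module.length_le_of_surjective (i'.codRestrict (LinearMap.ker g') fun z => ?_) ?_)
  · obtain ⟨z, rfl⟩ := Submodule.mkQ_surjective _ z
    show Submodule.Quotient.mk (g (i z)) = (0 : L ⧸ _)
    rw [hig.apply_apply_eq_zero, Submodule.Quotient.mk_zero]
  · rintro ⟨z, hz⟩
    obtain ⟨z, rfl⟩ := Submodule.mkQ_surjective _ z
    have h1 : g z ∈ Submodule.map g (I • ⊤ : Submodule R M) := by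
      rw [Submodule.map_smul'', Submodule.map_top, LinearMap.range_eq_top.mpr hg]
      exact (Submodule.Quotient.mk_eq_zero _).mp hz
    obtain ⟨w, hw, hgw⟩ := h1
    obtain ⟨n, hn⟩ := (hig (z - w)).mp (by rw [map_sub, hgw, sub_self])
    exact ⟨Submodule.Quotient.mk n, Subtype.ext ((Submodule.Quotient.eq _).mpr (by
      rw [hn, sub_sub_cancel_left]; exact Submodule.neg_mem _ hw))⟩

end

section
variable [IsDomain R] [IsNoetherianRing R] [Ring.KrullDimLE 1 R]

omit [IsNoetherianRing R] [Ring.KrullDimLE 1 R] in
/-- For a nonzero ideal the quotient of `J` by `x J` has the length of `R / (x)`. -/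
lemma length_ideal_quotient_eq (J : Ideal R) (hJfin : Module.length R (R ⧸ J) ≠ ⊤) {x : R} (hx : x ≠ 0) :
    Module.length R (J ⧸ (Ideal.span {x} • ⊤ : Submodule R J)) = Module.length R (R ⧸ Ideal.span {x}) := by
  have key : ∀ {A B : Submodule R R}, A ≤ B → Module.length R (R ⧸ A) =
      Module.length R (B ⧸ A.comap B.subtype) + Module.length R (R ⧸ B) := by
    intro A B hAB
    have hexact : Function.Exact (Submodule.mapQ (A.comap B.subtype) A B.subtype le_rfl)
        (Submodule.factor hAB) := by
      intro z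
      obtain ⟨z, rfl⟩ := Submodule.mkQ_surjective _ z
      constructor
      · intro hz
        exact ⟨Submodule.Quotient.mk ⟨z, (Submodule.Quotient.mk_eq_zero _).mp hz⟩, rfl⟩
      · rintro ⟨w, hw⟩
        obtain ⟨w, rfl⟩ := Submodule.mkQ_surjective _ w
        rw [← hw]
        exact (Submodule.Quotient.mk_eq_zero _).mpr w.2
    refine Module.length_eq_add_of_exact _ _ ?_ (Submodule.factor_surjective hAB) hexact
    rw [← LinearMap.ker_eq_bot, LinearMap.ker_eq_bot']
    intro z hz
    obtain ⟨z, rfl⟩ := Submodule.mkQ_surjective _ z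
    exact (Submodule.Quotient.mk_eq_zero _).mpr (((Submodule.Quotient.mk_eq_zero _).mp hz) : (z : R) ∈ A)
  let μ : R →ₗ[R] R := LinearMap.mulLeft R x
  have hμ : Function.Injective μ := fun a b h => mul_left_cancel₀ hx h
  let xR : Submodule R R := LinearMap.range μ
  have hxR : xR = Ideal.span {x} := by
    ext a
    simp [xR, μ, Ideal.mem_span_singleton, dvd_iff_exists_eq_mul_left, eq_comm, mul_comm]
  let xJ : Submodule R R := Submodule.map μ J
  have hxJJ : xJ ≤ J := by rintro _ ⟨a, ha, rfl⟩; exact J.mul_mem_left x ha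
  have hcomap : xJ.comap J.subtype = (Ideal.span {x} • ⊤ : Submodule R J) := by
    ext a
    rw [Submodule.mem_smul_top_iff, Submodule.ideal_span_singleton_smul, Submodule.mem_comap,
      Submodule.mem_smul_pointwise_iff_exists]
    simp [xJ, μ]
  let e : (R ⧸ J) ≃ₗ[R] (xR ⧸ xJ.comap xR.subtype) :=
    Submodule.Quotient.equiv J _ (LinearEquiv.ofInjective μ hμ) (by
      ext a
      simp only [Submodule.mem_map, Submodule.mem_comap, Submodule.coe_subtype, xJ]
      exact ⟨fun ⟨b, hb, hb'⟩ => ⟨b, hb, congr_arg Subtype.val hb'⟩,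
        fun ⟨b, hb, hb'⟩ => ⟨b, hb, Subtype.ext hb'⟩⟩)
  have h := (key (LinearMap.map_le_range (f := μ) (p := J))).symm.trans (key hxJJ)
  rw [← e.length_eq, hcomap, add_comm] at h
  rw [← (Submodule.quotEquivOfEq _ _ hxR).length_eq]
  exact ((ENat.addLECancellable_of_ne_top hJfin).inj_left.mp h).symm

lemma length_quotient_ideal_ne_top (J : Ideal R) (hJ : J ≠ ⊥) : Module.length R (R ⧸ J) ≠ ⊤ := by
  obtain ⟨a, haJ, ha0⟩ := Submodule.exists_mem_ne_zero_of_ne_bot hJ
  have h1 := Ring.ord_ne_top (mem_nonZeroDivisors_of_ne_zero ha0)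
  refine ne_top_of_le_ne_top h1 ?_
  exact Module.length_le_of_surjective (Submodule.factor ((Ideal.span_singleton_le_iff_mem _).mpr haJ))
    (Submodule.factor_surjective _)

variable (K : Type v) [Field K] [Algebra R K] [IsFractionRing R K]

/-- A finite torsion free module of rank at most one. -/
lemma length_quotient_le_of_injective {N : Type v} [AddCommGroup N] [Module R N] [Module.Finite R N]
    (f : N →ₗ[R] K) (hf : Function.Injective f) {x : R} (hx : x ≠ 0) :
    Module.length R (N ⧸ (Ideal.span {x} • ⊤ : Submodule R N)) ≤ Module.length R (R ⧸ Ideal.span {x}) := by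
  classical
  obtain ⟨G, hG⟩ := (Module.Finite.fg_top (R := R) (M := N)).map f
  obtain ⟨a, ha⟩ := IsLocalization.exist_integer_multiples (nonZeroDivisors R) G id
  have hrange : ∀ z : N, ∃ r : R, algebraMap R K r = (a : R) • f z := by
    intro z
    have hz : f z ∈ (⊤ : Submodule R N).map f := Submodule.mem_map_of_mem trivial
    rw [← hG] at hz
    generalize f z = y at hz ⊢
    induction hz using Submodule.span_induction with
    | mem z hz => exact ha z hz
    | zero => exact ⟨0, by simp⟩
    | add y z _ _ h1 h2 =>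
      obtain ⟨r, hr⟩ := h1; obtain ⟨r', hr'⟩ := h2
      exact ⟨r + r', by rw [map_add, hr, hr', smul_add]⟩
    | smul c z _ h1 =>
      obtain ⟨r, hr⟩ := h1
      exact ⟨c * r, by rw [map_mul, hr, smul_comm, Algebra.smul_def c]⟩
  choose φ hφ using hrange
  have hinj := IsFractionRing.injective R K
  let ψ : N →ₗ[R] R :=
      { toFun := φ
        map_add' := fun y z => hinj (by rw [map_add, hφ, hφ, hφ, map_add, smul_add])
        map_smul' := fun c z => hinj (by
          rw [RingHom.id_apply, smul_eq_mul, map_mul, hφ, hφ, ← Algebra.smul_def, map_smul,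
            smul_comm]) }
  have ha0 : (a : R) ≠ 0 := nonZeroDivisors.ne_zero a.2
  have hψ : Function.Injective ψ := by
    intro y z (h : φ y = φ z)
    have h2 := (hφ y).symm.trans ((congr_arg (algebraMap R K) h).trans (hφ z))
    rw [Algebra.smul_def, Algebra.smul_def] at h2
    exact hf (mul_left_cancel₀ ((map_ne_zero_iff _ hinj).mpr ha0) h2)
  let J : Ideal R := LinearMap.range ψ
  let ε : N ≃ₗ[R] J := LinearEquiv.ofInjective ψ hψ
  have e' : (N ⧸ (Ideal.span {x} • ⊤ : Submodule R N)) ≃ₗ[R] (J ⧸ (Ideal.span {x} • ⊤ : Submodule R J)) :=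
    Submodule.Quotient.equiv _ _ ε (by
      show Submodule.map (ε : N →ₗ[R] J) _ = _
      rw [Submodule.map_smul'', Submodule.map_top, LinearEquiv.range])
  rw [e'.length_eq]
  rcases eq_or_ne J ⊥ with hJ | hJ
  · haveI : Subsingleton J := by rw [hJ]; infer_instance
    simp [Module.length_eq_zero]
  · exact (length_ideal_quotient_eq J (length_quotient_ideal_ne_top J hJ) hx).le

-- rank one case
lemma length_quotient_le_of_rank_one (L : Submodule R K) {x : R} (hx : x ≠ 0) :
    Module.length R (L ⧸ (Ideal.span {x} • ⊤ : Submodule R L)) ≤ Module.length R (R ⧸ Ideal.span {x}) := by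
  classical
  refine length_le_of_forall_fg fun P hP => ?_
  obtain ⟨s, hs⟩ := hP
  choose l hl using fun z => Submodule.mkQ_surjective (Ideal.span {x} • ⊤ : Submodule R L) z
  let N : Submodule R L := Submodule.span R (l '' (s : Set _))
  haveI : Module.Finite R N := Module.Finite.iff_fg.mpr (Submodule.fg_span (s.finite_toSet.image l))
  let g : N →ₗ[R] K := L.subtype ∘ₗ N.subtype
  have hg : Function.Injective g := fun a b h => Subtype.ext (Subtype.ext h)
  refine le_trans ?_ (length_quotient_le_of_injective (N := N) K g hg hx)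
  have hmem : ∀ z : N, Submodule.mkQ (Ideal.span {x} • ⊤ : Submodule R L) z.1 ∈ P := by
    intro z
    have h1 : Submodule.mkQ (Ideal.span {x} • ⊤ : Submodule R L) z.1 ∈ N.map (Submodule.mkQ _) :=
      Submodule.mem_map_of_mem z.2
    rw [Submodule.map_span, Set.image_image] at h1
    simp only [hl, Set.image_id'] at h1
    rwa [hs] at h1
  let f : N →ₗ[R] P := (Submodule.mkQ (Ideal.span {x} • ⊤ : Submodule R L) ∘ₗ N.subtype).codRestrict P hmem
  have hker : (Ideal.span {x} • ⊤ : Submodule R N) ≤ LinearMap.ker f := by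
    refine Submodule.smul_le.mpr fun r hr z _ => Subtype.ext ?_
    exact (Submodule.Quotient.mk_eq_zero _).mpr (Submodule.smul_mem_smul hr trivial)
  refine Module.length_le_of_surjective (Submodule.liftQ _ f hker) ?_
  rintro ⟨z, hz⟩
  rw [← hs] at hz
  have h1 : z ∈ N.map (Submodule.mkQ (Ideal.span {x} • ⊤ : Submodule R L)) := by
    rw [Submodule.map_span, Set.image_image]
    simpa only [hl, Set.image_id'] using hz
  obtain ⟨n, hn, rfl⟩ := h1
  exact ⟨Submodule.Quotient.mk ⟨n, hn⟩, rfl⟩

/-- `M / x M` has length at most `r · length (R / x)` for `M ⊆ K ^ r`. -/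
theorem length_quotient_le (r : ℕ) (M : Submodule R (Fin r → K)) {x : R} (hx : x ≠ 0) :
    Module.length R (M ⧸ (Ideal.span {x} • ⊤ : Submodule R M)) ≤
      r * Module.length R (R ⧸ Ideal.span {x}) := by
  induction r with
  | zero =>
    haveI : Subsingleton M := ⟨fun a b => Subtype.ext (Subsingleton.elim _ _)⟩
    simp [Module.length_eq_zero]
  | succ r ih =>
    let π : M →ₗ[R] K := (LinearMap.proj 0) ∘ₗ M.subtype
    let j : (Fin r → K) →ₗ[R] (Fin (r + 1) → K) :=
      LinearMap.pi (Fin.cases 0 fun i => LinearMap.proj i)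
    let g : M →ₗ[R] LinearMap.range π := π.rangeRestrict
    let i : M.comap j →ₗ[R] M := j.restrict fun z hz => hz
    have hig : Function.Exact i g := by
      intro m
      constructor
      · intro hm
        have hm0 : (m : Fin (r + 1) → K) 0 = 0 := congr_arg Subtype.val hm
        have hj : j (fun k => (m : Fin (r + 1) → K) k.succ) = m := by
          funext k
          refine Fin.cases ?_ (fun k => ?_) k <;> simp [j, hm0]
        exact ⟨⟨_, show j _ ∈ M from hj ▸ m.2⟩, Subtype.ext hj⟩
      · rintro ⟨z, rfl⟩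
        exact Subtype.ext (by simp [g, i, π, j])
    refine (length_quotient_smul_le_add (Ideal.span {x}) i g (LinearMap.surjective_rangeRestrict π) hig).trans ?_
    rw [Nat.cast_add, Nat.cast_one, add_mul, one_mul]
    exact add_le_add (ih _) (length_quotient_le_of_rank_one K _ hx)

end

end Groth.Agent.H02CA
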