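import Mathlib.RingTheory.Support
import Mathlib.RingTheory.Ideal.AssociatedPrime.Localization
import Mathlib.RingTheory.Ideal.MinimalPrime.Basic
import Mathlib.RingTheory.Spectrum.Prime.Module
import Mathlib.Algebra.Module.LocalizedModule.Basic

/-! The largest submodule with nowhere dense support. -/

set_option autoImplicit false

namespace Groth.Agent.H02CA.EmbeddedPart

variable (R : Type*) [CommRing R] (M : Type*) [AddCommGroup M] [Module R M]

/-- Elements vanishing at every minimal point of the support. -/
def part : Submodule R M where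
  carrier := {m | ∀ η ∈ (Module.annihilator R M).minimalPrimes, ∃ r ∉ η, r • m = 0}
  zero_mem' η hη := ⟨1, fun h => hη.1.1.ne_top ((Ideal.eq_top_iff_one η).mpr h), smul_zero _⟩
  add_mem' {a b} ha hb η hη := by
    obtain ⟨r, hr, hra⟩ := ha η hη
    obtain ⟨s, hs, hsb⟩ := hb η hη
    refine ⟨r * s, fun h => (hη.1.1.mem_or_mem h).elim hr hs, ?_⟩
    rw [smul_add, mul_comm r s, mul_smul, hra, smul_zero, zero_add, mul_comm s r, mul_smul, hsb,
      smul_zero]
  smul_mem' c m hm η hη := by
    obtain ⟨r, hr, hrm⟩ := hm η hη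
    exact ⟨r, hr, by rw [smul_comm, hrm, smul_zero]⟩

theorem mem_part {m : M} :
    m ∈ part R M ↔ ∀ η ∈ (Module.annihilator R M).minimalPrimes, ∃ r ∉ η, r • m = 0 := Iff.rfl

variable {R M} [IsNoetherianRing R] [Module.Finite R M]

theorem notMem_support_of_le_part {K' : Submodule R M} (h : K' ≤ part R M) {η : PrimeSpectrum R}
    (hη : η.asIdeal ∈ (Module.annihilator R M).minimalPrimes) : η ∉ Module.support R ↥K' := by
  rw [Module.notMem_support_iff']
  intro k
  obtain ⟨r, hr, hrk⟩ := mem_part R M |>.mp (h k.2) η.asIdeal hη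
  exact ⟨r, hr, Subtype.ext hrk⟩

theorem nowhereDense_iff {K' : Submodule R M} :
    (∀ U : Set (PrimeSpectrum R), IsOpen U →
      U ∩ Module.support R M ⊆ closure (Module.support R ↥K') → U ∩ Module.support R M = ∅) ↔
      K' ≤ part R M := by
  have hcl : closure (Module.support R ↥K') = Module.support R ↥K' :=
    Module.isClosed_support.closure_eq
  rw [hcl]
  constructor
  · intro h m hm η hη
    have hηnot : (⟨η, hη.1.1⟩ : PrimeSpectrum R) ∉ Module.support R ↥K' := by
      intro hηK
      -- the open set of points on no other component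
      let others : Set (PrimeSpectrum R) :=
        ⋃ η' ∈ {η' ∈ (Module.annihilator R M).minimalPrimes | η' ≠ η},
          PrimeSpectrum.zeroLocus (η' : Set R)
      have hfin : {η' ∈ (Module.annihilator R M).minimalPrimes | η' ≠ η}.Finite :=
        (Ideal.finite_minimalPrimes_of_isNoetherianRing R _).subset fun _ hx => hx.1
      have hU : IsOpen othersᶜ :=
        (hfin.isClosed_biUnion fun _ _ => PrimeSpectrum.isClosed_zeroLocus _).isOpen_compl
      have hsub : othersᶜ ∩ Module.support R M ⊆ Module.support R ↥K' := by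
        rintro x ⟨hx, hxM⟩
        rw [Module.support_eq_zeroLocus, PrimeSpectrum.mem_zeroLocus] at hxM
        obtain ⟨η', hη', hle⟩ := Ideal.exists_minimalPrimes_le (J := x.asIdeal) hxM
        by_cases he : η' = η
        · subst he
          exact Module.mem_support_mono hle hηK
        · exact absurd (Set.mem_iUnion₂.mpr ⟨η', ⟨hη', he⟩,
            (PrimeSpectrum.mem_zeroLocus _ _).mpr hle⟩) hx
      have := h _ hU hsub
      rw [← Set.not_nonempty_iff_eq_empty] at this
      refine this ⟨⟨η, hη.1.1⟩, ?_, ?_⟩
      · intro hmem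
        obtain ⟨η', ⟨hη', hne⟩, hle⟩ := Set.mem_iUnion₂.mp hmem
        exact hne (le_antisymm hle (hη.2 hη'.1 hle))
      · rw [Module.support_eq_zeroLocus]
        exact hη.1.2
    rw [Module.notMem_support_iff'] at hηnot
    obtain ⟨r, hr, hrm⟩ := hηnot ⟨m, hm⟩
    exact ⟨r, hr, congrArg Subtype.val hrm⟩
  · intro h U hU hsub
    by_contra hne
    obtain ⟨x, hxU, hxM⟩ := Set.nonempty_iff_ne_empty.mpr hne
    rw [Module.support_eq_zeroLocus, PrimeSpectrum.mem_zeroLocus] at hxM
    obtain ⟨η, hη, hle⟩ := Ideal.exists_minimalPrimes_le (J := x.asIdeal) hxM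
    refine notMem_support_of_le_part h (η := ⟨η, hη.1.1⟩) hη (hsub ⟨?_, ?_⟩)
    · exact ((PrimeSpectrum.le_iff_specializes ⟨η, hη.1.1⟩ x).mp hle).mem_open hU hxU
    · rw [Module.support_eq_zeroLocus]
      exact hη.1.2

theorem mem_support_quotient_part {η : PrimeSpectrum R}
    (hη : η.asIdeal ∈ (Module.annihilator R M).minimalPrimes) :
    η ∈ Module.support R (M ⧸ part R M) := by
  by_contra h
  have hM : η ∈ Module.support R M := by
    rw [Module.support_eq_zeroLocus]; exact hη.1.2
  rw [Module.mem_support_iff'] at hM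
  obtain ⟨m, hm⟩ := hM
  rw [Module.notMem_support_iff'] at h
  obtain ⟨r, hr, hrm⟩ := h (Submodule.Quotient.mk m)
  rw [← Submodule.Quotient.mk_smul, Submodule.Quotient.mk_eq_zero] at hrm
  obtain ⟨s, hs, hsm⟩ := (mem_part R M).mp hrm η.asIdeal hη
  rw [← mul_smul] at hsm
  exact hm (s * r) (fun hmem => (η.isPrime.mem_or_mem hmem).elim hs hr) hsm

theorem support_quotient_part : Module.support R (M ⧸ part R M) = Module.support R M := by
  refine Set.Subset.antisymm
    (Module.support_subset_of_surjective (part R M).mkQ (Submodule.mkQ_surjective _)) fun x hx => ?_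
  rw [Module.support_eq_zeroLocus, PrimeSpectrum.mem_zeroLocus] at hx
  obtain ⟨η, hη, hle⟩ := Ideal.exists_minimalPrimes_le (J := x.asIdeal) hx
  exact Module.mem_support_mono (p := ⟨η, hη.1.1⟩) hle (mem_support_quotient_part hη)

theorem mem_minimalPrimes_of_mem_associatedPrimes {q : Ideal R}
    (hq : q ∈ associatedPrimes R (M ⧸ part R M)) : q ∈ (Module.annihilator R M).minimalPrimes := by
  obtain ⟨hprime, x, hx⟩ := isAssociatedPrime_iff.mp hq
  obtain ⟨m, rfl⟩ := Submodule.Quotient.mk_surjective _ x
  have hm : m ∉ part R M := by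
    intro hm
    rw [(Submodule.Quotient.mk_eq_zero _).mpr hm] at hx
    refine hprime.ne_top ?_
    rw [hx]
    simp
  rw [mem_part] at hm
  push Not at hm
  obtain ⟨η, hη, hηm⟩ := hm
  have hqη : q ≤ η := by
    intro r hr
    by_contra hrη
    rw [hx, Submodule.mem_colon_singleton, ← Submodule.Quotient.mk_smul, Submodule.mem_bot,
      Submodule.Quotient.mk_eq_zero] at hr
    obtain ⟨s, hs, hsm⟩ := (mem_part R M).mp hr η hη
    rw [← mul_smul] at hsm
    exact hηm (s * r) (fun hmem => (hη.1.1.mem_or_mem hmem).elim hs hrη) hsm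
  have hann : Module.annihilator R M ≤ q := by
    intro a ha
    rw [hx, Submodule.mem_colon_singleton, ← Submodule.Quotient.mk_smul, Submodule.mem_bot,
      Module.mem_annihilator.mp ha m, Submodule.Quotient.mk_zero]
  exact le_antisymm (hη.2 ⟨hprime, hann⟩ hqη) hqη ▸ hη

theorem bijective_away (f : R)
    (hf : ∀ p ∈ associatedPrimes R M,
      ¬ Minimal (fun x => x ∈ associatedPrimes R M) p → f ∈ p) :
    Function.Bijective (LocalizedModule.map (Submonoid.powers f) (part R M).mkQ) := by
  haveI : Module.Finite R (part R M) :=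
    Module.Finite.of_fg (IsNoetherian.noetherian (part R M))
  have hfK : f ∈ (Module.annihilator R (part R M)).radical := by
    rw [← Ideal.sInf_minimalPrimes, Ideal.mem_sInf]
    intro p hp
    have hpK : p ∈ associatedPrimes R (part R M) :=
      Module.associatedPrimes.minimalPrimes_annihilator_subset_associatedPrimes R (part R M) hp
    refine hf p (associatedPrimes.subset_of_injective (Submodule.injective_subtype _) hpK) fun hmin => ?_
    have hann : Module.annihilator R M ≤ p := (LinearMap.annihilator_le_of_injective _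
      (Submodule.injective_subtype (part R M))).trans hp.1.2
    haveI : p.IsPrime := hp.1.1
    obtain ⟨η, hη, hle⟩ := Ideal.exists_minimalPrimes_le (J := p) hann
    have hηM := Module.associatedPrimes.minimalPrimes_annihilator_subset_associatedPrimes R M hη
    have : η = p := le_antisymm hle (hmin.2 hηM hle)
    subst this
    refine notMem_support_of_le_part le_rfl (η := ⟨η, hη.1.1⟩) hη ?_
    rw [Module.support_eq_zeroLocus]
    exact hp.1.2
  obtain ⟨n, hn⟩ := Ideal.mem_radical_iff.mp hfK
  refine ⟨?_, LocalizedModule.map_surjective _ _ (Submodule.mkQ_surjective _)⟩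
  rw [injective_iff_map_eq_zero]
  intro x
  induction x using LocalizedModule.induction_on with
  | _ m s =>
    intro hx
    rw [LocalizedModule.map_mk, ← LocalizedModule.zero_mk s, LocalizedModule.mk_eq] at hx
    obtain ⟨c, hc⟩ := hx
    simp only [smul_zero, Submonoid.smul_def, Submodule.mkQ_apply,
      ← Submodule.Quotient.mk_smul, Submodule.Quotient.mk_eq_zero] at hc
    rw [← LocalizedModule.zero_mk s, LocalizedModule.mk_eq]
    refine ⟨⟨f ^ n, n, rfl⟩ * c, ?_⟩
    simp only [smul_zero, Submonoid.smul_def, Submonoid.coe_mul, mul_smul]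
    have h0 := Module.mem_annihilator.mp hn ⟨_, hc⟩
    exact congrArg Subtype.val h0

theorem exists_greatest :
    IsGreatest {K' : Submodule R M | ∀ U : Set (PrimeSpectrum R), IsOpen U →
      U ∩ Module.support R M ⊆ closure (Module.support R ↥K') → U ∩ Module.support R M = ∅}
      (part R M) :=
  ⟨nowhereDense_iff.mpr le_rfl, fun _ h => nowhereDense_iff.mp h⟩

end Groth.Agent.H02CA.EmbeddedPart
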