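import Groth.Prelude.Def_CAlgX
import Mathlib.RingTheory.Smooth.Local
import Mathlib.RingTheory.Smooth.Basic
import Mathlib.RingTheory.Etale.Basic
import Mathlib.RingTheory.Kaehler.Polynomial
import Mathlib.RingTheory.Filtration
import Mathlib.RingTheory.EssentialFiniteness
import Mathlib.RingTheory.Localization.AtPrime.Basic
import Mathlib.RingTheory.LocalRing.Module
import Mathlib.LinearAlgebra.TensorProduct.Quotient

/-!
# Adic formal smoothness of algebras essentially of finite type
-/

set_option autoImplicit false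
set_option linter.style.haveILetI false
universe u

open IsLocalRing TensorProduct

namespace Groth.Agent.H02CA.EssFTSmooth

/-- Tensoring with the residue field of a quotient kills exactly the multiples of the ideal. -/
theorem mem_smul_top_of_one_tmul_eq_zero {P K : Type u} [CommRing P] [CommRing K] [Algebra P K] (M : Ideal P)
    (hK : Function.Surjective (algebraMap P K)) (hker : RingHom.ker (algebraMap P K) = M)
    {N : Type u} [AddCommGroup N] [Module P N] (x : N) :
    (1 : K) ⊗ₜ[P] x = 0 ↔ x ∈ M • (⊤ : Submodule P N) := by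
  let e : (P ⧸ M) ≃ₐ[P] K := (Ideal.quotientEquivAlgOfEq P hker.symm).trans
    (Ideal.quotientKerAlgEquivOfSurjective (f := Algebra.ofId P K) hK)
  let E := (TensorProduct.congr e.toLinearEquiv (LinearEquiv.refl P N)).symm.trans
    (TensorProduct.quotTensorEquivQuotSMul N M)
  have : E ((1 : K) ⊗ₜ[P] x) = Submodule.Quotient.mk x := by
    simp [E, TensorProduct.congr_symm_tmul]
  rw [← E.map_eq_zero_iff, this, Submodule.Quotient.mk_eq_zero]

/-- Lifting data from adic formal smoothness. -/
theorem exists_near_section {A B P C : Type u} [CommRing A] [CommRing B] [CommRing P] [CommRing C] [Algebra A B]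
    [Algebra A P] [Algebra A C] {n : Ideal B} (h : CAlgX.IsAdicFormallySmooth A B n) (π : P →ₐ[A] B)
    (hπ : Function.Surjective π) (q : P →ₐ[A] C) (J : Ideal C) (hJ : J ^ 2 = ⊥) (hI : ∀ p, π p = 0 → q p ∈ J)
    (j : ℕ) (hj : ∀ b ∈ n ^ j, ∃ p, π p = b ∧ q p ∈ J) :
    ∃ χ : B →ₐ[A] C, ∀ p, q p - χ (π p) ∈ J := by
  let f₁ : P →ₐ[A] C ⧸ J := (Ideal.Quotient.mkₐ A J).comp q
  have hf₁ : ∀ a ∈ RingHom.ker π, f₁ a = 0 := fun a ha => Ideal.Quotient.eq_zero_iff_mem.mpr (hI a ha)
  let f₂ : (P ⧸ RingHom.ker π) →ₐ[A] C ⧸ J := Ideal.Quotient.liftₐ (RingHom.ker π) f₁ hf₁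
  let e := Ideal.quotientKerAlgEquivOfSurjective hπ
  let ψ : B →ₐ[A] C ⧸ J := f₂.comp e.symm.toAlgHom
  have hψ : ∀ p, ψ (π p) = Ideal.Quotient.mk J (q p) := fun p => by
    have he : e.symm (π p) = Ideal.Quotient.mk _ p := (AlgEquiv.symm_apply_eq _).mpr rfl
    change f₂ (e.symm (π p)) = _
    rw [he]; rfl
  obtain ⟨χ, hχ⟩ := h C J hJ ψ ⟨j, fun b hb => by
    obtain ⟨p, rfl, hp⟩ := hj b hb
    rw [hψ]
    exact Ideal.Quotient.eq_zero_iff_mem.mpr hp⟩
  refine ⟨χ, fun p => ?_⟩
  rw [← Ideal.Quotient.eq_zero_iff_mem, map_sub, sub_eq_zero]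
  exact ((AlgHom.congr_fun hχ (π p)).trans (hψ p)).symm

/-- A near section kills the elements with differential in `M • Ω`. -/
theorem map_eq_zero_of_near_section {A B P C : Type u} [CommRing A] [CommRing B] [CommRing P] [CommRing C]
    [Algebra A B] [Algebra A P] [Algebra A C] (π : P →ₐ[A] B) (q : P →ₐ[A] C) (χ : B →ₐ[A] C) (J : Ideal C)
    (hJ : ∀ a ∈ J, ∀ b ∈ J, a * b = 0) (hχ : ∀ p, q p - χ (π p) ∈ J) (M : Ideal P)
    (hM : ∀ r ∈ M, ∀ a ∈ J, q r * a = 0) (x : P) (hx : π x = 0)
    (hdx : KaehlerDifferential.D A P x ∈ M • (⊤ : Submodule P Ω[P⁄A])) : q x = 0 := by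
  letI : Algebra P C := q.toRingHom.toAlgebra
  haveI : IsScalarTower A P C := IsScalarTower.of_algebraMap_eq fun a => (q.commutes a).symm
  let δ₀ : P →ₗ[A] C := q.toLinearMap - χ.toLinearMap.comp π.toLinearMap
  have hleib : ∀ a b : P, δ₀ (a * b) = a • δ₀ b + b • δ₀ a := fun a b => by
    change q (a * b) - χ (π (a * b)) = q a * (q b - χ (π b)) + q b * (q a - χ (π a))
    rw [map_mul, map_mul, map_mul]
    linear_combination -(hJ _ (hχ a) _ (hχ b))
  let δ : Derivation A P C := Derivation.mk' δ₀ hleib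
  have hrange : ∀ ω, δ.liftKaehlerDifferential ω ∈ J.restrictScalars P := fun ω => by
    have : ω ∈ Submodule.span P (Set.range (KaehlerDifferential.D A P)) := by
      rw [KaehlerDifferential.span_range_derivation]; exact Submodule.mem_top
    induction this using Submodule.span_induction with
    | mem y hy =>
      obtain ⟨p, rfl⟩ := hy
      rw [Derivation.liftKaehlerDifferential_comp_D]
      exact hχ p
    | zero => rw [map_zero]; exact zero_mem _
    | add a b _ _ ha hb => rw [map_add]; exact add_mem ha hb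
    | smul c a _ ha => rw [map_smul]; exact Submodule.smul_mem _ c ha
  have h0 : δ.liftKaehlerDifferential (KaehlerDifferential.D A P x) = 0 :=
    Submodule.smul_induction_on hdx (fun r hr η _ => by
      rw [map_smul]
      exact hM r hr _ (hrange η)) fun a b ha hb => by rw [map_add, ha, hb, add_zero]
  rw [Derivation.liftKaehlerDifferential_comp_D] at h0
  have h1 : q x - χ (π x) = 0 := h0
  rwa [hx, map_zero, sub_zero] at h1

/-- Adic formal smoothness of a quotient of a formally smooth local algebra gives formal smoothness. -/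
theorem formallySmooth_of_isAdicFormallySmooth_of_surjective {A B P : Type u} [CommRing A] [CommRing B] [CommRing P]
    [IsLocalRing B] [IsLocalRing P] [IsNoetherianRing P] [Algebra A B] [Algebra A P] [Algebra P B]
    [IsScalarTower A P B] [Algebra.FormallySmooth A P] [Module.Free P Ω[P⁄A]] [Module.Finite P Ω[P⁄A]]
    (hsurj : Function.Surjective (algebraMap P B)) (h : CAlgX.IsAdicFormallySmooth A B (maximalIdeal B)) :
    Algebra.FormallySmooth A B := by
  rw [Algebra.FormallySmooth.iff_injective_cotangentComplexBaseChange_residueField P hsurj (IsNoetherian.noetherian _)]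
  let K := ResidueField B
  let M := maximalIdeal P
  let I := RingHom.ker (algebraMap P B)
  have hIM : I ≤ M := le_maximalIdeal (RingHom.ker_ne_top _)
  have hmB : M.map (algebraMap P B) = maximalIdeal B := IsLocalRing.map_maximalIdeal_of_surjective _ hsurj
  have hK : Function.Surjective (algebraMap P K) := by
    rw [IsScalarTower.algebraMap_eq P B K]
    exact residue_surjective.comp hsurj
  have hkerK : RingHom.ker (algebraMap P K) = M :=
    IsLocalRing.eq_maximalIdeal (RingHom.ker_isMaximal_of_surjective _ hK)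
  rw [injective_iff_map_eq_zero]
  intro z hz
  obtain ⟨x, rfl⟩ : ∃ x : I, (1 : K) ⊗ₜ[P] x = z := by
    clear hz
    induction z using TensorProduct.induction_on with
    | zero => exact ⟨0, tmul_zero _ _⟩
    | add a b ha hb =>
      obtain ⟨a', rfl⟩ := ha
      obtain ⟨b', rfl⟩ := hb
      exact ⟨a' + b', tmul_add _ _ _⟩
    | tmul c y =>
      obtain ⟨q, rfl⟩ := hK c
      exact ⟨q • y, by rw [← TensorProduct.smul_tmul, ← Algebra.algebraMap_eq_smul_one]⟩
  rw [KaehlerDifferential.cotangentComplexBaseChange_tmul, one_smul] at hz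
  have hdx : KaehlerDifferential.D A P x.1 ∈ M • (⊤ : Submodule P Ω[P⁄A]) :=
    (mem_smul_top_of_one_tmul_eq_zero M hK hkerK _).mp hz
  rw [mem_smul_top_of_one_tmul_eq_zero M hK hkerK]
  obtain ⟨k, hk⟩ := Ideal.exists_pow_inf_eq_pow_smul M (I : Submodule P P)
  have hAR : M ^ (k + 1) ⊓ I ≤ M * I := by
    have := hk (k + 1) (Nat.le_succ k)
    rw [smul_eq_mul, Ideal.mul_top, Nat.add_sub_cancel_left, pow_one] at this
    rw [this, smul_eq_mul]
    exact Ideal.mul_mono_right inf_le_right
  -- the square zero extension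
  let N : Ideal P := M * I ⊔ M ^ (k + 1)
  let C := P ⧸ N
  let J : Ideal C := (I ⊔ M ^ (k + 1)).map (Ideal.Quotient.mk N)
  have hN : (I ⊔ M ^ (k + 1)) * (I ⊔ M ^ (k + 1)) ≤ N := by
    rw [Ideal.mul_sup, Ideal.sup_mul, Ideal.sup_mul]
    refine sup_le (sup_le ?_ ?_) (sup_le ?_ ?_)
    · exact (Ideal.mul_mono_left hIM).trans le_sup_left
    · exact le_sup_of_le_right Ideal.mul_le_left
    · exact le_sup_of_le_right Ideal.mul_le_right
    · exact le_sup_of_le_right Ideal.mul_le_left
  have hJ : J ^ 2 = ⊥ := by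
    rw [sq, ← Ideal.map_mul, Ideal.map_eq_bot_iff_le_ker, Ideal.mk_ker]
    exact hN
  obtain ⟨χ, hχ⟩ := exists_near_section h (IsScalarTower.toAlgHom A P B) hsurj (Ideal.Quotient.mkₐ A N) J hJ
    (fun p hp => Ideal.mem_map_of_mem _ (Ideal.mem_sup_left hp)) (k + 1) (fun b hb => by
      rw [← hmB, ← Ideal.map_pow] at hb
      obtain ⟨p, hp, rfl⟩ := (Ideal.mem_map_iff_of_surjective _ hsurj).mp hb
      exact ⟨p, rfl, Ideal.mem_map_of_mem _ (Ideal.mem_sup_right hp)⟩)
  have hq := map_eq_zero_of_near_section (IsScalarTower.toAlgHom A P B) (Ideal.Quotient.mkₐ A N) χ J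
    (fun a ha b hb => by
      have := Ideal.mul_mem_mul ha hb
      rwa [← sq, hJ, Ideal.mem_bot] at this) hχ M
    (fun r hr a ha => by
      obtain ⟨w, hw, rfl⟩ := (Ideal.mem_map_iff_of_surjective _ Ideal.Quotient.mk_surjective).mp ha
      change Ideal.Quotient.mk N r * Ideal.Quotient.mk N w = 0
      rw [← map_mul, Ideal.Quotient.eq_zero_iff_mem]
      obtain ⟨u, hu, v, hv, rfl⟩ := Submodule.mem_sup.mp hw
      rw [mul_add]
      exact add_mem (Ideal.mem_sup_left (Ideal.mul_mem_mul hr hu))
        (Ideal.mem_sup_right (Ideal.mul_mem_left _ r hv))) x.1 x.2 hdx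
  have hxN : (x : P) ∈ N := Ideal.Quotient.eq_zero_iff_mem.mp hq
  obtain ⟨a, ha, b, hb, hab⟩ := Submodule.mem_sup.mp hxN
  have hbI : b ∈ I := by
    rw [show b = (x : P) - a by rw [← hab]; ring]
    exact sub_mem x.2 (Ideal.mul_le_right ha)
  have hx : (x : P) ∈ M * I := hab ▸ add_mem ha (hAR ⟨hb, hbI⟩)
  rw [← smul_eq_mul] at hx
  have hxm : (x : P) ∈ (M • (⊤ : Submodule P I)).map (Submodule.subtype I) := by
    rw [Submodule.map_smul'', Submodule.map_top, Submodule.range_subtype]
    exact hx
  obtain ⟨y, hy, hyx⟩ := hxm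
  rwa [Subtype.ext hyx] at hy

/-- **Adic formal smoothness is formal smoothness for local algebras essentially of finite type.** -/
theorem formallySmooth_of_isAdicFormallySmooth {A B : Type u} [CommRing A] [IsNoetherianRing A] [CommRing B]
    [IsLocalRing B] [Algebra A B] [Algebra.EssFiniteType A B] (h : CAlgX.IsAdicFormallySmooth A B (maximalIdeal B)) :
    Algebra.FormallySmooth A B := by
  classical
  obtain ⟨s, hs⟩ := ‹Algebra.EssFiniteType A B›
  let σ := {b : B // b ∈ s}
  let π : MvPolynomial σ A →ₐ[A] B := MvPolynomial.aeval Subtype.val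
  let Q : Ideal (MvPolynomial σ A) := (maximalIdeal B).comap π
  let P := Localization.AtPrime Q
  have hu : ∀ y : Q.primeCompl, IsUnit (π y) := fun y => IsLocalRing.notMem_maximalIdeal.mp y.2
  let φ : P →ₐ[A] B := IsLocalization.liftAlgHom (M := Q.primeCompl) (f := π) hu
  letI : Algebra P B := φ.toRingHom.toAlgebra
  haveI : IsScalarTower A P B := IsScalarTower.of_algebraMap_eq fun a => (φ.commutes a).symm
  have hπ : ∀ p, φ (algebraMap _ P p) = π p := fun p => IsLocalization.lift_eq hu p
  have hsurj : Function.Surjective (algebraMap P B) := fun b => by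
    obtain ⟨a, t, rfl⟩ := IsLocalization.exists_mk'_eq
      ((IsUnit.submonoid B).comap (algebraMap (Algebra.adjoin A (s : Set B)) B)) b
    have hrange : ∀ c : Algebra.adjoin A (s : Set B), ∃ p, π p = c := fun c => by
      have : (c : B) ∈ π.range := by
        rw [← Algebra.adjoin_range_eq_range_aeval]
        simp only [σ, Subtype.range_val_subtype]
        exact c.2
      exact this
    obtain ⟨p, hp⟩ := hrange a
    obtain ⟨q, hq⟩ := hrange t
    have hqQ : q ∈ Q.primeCompl := fun hmem => by
      have h1 : π q ∈ maximalIdeal B := hmem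
      rw [hq] at h1
      exact h1 t.2
    refine ⟨IsLocalization.mk' P p (⟨q, hqQ⟩ : Q.primeCompl), ?_⟩
    rw [IsLocalization.eq_mk'_iff_mul_eq]
    change φ _ * ((t : Algebra.adjoin A (s : Set B)) : B) = ((a : Algebra.adjoin A (s : Set B)) : B)
    rw [← hp, ← hq, ← hπ, ← hπ, ← map_mul, IsLocalization.mk'_spec]
  haveI : IsNoetherianRing P := IsLocalization.isNoetherianRing Q.primeCompl _ inferInstance
  haveI : Algebra.FormallyEtale (MvPolynomial σ A) P := .of_isLocalization Q.primeCompl
  haveI : Algebra.FormallySmooth A P := Algebra.FormallySmooth.comp A (MvPolynomial σ A) P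
  haveI : Algebra.EssFiniteType (MvPolynomial σ A) P := .of_isLocalization P Q.primeCompl
  haveI : Algebra.EssFiniteType A P := Algebra.EssFiniteType.comp A (MvPolynomial σ A) P
  haveI : Module.Finite P Ω[P⁄A] := inferInstance
  haveI : Module.Free P Ω[P⁄A] := Module.free_of_flat_of_isLocalRing
  exact formallySmooth_of_isAdicFormallySmooth_of_surjective hsurj h

end Groth.Agent.H02CA.EssFTSmooth
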