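import Mathlib.RingTheory.Etale.StandardEtale
import Mathlib.RingTheory.Unramified.LocalStructure
import Mathlib.RingTheory.AdjoinRoot
import Mathlib.RingTheory.Flat.FaithfullyFlat.Algebra
import Mathlib.RingTheory.Finiteness.ModuleFinitePresentation
import Mathlib.RingTheory.LocalRing.ResidueField.Ideal
import Mathlib.RingTheory.Spectrum.Prime.Topology
import Mathlib.FieldTheory.Minpoly.Field
import Mathlib.RingTheory.UniqueFactorizationDomain.Basic

/-!
# Finite flat covers dominating étale covers
-/

set_option autoImplicit false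
universe u

open Polynomial TensorProduct

namespace Groth.Agent.H02CA.EtaleCover

/-- A monic polynomial splits after a finite free faithfully flat extension. -/
theorem exists_splitting : ∀ (n : ℕ) (R : Type u) [CommRing R] (f : R[X]), f.Monic → f.natDegree = n →
    ∃ (A : Type u) (_ : CommRing A) (_ : Algebra R A), Module.Finite R A ∧ Module.Free R A ∧
      Module.FaithfullyFlat R A ∧ ∃ l : Multiset A, f.map (algebraMap R A) = (l.map fun a ↦ X - C a).prod := by
  intro n
  induction n with
  | zero =>
    intro R _ f hf hd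
    exact ⟨R, inferInstance, inferInstance, inferInstance, inferInstance, inferInstance, 0, by
      simp [hf.natDegree_eq_zero.mp hd]⟩
  | succ n ih =>
    intro R _ f hf hd
    have : Nontrivial R := by
      by_contra h
      rw [not_nontrivial_iff_subsingleton] at h
      rw [natDegree_of_subsingleton] at hd
      omega
    let A₁ := AdjoinRoot f
    have := hf.free_adjoinRoot
    have := hf.finite_adjoinRoot
    have : Nontrivial A₁ := by
      refine ⟨⟨(AdjoinRoot.powerBasis' hf).basis ⟨0, by simp [hd]⟩, 0, Module.Basis.ne_zero _ _⟩⟩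
    let r := AdjoinRoot.root f
    let f₁ := f.map (algebraMap R A₁)
    have hroot : f₁.IsRoot r := by
      rw [IsRoot.def, eval_map, AdjoinRoot.algebraMap_eq, AdjoinRoot.eval₂_root]
    let h := f₁ /ₘ (X - C r)
    have hfh : (X - C r) * h = f₁ := mul_divByMonic_eq_iff_isRoot.mpr hroot
    have hm : h.Monic := (monic_X_sub_C r).of_mul_monic_left (hfh ▸ hf.map _)
    have hdh : h.natDegree = n := by
      rw [natDegree_divByMonic _ (monic_X_sub_C r), natDegree_X_sub_C]
      rw [show f₁.natDegree = f.natDegree from hf.natDegree_map _, hd]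
      omega
    obtain ⟨A, _, _, _, _, _, l, hl⟩ := ih A₁ h hm hdh
    let _ : Algebra R A := ((algebraMap A₁ A).comp (algebraMap R A₁)).toAlgebra
    have : IsScalarTower R A₁ A := IsScalarTower.of_algebraMap_eq fun _ ↦ rfl
    refine ⟨A, inferInstance, inferInstance, Module.Finite.trans A₁ A, Module.Free.trans (S := A₁),
      Module.FaithfullyFlat.trans R A₁ A, algebraMap A₁ A r ::ₘ l, ?_⟩
    rw [Multiset.map_cons, Multiset.prod_cons, ← hl, IsScalarTower.algebraMap_eq R A₁ A,
      ← Polynomial.map_map, show f.map (algebraMap R A₁) = _ from hfh.symm, Polynomial.map_mul]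
    simp

variable {R : Type u} [CommRing R]

/-- The finite flat cover of a standard étale algebra. -/
theorem exists_cover (S : Type u) [CommRing S] [Algebra R S] [Algebra.IsStandardEtale R S] :
    ∃ (S' : Type u) (_ : CommRing S') (_ : Algebra R S'),
      Module.Finite R S' ∧ Algebra.FinitePresentation R S' ∧ Module.FaithfullyFlat R S' ∧
        ∀ (q : Ideal S) [q.IsPrime] (q' : Ideal S') [q'.IsPrime], q'.under R = q.under R →
          ∃ (g' : S') (_ : g' ∉ q') (φ : S →ₐ[R] Localization.Away g'),
            (q'.map (algebraMap S' (Localization.Away g'))).comap φ = q := by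
  classical
  obtain ⟨P⟩ := (inferInstance : Nonempty (StandardEtalePresentation R S))
  obtain ⟨A, _, _, _, _, _, l, hl⟩ := exists_splitting _ R P.f P.monic_f rfl
  have : Module.FinitePresentation R A := Module.finitePresentation_of_projective R A
  refine ⟨A, inferInstance, inferInstance, inferInstance, inferInstance, inferInstance,
    fun q _ q' _ hqq' ↦ ?_⟩
  let p := q.under R
  have : q.LiesOver p := ⟨rfl⟩
  have : q'.LiesOver p := ⟨hqq'.symm⟩
  let K := q.ResidueField
  let K' := q'.ResidueField
  let _ := Localization.AtPrime.algebraOfLiesOver p q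
  let _ := Localization.AtPrime.algebraOfLiesOver p q'
  let α : K := algebraMap S K P.x
  have hα : ∀ Q : R[X], aeval α (Q.map (algebraMap R p.ResidueField)) = 0 ↔ aeval P.x Q ∈ q := fun Q ↦ by
    rw [aeval_map_algebraMap, aeval_algebraMap_apply, Ideal.algebraMap_residueField_eq_zero]
  have hα' : ∀ (a : A) (Q : R[X]),
      aeval (algebraMap A K' a) (Q.map (algebraMap R p.ResidueField)) = 0 ↔ aeval a Q ∈ q' := fun a Q ↦ by
    rw [aeval_map_algebraMap, aeval_algebraMap_apply, Ideal.algebraMap_residueField_eq_zero]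
  have hint : IsIntegral p.ResidueField α :=
    ⟨P.f.map (algebraMap R p.ResidueField), P.monic_f.map _, by
      rw [← aeval_def, hα, P.hasMap.1]
      exact q.zero_mem⟩
  let m := minpoly p.ResidueField α
  obtain ⟨a, ha, haroot⟩ : ∃ a ∈ l, aeval (algebraMap A K' a) m = 0 := by
    obtain ⟨π, hπ, hπm⟩ := WfDvdMonoid.exists_irreducible_factor
      (a := m.map (algebraMap p.ResidueField K'))
      (fun h ↦ by
        have := natDegree_eq_zero_of_isUnit h
        rw [natDegree_map] at this
        exact (minpoly.natDegree_pos hint).ne' this)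
      ((Polynomial.map_ne_zero_iff (RingHom.injective _)).mpr (minpoly.ne_zero hint))
    have hdvd : m.map (algebraMap p.ResidueField K') ∣
        ((l.map (algebraMap A K')).map fun c ↦ X - C c).prod := by
      have h1 : m ∣ P.f.map (algebraMap R p.ResidueField) := minpoly.dvd _ _ (by
        rw [hα, P.hasMap.1]; exact q.zero_mem)
      have h2 := congrArg (Polynomial.map (algebraMap A K')) hl
      rw [Polynomial.map_map, ← IsScalarTower.algebraMap_eq, Polynomial.map_multiset_prod,
        Multiset.map_map] at h2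
      have h3 := Polynomial.map_dvd (algebraMap p.ResidueField K') h1
      rw [Polynomial.map_map, ← IsScalarTower.algebraMap_eq] at h3
      refine h3.trans (h2.trans ?_).dvd
      rw [Multiset.map_map]
      congr 1
      refine Multiset.map_congr rfl fun c _ ↦ ?_
      simp
    obtain ⟨c, hc, hπc⟩ := hπ.prime.exists_mem_multiset_map_dvd (hπm.trans hdvd)
    obtain ⟨a, ha, rfl⟩ := Multiset.mem_map.mp hc
    refine ⟨a, ha, ?_⟩
    have hassoc : Associated π (X - C (algebraMap A K' a)) :=
      hπ.associated_of_dvd (irreducible_X_sub_C _) hπc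
    have : (X - C (algebraMap A K' a)) ∣ m.map (algebraMap p.ResidueField K') :=
      hassoc.symm.dvd.trans hπm
    rw [dvd_iff_isRoot, IsRoot.def, eval_map, ← aeval_def] at this
    exact this
  have hm' : minpoly p.ResidueField (algebraMap A K' a) = m :=
    (minpoly.eq_of_irreducible_of_monic (minpoly.irreducible hint) haroot (minpoly.monic hint)).symm
  have key : ∀ Q : R[X], aeval a Q ∈ q' ↔ aeval P.x Q ∈ q := fun Q ↦ by
    rw [← hα', ← hα, ← minpoly.dvd_iff, hm', minpoly.dvd_iff]
  have hgx : aeval P.x P.g ∉ q :=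
    fun h ↦ Ideal.IsPrime.ne_top ‹_› (q.eq_top_of_isUnit_mem h P.hasMap.2)
  let g' := aeval a P.g
  have hg' : g' ∉ q' := fun h ↦ hgx ((key _).mp h)
  have hfa : aeval a P.f = 0 := by
    rw [← eval_map_algebraMap, hl, eval_multiset_prod]
    refine Multiset.prod_eq_zero ?_
    exact Multiset.mem_map.mpr ⟨X - C a, Multiset.mem_map.mpr ⟨a, ha, rfl⟩, by simp⟩
  let L := Localization.Away g'
  have hmap : P.HasMap (algebraMap A L a) := ⟨by rw [aeval_algebraMap_apply, hfa, map_zero], by
    rw [aeval_algebraMap_apply]; exact IsLocalization.Away.algebraMap_isUnit g'⟩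
  let φ : S →ₐ[R] L := (P.P.lift _ hmap).comp P.equivRing.toAlgHom
  have hφx : ∀ Q : R[X], φ (aeval P.x Q) = algebraMap A L (aeval a Q) := fun Q ↦ by
    rw [← aeval_algHom_apply, ← aeval_algebraMap_apply]
    congr 2
    simp [φ]
  refine ⟨g', hg', φ, ?_⟩
  have hdisj : Disjoint (Submonoid.powers g' : Set A) (q' : Set A) :=
    Set.disjoint_left.mpr fun _ ⟨n, hn⟩ hc ↦
      hg' (Ideal.IsPrime.mem_of_pow_mem ‹_› n (by subst hn; exact hc))
  have hq'L : (q'.map (algebraMap A L)).comap (algebraMap A L) = q' :=
    IsLocalization.under_map_of_isPrime_disjoint _ L ‹_› hdisj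
  have hLprime := IsLocalization.isPrime_of_isPrime_disjoint _ L q' ‹_› hdisj
  ext s
  obtain ⟨Q, N, hQ⟩ := P.exists_mul_aeval_x_g_pow_eq_aeval_x s
  have hunit : IsUnit (aeval P.x P.g ^ N) := P.hasMap.2.pow N
  calc φ s ∈ q'.map (algebraMap A L)
      ↔ φ (aeval P.x Q) ∈ q'.map (algebraMap A L) := by
        rw [← hQ, map_mul, Ideal.mul_unit_mem_iff_mem _ (hunit.map φ)]
    _ ↔ aeval a Q ∈ q' := by rw [hφx, ← Ideal.mem_comap, hq'L]
    _ ↔ aeval P.x Q ∈ q := key Q
    _ ↔ s ∈ q := by rw [← hQ, Ideal.mul_unit_mem_iff_mem _ hunit]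

/-- Finitely many finite flat covers are dominated by one. -/
theorem exists_common {ι : Type u} (s : Finset ι) (C : ι → Type u) [∀ i, CommRing (C i)]
    [∀ i, Algebra R (C i)] [∀ i, Module.Finite R (C i)] [∀ i, Algebra.FinitePresentation R (C i)]
    [∀ i, Module.FaithfullyFlat R (C i)] :
    ∃ (T : Type u) (_ : CommRing T) (_ : Algebra R T), Module.Finite R T ∧
      Algebra.FinitePresentation R T ∧ Module.FaithfullyFlat R T ∧
      ∀ i ∈ s, Nonempty (C i →ₐ[R] T) := by
  classical
  induction s using Finset.induction with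
  | empty =>
    exact ⟨R, inferInstance, inferInstance, inferInstance, inferInstance, inferInstance, by simp⟩
  | insert a s _ ih =>
    obtain ⟨T, _, _, _, _, _, h⟩ := ih
    refine ⟨C a ⊗[R] T, inferInstance, inferInstance, inferInstance,
      Algebra.FinitePresentation.trans R (C a) _, Module.FaithfullyFlat.trans R (C a) _, fun i hi ↦ ?_⟩
    rcases Finset.mem_insert.mp hi with rfl | hi
    · exact ⟨Algebra.TensorProduct.includeLeft⟩
    · exact ⟨Algebra.TensorProduct.includeRight.comp (h i hi).some⟩

/-- A finite flat cover through which an étale cover factors locally. -/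
theorem exists_dominating (S : Type u) [CommRing S] [Algebra R S] [Algebra.Etale R S]
    (hs : Function.Surjective (PrimeSpectrum.comap (algebraMap R S))) :
    ∃ (S' : Type u) (_ : CommRing S') (_ : Algebra R S'),
      Module.Finite R S' ∧ Algebra.FinitePresentation R S' ∧ Module.FaithfullyFlat R S' ∧
        ∀ (q' : Ideal S') [q'.IsPrime], ∃ (g' : S') (_ : g' ∉ q'),
          Nonempty (S →ₐ[R] Localization.Away g') := by
  classical
  have h := fun q : PrimeSpectrum S ↦
    Algebra.IsEtaleAt.exists_isStandardEtale (R := R) q.asIdeal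
  choose f hf hst using h
  obtain ⟨t, ht⟩ := (isCompact_univ (X := PrimeSpectrum S)).elim_finite_subcover
    (fun q ↦ (PrimeSpectrum.basicOpen (f q) : Set (PrimeSpectrum S)))
    (fun q ↦ (PrimeSpectrum.basicOpen (f q)).2) (fun q _ ↦ Set.mem_iUnion.mpr ⟨q, hf q⟩)
  have h' := fun q : PrimeSpectrum S ↦
    have := hst q
    exists_cover (R := R) (Localization.Away (f q))
  choose C iC aC hfin hfp hff hcov using h'
  obtain ⟨T, _, _, _, _, _, hT⟩ := exists_common (R := R) t C
  refine ⟨T, inferInstance, inferInstance, inferInstance, inferInstance, inferInstance,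
    fun q' _ ↦ ?_⟩
  obtain ⟨q, hq⟩ := hs ⟨q'.under R, inferInstance⟩
  obtain ⟨i, hi, hqi⟩ := Set.mem_iUnion₂.mp (ht (Set.mem_univ q))
  let χ := (hT i hi).some
  have hdisj : Disjoint (Submonoid.powers (f i) : Set S) (q.asIdeal : Set S) :=
    Set.disjoint_left.mpr fun _ ⟨n, hn⟩ hc ↦ hqi (q.2.mem_of_pow_mem n (by subst hn; exact hc))
  let qi : Ideal (Localization.Away (f i)) := q.asIdeal.map (algebraMap S _)
  have : qi.IsPrime := IsLocalization.isPrime_of_isPrime_disjoint _ _ _ q.2 hdisj
  have hunder : (q'.comap χ.toRingHom).under R = qi.under R := by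
    rw [Ideal.under, Ideal.comap_comap, AlgHom.toRingHom_eq_coe, AlgHom.comp_algebraMap,
      Ideal.under, IsScalarTower.algebraMap_eq R S (Localization.Away (f i)), ← Ideal.comap_comap]
    have h1 : qi.comap (algebraMap S (Localization.Away (f i))) = q.asIdeal :=
      IsLocalization.under_map_of_isPrime_disjoint _ _ q.2 hdisj
    rw [h1]
    exact (congrArg PrimeSpectrum.asIdeal hq).symm
  obtain ⟨g, hg, φ, -⟩ := hcov i qi (q'.comap χ.toRingHom) hunder
  refine ⟨χ g, hg, ⟨((Localization.awayMapₐ χ g).comp φ).comp (IsScalarTower.toAlgHom R S _)⟩⟩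

end Groth.Agent.H02CA.EtaleCover
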