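import Groth.Agent.H8Props.FlatUnramified
import Groth.Agent.H7Flat.FibreCriterion
import Groth.Agent.H3CAlg.ArtinFlat

/-! Étaleness lifts along square-zero extensions. -/

set_option autoImplicit false

universe u

open TensorProduct

namespace Groth.Agent.H02CA.EtaleLift

variable {A' : Type u} [CommRing A'] {A : Type u} [CommRing A] [Algebra A' A]
  {B' : Type u} [CommRing B'] [Algebra A' B'] {B : Type u} [CommRing B] [Algebra B' B]
  [Algebra A B] [Algebra A' B] [IsScalarTower A' A B] [IsScalarTower A' B' B]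

theorem finiteType (hA : Function.Surjective (algebraMap A' A))
    (hI : RingHom.ker (algebraMap A' A) ^ 2 = ⊥)
    (hJI : RingHom.ker (algebraMap B' B) = (RingHom.ker (algebraMap A' A)).map (algebraMap A' B'))
    (hB : Function.Surjective (algebraMap B' B)) [Algebra.FiniteType A B] :
    Algebra.FiniteType A' B' := by
  classical
  haveI : Algebra.FiniteType A' A := Algebra.FiniteType.of_surjective (Algebra.ofId A' A) hA
  haveI : Algebra.FiniteType A' B := Algebra.FiniteType.trans (S := A) inferInstance inferInstance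
  set I := RingHom.ker (algebraMap A' A) with hIdef
  obtain ⟨s, hs⟩ := (Algebra.FiniteType.out : (⊤ : Subalgebra A' B).FG)
  choose g hg using hB
  let T := Algebra.adjoin A' ((s.image g : Finset B') : Set B')
  refine ⟨⟨s.image g, ?_⟩⟩
  have key : ∀ b : B', ∃ t ∈ T, b - t ∈ I • (⊤ : Submodule A' B') := by
    intro b
    have h1 : algebraMap B' B b ∈ T.map (IsScalarTower.toAlgHom A' B' B) := by
      rw [AlgHom.map_adjoin, Finset.coe_image, ← Set.image_comp]
      have : (IsScalarTower.toAlgHom A' B' B : B' → B) ∘ g = id := funext hg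
      rw [this, Set.image_id, hs]
      trivial
    obtain ⟨t, ht, htb⟩ := h1
    have h3 : b - t ∈ RingHom.ker (algebraMap B' B) := by
      rw [RingHom.mem_ker, map_sub]
      exact sub_eq_zero.mpr htb.symm
    rw [hJI] at h3
    exact ⟨t, ht, by rw [Ideal.smul_top_eq_map]; exact h3⟩
  have h2 : I • (⊤ : Submodule A' B') ≤ Subalgebra.toSubmodule T := by
    refine Submodule.smul_le.mpr fun a ha b _ => ?_
    obtain ⟨t, ht, hbt⟩ := key b
    have h0 : a • (b - t) = 0 := by
      have h := Submodule.smul_mem_smul ha hbt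
      rw [← Submodule.smul_assoc, smul_eq_mul, ← pow_two, hI, Submodule.bot_smul] at h
      exact (Submodule.mem_bot A').mp h
    rw [show a • b = a • (b - t) + a • t by rw [smul_sub, sub_add_cancel], h0, zero_add]
    exact T.smul_mem ht a
  exact eq_top_iff.mpr fun b _ => by
    obtain ⟨t, ht, hbt⟩ := key b
    show b ∈ T
    simpa using add_mem ht (h2 hbt)

theorem flat (hA : Function.Surjective (algebraMap A' A))
    (hI : RingHom.ker (algebraMap A' A) ^ 2 = ⊥)
    (hB : Function.Surjective (algebraMap B' B))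
    (hJI : RingHom.ker (algebraMap B' B) = (RingHom.ker (algebraMap A' A)).map (algebraMap A' B'))
    (hinj : Function.Injective ((RingHom.ker (algebraMap A' A)).subtype.baseChange B'))
    [Module.Flat A B] : Module.Flat A' B' := by
  set I := RingHom.ker (algebraMap A' A)
  let e : A' ⧸ I →+* A := RingHom.kerLift (algebraMap A' A)
  have he : Function.Bijective e := ⟨RingHom.kerLift_injective _, fun a => by
    obtain ⟨a, rfl⟩ := hA a; exact ⟨Ideal.Quotient.mk _ a, rfl⟩⟩
  letI : Algebra (A' ⧸ I) A := e.toAlgebra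
  haveI : Module.Flat (A' ⧸ I) A := Module.Flat.of_linearEquiv
    (LinearEquiv.ofBijective (Algebra.linearMap (A' ⧸ I) A) he).symm
  letI : Algebra (A' ⧸ I) B := ((algebraMap A B).comp e).toAlgebra
  haveI : IsScalarTower (A' ⧸ I) A B := IsScalarTower.of_algebraMap_eq fun _ => rfl
  haveI : IsScalarTower A' (A' ⧸ I) B := IsScalarTower.of_algebraMap_eq fun a =>
    (IsScalarTower.algebraMap_apply A' A B a)
  haveI : Module.Flat (A' ⧸ I) B := Module.Flat.trans (A' ⧸ I) A B
  let F : (A' ⧸ I) ⊗[A'] B' →ₐ[A' ⧸ I] B :=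
    Algebra.TensorProduct.lift (Algebra.ofId _ _) (IsScalarTower.toAlgHom A' B' B)
      fun _ _ => Commute.all _ _
  have hF : Function.Bijective F := by
    refine ⟨(injective_iff_map_eq_zero F).mpr fun z hz => ?_, fun b => ?_⟩
    · have hsur : ∀ z : (A' ⧸ I) ⊗[A'] B', ∃ b, z = 1 ⊗ₜ b := by
        intro z
        induction z using TensorProduct.induction_on with
        | zero => exact ⟨0, (tmul_zero _ _).symm⟩
        | tmul q b =>
          obtain ⟨a, rfl⟩ := Ideal.Quotient.mk_surjective q
          exact ⟨a • b, by rw [tmul_smul, smul_tmul', Algebra.smul_def, mul_one]; rfl⟩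
        | add x y hx hy =>
          obtain ⟨b, rfl⟩ := hx
          obtain ⟨c, rfl⟩ := hy
          exact ⟨b + c, (tmul_add _ _ _).symm⟩
      obtain ⟨b, rfl⟩ := hsur z
      simp only [F, Algebra.TensorProduct.lift_tmul, map_one, one_mul] at hz
      have hb : b ∈ I • (⊤ : Submodule A' B') := by
        rw [Ideal.smul_top_eq_map]
        have : b ∈ RingHom.ker (algebraMap B' B) := hz
        rwa [hJI] at this
      refine Submodule.smul_induction_on (p := fun b => (1 : A' ⧸ I) ⊗ₜ[A'] b = 0) hb
        (fun a ha c _ => ?_) fun x y hx hy => by rw [tmul_add, hx, hy, add_zero]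
      rw [tmul_smul, smul_tmul', Algebra.smul_def, mul_one, Ideal.Quotient.algebraMap_eq,
        Ideal.Quotient.eq_zero_iff_mem.mpr ha, zero_tmul]
    · obtain ⟨b, rfl⟩ := hB b
      exact ⟨1 ⊗ₜ b, by simp [F]⟩
  haveI : Module.Flat (A' ⧸ I) ((A' ⧸ I) ⊗[A'] B') :=
    Module.Flat.of_linearEquiv (LinearEquiv.ofBijective F.toLinearMap hF)
  exact H7Flat.flat_of_isNilpotent I ⟨2, hI⟩ hinj

theorem formallyUnramified (hA : Function.Surjective (algebraMap A' A))
    (hB : Function.Surjective (algebraMap B' B))
    (hJI : RingHom.ker (algebraMap B' B) = (RingHom.ker (algebraMap A' A)).map (algebraMap A' B'))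
    (hJ : RingHom.ker (algebraMap B' B) ^ 2 = ⊥) [Algebra.FormallyUnramified A B] :
    Algebra.FormallyUnramified A' B' := by
  haveI : Algebra.FormallyUnramified A' A := Algebra.FormallyUnramified.of_surjective (Algebra.ofId A' A) hA
  haveI : Algebra.FormallyUnramified A' B := Algebra.FormallyUnramified.comp A' A B
  refine ⟨?_⟩
  set J := RingHom.ker (algebraMap B' B)
  have h0 : ∀ z : B ⊗[B'] Ω[B'⁄A'], z = 0 := by
    intro z
    obtain ⟨w, rfl⟩ := (KaehlerDifferential.exact_kerCotangentToTensor_mapBaseChange A' B' B hB z).mp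
      (Subsingleton.elim _ _)
    obtain ⟨⟨x, hx⟩, rfl⟩ := Ideal.toCotangent_surjective _ w
    rw [KaehlerDifferential.kerCotangentToTensor_toCotangent]
    have hx' : x ∈ (RingHom.ker (algebraMap A' A)) • (⊤ : Submodule A' B') := by
      rw [Ideal.smul_top_eq_map, ← hJI]; exact hx
    refine Submodule.smul_induction_on (p := fun x => (1 : B) ⊗ₜ[B'] KaehlerDifferential.D A' B' x = 0)
      hx' (fun a ha b _ => ?_) fun p q hp hq => by rw [map_add, tmul_add, hp, hq, add_zero]
    rw [Derivation.map_smul, ← algebraMap_smul B' a, tmul_smul, smul_tmul', Algebra.smul_def, mul_one,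
      ← IsScalarTower.algebraMap_apply, IsScalarTower.algebraMap_apply A' A B, RingHom.mem_ker.mp ha,
      map_zero, zero_tmul]
  refine ⟨fun p q => ?_⟩
  have htop : (⊤ : Submodule B' Ω[B'⁄A']) ≤ J • ⊤ := by
    intro w _
    let eB : (B' ⧸ J) ≃ₗ[B'] B :=
      LinearEquiv.ofBijective ((Submodule.liftQ J (Algebra.linearMap B' B) fun _ h => h))
        ⟨(injective_iff_map_eq_zero _).mpr fun v hv => by
          obtain ⟨v, rfl⟩ := Submodule.Quotient.mk_surjective _ v
          exact (Submodule.Quotient.mk_eq_zero J).mpr hv,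
        fun b => by obtain ⟨b, rfl⟩ := hB b; exact ⟨Submodule.Quotient.mk b, rfl⟩⟩
    have h1 : (1 : B' ⧸ J) ⊗ₜ[B'] w = 0 := (eB.rTensor Ω[B'⁄A']).injective (by
      rw [map_zero]; exact h0 _)
    have h2 := congrArg (TensorProduct.quotTensorEquivQuotSMul Ω[B'⁄A'] J) h1
    rw [map_zero, show (1 : B' ⧸ J) = Ideal.Quotient.mk J 1 from rfl,
      TensorProduct.quotTensorEquivQuotSMul_mk_tmul, one_smul, Submodule.Quotient.mk_eq_zero] at h2
    exact h2
  have hbot := H3CAlg.top_eq_bot_of_le_smul J ⟨2, hJ⟩ htop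
  have : ∀ p : Ω[B'⁄A'], p = 0 := fun p =>
    (Submodule.mem_bot B').mp (hbot ▸ Submodule.mem_top)
  rw [this p, this q]

theorem finitePresentation (hA : Function.Surjective (algebraMap A' A))
    (hI : RingHom.ker (algebraMap A' A) ^ 2 = ⊥)
    (hB : Function.Surjective (algebraMap B' B))
    (hJI : RingHom.ker (algebraMap B' B) = (RingHom.ker (algebraMap A' A)).map (algebraMap A' B'))
    (hinj : Function.Injective ((RingHom.ker (algebraMap A' A)).subtype.baseChange B'))
    [Algebra.FinitePresentation A B] : Algebra.FinitePresentation A' B' := by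
  classical
  haveI := finiteType hA hI hJI hB
  set I := RingHom.ker (algebraMap A' A)
  obtain ⟨n, π, hπ⟩ := Algebra.FiniteType.iff_quotient_mvPolynomial''.mp ‹Algebra.FiniteType A' B'›
  let P := MvPolynomial (Fin n) A'
  let K : Submodule A' P := LinearMap.ker π.toLinearMap
  let red : P →+* MvPolynomial (Fin n) A := MvPolynomial.map (algebraMap A' A)
  let π' : MvPolynomial (Fin n) A →ₐ[A] B :=
    MvPolynomial.aeval fun i => algebraMap B' B (π (MvPolynomial.X i))
  have hred : ∀ z : P, π' (red z) = algebraMap B' B (π z) := by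
    intro z
    induction z using MvPolynomial.induction_on with
    | C a =>
      erw [MvPolynomial.map_C, MvPolynomial.aeval_C, π.commutes,
        ← IsScalarTower.algebraMap_apply, ← IsScalarTower.algebraMap_apply]
    | add a b ha hb => simp only [map_add, ha, hb]
    | mul_X a i ha =>
      simp only [map_mul, ha]
      erw [MvPolynomial.map_X, MvPolynomial.aeval_X]
  have hπ' : Function.Surjective π' := fun b => by
    obtain ⟨b, rfl⟩ := hB b
    obtain ⟨z, rfl⟩ := hπ b
    exact ⟨red z, hred z⟩
  have hredsurj : Function.Surjective red := MvPolynomial.map_surjective _ hA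
  obtain ⟨s, hs⟩ := Algebra.FinitePresentation.ker_fG_of_surjective π' hπ'
  have hlift : ∀ y ∈ RingHom.ker π', ∃ k ∈ RingHom.ker π, red k = y := by
    intro y hy
    obtain ⟨z, rfl⟩ := hredsurj y
    rw [RingHom.mem_ker, hred] at hy
    have hy' : π z ∈ I • (⊤ : Submodule A' B') := by
      rw [Ideal.smul_top_eq_map]
      have : π z ∈ RingHom.ker (algebraMap B' B) := hy
      rwa [hJI] at this
    have hmap : I • (⊤ : Submodule A' B') = (I • (⊤ : Submodule A' P)).map π.toLinearMap := by
      rw [Submodule.map_smul'', Submodule.map_top, LinearMap.range_eq_top.mpr hπ]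
    rw [hmap] at hy'
    obtain ⟨w, hw, hwz⟩ := hy'
    refine ⟨z - w, by rw [RingHom.mem_ker, map_sub]; exact sub_eq_zero.mpr hwz.symm, ?_⟩
    rw [map_sub, sub_eq_self]
    refine Submodule.smul_induction_on (p := fun w => red w = 0) hw (fun a ha c _ => ?_)
      fun p q hp hq => by rw [map_add, hp, hq, add_zero]
    rw [Algebra.smul_def, map_mul, MvPolynomial.algebraMap_eq]
    erw [MvPolynomial.map_C, RingHom.mem_ker.mp ha, map_zero, zero_mul]
  have hs' : ∀ y ∈ s, y ∈ RingHom.ker π' := fun y hy => hs ▸ Submodule.subset_span hy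
  choose l hl hlred using fun y : s => hlift y.1 (hs' y.1 y.2)
  let L : Ideal P := Ideal.span (Set.range l)
  have hLK : L ≤ RingHom.ker π := Ideal.span_le.mpr (by rintro _ ⟨y, rfl⟩; exact hl y)
  have hint : ∀ x ∈ RingHom.ker π, x ∈ (I • (⊤ : Submodule A' P)) → x ∈ I • K := by
    intro x hx hxI
    let μ : P ⊗[A'] I →ₗ[A'] P := (TensorProduct.rid A' P).toLinearMap ∘ₗ I.subtype.lTensor P
    obtain ⟨z, rfl⟩ : ∃ z, μ z = x := by
      refine Submodule.smul_induction_on (p := fun x => ∃ z, μ z = x) hxI
        (fun a ha c _ => ⟨c ⊗ₜ ⟨a, ha⟩, by simp [μ]⟩) ?_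
      rintro p q ⟨z, rfl⟩ ⟨w, rfl⟩
      exact ⟨z + w, map_add _ _ _⟩
    have h1 : π.toLinearMap.rTensor I z = 0 := by
      refine hinj ((TensorProduct.rid A' B').injective ?_)
      rw [map_zero, map_zero]
      refine Eq.trans ?_ (RingHom.mem_ker.mp hx)
      clear hx hxI
      induction z using TensorProduct.induction_on with
      | zero => simp
      | tmul c a => simp [μ]
      | add p q hp hq => simp only [map_add, hp, hq]
    obtain ⟨w, rfl⟩ := (rTensor_exact I (LinearMap.exact_subtype_ker_map π.toLinearMap) hπ z).mp h1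
    clear hx hxI h1
    induction w using TensorProduct.induction_on with
    | zero => simp
    | tmul c a =>
      have : μ ((Submodule.subtype K).rTensor I (c ⊗ₜ a)) = (a : A') • (c : P) := by simp [μ]
      exact this ▸ Submodule.smul_mem_smul a.2 c.2
    | add p q hp hq => simp only [map_add]; exact add_mem hp hq
  have hdec : ∀ x ∈ RingHom.ker π, ∃ k ∈ L, x - k ∈ I • K := by
    intro x hx
    have hx' : red x ∈ RingHom.ker π' := by
      rw [RingHom.mem_ker, hred, RingHom.mem_ker.mp hx, map_zero]
    have hx'' : red x ∈ Submodule.span (MvPolynomial (Fin n) A) (s : Set _) := by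
      show red x ∈ Ideal.span (s : Set _)
      exact (SetLike.ext_iff.mp hs.symm (red x)).mp hx'
    have hLred : Submodule.span (MvPolynomial (Fin n) A) (s : Set _) ≤ L.map red :=
      Submodule.span_le.mpr fun y hy => by
        have h := Ideal.mem_map_of_mem red (Ideal.subset_span ⟨⟨y, hy⟩, rfl⟩ : l ⟨y, hy⟩ ∈ L)
        rw [hlred] at h
        exact h
    obtain ⟨k, hk, hkx⟩ := (Ideal.mem_map_iff_of_surjective red hredsurj).mp (hLred hx'')
    refine ⟨k, hk, hint _ (sub_mem hx (hLK hk)) ?_⟩
    have h3 : x - k ∈ RingHom.ker red := by rw [RingHom.mem_ker, map_sub, hkx, sub_self]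
    rw [MvPolynomial.ker_map] at h3
    rw [Ideal.smul_top_eq_map]
    exact h3
  have hKL : RingHom.ker π ≤ L := by
    intro x hx
    obtain ⟨k, hk, hxk⟩ := hdec x hx
    have hIK : I • K ≤ L.restrictScalars A' := by
      refine Submodule.smul_le.mpr fun a ha c hc => ?_
      obtain ⟨k', hk', hck⟩ := hdec c hc
      have h0 : a • (c - k') = 0 := by
        have h := Submodule.smul_mem_smul ha hck
        rw [← Submodule.smul_assoc, smul_eq_mul, ← pow_two, hI, Submodule.bot_smul] at h
        exact (Submodule.mem_bot A').mp h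
      rw [show a • c = a • (c - k') + a • k' by rw [smul_sub, sub_add_cancel], h0, zero_add]
      exact L.smul_of_tower_mem a hk'
    simpa using add_mem hk (hIK hxk)
  refine Algebra.FinitePresentation.of_surjective hπ ⟨Finset.univ.image l, ?_⟩
  rw [Finset.coe_image, Finset.coe_univ, Set.image_univ]
  exact le_antisymm hLK hKL

end Groth.Agent.H02CA.EtaleLift

namespace Groth.Agent.H02CA.EtaleLift

theorem etale {A' : Type u} [CommRing A'] {A : Type u} [CommRing A] [Algebra A' A]
    {B' : Type u} [CommRing B'] [Algebra A' B'] {B : Type u} [CommRing B] [Algebra B' B]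
    [Algebra A B] [Algebra A' B] [IsScalarTower A' A B] [IsScalarTower A' B' B]
    (hA : Function.Surjective (algebraMap A' A))
    (hI : RingHom.ker (algebraMap A' A) ^ 2 = ⊥)
    (hB : Function.Surjective (algebraMap B' B)) (hJ : RingHom.ker (algebraMap B' B) ^ 2 = ⊥)
    [Algebra.Etale A B]
    (hJI : RingHom.ker (algebraMap B' B) = (RingHom.ker (algebraMap A' A)).map (algebraMap A' B'))
    (hinj : Function.Injective ((RingHom.ker (algebraMap A' A)).subtype.baseChange B')) :
    Algebra.Etale A' B' := by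
  haveI := finitePresentation hA hI hB hJI hinj
  haveI := flat hA hI hB hJI hinj
  haveI := formallyUnramified hA hB hJI hJ
  haveI := H8Props.FlatUnramified.formallyEtale_of_flat_of_formallyUnramified (R := A') (A := B')
  exact ⟨inferInstance, inferInstance⟩

end Groth.Agent.H02CA.EtaleLift
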