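import Groth.Agent.H02CA.KoszExtCech

/-!
# `colim_n H^p(f^n, M) = extCechH fs M p`
-/

set_option autoImplicit false

namespace Groth.Agent.H02CA.KEC

universe u

open CategoryTheory CategoryTheory.Limits CochainComplex
open Groth.Agent.H22Alg

variable {A : Type u} [CommRing A] {C D : CochainComplex (ModuleCat.{u} A) ℤ}

/-- Cycles to homology, with explicit next degree. -/
noncomputable def cls (C : CochainComplex (ModuleCat.{u} A) ℤ) (i k : ℤ) (hk : i + 1 = k) :
    LinearMap.ker (C.d i k).hom →ₗ[A] C.homology i :=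
  (C.liftCycles (ModuleCat.ofHom (LinearMap.ker (C.d i k).hom).subtype) k (by simp; omega)
    (by ext y; exact y.2) ≫ C.homologyπ i).hom

theorem iCycles_lift (C : CochainComplex (ModuleCat.{u} A) ℤ) (i k : ℤ) (hk : i + 1 = k)
    (z : LinearMap.ker (C.d i k).hom) :
    C.iCycles i (C.liftCycles (ModuleCat.ofHom (LinearMap.ker (C.d i k).hom).subtype) k
      (by simp; omega) (by ext y; exact y.2) z) = z.1 :=
  ConcreteCategory.congr_hom (C.liftCycles_i (ModuleCat.ofHom (LinearMap.ker (C.d i k).hom).subtype)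
    k (by simp; omega) (by ext y; exact y.2)) z

theorem cls_surjective (C : CochainComplex (ModuleCat.{u} A) ℤ) (i k : ℤ) (hk : i + 1 = k) :
    Function.Surjective (cls C i k hk) := fun η => by
  obtain ⟨w, rfl⟩ := HomologyElt.homologyπ_surjective C i η
  refine ⟨⟨C.iCycles i w, HomologyElt.d_iCycles C i k w⟩, ?_⟩
  exact congrArg (C.homologyπ i) (HomologyElt.iCycles_injective C i (iCycles_lift C i k hk _))

theorem cls_eq_zero_iff (C : CochainComplex (ModuleCat.{u} A) ℤ) (h i k : ℤ) (hh : h + 1 = i)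
    (hk : i + 1 = k) (z : LinearMap.ker (C.d i k).hom) :
    cls C i k hk z = 0 ↔ ∃ a, C.d h i a = z.1 := by
  refine (HomologyElt.homologyπ_eq_zero_iff C (j := h) (by simp; omega) _).trans
    (exists_congr fun a => ?_)
  constructor
  · exact fun e => e.trans (iCycles_lift C i k hk z)
  · exact fun e => e.trans (iCycles_lift C i k hk z).symm

theorem map_cls (g : C ⟶ D) (i k : ℤ) (hk : i + 1 = k) (z : LinearMap.ker (C.d i k).hom)
    (w : LinearMap.ker (D.d i k).hom) (hw : g.f i z.1 = w.1) :
    HomologicalComplex.homologyMap g i (cls C i k hk z) = cls D i k hk w := by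
  refine (HomologyElt.map_homologyπ g _).trans ?_
  refine congrArg (D.homologyπ i) (HomologyElt.iCycles_injective D i ?_)
  refine (HomologyElt.i_cyclesMap g _).trans ?_
  exact ((congrArg (g.f i) (iCycles_lift C i k hk z)).trans hw).trans (iCycles_lift D i k hk w).symm

variable (M : ModuleCat.{u} A) (fs : List A)

/-- `H^i(f^n; M) → extCechH fs M p` on classes. -/
theorem exists_toCechH (n : ℕ) (h i k q p p' : ℤ) (hh : h + 1 = i) (hk : i + 1 = k) (hq : q + 1 = p)
    (hp : p + 1 = p') (hi : i + fs.length = p) :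
    ∃ T : (CohIII.koszulCx M (fs.map (· ^ n))).homology i →ₗ[A] DerCA.extCechH fs M p,
      ∀ (z : LinearMap.ker ((CohIII.koszulCx M (fs.map (· ^ n))).d i k).hom)
        (w : LinearMap.ker ((DerCA.extCech M fs).d p p').hom), toCech M fs n i p hi z.1 = w.1 →
          T (cls _ i k hk z) = cls _ p p' hp w := by
  let α : LinearMap.ker ((CohIII.koszulCx M (fs.map (· ^ n))).d i k).hom →ₗ[A]
      LinearMap.ker ((DerCA.extCech M fs).d p p').hom :=
    (toCech M fs n i p hi ∘ₗ Submodule.subtype _).codRestrict _ fun z => by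
      have e := toCech_d M fs n i k p p' hk hp hi (by omega) z.1
      rw [show ((CohIII.koszulCx M (fs.map (· ^ n))).d i k) z.1 = 0 from z.2, map_zero] at e
      have e' := congrArg (fun v => (-1 : A) ^ fs.length • v) e
      simp only [smul_zero, smul_smul, ← mul_pow, neg_mul_neg, one_mul, one_pow, one_smul] at e'
      exact e'.symm
  have hker : LinearMap.ker (cls _ i k hk) ≤ LinearMap.ker (cls _ p p' hp ∘ₗ α) := by
    intro z hz
    obtain ⟨a, ha⟩ := (cls_eq_zero_iff _ h i k hh hk z).1 hz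
    refine (cls_eq_zero_iff _ q p p' hq hp _).2
      ⟨(-1 : A) ^ fs.length • toCech M fs n h q (by omega) a, ?_⟩
    change _ = toCech M fs n i p hi z.1
    rw [← ha, toCech_d M fs n h i q p hh hq (by omega) hi a, map_smul]
  refine ⟨(LinearMap.ker (cls _ i k hk)).liftQ _ hker ∘ₗ
    ((cls _ i k hk).quotKerEquivOfSurjective (cls_surjective _ i k hk)).symm.toLinearMap,
    fun z w hzw => ?_⟩
  rw [LinearMap.comp_apply, show ((cls _ i k hk).quotKerEquivOfSurjective
    (cls_surjective _ i k hk)).symm.toLinearMap (cls _ i k hk z) = Submodule.Quotient.mk z from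
      ((cls _ i k hk).quotKerEquivOfSurjective (cls_surjective _ i k hk)).symm_apply_eq.2 rfl,
    Submodule.liftQ_apply, LinearMap.comp_apply]
  exact congrArg _ (Subtype.ext hzw)

theorem nonempty_koszulHLim_equiv (p : ℕ) :
    Nonempty (CohIII.koszulHLim fs M p ≃ₗ[A] DerCA.extCechH fs M (p : ℤ)) := by
  let i : ℤ := (p : ℤ) - fs.length
  let K : ℕ → CochainComplex (ModuleCat.{u} A) ℤ := fun n => CohIII.koszulCx M (fs.map (· ^ n))
  let G : ℕ → Type u := fun n => ((K n).homology i : Type u)
  let tr : ∀ n m, n ≤ m → (G n →ₗ[A] G m) := fun n m h =>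
    (HomologicalComplex.homologyMap (CohIII.koszulTrans M n m h fs) i).hom
  choose T hT using fun n => exists_toCechH M fs n (i - 1) i (i + 1) ((p : ℤ) - 1) p ((p : ℤ) + 1)
    (by omega) rfl (by omega) rfl (by omega)
  have hcyc : ∀ n (z : LinearMap.ker ((K n).d i (i + 1)).hom),
      (DerCA.extCech M fs).d p (p + 1) (toCech M fs n i p (by omega) z.1) = 0 := fun n z => by
    have e := toCech_d M fs n i (i + 1) p (p + 1) rfl rfl (by omega) (by omega) z.1
    rw [show ((K n).d i (i + 1)) z.1 = 0 from z.2, map_zero] at e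
    have e' := congrArg (fun v => (-1 : A) ^ fs.length • v) e
    simp only [smul_zero, smul_smul, ← mul_pow, neg_mul_neg, one_mul, one_pow, one_smul] at e'
    exact e'.symm
  have htr : ∀ n m (h : n ≤ m) (z : LinearMap.ker ((K n).d i (i + 1)).hom),
      (K m).d i (i + 1) ((CohIII.koszulTrans M n m h fs).f i z.1) = 0 := fun n m h z => by
    have e := ConcreteCategory.congr_hom ((CohIII.koszulTrans M n m h fs).comm i (i + 1)) z.1
    refine e.trans ?_
    rw [ConcreteCategory.comp_apply, show (K n).d i (i + 1) z.1 = 0 from z.2]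
    exact map_zero ((CohIII.koszulTrans M n m h fs).f (i + 1)).hom
  have Hg : ∀ n m (h : n ≤ m) (x : G n), T m (tr n m h x) = T n x := fun n m h x => by
    obtain ⟨z, rfl⟩ := cls_surjective _ i (i + 1) rfl x
    rw [hT n z ⟨_, hcyc n z⟩ rfl]
    refine (congrArg (T m) (map_cls _ i (i + 1) rfl z ⟨_, htr n m h z⟩ rfl)).trans (hT m _ _ ?_)
    exact toCech_trans M fs n m h i p (by omega) z.1
  let L : Module.DirectLimit G tr →ₗ[A] DerCA.extCechH fs M (p : ℤ) :=
    Module.DirectLimit.lift A ℕ G tr T Hg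
  refine ⟨LinearEquiv.ofBijective L ⟨(injective_iff_map_eq_zero L).2 fun x hx => ?_, fun y => ?_⟩⟩
  · obtain ⟨n, x, rfl⟩ := Module.DirectLimit.exists_of x
    rw [Module.DirectLimit.lift_of] at hx
    obtain ⟨z, rfl⟩ := cls_surjective _ i (i + 1) rfl x
    rw [hT n z ⟨_, hcyc n z⟩ rfl, cls_eq_zero_iff _ ((p : ℤ) - 1) p (p + 1) (by omega) rfl] at hx
    obtain ⟨y, hy⟩ := hx
    obtain ⟨n₁, a, ha⟩ := exists_toCech M fs (i - 1) ((p : ℤ) - 1) (by omega) y
    have h0 : toCech M fs (n + n₁) i p (by omega)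
        ((CohIII.koszulTrans M n (n + n₁) (by omega) fs).f i z.1 -
          (K (n + n₁)).d (i - 1) i ((-1 : A) ^ fs.length •
            (CohIII.koszulTrans M n₁ (n + n₁) (by omega) fs).f (i - 1) a)) = 0 := by
      rw [map_sub, toCech_trans, map_smul, map_smul,
        toCech_d M fs (n + n₁) (i - 1) i ((p : ℤ) - 1) p (by omega) (by omega) (by omega) (by omega),
        toCech_trans, ha, smul_smul, ← mul_pow, neg_mul_neg, one_mul, one_pow, one_smul, hy, sub_self]
    obtain ⟨m, hm, e⟩ := exists_trans_eq_zero M fs (n + n₁) i p (by omega) _ h0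
    rw [← Module.DirectLimit.of_f (hij := (show n ≤ m by omega))]
    suffices h : tr n m (by omega) (cls (K n) i (i + 1) rfl z) = 0 by rw [h, map_zero]
    refine (map_cls _ i (i + 1) rfl z ⟨_, htr n m (by omega) z⟩ rfl).trans
      ((cls_eq_zero_iff _ (i - 1) i (i + 1) (by omega) rfl _).2
        ⟨(CohIII.koszulTrans M (n + n₁) m hm fs).f (i - 1) ((-1 : A) ^ fs.length •
            (CohIII.koszulTrans M n₁ (n + n₁) (by omega) fs).f (i - 1) a), ?_⟩)
    rw [map_sub, trans_trans, sub_eq_zero] at e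
    exact (ConcreteCategory.congr_hom ((CohIII.koszulTrans M (n + n₁) m hm fs).comm (i - 1) i) _).trans
      e.symm
  · obtain ⟨w, rfl⟩ := cls_surjective _ (p : ℤ) (p + 1) rfl y
    obtain ⟨n, x, hx⟩ := exists_toCech M fs i p (by omega) w.1
    have h0 : toCech M fs n (i + 1) ((p : ℤ) + 1) (by omega) ((K n).d i (i + 1) x) = 0 := by
      rw [toCech_d M fs n i (i + 1) p (p + 1) rfl rfl (by omega) (by omega), hx]
      exact (congrArg _ w.2).trans (smul_zero _)
    obtain ⟨m, hm, e⟩ := exists_trans_eq_zero M fs n (i + 1) ((p : ℤ) + 1) (by omega) _ h0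
    have e' := (ConcreteCategory.congr_hom ((CohIII.koszulTrans M n m hm fs).comm i (i + 1)) x).trans e
    refine ⟨Module.DirectLimit.of A ℕ G tr m
      (cls (K m) i (i + 1) rfl ⟨(CohIII.koszulTrans M n m hm fs).f i x, e'⟩), ?_⟩
    rw [Module.DirectLimit.lift_of]
    exact hT m _ _ ((toCech_trans M fs n m hm i p (by omega) x).trans hx)

end Groth.Agent.H02CA.KEC
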