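import Groth.Agent.H4Cech.Map
import Groth.Agent.H02CA.KoszExtCechH

/-!
# The extended Čech complex along a ring isomorphism
-/

set_option autoImplicit false

namespace Groth.Agent.H02CA.RingIso

universe u

open CategoryTheory CategoryTheory.Limits
open Groth.Agent.H4Cech (fC sC C_ext exists_C lmap lmap_mk)

variable {A B : Type u} [CommRing A] [CommRing B] (σ : A →+* B)

theorem exists_locMap (f : A) {P Q : Type u} [AddCommGroup P] [Module A P] [AddCommGroup Q]
    [Module B Q] (e : P →+ Q) (he : ∀ (a : A) (x : P), e (a • x) = σ a • e x)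
    (hb : Function.Bijective e) :
    ∃ L : LocalizedModule (Submonoid.powers f) P →+ LocalizedModule (Submonoid.powers (σ f)) Q,
      (∀ x n, L (LocalizedModule.mk x (KEC.pw f n)) =
        LocalizedModule.mk (e x) (KEC.pw (σ f) n)) ∧
      (∀ (a : A) z, L (a • z) = σ a • L z) ∧ Function.Bijective L := by
  let m : Submonoid.powers f → Submonoid.powers (σ f) := fun s =>
    ⟨σ s.1, by obtain ⟨_, n, rfl⟩ := s; exact ⟨n, (map_pow σ f n).symm⟩⟩
  let L₀ : LocalizedModule (Submonoid.powers f) P → LocalizedModule (Submonoid.powers (σ f)) Q :=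
    fun z => z.liftOn (fun p => LocalizedModule.mk (e p.1) (m p.2)) (by
      rintro ⟨x, s⟩ ⟨y, t⟩ ⟨c, hc⟩
      refine LocalizedModule.mk_eq.2 ⟨m c, ?_⟩
      simp only [Submonoid.smul_def] at hc ⊢
      change σ c.1 • σ t.1 • e x = σ c.1 • σ s.1 • e y
      rw [← he, ← he, ← he, ← he, hc])
  have hL : ∀ x s, L₀ (LocalizedModule.mk x s) = LocalizedModule.mk (e x) (m s) := fun x s =>
    LocalizedModule.liftOn_mk ..
  have hm : ∀ s t, m (s * t) = m s * m t := fun s t => Subtype.ext (map_mul σ s.1 t.1)
  let L : LocalizedModule (Submonoid.powers f) P →+ LocalizedModule (Submonoid.powers (σ f)) Q :=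
    AddMonoidHom.mk' L₀ fun z w => by
      induction z using LocalizedModule.induction_on with
      | h x s =>
      induction w using LocalizedModule.induction_on with
      | h y t =>
        rw [LocalizedModule.mk_add_mk, hL, hL, hL, LocalizedModule.mk_add_mk, hm, map_add]
        simp only [Submonoid.smul_def, he]
        rfl
  refine ⟨L, fun x n => ?_, fun a z => ?_, ⟨(injective_iff_map_eq_zero L).2 fun z hz => ?_, fun z => ?_⟩⟩
  · refine (hL x (KEC.pw f n)).trans (congrArg (LocalizedModule.mk (e x)) (Subtype.ext (map_pow σ f n)))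
  · induction z using LocalizedModule.induction_on with
    | h x s =>
      rw [LocalizedModule.smul'_mk]
      refine (hL _ _).trans ?_
      rw [he, show L (LocalizedModule.mk x s) = _ from hL x s, LocalizedModule.smul'_mk]
  · induction z using LocalizedModule.induction_on with
    | h x s =>
      obtain ⟨⟨_, k, rfl⟩, hk⟩ := LocalizedModule.mk_eq.1 (((hL x s).symm.trans hz).trans
        (LocalizedModule.zero_mk 1).symm)
      simp only [Submonoid.smul_def, Submonoid.coe_one, one_smul, smul_zero] at hk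
      rw [← map_pow, ← he, ← map_zero e] at hk
      refine (LocalizedModule.mk_eq.2 ⟨(KEC.pw f k), ?_⟩).trans (LocalizedModule.zero_mk 1)
      simpa [Submonoid.smul_def] using hb.1 hk
  · induction z using LocalizedModule.induction_on with
    | h y t =>
      obtain ⟨_, k, rfl⟩ := t
      obtain ⟨x, rfl⟩ := hb.2 y
      exact ⟨LocalizedModule.mk x (KEC.pw f k),
        (hL _ _).trans (congrArg (LocalizedModule.mk (e x)) (Subtype.ext (map_pow σ f k)))⟩

theorem exists_cons (M : ModuleCat.{u} A) (N : ModuleCat.{u} B) (f : A) (fs : List A)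
    (E : ∀ p, (DerCA.extCech M fs).X p →+ (DerCA.extCech N (fs.map σ)).X p)
    (hbij : ∀ p, Function.Bijective (E p)) (hsm : ∀ p (a : A) x, E p (a • x) = σ a • E p x)
    (hd : ∀ (p p' : ℤ), p + 1 = p' → ∀ x,
      E p' ((DerCA.extCech M fs).d p p' x) = (DerCA.extCech N (fs.map σ)).d p p' (E p x)) :
    ∃ G : ∀ p, (DerCA.extCech M (f :: fs)).X p →+ (DerCA.extCech N (σ f :: fs.map σ)).X p,
      (∀ p, Function.Bijective (G p)) ∧ (∀ p (a : A) x, G p (a • x) = σ a • G p x) ∧
      ∀ (p p' : ℤ), p + 1 = p' → ∀ x,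
        G p' ((DerCA.extCech M (f :: fs)).d p p' x) =
          (DerCA.extCech N (σ f :: fs.map σ)).d p p' (G p x) := by
  choose L hL hLs hLb using fun q => exists_locMap σ f (E q) (hsm q) (hbij q)
  let k := fun p => H4Cech.kl (DerCA.locCxUnit (Submonoid.powers f) (DerCA.extCech M fs)) (p - 1) p (by omega)
  let k' := fun p => H4Cech.kl (DerCA.locCxUnit (Submonoid.powers (σ f)) (DerCA.extCech N (fs.map σ))) (p - 1) p (by omega)
  obtain ⟨G, hGb, hG1, hG2⟩ : ∃ G : ∀ p, (DerCA.extCech M (f :: fs)).X p →+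
        (DerCA.extCech N (σ f :: fs.map σ)).X p,
      (∀ p, Function.Bijective (G p)) ∧
      (∀ p x, fC N (σ f) (fs.map σ) p (G p x) = E p (fC M f fs p x)) ∧
      ∀ (q p : ℤ) (h : q + 1 = p) x,
        sC N (σ f) (fs.map σ) q p h (G p x) = L q (sC M f fs q p h x) :=
    ⟨fun p => ((k' p).symm.toAddEquiv.toAddMonoidHom).comp
        (((E p).prodMap (L (p - 1))).comp (k p).toAddEquiv.toAddMonoidHom),
      fun p => (k' p).symm.bijective.comp (((hbij p).prodMap (hLb (p - 1))).comp (k p).bijective),
      fun p x => congrArg Prod.fst ((k' p).apply_symm_apply _), fun q p h x => by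
        obtain rfl : q = p - 1 := by omega
        exact congrArg Prod.snd ((k' p).apply_symm_apply _)⟩
  clear k k'
  refine ⟨G, hGb, fun p a x => ?_, fun p p' hp x => ?_⟩
  · refine C_ext N (σ f) (fs.map σ) (show p - 1 + 1 = p by omega) ?_ ?_
    · refine (hG1 p (a • x)).trans (Eq.trans ?_ (map_smul (fC N (σ f) (fs.map σ) p) (σ a) (G p x)).symm)
      rw [map_smul, hsm, hG1]
    · refine (hG2 (p - 1) p _ (a • x)).trans
        (Eq.trans ?_ (map_smul (sC N (σ f) (fs.map σ) (p - 1) p (by omega)) (σ a) (G p x)).symm)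
      rw [map_smul, hLs, hG2]
  · refine C_ext N (σ f) (fs.map σ) hp ?_ ?_
    · exact (hG1 p' _).trans (((congrArg (E p') (H4Cech.fC_d M f fs p p' x)).trans (hd p p' hp _)).trans
        ((H4Cech.fC_d N (σ f) (fs.map σ) p p' (G p x)).trans
          (congrArg ((DerCA.extCech N (fs.map σ)).d p p').hom (hG1 p x))).symm)
    · refine (hG2 p p' hp _).trans ((congrArg (L p) (H4Cech.sC_d M f fs (q := p - 1) (by omega) hp x)).trans
        (Eq.trans ?_ (H4Cech.sC_d N (σ f) (fs.map σ) (q := p - 1) (by omega) hp (G p x)).symm))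
      rw [hG1, hG2, map_sub, map_neg]
      congr 1
      · congr 1
        have h1 := hL p (fC M f fs p x) 0
        rw [show (KEC.pw f 0) = 1 from Subtype.ext (pow_zero f),
          show (KEC.pw (σ f) 0) = 1 from Subtype.ext (pow_zero (σ f))] at h1
        exact h1
      · induction sC M f fs (p - 1) p (by omega) x using LocalizedModule.induction_on with
        | h a s =>
          obtain ⟨_, j, rfl⟩ := s
          rw [lmap_mk, hL, hL, lmap_mk]
          exact congrArg (fun z => LocalizedModule.mk z _) (hd (p - 1) p (by omega) a)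


theorem exists_extCech_equiv (M : ModuleCat.{u} A) (N : ModuleCat.{u} B) (e : M →+ N)
    (he : ∀ (a : A) (x : M), e (a • x) = σ a • e x) (hb : Function.Bijective e) :
    ∀ fs : List A, ∃ E : ∀ p, (DerCA.extCech M fs).X p →+ (DerCA.extCech N (fs.map σ)).X p,
      (∀ p, Function.Bijective (E p)) ∧ (∀ p (a : A) x, E p (a • x) = σ a • E p x) ∧
      ∀ (p p' : ℤ), p + 1 = p' → ∀ x,
        E p' ((DerCA.extCech M fs).d p p' x) = (DerCA.extCech N (fs.map σ)).d p p' (E p x)
  | [] => by
    classical
    let E : ∀ p, (DerCA.extCech M ([] : List A)).X p →+ (DerCA.extCech N ([] : List B)).X p := fun p =>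
      if h : p = 0 then
        ((HomologicalComplex.singleObjXIsoOfEq (ComplexShape.up ℤ) 0 N p h).inv.hom.toAddMonoidHom).comp
          (e.comp (HomologicalComplex.singleObjXIsoOfEq (ComplexShape.up ℤ) 0 M p h).hom.hom.toAddMonoidHom)
      else 0
    have hE : ∀ p (h : p = 0) x, E p x = (HomologicalComplex.singleObjXIsoOfEq (ComplexShape.up ℤ) 0 N p h).inv
        (e ((HomologicalComplex.singleObjXIsoOfEq (ComplexShape.up ℤ) 0 M p h).hom x)) := fun p h x => by
      subst h
      simp only [E]
      rfl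
    refine ⟨E, fun p => ?_, fun p a x => ?_, fun p p' hp x => ?_⟩
    · by_cases h : p = 0
      · rw [show ⇑(E p) = _ from funext (hE p h)]
        exact ((HomologicalComplex.singleObjXIsoOfEq (ComplexShape.up ℤ) 0 N p h).symm.toLinearEquiv.bijective.comp
          hb).comp (HomologicalComplex.singleObjXIsoOfEq (ComplexShape.up ℤ) 0 M p h).toLinearEquiv.bijective
      · have h1 := ModuleCat.isZero_iff_subsingleton.1
          (HomologicalComplex.isZero_single_obj_X (ComplexShape.up ℤ) 0 M p h)
        have h2 := ModuleCat.isZero_iff_subsingleton.1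
          (HomologicalComplex.isZero_single_obj_X (ComplexShape.up ℤ) 0 N p h)
        exact ⟨fun a b _ => @Subsingleton.elim _ h1 a b, fun b => ⟨0, @Subsingleton.elim _ h2 _ _⟩⟩
    · by_cases h : p = 0
      · rw [hE p h, hE p h]
        erw [map_smul]
        rw [he]
        exact map_smul _ _ _
      · exact @Subsingleton.elim _ (ModuleCat.isZero_iff_subsingleton.1
          (HomologicalComplex.isZero_single_obj_X (ComplexShape.up ℤ) 0 N p h)) _ _
    · have e1 : (DerCA.extCech M ([] : List A)).d p p' = 0 := HomologicalComplex.single_obj_d (ComplexShape.up ℤ) 0 M p p'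
      have e2 : (DerCA.extCech N ([] : List B)).d p p' = 0 := HomologicalComplex.single_obj_d (ComplexShape.up ℤ) 0 N p p'
      change E p' _ = (DerCA.extCech N ([] : List B)).d p p' _
      rw [e1, e2]
      exact map_zero (E p')
  | f :: fs => by
    obtain ⟨E, hbij, hsm, hd⟩ := exists_extCech_equiv M N e he hb fs
    exact exists_cons σ M N f fs E hbij hsm hd

theorem nonempty_extCechH_equiv (M : ModuleCat.{u} A) (N : ModuleCat.{u} B) (e : M →+ N)
    (he : ∀ (a : A) (x : M), e (a • x) = σ a • e x) (hb : Function.Bijective e) (fs : List A)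
    (p : ℤ) : Nonempty (DerCA.extCechH fs M p ≃+ DerCA.extCechH (fs.map σ) N p) := by
  obtain ⟨E, hbij, -, hd⟩ := exists_extCech_equiv σ M N e he hb fs
  let C := DerCA.extCech M fs
  let D := DerCA.extCech N (fs.map σ)
  let α : LinearMap.ker (C.d p (p + 1)).hom →+ LinearMap.ker (D.d p (p + 1)).hom :=
    AddMonoidHom.mk' (fun z => ⟨E p z.1, by
      rw [LinearMap.mem_ker]
      exact ((hd p (p + 1) rfl z.1).symm.trans ((congrArg (E (p + 1)) z.2).trans (map_zero _)))⟩)
      fun z w => Subtype.ext (map_add (E p) z.1 w.1)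
  have hα : Function.Surjective α := fun w => by
    obtain ⟨x, hx⟩ := (hbij p).2 w.1
    refine ⟨⟨x, (hbij (p + 1)).1 ?_⟩, Subtype.ext hx⟩
    rw [map_zero]
    exact (hd p (p + 1) rfl x).trans ((congrArg _ hx).trans w.2)
  let β := (KEC.cls D p (p + 1) rfl).toAddMonoidHom.comp α
  let γ := (KEC.cls C p (p + 1) rfl).toAddMonoidHom
  have hβ : Function.Surjective β := (KEC.cls_surjective D p (p + 1) rfl).comp hα
  have hker : γ.ker = β.ker := by
    ext z
    change KEC.cls C p (p + 1) rfl z = 0 ↔ KEC.cls D p (p + 1) rfl (α z) = 0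
    rw [KEC.cls_eq_zero_iff C (p - 1) p (p + 1) (by omega) rfl,
      KEC.cls_eq_zero_iff D (p - 1) p (p + 1) (by omega) rfl]
    constructor
    · rintro ⟨a, ha⟩
      exact ⟨E (p - 1) a, (hd (p - 1) p (by omega) a).symm.trans (congrArg (E p) ha)⟩
    · rintro ⟨b, hb'⟩
      obtain ⟨a, rfl⟩ := (hbij (p - 1)).2 b
      exact ⟨a, (hbij p).1 ((hd (p - 1) p (by omega) a).trans hb')⟩
  exact ⟨(QuotientAddGroup.quotientKerEquivOfSurjective γ (KEC.cls_surjective C p (p + 1) rfl)).symm.trans
    ((QuotientAddGroup.quotientAddEquivOfEq hker).trans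
      (QuotientAddGroup.quotientKerEquivOfSurjective β hβ))⟩

end Groth.Agent.H02CA.RingIso
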