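import Groth.Agent.H05EGA4.Regular
import Mathlib.Algebra.Homology.DerivedCategory.Ext.ExactSequences
import Mathlib.RingTheory.LocalRing.Module

/-!
Projective dimension over Noetherian local rings is detected by `Ext(M, A)`.
-/

namespace Groth.Agent.H02CA

open CategoryTheory Abelian IsLocalRing

universe u

variable {A : Type u} [CommRing A] [IsNoetherianRing A]

/-- Vanishing of `Ext^i(M, A)` gives vanishing of `Ext^i(M, A^r)`. -/
theorem subsingleton_ext_pi (M : ModuleCat.{u} A) (i : ℕ) (h : Subsingleton (Ext M (ModuleCat.of A A) i)) :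
    ∀ r : ℕ, Subsingleton (Ext M (ModuleCat.of A (Fin r → A)) i) := by
  intro r
  induction r with
  | zero =>
    exact subsingleton_of_forall_eq 0 fun x => by
      rw [← x.comp_mk₀_id, (ModuleCat.isZero_of_subsingleton (ModuleCat.of A (Fin 0 → A))).eq_of_src (𝟙 _) 0,
        Ext.mk₀_zero, Ext.comp_zero]
  | succ r ih =>
    let f : A →ₗ[A] (Fin (r + 1) → A) := LinearMap.single A (fun _ => A) 0
    let g : (Fin (r + 1) → A) →ₗ[A] (Fin r → A) := LinearMap.funLeft A A Fin.succ
    have hex : Function.Exact f g := by
      intro z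
      constructor
      · intro hz
        refine ⟨z 0, funext fun j => ?_⟩
        refine Fin.cases ?_ (fun j => ?_) j
        · simp [f]
        · simpa [f, g, LinearMap.funLeft, eq_comm] using congr_fun hz j
      · rintro ⟨a, rfl⟩
        funext j
        simp [f, g, LinearMap.funLeft]
    have hf : Function.Injective f := fun a b hab => by simpa [f] using congr_fun hab 0
    have hg : Function.Surjective g := fun z => ⟨Fin.cons 0 z, by funext j; simp [g, LinearMap.funLeft]⟩
    have hS : (ShortComplex.mk (ModuleCat.ofHom f) (ModuleCat.ofHom g)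
      (ModuleCat.hom_ext hex.linearMap_comp_eq_zero)).ShortExact :=
      ModuleCat.shortComplex_shortExact _ hex hf hg
    refine subsingleton_of_forall_eq 0 fun x => ?_
    obtain ⟨y, rfl⟩ := Ext.covariant_sequence_exact₂ M hS x (ih.elim _ _)
    rw [h.elim y 0, Ext.zero_comp]

/-- Projective dimension criterion by `Ext` into finite modules. -/
theorem hasProjectiveDimensionLT_of_ext_finite : ∀ (d : ℕ) (M : Type u) [AddCommGroup M] [Module A M] [Module.Finite A M],
    (∀ (K : Type u) [AddCommGroup K] [Module A K] [Module.Finite A K],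
      Subsingleton (Ext (ModuleCat.of A M) (ModuleCat.of A K) (d + 1))) →
    HasProjectiveDimensionLT (ModuleCat.of A M) (d + 1) := by
  intro d
  induction d with
  | zero =>
    intro M _ _ _ h
    obtain ⟨r, f, hf⟩ := Module.Finite.exists_fin' A M
    have hS := LinearMap.shortExact_shortComplexKer hf
    obtain ⟨φ, hφ⟩ := Ext.covariant_sequence_exact₃ (ModuleCat.of A M) hS
      (Ext.mk₀ (𝟙 (ModuleCat.of A M))) (zero_add 1) ((h (LinearMap.ker f)).elim _ _)
    obtain ⟨φ, rfl⟩ := Ext.homEquiv₀.symm.surjective φ
    have hsec : φ ≫ ModuleCat.ofHom f = 𝟙 (ModuleCat.of A M) :=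
      Ext.homEquiv₀.symm.injective (by simpa using hφ)
    haveI : Module.Projective A M := Module.Projective.of_split φ.hom f
      (congrArg ModuleCat.Hom.hom hsec)
    exact projective_iff_hasProjectiveDimensionLT_one.mp inferInstance
  | succ d ih =>
    intro M _ _ _ h
    obtain ⟨r, f, hf⟩ := Module.Finite.exists_fin' A M
    have hS := LinearMap.shortExact_shortComplexKer hf
    refine (hS.hasProjectiveDimensionLT_X₃_iff (d + 0) (ModuleCat.projective_of_categoryTheory_projective _)).2 ?_
    refine ih (LinearMap.ker f) fun K _ _ _ => subsingleton_of_forall_eq 0 fun x => ?_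
    obtain ⟨y, rfl⟩ := Ext.contravariant_sequence_exact₁ hS (ModuleCat.of A K) x
      (show 1 + (d + 1) = d + 1 + 1 by omega) ((h K).elim _ _)
    haveI : Projective (ModuleCat.of A (Fin r → A)) := ModuleCat.projective_of_categoryTheory_projective _
    rw [(HasProjectiveDimensionLT.subsingleton (ModuleCat.of A (Fin r → A)) 1 (d + 1) (by omega) (ModuleCat.of A K)).elim y 0,
      Ext.comp_zero]

/-- If `pd M ≤ d + 1` and `Ext^(d+1)(M, A) = 0` then `pd M ≤ d`. -/
theorem hasProjectiveDimensionLT_of_ext_self (d : ℕ) (M : Type u) [AddCommGroup M] [Module A M] [Module.Finite A M]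
    [HasProjectiveDimensionLT (ModuleCat.of A M) (d + 2)]
    (h : Subsingleton (Ext (ModuleCat.of A M) (ModuleCat.of A A) (d + 1))) :
    HasProjectiveDimensionLT (ModuleCat.of A M) (d + 1) := by
  refine hasProjectiveDimensionLT_of_ext_finite d M fun K _ _ _ => ?_
  obtain ⟨r, f, hf⟩ := Module.Finite.exists_fin' A K
  have hS := LinearMap.shortExact_shortComplexKer hf
  refine subsingleton_of_forall_eq 0 fun x => ?_
  obtain ⟨y, rfl⟩ := Ext.covariant_sequence_exact₃ (ModuleCat.of A M) hS x rfl
    ((HasProjectiveDimensionLT.subsingleton (ModuleCat.of A M) (d + 2) (d + 1 + 1) le_rfl _).elim _ _)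
  rw [(subsingleton_ext_pi (ModuleCat.of A M) (d + 1) h r).elim y 0, Ext.zero_comp]

/-- Iterated descent of projective dimension along vanishing `Ext(M, A)`. -/
theorem hasProjectiveDimensionLT_of_ext_self_above (M : Type u) [AddCommGroup M] [Module A M] [Module.Finite A M]
    (d : ℕ) : ∀ (k : ℕ), HasProjectiveDimensionLT (ModuleCat.of A M) (d + k + 1) →
      (∀ j : ℕ, d < j → j ≤ d + k → Subsingleton (Ext (ModuleCat.of A M) (ModuleCat.of A A) j)) →
      HasProjectiveDimensionLT (ModuleCat.of A M) (d + 1) := by
  intro k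
  induction k with
  | zero => intro h _; exact h
  | succ k ih =>
    intro h hv
    haveI : HasProjectiveDimensionLT (ModuleCat.of A M) (d + k + 2) := h
    exact ih (hasProjectiveDimensionLT_of_ext_self (d + k) M (hv _ (by omega) (by omega)))
      fun j hj hj' => hv j hj (by omega)

end Groth.Agent.H02CA
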