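import Groth.Agent.H02CA.WeakAss
import Mathlib.RingTheory.LocalRing.ResidueField.Fiber
import Mathlib.RingTheory.TensorProduct.DirectLimitFG
import Mathlib.LinearAlgebra.TensorProduct.Quotient
import Mathlib.RingTheory.Ideal.AssociatedPrime.Finiteness
import Mathlib.RingTheory.TensorProduct.IsBaseChangePi

/-!
Associated primes of fibre modules (stacks, 05DX and neighbouring lemmas): kernel and image of
`N → N ⊗ κ(p)`, comparison of associated primes of `N/pN`, of the fibre module over `S` and over
the fibre ring, and associated primes of `N ⊗ M` for flat `N`.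
-/

namespace Groth.Agent.H02CA.FibreAss

open TensorProduct FlatCA

universe u

variable {R S : Type u} [CommRing R] [CommRing S] [Algebra R S] {N : Type u} [AddCommGroup N]
  [Module S N] [Module R N] [IsScalarTower R S N] (p : Ideal R) [p.IsPrime]

attribute [local instance] Algebra.TensorProduct.rightAlgebra

lemma fiber_smul (s : S) (x : fiberMod p S N) :
    s • x = (Algebra.TensorProduct.includeRight (R := R) (A := p.ResidueField) (B := S) s) • x :=
  (algebraMap_smul (p.Fiber S) s (show (p.Fiber S) ⊗[S] N from x)).symm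

lemma fiber_unit {r : R} (hr : r ∉ p) :
    IsUnit (Algebra.TensorProduct.includeRight (R := R) (A := p.ResidueField) (B := S)
      (algebraMap R S r)) := by
  rw [AlgHom.commutes, IsScalarTower.algebraMap_apply R p.ResidueField (p.Fiber S)]
  refine (isUnit_iff_ne_zero.mpr fun h => hr ?_).map _
  exact Ideal.algebraMap_residueField_eq_zero.mp h

lemma includeRight_mem_map {j : S} (hj : j ∈ p.map (algebraMap R S)) :
    Algebra.TensorProduct.includeRight (R := R) (A := p.ResidueField) (B := S) j = 0 := by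
  have h : p.map (algebraMap R S) ≤ RingHom.ker
      (Algebra.TensorProduct.includeRight (R := R) (A := p.ResidueField) (B := S)).toRingHom := by
    refine Ideal.map_le_iff_le_comap.mpr fun a ha => ?_
    change Algebra.TensorProduct.includeRight (algebraMap R S a) = 0
    rw [AlgHom.commutes, IsScalarTower.algebraMap_apply R p.ResidueField (p.Fiber S),
      Ideal.algebraMap_residueField_eq_zero.mpr ha, map_zero]
  exact h hj

lemma fiber_smul_reg {r : R} (hr : r ∉ p) {x : fiberMod p S N}
    (h : algebraMap R S r • x = 0) : x = 0 := by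
  rw [fiber_smul] at h
  exact (fiber_unit p hr).smul_eq_zero.mp h

/-- Up to an element outside `p`, every element of the fibre module comes from the module. -/
lemma exists_rep (x : fiberMod p S N) :
    ∃ r ∉ p, ∃ n : N, algebraMap R S r • x = toFiberMod p S N n := by
  change ∃ r ∉ p, ∃ n : N,
    algebraMap R S r • (show (p.Fiber S) ⊗[S] N from x) = (1 : p.Fiber S) ⊗ₜ[S] n
  generalize (show (p.Fiber S) ⊗[S] N from x) = y
  induction y using TensorProduct.induction_on with
  | zero =>
    exact ⟨1, fun h => (Ideal.IsPrime.ne_top ‹_›) ((Ideal.eq_top_iff_one p).mpr h), 0, by simp⟩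
  | tmul z n =>
    obtain ⟨r, hr, s, e⟩ := Ideal.Fiber.exists_smul_eq_one_tmul p z
    refine ⟨r, hr, s • n, ?_⟩
    rw [smul_tmul', algebraMap_smul, e, tmul_smul, smul_tmul']
    congr 1
    rw [Algebra.smul_def, mul_one]
    rfl
  | add a b ha hb =>
    obtain ⟨r₁, h₁, n₁, e₁⟩ := ha
    obtain ⟨r₂, h₂, n₂, e₂⟩ := hb
    refine ⟨r₁ * r₂, (Ideal.IsPrime.mem_or_mem ‹_›).mt (not_or_intro h₁ h₂),
      algebraMap R S r₂ • n₁ + algebraMap R S r₁ • n₂, ?_⟩
    rw [map_mul, smul_add, tmul_add, tmul_smul, tmul_smul, ← e₁, ← e₂, smul_smul, smul_smul,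
      mul_comm (algebraMap R S r₂)]

/-- Kernel of the map from the module to the fibre module. -/
theorem toFiberMod_eq_zero_iff (n : N) :
    toFiberMod p S N n = 0 ↔
      ∃ r ∉ p, algebraMap R S r • n ∈ (p.map (algebraMap R S)) • (⊤ : Submodule S N) := by
  constructor
  · intro hn
    let T := Algebra.algebraMapSubmonoid S p.primeCompl
    let J := p.map (algebraMap R S)
    let Sp := Localization T
    let L := LocalizedModule T (N ⧸ J • (⊤ : Submodule S N))
    let mkL : N →ₗ[S] L :=
      (LocalizedModule.mkLinearMap T _).comp (Submodule.mkQ (J • (⊤ : Submodule S N)))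
    let g0 : Sp →ₗ[S] N →ₗ[S] L := LinearMap.mk₂ S (fun a m => a • mkL m)
      (fun a b m => add_smul a b _) (fun c a m => smul_assoc c a _)
      (fun a m m' => by rw [map_add, smul_add]) (fun c a m => by rw [map_smul, smul_comm])
    have hJ : ∀ j ∈ J, ∀ y : L, algebraMap S Sp j • y = 0 := by
      intro j hj y
      induction y using LocalizedModule.induction_on with
      | h m t =>
        rw [algebraMap_smul, LocalizedModule.smul'_mk]
        obtain ⟨m, rfl⟩ := Submodule.Quotient.mk_surjective _ m
        rw [← Submodule.Quotient.mk_smul, (Submodule.Quotient.mk_eq_zero _).mpr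
          (Submodule.smul_mem_smul hj Submodule.mem_top), LocalizedModule.zero_mk]
    have hK : ∀ a ∈ J.map (algebraMap S Sp), ∀ y : L, a • y = 0 := by
      intro a ha
      induction ha using Submodule.span_induction with
      | mem a ha => obtain ⟨j, hj, rfl⟩ := ha; exact hJ j hj
      | zero => simp
      | add a b _ _ h1 h2 => intro y; rw [add_smul, h1, h2, add_zero]
      | smul c a _ h1 => intro y; rw [smul_eq_mul, mul_smul, h1, smul_zero]
    let gq : (Sp ⧸ (J.map (algebraMap S Sp)).restrictScalars S) →ₗ[S] N →ₗ[S] L :=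
      @Submodule.liftQ S Sp _ _ _ ((J.map (algebraMap S Sp)).restrictScalars S) S (N →ₗ[S] L)
        _ inferInstance inferInstance (RingHom.id S) g0
        (fun a ha => LinearMap.ext fun m => hK a ha _)
    let g1 : (Sp ⧸ J.map (algebraMap S Sp)) →ₗ[S] N →ₗ[S] L :=
      gq.comp
        (Submodule.Quotient.restrictScalarsEquiv S (J.map (algebraMap S Sp))).symm.toLinearMap
    let g : p.Fiber S →ₗ[S] N →ₗ[S] L :=
      g1.comp (Ideal.Fiber.algEquivAux₁ (R := R) (S := S) p).toLinearMap
    have hone : g 1 n = mkL n := by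
      change g1 (Ideal.Fiber.algEquivAux₁ (R := R) (S := S) p 1) n = mkL n
      rw [map_one]
      change g0 1 n = mkL n
      exact one_smul Sp (mkL n)
    have h0 : mkL n = 0 := by
      rw [← hone]
      have := congrArg (TensorProduct.lift g)
        (show ((1 : p.Fiber S) ⊗ₜ[S] n : (p.Fiber S) ⊗[S] N) = 0 from hn)
      rwa [TensorProduct.lift.tmul, map_zero] at this
    obtain ⟨⟨t, r, hr, rfl⟩, ht⟩ :=
      (IsLocalizedModule.eq_zero_iff T (LocalizedModule.mkLinearMap T _)).mp h0
    refine ⟨r, hr, ?_⟩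
    rw [← Submodule.Quotient.mk_eq_zero, Submodule.Quotient.mk_smul]
    exact ht
  · rintro ⟨r, hr, hn⟩
    refine fiber_smul_reg p hr ?_
    rw [← map_smul]
    refine Submodule.smul_induction_on (p := fun w => toFiberMod p S N w = 0) hn ?_ ?_
    · intro j hj m _
      rw [map_smul, fiber_smul, includeRight_mem_map p hj, zero_smul]
    · intro a b h1 h2
      rw [map_add, h1, h2, add_zero]

lemma annEl_fiber_eq (x : fiberMod p S N) :
    annEl S x = (annEl (p.Fiber S) x).comap
      (Algebra.TensorProduct.includeRight (R := R) (A := p.ResidueField) (B := S)).toRingHom := by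
  ext s
  rw [Ideal.mem_comap, mem_annEl, mem_annEl, fiber_smul]
  rfl

lemma annEl_smul_of_unit {r : R} (hr : r ∉ p) (x : fiberMod p S N) :
    annEl S (algebraMap R S r • x) = annEl S x := by
  ext s
  rw [mem_annEl, mem_annEl]
  refine ⟨fun h => fiber_smul_reg p hr ?_, fun h => by rw [smul_comm, h, smul_zero]⟩
  rwa [smul_comm]

/-- Associated primes of the fibre module over `S` and over the fibre ring. -/
theorem ass_fiber_iff (q : Ideal S) [q.IsPrime] :
    q ∈ ass S (fiberMod p S N) ↔
      ∃ Q ∈ ass (p.Fiber S) (fiberMod p S N),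
        Q.comap (Algebra.TensorProduct.includeRight (R := R) (A := p.ResidueField)
          (B := S)).toRingHom = q := by
  constructor
  · rintro ⟨hq, x, hx⟩
    have hc := annEl_fiber_eq p x
    rw [show annEl S x = q from hx.symm] at hc
    refine ⟨annEl (p.Fiber S) x, ⟨⟨?_, ?_⟩, x, rfl⟩, hc.symm⟩
    · intro h
      apply hq.ne_top
      rw [hc, h, Ideal.comap_top]
    · intro a b hab
      have key : ∀ z : p.Fiber S, ∃ v : p.Fiber S, IsUnit v ∧ ∃ s : S,
          v * z = (Algebra.TensorProduct.includeRight (R := R) (A := p.ResidueField)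
            (B := S)).toRingHom s := fun z => by
        obtain ⟨r, hr, s, e⟩ := Ideal.Fiber.exists_smul_eq_one_tmul p z
        refine ⟨_, fiber_unit p hr, s, ?_⟩
        rw [AlgHom.commutes, ← Algebra.smul_def]
        exact e
      obtain ⟨va, hva, sa, ea⟩ := key a
      obtain ⟨vb, hvb, sb, eb⟩ := key b
      have hm : sa * sb ∈ q := by
        rw [hc, Ideal.mem_comap, map_mul, ← ea, ← eb, mul_mul_mul_comm]
        exact Ideal.mul_mem_left _ _ hab
      refine (hq.mem_or_mem hm).imp ?_ ?_ <;> intro h <;> rw [hc, Ideal.mem_comap] at h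
      · rw [← ea] at h
        exact (Ideal.unit_mul_mem_iff_mem _ hva).mp h
      · rw [← eb] at h
        exact (Ideal.unit_mul_mem_iff_mem _ hvb).mp h
  · rintro ⟨Q, ⟨hQ, x, hx⟩, hQq⟩
    refine ⟨inferInstance, x, ?_⟩
    change q = annEl S x
    rw [annEl_fiber_eq, ← hQq, hx]

/-- `Ass(N/pN)` lying over `p` is contained in the associated primes of the fibre module. -/
theorem ass_fiber_of_ass_quot (q : Ideal S) [q.IsPrime] (hq : q.comap (algebraMap R S) = p)
    (h : q ∈ ass S (N ⧸ (p.map (algebraMap R S)) • (⊤ : Submodule S N))) :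
    q ∈ ass S (fiberMod p S N) := by
  obtain ⟨hqp, y, hy⟩ := h
  obtain ⟨n, rfl⟩ := Submodule.Quotient.mk_surjective _ y
  refine ⟨hqp, toFiberMod p S N n, ?_⟩
  change q = annEl S (toFiberMod p S N n)
  ext s
  have hmem : ∀ t : S, t ∈ q ↔ t • n ∈ (p.map (algebraMap R S)) • (⊤ : Submodule S N) := by
    intro t
    rw [hy, Submodule.mem_annihilator_span_singleton, ← Submodule.Quotient.mk_smul,
      Submodule.Quotient.mk_eq_zero]
  rw [mem_annEl, ← map_smul, toFiberMod_eq_zero_iff]
  constructor
  · intro hs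
    refine ⟨1, fun h => hqp.ne_top ((Ideal.eq_top_iff_one q).mpr ?_),
      by simpa using (hmem s).mp hs⟩
    rwa [← hq, Ideal.mem_comap, map_one] at h
  · rintro ⟨r, hr, hs⟩
    rw [smul_smul, ← hmem] at hs
    refine (hqp.mem_or_mem hs).resolve_left fun h' => hr ?_
    rw [← hq]
    exact h'

/-- The converse for Noetherian `S`. -/
theorem ass_quot_of_ass_fiber [IsNoetherianRing S] (q : Ideal S) [q.IsPrime]
    (h : q ∈ ass S (fiberMod p S N)) :
    q ∈ ass S (N ⧸ (p.map (algebraMap R S)) • (⊤ : Submodule S N)) := by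
  classical
  obtain ⟨hqp, x, hx⟩ := h
  obtain ⟨r, hr, n, hn⟩ := exists_rep p x
  have hx' : q = annEl S (toFiberMod p S N n) := by
    rw [← hn, annEl_smul_of_unit p hr]
    exact hx
  obtain ⟨G, hG⟩ := IsNoetherian.noetherian q
  have key : ∀ g ∈ G, ∃ c ∉ p,
      algebraMap R S c • g • n ∈ (p.map (algebraMap R S)) • (⊤ : Submodule S N) := fun g hg => by
    have : g ∈ q := hG ▸ Submodule.subset_span hg
    rw [hx', mem_annEl, ← map_smul] at this
    exact (toFiberMod_eq_zero_iff p _).mp this
  choose c hc hcn using key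
  let d : R := ∏ g ∈ G.attach, c g g.2
  have hd : d ∉ p := fun hmem => by
    obtain ⟨g, -, hg⟩ := Ideal.IsPrime.prod_mem_iff.mp hmem
    exact hc g g.2 hg
  refine ⟨hqp, Submodule.Quotient.mk (algebraMap R S d • n), le_antisymm ?_ ?_⟩
  · rw [← hG]
    refine Submodule.span_le.mpr fun g hg => ?_
    rw [SetLike.mem_coe, Submodule.mem_annihilator_span_singleton, ← Submodule.Quotient.mk_smul,
      Submodule.Quotient.mk_eq_zero, smul_comm]
    obtain ⟨e, he⟩ := Finset.dvd_prod_of_mem (fun g : G => c g g.2) (Finset.mem_attach G ⟨g, hg⟩)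
    rw [show d = c g hg * e from he, map_mul, mul_comm, mul_smul]
    exact Submodule.smul_mem _ _ (hcn g hg)
  · intro s hs
    rw [Submodule.mem_annihilator_span_singleton, ← Submodule.Quotient.mk_smul,
      Submodule.Quotient.mk_eq_zero, smul_comm] at hs
    rw [hx', mem_annEl, ← map_smul]
    exact (toFiberMod_eq_zero_iff p _).mpr ⟨d, hd, hs⟩

section Flat

variable [Module.Flat R N]

/-- For flat `N`, elements outside `p` are regular on `N/pN`. -/
theorem mem_of_smul_mem {r : R} (hr : r ∉ p) {n : N}
    (h : algebraMap R S r • n ∈ (p.map (algebraMap R S)) • (⊤ : Submodule S N)) :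
    n ∈ (p.map (algebraMap R S)) • (⊤ : Submodule S N) := by
  have heq : ∀ m : N, m ∈ (p.map (algebraMap R S)) • (⊤ : Submodule S N) ↔
      m ∈ p • (⊤ : Submodule R N) := fun m => by
    rw [← Submodule.restrictScalars_top R S N, ← Ideal.smul_restrictScalars,
      Submodule.restrictScalars_mem]
  rw [heq, algebraMap_smul] at h
  rw [heq]
  let e := TensorProduct.quotTensorEquivQuotSMul N p
  have hinj : Function.Injective
      ((LinearMap.lsmul R (R ⧸ p) r).rTensor N) := by
    refine Module.Flat.rTensor_preserves_injective_linearMap _ fun a b hab => ?_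
    have hab' : algebraMap R (R ⧸ p) r * a = algebraMap R (R ⧸ p) r * b := by
      simpa [Algebra.smul_def] using hab
    exact mul_left_cancel₀ (by simpa [Ideal.Quotient.eq_zero_iff_mem] using hr) hab'
  have h1 : (LinearMap.lsmul R (R ⧸ p) r).rTensor N (e.symm (Submodule.Quotient.mk n)) =
      r • e.symm (Submodule.Quotient.mk n) := by
    have : (LinearMap.lsmul R (R ⧸ p) r).rTensor N = LinearMap.lsmul R _ r := by
      ext a m
      simp [smul_tmul']
    rw [this]
    rfl
  rw [← map_smul, ← Submodule.Quotient.mk_smul, (Submodule.Quotient.mk_eq_zero _).mpr h,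
    map_zero] at h1
  have h2 := hinj (h1.trans (map_zero _).symm)
  rwa [LinearEquiv.map_eq_zero_iff, Submodule.Quotient.mk_eq_zero] at h2

theorem comap_eq_of_ass_quot {q : Ideal S}
    (h : q ∈ ass S (N ⧸ (p.map (algebraMap R S)) • (⊤ : Submodule S N))) :
    q.comap (algebraMap R S) = p := by
  obtain ⟨hq, y, hy⟩ := h
  obtain ⟨n, rfl⟩ := Submodule.Quotient.mk_surjective _ y
  have hmem : ∀ t : S, t ∈ q ↔ t • n ∈ (p.map (algebraMap R S)) • (⊤ : Submodule S N) := by
    intro t
    rw [hy, Submodule.mem_annihilator_span_singleton, ← Submodule.Quotient.mk_smul,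
      Submodule.Quotient.mk_eq_zero]
  ext r
  rw [Ideal.mem_comap, hmem]
  refine ⟨fun h => by_contra fun hr => hq.ne_top ((Ideal.eq_top_iff_one q).mpr ?_), fun h => ?_⟩
  · rw [hmem, one_smul]
    exact mem_of_smul_mem p hr h
  · exact Submodule.smul_mem_smul (Ideal.mem_map_of_mem _ h) Submodule.mem_top

theorem ass_quot_eq_ass_fiber :
    ass S (N ⧸ (p.map (algebraMap R S)) • (⊤ : Submodule S N)) = ass S (fiberMod p S N) := by
  ext q
  constructor
  · intro h
    haveI := h.1
    exact ass_fiber_of_ass_quot p q (comap_eq_of_ass_quot p h) h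
  · rintro ⟨hq, x, hx⟩
    obtain ⟨r, hr, n, hn⟩ := exists_rep p x
    refine ⟨hq, Submodule.Quotient.mk n, ?_⟩
    have hx' : q = annEl S (toFiberMod p S N n) := by
      rw [← hn, annEl_smul_of_unit p hr]
      exact hx
    ext s
    rw [hx', mem_annEl, ← map_smul, toFiberMod_eq_zero_iff,
      Submodule.mem_annihilator_span_singleton, ← Submodule.Quotient.mk_smul,
      Submodule.Quotient.mk_eq_zero]
    exact ⟨fun ⟨c, hc, h⟩ => mem_of_smul_mem p hc h,
      fun h => ⟨r, hr, Submodule.smul_mem _ _ h⟩⟩

end Flat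

/-- Exact sequences and associated primes. -/
theorem ass_subset_union {A B C : Type u} [AddCommGroup A] [Module S A] [AddCommGroup B]
    [Module S B] [AddCommGroup C] [Module S C] {f : A →ₗ[S] B} {g : B →ₗ[S] C}
    (hf : Function.Injective f) (hfg : Function.Exact f g) :
    ass S B ⊆ ass S A ∪ ass S C := by
  rintro q ⟨hq, x, hx⟩
  have hmem : ∀ t : S, t ∈ q ↔ t • x = 0 := fun t => by
    rw [hx, Submodule.mem_annihilator_span_singleton]
  by_cases hs : ∃ s ∉ q, s • x ∈ LinearMap.range f
  · obtain ⟨s, hs, y, hy⟩ := hs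
    refine Or.inl ⟨hq, y, ?_⟩
    ext t
    rw [Submodule.mem_annihilator_span_singleton, ← map_eq_zero_iff f hf, map_smul, hy,
      smul_smul, ← hmem]
    exact ⟨fun h => Ideal.mul_mem_right _ _ h, fun h => (hq.mem_or_mem h).resolve_right hs⟩
  · push Not at hs
    refine Or.inr ⟨hq, g x, ?_⟩
    ext t
    rw [Submodule.mem_annihilator_span_singleton, ← map_smul, hfg (t • x)]
    refine ⟨fun h => ?_, fun h => by_contra fun ht => hs t ht h⟩
    rw [(hmem t).mp h]
    exact ⟨0, map_zero f⟩

variable (N) in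
/-- `N ⊗ R/I ≅ N/IN`, linearly over `S`. -/
noncomputable def quotEquivTensor (I : Ideal R) :
    (N ⧸ (I.map (algebraMap R S)) • (⊤ : Submodule S N)) ≃ₗ[S] N ⊗[R] (R ⧸ I) :=
  let φ : N →ₗ[S] N ⊗[R] (R ⧸ I) :=
    { toFun := fun n => n ⊗ₜ[R] (1 : R ⧸ I)
      map_add' := fun a b => add_tmul a b _
      map_smul' := fun s n => (smul_tmul' s n _).symm }
  (Submodule.quotEquivOfEq _ (LinearMap.ker φ) (by
    ext m
    rw [← Submodule.restrictScalars_mem R, Ideal.smul_restrictScalars,
      Submodule.restrictScalars_top, LinearMap.mem_ker]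
    have : φ m = (tensorQuotEquivQuotSMul N I).symm (Submodule.Quotient.mk m) := by
      rw [tensorQuotEquivQuotSMul_symm_mk]
      rfl
    rw [this, LinearEquiv.map_eq_zero_iff, Submodule.Quotient.mk_eq_zero])).trans
    (φ.quotKerEquivOfSurjective fun z => by
      obtain ⟨m, hm⟩ := Submodule.Quotient.mk_surjective _ (tensorQuotEquivQuotSMul N I z)
      refine ⟨m, ?_⟩
      rw [← (tensorQuotEquivQuotSMul N I).symm_apply_apply z, ← hm,
        tensorQuotEquivQuotSMul_symm_mk]
      rfl)

section Tensor

variable {M : Type u} [AddCommGroup M] [Module R M] [Module.Flat R N]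

variable (S) in
lemma map_injective {M' : Type u} [AddCommGroup M'] [Module R M'] (g : M' →ₗ[R] M)
    (hg : Function.Injective g) :
    Function.Injective (AlgebraTensorModule.map (LinearMap.id : N →ₗ[S] N) g) :=
  Module.Flat.lTensor_preserves_injective_linearMap (M := N) g hg

theorem ass_quot_subset_ass_tensor (hp : p ∈ ass R M) :
    ass S (N ⧸ (p.map (algebraMap R S)) • (⊤ : Submodule S N)) ⊆ ass S (N ⊗[R] M) := by
  obtain ⟨-, m, hm⟩ := hp
  let g : R ⧸ p →ₗ[R] M := Submodule.liftQ p (LinearMap.toSpanSingleton R M m) (fun a ha => by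
    rw [hm, Submodule.mem_annihilator_span_singleton] at ha
    simpa [LinearMap.mem_ker] using ha)
  have hg : Function.Injective g := by
    rw [← LinearMap.ker_eq_bot]
    refine Submodule.ker_liftQ_eq_bot _ _ _ fun a ha => ?_
    rw [hm, Submodule.mem_annihilator_span_singleton]
    simpa [LinearMap.mem_ker] using ha
  intro q hq
  refine ass_mono ((AlgebraTensorModule.map (LinearMap.id : N →ₗ[S] N) g).comp
    (quotEquivTensor N p).toLinearMap) ?_ hq
  exact (map_injective S g hg).comp (quotEquivTensor N p).injective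

theorem ass_tensor_finite [IsNoetherianRing R] [Module.Finite R M] (q : Ideal S)
    (h : q ∈ ass S (N ⊗[R] M)) :
    q ∈ ass S (N ⧸ ((q.comap (algebraMap R S)).map (algebraMap R S)) • (⊤ : Submodule S N)) := by
  revert q
  refine IsNoetherianRing.induction_on_isQuotientEquivQuotientPrime R ‹Module.Finite R M›
    (motive := fun M' _ _ _ => ∀ q ∈ ass S (N ⊗[R] M'),
      q ∈ ass S (N ⧸ ((q.comap (algebraMap R S)).map (algebraMap R S)) • (⊤ : Submodule S N)))
    ?_ ?_ ?_
  · intro M' _ _ _ _ q hq
    obtain ⟨hq, x, hx⟩ := hq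
    refine absurd ((Ideal.eq_top_iff_one q).mpr ?_) hq.ne_top
    rw [hx, Submodule.mem_annihilator_span_singleton, one_smul]
    exact Subsingleton.elim _ _
  · intro M' _ _ _ p' e q hq
    have : p'.1.IsPrime := p'.2
    have hq' : q ∈ ass S (N ⧸ (p'.1.map (algebraMap R S)) • (⊤ : Submodule S N)) :=
      ass_mono ((quotEquivTensor N p'.1).symm.toLinearMap.comp
          (AlgebraTensorModule.map (LinearMap.id : N →ₗ[S] N) e.toLinearMap))
        ((quotEquivTensor N p'.1).symm.injective.comp (map_injective S _ e.injective)) hq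
    rw [comap_eq_of_ass_quot p'.1 hq']
    exact hq'
  · intro A _ _ _ B _ _ _ C _ _ _ f g hf hg hfg hA hC q hq
    rcases ass_subset_union (f := AlgebraTensorModule.map (LinearMap.id : N →ₗ[S] N) f)
        (g := AlgebraTensorModule.map (LinearMap.id : N →ₗ[S] N) g)
        (map_injective S f hf)
        (Module.Flat.lTensor_exact (M := N) hfg) hq with h | h
    · exact hA q h
    · exact hC q h

/-- Reduction to a finitely generated submodule, flat case. -/
theorem exists_fg_of_flat (q : Ideal S) (h : q ∈ ass S (N ⊗[R] M)) :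
    ∃ M' : Submodule R M, M'.FG ∧ q ∈ ass S (N ⊗[R] ↥M') := by
  obtain ⟨hq, x, hx⟩ := h
  obtain ⟨M', hM', hxM'⟩ :=
    exists_finite_submodule_right_of_setFinite ({x} : Set (N ⊗[R] M)) (Set.finite_singleton x)
  obtain ⟨y, hy⟩ := hxM' (Set.mem_singleton x)
  refine ⟨M', Module.Finite.iff_fg.mp hM', hq, y, ?_⟩
  ext s
  rw [hx, Submodule.mem_annihilator_span_singleton, Submodule.mem_annihilator_span_singleton,
    ← hy]
  let F := AlgebraTensorModule.map (LinearMap.id : N →ₗ[S] N) M'.subtype
  change s • F y = 0 ↔ _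
  rw [← map_smul, map_eq_zero_iff F (map_injective S _ M'.injective_subtype)]

end Tensor

variable {M : Type u} [AddCommGroup M] [Module R M]

lemma exists_fg_lTensor_eq_zero {P : Submodule R M} (hP : P.FG) {t : N ⊗[R] P}
    (h : LinearMap.lTensor N P.subtype t = 0) :
    ∃ (Q : Submodule R M) (hPQ : P ≤ Q), Q.FG ∧
      LinearMap.lTensor N (Submodule.inclusion hPQ) t = 0 := by
  have hnat : ∀ (P' : Submodule R M) (f : P →ₗ[R] P'),
      LinearMap.rTensor N f (TensorProduct.comm R N P t) =
        TensorProduct.comm R N P' (LinearMap.lTensor N f t) := fun P' f => by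
    have : (LinearMap.rTensor N f).comp (TensorProduct.comm R N P).toLinearMap =
        (TensorProduct.comm R N P').toLinearMap.comp (LinearMap.lTensor N f) := by
      ext a b; rfl
    exact LinearMap.congr_fun this t
  have h0 : LinearMap.rTensor N P.subtype (TensorProduct.comm R N P t) = 0 := by
    have : (LinearMap.rTensor N P.subtype).comp (TensorProduct.comm R N P).toLinearMap =
        (TensorProduct.comm R N M).toLinearMap.comp (LinearMap.lTensor N P.subtype) := by
      ext a b; rfl
    rw [show LinearMap.rTensor N P.subtype (TensorProduct.comm R N P t) = _ from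
      LinearMap.congr_fun this t, LinearMap.comp_apply, h, map_zero]
  obtain ⟨Q, hPQ, hQ, hQ0⟩ := eq_zero_of_fg_of_subtype_eq_zero hP h0
  refine ⟨Q, hPQ, hQ, ?_⟩
  rwa [hnat, LinearEquiv.map_eq_zero_iff] at hQ0

/-- Reduction to a finitely generated submodule, Noetherian case. -/
theorem exists_fg_of_noetherian [IsNoetherianRing S] (q : Ideal S)
    (h : q ∈ ass S (N ⊗[R] M)) :
    ∃ M' : Submodule R M, M'.FG ∧ q ∈ ass S (N ⊗[R] ↥M') := by
  classical
  obtain ⟨hq, x, hx⟩ := h
  obtain ⟨M₀, hM₀, hxM⟩ :=
    exists_finite_submodule_right_of_setFinite ({x} : Set (N ⊗[R] M)) (Set.finite_singleton x)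
  obtain ⟨y, hy⟩ := hxM (Set.mem_singleton x)
  have hM₀' : M₀.FG := Module.Finite.iff_fg.mp hM₀
  obtain ⟨G, hG⟩ := IsNoetherian.noetherian q
  have key : ∀ g ∈ G, ∃ (Q : Submodule R M) (hPQ : M₀ ≤ Q), Q.FG ∧
      LinearMap.lTensor N (Submodule.inclusion hPQ) (g • y) = 0 := fun g hg => by
    have hgq : g ∈ q := hG ▸ Submodule.subset_span hg
    rw [hx, Submodule.mem_annihilator_span_singleton] at hgq
    refine exists_fg_lTensor_eq_zero hM₀' ?_
    change AlgebraTensorModule.map (LinearMap.id : N →ₗ[S] N) M₀.subtype (g • y) = 0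
    rw [map_smul]
    exact (congrArg (g • ·) hy).trans hgq
  choose Q hPQ hQfg hQ0 using key
  let M' : Submodule R M := M₀ ⊔ G.attach.sup fun g => Q g g.2
  have hM'fg : M'.FG := hM₀'.sup (Submodule.fg_finset_sup _ _ fun g _ => hQfg g g.2)
  let F := AlgebraTensorModule.map (LinearMap.id : N →ₗ[S] N)
    (Submodule.inclusion (le_sup_left : M₀ ≤ M'))
  refine ⟨M', hM'fg, hq, F y, le_antisymm ?_ ?_⟩
  · rw [← hG]
    refine Submodule.span_le.mpr fun g hg => ?_
    rw [SetLike.mem_coe, Submodule.mem_annihilator_span_singleton, ← map_smul]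
    have hle : Q g hg ≤ M' :=
      le_trans (Finset.le_sup (f := fun g : G => Q g g.2) (Finset.mem_attach G ⟨g, hg⟩)) le_sup_right
    change LinearMap.lTensor N (Submodule.inclusion (le_sup_left : M₀ ≤ M')) (g • y) = 0
    rw [show Submodule.inclusion (le_sup_left : M₀ ≤ M') =
      (Submodule.inclusion hle).comp (Submodule.inclusion (hPQ g hg)) from rfl,
      LinearMap.lTensor_comp, LinearMap.comp_apply, hQ0 g hg, map_zero]
  · intro s hs
    rw [Submodule.mem_annihilator_span_singleton, ← map_smul] at hs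
    rw [hx, Submodule.mem_annihilator_span_singleton, ← hy]
    change s • AlgebraTensorModule.map (LinearMap.id : N →ₗ[S] N) M₀.subtype y = 0
    rw [← map_smul]
    have := congrArg (LinearMap.lTensor N M'.subtype) hs
    rw [map_zero] at this
    change LinearMap.lTensor N M₀.subtype (s • y) = 0
    rw [show M₀.subtype = M'.subtype.comp (Submodule.inclusion (le_sup_left : M₀ ≤ M')) from rfl,
      LinearMap.lTensor_comp]
    exact this

end Groth.Agent.H02CA.FibreAss
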