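import Groth.Agent.H13Flat.Algebra
import Groth.Agent.H8Props.FlatKernel
import Mathlib.Algebra.TrivSqZeroExt.Basic
import Mathlib.RingTheory.Finiteness.ModuleFinitePresentation
import Mathlib.RingTheory.IsTensorProduct
import Mathlib.RingTheory.MvPolynomial.Basic
import Mathlib.LinearAlgebra.TensorProduct.Tower

/-!
# Descent of a flat module of finite presentation to a finite type `ℤ`-algebra
-/

set_option autoImplicit false
set_option maxHeartbeats 1000000
set_option synthInstance.maxHeartbeats 100000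
universe u

open TensorProduct MvPolynomial Groth.Agent.H13Flat

namespace Groth.Agent.H02CA.FlatModel

/-- Base change of a quotient of a polynomial ring, with the natural map. -/
theorem bijective_stage {R A B : Type u} [CommRing R] [CommRing A] [CommRing B] [Algebra R A]
    [Algebra A B] [Algebra R B] [IsScalarTower R A B] {n : ℕ} (φ : MvPolynomial (Fin n) A →ₐ[A] B)
    (hφ : Function.Surjective φ) (N : Ideal (MvPolynomial (Fin n) R))
    (hN : RingHom.ker φ = N.map (MvPolynomial.map (algebraMap R A))) :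
    ∃ ψ : (MvPolynomial (Fin n) R ⧸ N) →ₐ[R] B,
      (∀ p, ψ (Ideal.Quotient.mk N p) = φ (MvPolynomial.map (algebraMap R A) p)) ∧
      Function.Bijective (Algebra.TensorProduct.lift (Algebra.ofId A B) ψ fun _ _ ↦ .all _ _) := by
  let φ₀ : MvPolynomial (Fin n) R →ₐ[R] B :=
    { φ.toRingHom.comp (MvPolynomial.map (algebraMap R A)) with
      commutes' := fun c ↦ by
        change φ (MvPolynomial.map (algebraMap R A) (C c)) = _
        rw [map_C, ← MvPolynomial.algebraMap_eq, AlgHom.commutes,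
          ← IsScalarTower.algebraMap_apply] }
  let ψ : (MvPolynomial (Fin n) R ⧸ N) →ₐ[R] B := Ideal.Quotient.liftₐ N φ₀ fun p hp ↦ by
    have : MvPolynomial.map (algebraMap R A) p ∈ RingHom.ker φ := hN ▸ Ideal.mem_map_of_mem _ hp
    exact this
  refine ⟨ψ, fun _ ↦ rfl, ?_, ?_⟩
  · let back : MvPolynomial (Fin n) A →ₐ[A] A ⊗[R] (MvPolynomial (Fin n) R ⧸ N) :=
      MvPolynomial.aeval fun i ↦ (1 : A) ⊗ₜ[R] Ideal.Quotient.mk N (X i)
    have hback : ∀ p, back (MvPolynomial.map (algebraMap R A) p) =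
        1 ⊗ₜ Ideal.Quotient.mkₐ R N p := by
      intro p
      induction p using MvPolynomial.induction_on with
      | C r =>
        rw [MvPolynomial.map_C, ← MvPolynomial.algebraMap_eq, AlgHom.commutes,
          Algebra.TensorProduct.algebraMap_apply, Algebra.algebraMap_self, RingHom.id_apply,
          Algebra.algebraMap_eq_smul_one r, smul_tmul, ← MvPolynomial.algebraMap_eq,
          AlgHom.commutes, Algebra.algebraMap_eq_smul_one]
      | add p q hp hq => simp only [map_add, hp, hq, tmul_add]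
      | mul_X p i hp =>
        simp only [map_mul, MvPolynomial.map_X, hp, back, MvPolynomial.aeval_X,
          Ideal.Quotient.mkₐ_eq_mk, Algebra.TensorProduct.tmul_mul_tmul, mul_one]
    have hker : RingHom.ker φ ≤ RingHom.ker back := by
      rw [hN, Ideal.map_le_iff_le_comap]
      intro q hq
      rw [Ideal.mem_comap, RingHom.mem_ker, hback, Ideal.Quotient.mkₐ_eq_mk,
        Ideal.Quotient.eq_zero_iff_mem.mpr hq, tmul_zero]
    let inv : B →ₐ[A] A ⊗[R] (MvPolynomial (Fin n) R ⧸ N) :=
      (Ideal.Quotient.liftₐ (RingHom.ker φ) back fun p hp ↦ hker hp).comp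
        (Ideal.quotientKerAlgEquivOfSurjective hφ).symm.toAlgHom
    have hinv : ∀ p, inv (φ p) = back p := by
      intro p
      have : (Ideal.quotientKerAlgEquivOfSurjective hφ).symm (φ p) = Ideal.Quotient.mk _ p :=
        (AlgEquiv.symm_apply_eq _).mpr rfl
      change (Ideal.Quotient.liftₐ (RingHom.ker φ) back fun p hp ↦ hker hp)
        ((Ideal.quotientKerAlgEquivOfSurjective hφ).symm (φ p)) = _
      rw [this]
      rfl
    have hcomp : inv.comp (Algebra.TensorProduct.lift (Algebra.ofId A B) ψ fun _ _ ↦ .all _ _) =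
        AlgHom.id A _ := by
      refine Algebra.TensorProduct.ext' fun a b ↦ ?_
      obtain ⟨p, rfl⟩ := Ideal.Quotient.mk_surjective b
      rw [AlgHom.comp_apply, Algebra.TensorProduct.lift_tmul, Algebra.ofId_apply, map_mul,
        AlgHom.commutes, show ψ (Ideal.Quotient.mk N p) = φ (MvPolynomial.map (algebraMap R A) p)
        from rfl, hinv, hback, Algebra.TensorProduct.algebraMap_apply,
        Algebra.TensorProduct.tmul_mul_tmul, mul_one, one_mul]
      rfl
    exact Function.LeftInverse.injective (g := inv) fun x ↦ AlgHom.congr_fun hcomp x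
  · intro b
    obtain ⟨p, rfl⟩ := hφ b
    induction p using MvPolynomial.induction_on with
    | C a => exact ⟨a ⊗ₜ 1, by simp [← MvPolynomial.algebraMap_eq, Algebra.ofId_apply]⟩
    | add p q hp hq =>
      obtain ⟨x, hx⟩ := hp
      obtain ⟨y, hy⟩ := hq
      exact ⟨x + y, by rw [map_add, hx, hy, map_add]⟩
    | mul_X p i hp =>
      obtain ⟨x, hx⟩ := hp
      refine ⟨x * (1 ⊗ₜ Ideal.Quotient.mk N (X i)), ?_⟩
      rw [map_mul, hx, map_mul, Algebra.TensorProduct.lift_tmul, map_one, one_mul]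
      congr 1
      change φ (MvPolynomial.map (algebraMap R A) (X i)) = φ (X i)
      rw [map_X]

/-- The generated ideal at a stage extends to the ideal over `A`. -/
theorem map_stageIdeal {A : Type u} [CommRing A] {k : ℕ} (H : Set (MvPolynomial (Fin k) A))
    (R : Subalgebra ℤ A) (hH : H ⊆ Set.range (incl R)) :
    (stageIdeal H R).map (incl R) = Ideal.span H := by
  rw [stageIdeal, Ideal.map_span, Set.image_preimage_eq_inter_range, Set.inter_eq_left.2 hH]

variable {A S M : Type u} [CommRing A] [CommRing S] [Algebra A S] [AddCommGroup M] [Module S M]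
  [Module A M] [IsScalarTower A S M] {n : ℕ} [Module (MvPolynomial (Fin n) A) M]
  [Module (MvPolynomial (Fin n) A)ᵐᵒᵖ M] [IsCentralScalar (MvPolynomial (Fin n) A) M]
  [IsScalarTower A (MvPolynomial (Fin n) A) M]

/-- The map to the trivial extension. -/
noncomputable def theta {r : ℕ} (m : Fin r → M) : MvPolynomial (Fin (n + r)) A →ₐ[A]
    TrivSqZeroExt (MvPolynomial (Fin n) A) M :=
  MvPolynomial.aeval (Fin.append (fun i ↦ TrivSqZeroExt.inl (X i)) fun k ↦ TrivSqZeroExt.inr (m k))

/-- The set forgetting the module variables. -/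
noncomputable def forget (R : Type u) [CommRing R] (n r : ℕ) :
    MvPolynomial (Fin (n + r)) R →ₐ[R] MvPolynomial (Fin n) R :=
  MvPolynomial.aeval (Fin.append X fun _ ↦ 0)

/-- The inclusion of the algebra variables. -/
noncomputable def incX (R : Type u) [CommRing R] (n r : ℕ) :
    MvPolynomial (Fin n) R →ₐ[R] MvPolynomial (Fin (n + r)) R :=
  MvPolynomial.aeval fun i ↦ X (Fin.castAdd r i)

theorem forget_incX (R : Type u) [CommRing R] (n r : ℕ) (p : MvPolynomial (Fin n) R) :
    forget R n r (incX R n r p) = p := by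
  rw [← AlgHom.comp_apply, ← AlgHom.id_apply (R := R) p]
  congr 1
  exact MvPolynomial.algHom_ext fun i ↦ by simp [forget, incX]

theorem map_forget {R R' : Type u} [CommRing R] [CommRing R'] (φ : R →+* R') (n r : ℕ)
    (q : MvPolynomial (Fin (n + r)) R) :
    MvPolynomial.map φ (forget R n r q) = forget R' n r (MvPolynomial.map φ q) := by
  induction q using MvPolynomial.induction_on with
  | C a => simp [forget]
  | add p q hp hq => simp only [map_add, hp, hq]
  | mul_X p i hp =>
    simp only [map_mul, hp, map_X]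
    congr 1
    refine Fin.addCases (fun j ↦ ?_) (fun j ↦ ?_) i <;> simp [forget]

theorem map_incX {R R' : Type u} [CommRing R] [CommRing R'] (φ : R →+* R') (n r : ℕ)
    (q : MvPolynomial (Fin n) R) :
    MvPolynomial.map φ (incX R n r q) = incX R' n r (MvPolynomial.map φ q) := by
  induction q using MvPolynomial.induction_on with
  | C a => simp [incX]
  | add p q hp hq => simp only [map_add, hp, hq]
  | mul_X p i hp =>
    simp only [map_mul, hp, map_X]
    simp [incX]

theorem theta_incX {r : ℕ} (m : Fin r → M) (p : MvPolynomial (Fin n) A) :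
    theta m (incX A n r p) = TrivSqZeroExt.inl p := by
  have : (theta m).comp (incX A n r) = TrivSqZeroExt.inlAlgHom A _ M :=
    MvPolynomial.algHom_ext fun i ↦ by simp [theta, incX]
  exact AlgHom.congr_fun this p

theorem fst_theta {r : ℕ} (m : Fin r → M) (q : MvPolynomial (Fin (n + r)) A) :
    (theta m q).fst = forget A n r q := by
  have : (TrivSqZeroExt.fstHom A (MvPolynomial (Fin n) A) M).comp (theta m) = forget A n r :=
    MvPolynomial.algHom_ext fun i ↦ by
      refine Fin.addCases (fun j ↦ ?_) (fun j ↦ ?_) i <;> simp [theta, forget]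
  exact AlgHom.congr_fun this q

/-- The model at a stage. -/
theorem stage_model {R : Type u} [CommRing R] [Algebra R A] {r : ℕ}
    (π : MvPolynomial (Fin n) A →ₐ[A] S) (hπ : Function.Surjective π)
    (hsm : ∀ (p : MvPolynomial (Fin n) A) (x : M), p • x = π p • x) (m : Fin r → M)
    (hinj : Function.Injective (algebraMap R A))
    (N : Ideal (MvPolynomial (Fin (n + r)) R)) (H₀ : Ideal (MvPolynomial (Fin n) R))
    (hflat₀ : Module.Flat R (MvPolynomial (Fin (n + r)) R ⧸ N))
    (hθ : Function.Surjective (theta (A := A) (n := n) m))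
    (hN : RingHom.ker (theta (A := A) (n := n) m) = N.map (MvPolynomial.map (algebraMap R A)))
    (hπN : RingHom.ker π = H₀.map (MvPolynomial.map (algebraMap R A)))
    (hyy : ∀ i j, X (Fin.natAdd n i) * X (Fin.natAdd n j) ∈ N)
    (hhy : ∀ p ∈ H₀, ∀ k, incX R n r p * X (Fin.natAdd n k) ∈ N) :
    ∃ (S₀ : Type u) (_ : CommRing S₀)
      (_ : Algebra R S₀) (_ : Algebra S₀ S) (_ : Algebra R S) (_ : IsScalarTower R A S)
      (_ : IsScalarTower R S₀ S) (M₀ : Type u) (_ : AddCommGroup M₀) (_ : Module S₀ M₀)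
      (_ : Module R M₀) (_ : IsScalarTower R S₀ M₀) (_ : Module S₀ M) (_ : IsScalarTower S₀ S M)
      (f : M₀ →ₗ[S₀] M),
      Algebra.FiniteType R S₀ ∧ Module.Finite S₀ M₀ ∧ Module.Flat R M₀ ∧
        Algebra.IsPushout R A S₀ S ∧ IsBaseChange S f := by
  let _ : Algebra R S := ((algebraMap A S).comp (algebraMap R A)).toAlgebra
  have : IsScalarTower R A S := IsScalarTower.of_algebraMap_eq fun _ ↦ rfl
  let _ : Algebra R (TrivSqZeroExt (MvPolynomial (Fin n) A) M) :=
    ((algebraMap A (TrivSqZeroExt (MvPolynomial (Fin n) A) M)).comp (algebraMap R A)).toAlgebra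
  have : IsScalarTower R A (TrivSqZeroExt (MvPolynomial (Fin n) A) M) :=
    IsScalarTower.of_algebraMap_eq fun _ ↦ rfl
  classical
  let _ : Module R M := Module.compHom M (algebraMap R A)
  have : IsScalarTower R A M := IsScalarTower.of_algebraMap_smul fun _ _ ↦ rfl
  let B := TrivSqZeroExt (MvPolynomial (Fin n) A) M
  let B₀ := MvPolynomial (Fin (n + r)) R ⧸ N
  obtain ⟨ψ, hψ, hψbij⟩ := bijective_stage (theta (A := A) (n := n) m) hθ N hN
  let π₀ : B₀ →ₐ[R] MvPolynomial (Fin n) R := Ideal.Quotient.liftₐ N (forget R n r) fun q hq ↦ by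
    have hq' : MvPolynomial.map (algebraMap R A) q ∈ RingHom.ker (theta (A := A) (n := n) m) := by
      rw [hN]
      exact Ideal.mem_map_of_mem _ hq
    refine MvPolynomial.map_injective (algebraMap R A) hinj ?_
    rw [map_zero]
    change MvPolynomial.map _ (forget R n r q) = 0
    rw [map_forget, ← fst_theta (A := A) (n := n) m]
    rw [RingHom.mem_ker.mp hq', TrivSqZeroExt.fst_zero]
  let s₀ : MvPolynomial (Fin n) R →ₐ[R] B₀ := (Ideal.Quotient.mkₐ R N).comp (incX R n r)
  have hs₀ : ∀ p, π₀ (s₀ p) = p := fun p ↦ forget_incX R n r p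
  let y : Fin r → B₀ := fun k ↦ Ideal.Quotient.mk N (X (Fin.natAdd n k))
  let Y : Ideal B₀ := Ideal.span (Set.range y)
  have hdec : ∀ b, b - s₀ (π₀ b) ∈ Y := by
    intro b
    obtain ⟨q, rfl⟩ := Ideal.Quotient.mk_surjective b
    rw [← Ideal.Quotient.eq]
    change ((Ideal.Quotient.mkₐ R Y).comp (Ideal.Quotient.mkₐ R N)) q =
      ((Ideal.Quotient.mkₐ R Y).comp (s₀.comp (forget R n r))) q
    congr 1
    refine MvPolynomial.algHom_ext fun i ↦ Fin.addCases (fun j ↦ ?_) (fun j ↦ ?_) i
    · simp [forget, s₀, incX]; rfl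
    · simp only [AlgHom.comp_apply, forget, aeval_X, Fin.append_right, map_zero]
      exact Ideal.Quotient.eq_zero_iff_mem.mpr (Ideal.subset_span ⟨j, rfl⟩)
  have hYY : ∀ a ∈ Y, ∀ b ∈ Y, a * b = 0 := by
    intro a ha b hb
    have : Y * Y ≤ ⊥ := by
      rw [Ideal.span_mul_span', Ideal.span_le]
      rintro _ ⟨_, ⟨i, rfl⟩, _, ⟨j, rfl⟩, rfl⟩
      exact (map_mul (Ideal.Quotient.mk N) _ _).symm.trans
        (Ideal.Quotient.eq_zero_iff_mem.mpr (hyy i j))
    exact this (Ideal.mul_mem_mul ha hb)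
  have hHY : ∀ p ∈ H₀, ∀ z ∈ Y, s₀ p * z = 0 := by
    intro p hp z hz
    induction hz using Submodule.span_induction with
    | mem w hw =>
      obtain ⟨k, rfl⟩ := hw
      exact (map_mul (Ideal.Quotient.mk N) _ _).symm.trans
        (Ideal.Quotient.eq_zero_iff_mem.mpr (hhy p hp k))
    | zero => simp
    | add a b _ _ ha hb => rw [mul_add, ha, hb, add_zero]
    | smul c a _ ha => rw [smul_eq_mul, mul_left_comm, ha, mul_zero]
  -- `M₀`
  let S₀ := MvPolynomial (Fin n) R ⧸ H₀
  let M₀ : Type u := ↥Y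
  let _ : Module (MvPolynomial (Fin n) R) M₀ := Module.compHom M₀ s₀.toRingHom
  have htor : Module.IsTorsionBySet (MvPolynomial (Fin n) R) M₀ H₀ := fun z p ↦
    Subtype.ext (hHY _ p.2 _ z.2)
  let _ : Module S₀ M₀ := htor.module
  have hsm₀ : ∀ (p : MvPolynomial (Fin n) R) (z : M₀),
      ((Ideal.Quotient.mk H₀ p • z : M₀) : B₀) = s₀ p * z := fun _ _ ↦ rfl
  have : IsScalarTower R S₀ M₀ := IsScalarTower.of_algebraMap_smul (R := R) (A := S₀) (M := M₀) fun c z ↦ Subtype.ext <| by
    rw [IsScalarTower.algebraMap_apply R (MvPolynomial (Fin n) R) S₀, Ideal.Quotient.algebraMap_eq,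
      hsm₀, AlgHom.commutes, ← Algebra.smul_def]
    rfl
  -- `S`
  obtain ⟨φ, hφ, hφbij⟩ := bijective_stage π hπ H₀ hπN
  let _ : Algebra S₀ S := φ.toRingHom.toAlgebra
  have : IsScalarTower R S₀ S :=
    IsScalarTower.of_algebraMap_eq (R := R) (S := S₀) (A := S) fun c ↦ (φ.commutes c).symm
  let _ : Module S₀ M := Module.compHom M φ.toRingHom
  have : IsScalarTower S₀ S M := IsScalarTower.of_algebraMap_smul fun _ _ ↦ rfl
  have : IsScalarTower R S₀ M := IsScalarTower.of_algebraMap_smul (R := R) (A := S₀) (M := M)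
    fun c x ↦ by
      change φ (algebraMap R S₀ c) • x = algebraMap R A c • x
      rw [φ.commutes, IsScalarTower.algebraMap_apply R A S, algebraMap_smul]
  have hpush : Algebra.IsPushout R A S₀ S := ⟨IsBaseChange.of_equiv
    (LinearEquiv.ofBijective (Algebra.TensorProduct.lift (Algebra.ofId A S) φ
      fun _ _ ↦ .all _ _).toLinearMap hφbij) fun x ↦ by
        change Algebra.TensorProduct.lift (Algebra.ofId A S) φ (fun _ _ ↦ .all _ _) (1 ⊗ₜ x) = _
        rw [Algebra.TensorProduct.lift_tmul, map_one, one_mul]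
        rfl⟩
  -- the map
  have hfst : ∀ b, (ψ b).fst = MvPolynomial.map (algebraMap R A) (π₀ b) := by
    intro b
    obtain ⟨q, rfl⟩ := Ideal.Quotient.mk_surjective b
    rw [hψ, fst_theta, ← map_forget]
    rfl
  have hψs : ∀ p, ψ (s₀ p) = TrivSqZeroExt.inl (MvPolynomial.map (algebraMap R A) p) := by
    intro p
    change ψ (Ideal.Quotient.mk N (incX R n r p)) = _
    rw [hψ, map_incX, theta_incX]
  have hY0 : ∀ z ∈ Y, π₀ z = 0 := by
    intro z hz
    induction hz using Submodule.span_induction with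
    | mem w hw =>
      obtain ⟨k, rfl⟩ := hw
      change forget R n r (X (Fin.natAdd n k)) = 0
      simp [forget]
    | zero => simp
    | add a b _ _ ha hb => simp [ha, hb]
    | smul c a _ ha => simp [ha]
  let f : M₀ →ₗ[S₀] M :=
    { toFun := fun z ↦ (ψ z.1).snd
      map_add' := fun a b ↦
        (congrArg TrivSqZeroExt.snd (map_add ψ a.1 b.1)).trans (TrivSqZeroExt.snd_add _ _)
      map_smul' := fun c z ↦ by
        obtain ⟨p, rfl⟩ := Ideal.Quotient.mk_surjective c
        rw [hsm₀, map_mul, hψs, TrivSqZeroExt.snd_mul, TrivSqZeroExt.fst_inl,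
          TrivSqZeroExt.snd_inl, hfst, hY0 _ z.2, map_zero]
        simp only [smul_zero, add_zero, RingHom.id_apply, hsm]
        change π (MvPolynomial.map (algebraMap R A) p) • _ = φ (Ideal.Quotient.mk H₀ p) • (ψ z.1).snd
        rw [hφ] }
  have hfinite : Module.Finite S₀ M₀ := by
    refine ⟨⟨Finset.univ.image fun k ↦ (⟨y k, Ideal.subset_span ⟨k, rfl⟩⟩ : M₀), ?_⟩⟩
    rw [Finset.coe_image, Finset.coe_univ, Set.image_univ, eq_top_iff]
    rintro ⟨z, hz⟩ -
    obtain ⟨c, hc⟩ := (Submodule.mem_span_range_iff_exists_fun _).mp hz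
    refine (Submodule.mem_span_range_iff_exists_fun _).mpr
      ⟨fun k ↦ Ideal.Quotient.mk H₀ (π₀ (c k)), Subtype.ext ?_⟩
    rw [AddSubmonoidClass.coe_finsetSum]
    refine (Finset.sum_congr rfl fun k _ ↦ ?_).trans hc
    rw [hsm₀, smul_eq_mul]
    have := hYY _ (hdec (c k)) _ (Ideal.subset_span ⟨k, rfl⟩ : y k ∈ Y)
    rw [sub_mul, sub_eq_zero] at this
    exact this.symm
  let κ : M₀ →ₗ[R] B₀ := (Y.subtype).restrictScalars R
  let ρ : B₀ →ₗ[R] M₀ :=
    LinearMap.codRestrict (Y.restrictScalars R)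
      (LinearMap.id - s₀.toLinearMap ∘ₗ π₀.toLinearMap) hdec
  have hρκ : ρ ∘ₗ κ = LinearMap.id := LinearMap.ext fun z ↦ Subtype.ext (by
    change (z : B₀) - s₀ (π₀ z) = z
    rw [hY0 _ z.2, map_zero, sub_zero])
  have hflatM : Module.Flat R M₀ := Module.Flat.of_retract κ ρ hρκ
  refine ⟨S₀, inferInstance, inferInstance, inferInstance, inferInstance, inferInstance,
    inferInstance, M₀, inferInstance, inferInstance, inferInstance,
    inferInstance, inferInstance, inferInstance, f, inferInstance,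
    hfinite, hflatM, hpush, ?_⟩
  -- base change
  let fA : A ⊗[R] M₀ →ₗ[A] M := TensorProduct.AlgebraTensorModule.lift
    { toFun := fun a ↦
        { toFun := fun z ↦ a • f z
          map_add' := fun _ _ ↦ by simp
          map_smul' := fun c z ↦ by
            rw [RingHom.id_apply, LinearMap.map_smul_of_tower, smul_comm] }
      map_add' := fun a b ↦ LinearMap.ext fun z ↦ add_smul a b _
      map_smul' := fun c a ↦ LinearMap.ext fun z ↦ mul_smul c a _ }
  let E := Algebra.TensorProduct.lift (Algebra.ofId A B) ψ fun _ _ ↦ .all _ _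
  have hE : ∀ w : A ⊗[R] B₀, (E w).snd = fA (LinearMap.baseChange A ρ w) := by
    intro w
    induction w with
    | zero => simp
    | add a b ha hb =>
      rw [map_add E, map_add, map_add]
      exact (TrivSqZeroExt.snd_add (E a) (E b)).trans (by rw [ha, hb])
    | tmul a b =>
      have h1 : (ψ b).snd = (ψ (b - s₀ (π₀ b))).snd := by rw [map_sub, hψs]; simp
      change (algebraMap A B a * ψ b).snd = a • (ψ (b - s₀ (π₀ b))).snd
      rw [← Algebra.smul_def, TrivSqZeroExt.snd_smul, h1]
  have hEκ : ∀ w : A ⊗[R] M₀, (E (LinearMap.baseChange A κ w)).fst = 0 := by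
    intro w
    induction w with
    | zero => simp
    | add a b ha hb =>
      rw [map_add, map_add]
      exact (TrivSqZeroExt.fst_add _ _).trans (by rw [ha, hb, add_zero])
    | tmul a z =>
      change (algebraMap A B a * ψ z.1).fst = 0
      rw [TrivSqZeroExt.fst_mul, hfst, hY0 _ z.2, map_zero, mul_zero]
  have hρκA : ∀ w : A ⊗[R] M₀, LinearMap.baseChange A ρ (LinearMap.baseChange A κ w) = w := by
    intro w
    rw [← LinearMap.comp_apply, ← LinearMap.baseChange_comp, hρκ, LinearMap.baseChange_id]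
    rfl
  have hfA : Function.Bijective fA := by
    refine ⟨(injective_iff_map_eq_zero _).mpr fun w hw ↦ ?_, fun x ↦ ?_⟩
    · have : E (LinearMap.baseChange A κ w) = E 0 := by
        rw [map_zero]
        refine TrivSqZeroExt.ext (hEκ w) ?_
        rw [hE, hρκA]
        exact hw
      rw [← hρκA w, hψbij.1 this, map_zero]
    · obtain ⟨w, hw⟩ := hψbij.2 (TrivSqZeroExt.inr x)
      exact ⟨LinearMap.baseChange A ρ w, by rw [← hE, show E w = _ from hw]; rfl⟩
  let bil : A →ₗ[A] M₀ →ₗ[R] S ⊗[S₀] M₀ :=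
    { toFun := fun a ↦
        { toFun := fun z ↦ algebraMap A S a ⊗ₜ z
          map_add' := fun _ _ ↦ tmul_add _ _ _
          map_smul' := fun c z ↦ by
            rw [RingHom.id_apply, ← IsScalarTower.algebraMap_smul S₀ c z,
              ← TensorProduct.smul_tmul, IsScalarTower.algebraMap_smul, smul_tmul'] }
      map_add' := fun a b ↦ LinearMap.ext fun z ↦ by simp [add_tmul]
      map_smul' := fun c a ↦ LinearMap.ext fun z ↦ by simp [smul_tmul', Algebra.smul_def] }
  let v : A ⊗[R] M₀ →ₗ[A] S ⊗[S₀] M₀ := TensorProduct.AlgebraTensorModule.lift bil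
  have hv : Function.Surjective v := by
    intro w
    induction w with
    | zero => exact ⟨0, map_zero _⟩
    | add a b ha hb =>
      obtain ⟨x, rfl⟩ := ha
      obtain ⟨x', rfl⟩ := hb
      exact ⟨x + x', map_add _ _ _⟩
    | tmul s z =>
      obtain ⟨t, rfl⟩ := hφbij.2 s
      induction t with
      | zero => exact ⟨0, by simp⟩
      | add a b ha hb =>
        obtain ⟨x, hx⟩ := ha
        obtain ⟨x', hx'⟩ := hb
        exact ⟨x + x', by rw [map_add, hx, hx', map_add, add_tmul]⟩
      | tmul a c =>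
        refine ⟨a ⊗ₜ (c • z), ?_⟩
        change algebraMap A S a ⊗ₜ[S₀] (c • z) = (algebraMap A S a * φ c) ⊗ₜ[S₀] z
        rw [← TensorProduct.smul_tmul, Algebra.smul_def, mul_comm]
        rfl
  have hfv : ∀ w, f.liftBaseChange S (v w) = fA w := by
    intro w
    induction w with
    | zero => simp
    | add a b ha hb => simp only [map_add, ha, hb]
    | tmul a z =>
      change f.liftBaseChange S (algebraMap A S a ⊗ₜ[S₀] z) = a • f z
      rw [LinearMap.liftBaseChange_tmul, algebraMap_smul]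
  have hbij : Function.Bijective (f.liftBaseChange S) := by
    refine ⟨fun w w' h ↦ ?_, fun x ↦ ?_⟩
    · obtain ⟨x, rfl⟩ := hv w
      obtain ⟨x', rfl⟩ := hv w'
      rw [hfv, hfv] at h
      rw [hfA.1 h]
    · obtain ⟨w, rfl⟩ := hfA.2 x
      exact ⟨v w, hfv w⟩
  exact IsBaseChange.of_equiv (LinearEquiv.ofBijective _ hbij) fun z ↦ by simp


/-- The data of a model at a stage. -/
theorem exists_model [Module.Flat A M] [Module.FinitePresentation (MvPolynomial (Fin n) A) M]
    (π : MvPolynomial (Fin n) A →ₐ[A] S) (hπ : Function.Surjective π)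
    (hsm : ∀ (p : MvPolynomial (Fin n) A) (x : M), p • x = π p • x)
    (hπfg : (RingHom.ker π).FG) :
    ∃ (R₀ : Type u) (_ : CommRing R₀) (_ : Algebra R₀ A) (S₀ : Type u) (_ : CommRing S₀)
      (_ : Algebra R₀ S₀) (_ : Algebra S₀ S) (_ : Algebra R₀ S) (_ : IsScalarTower R₀ A S)
      (_ : IsScalarTower R₀ S₀ S) (M₀ : Type u) (_ : AddCommGroup M₀) (_ : Module S₀ M₀)
      (_ : Module R₀ M₀) (_ : IsScalarTower R₀ S₀ M₀) (_ : Module S₀ M) (_ : IsScalarTower S₀ S M)
      (f : M₀ →ₗ[S₀] M),
      Algebra.FiniteType ℤ R₀ ∧ Algebra.FiniteType R₀ S₀ ∧ Module.Finite S₀ M₀ ∧ Module.Flat R₀ M₀ ∧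
        Algebra.IsPushout R₀ A S₀ S ∧ IsBaseChange S f := by
  classical
  -- presentation over `A`
  obtain ⟨r, m, hm⟩ := Module.Finite.exists_fin (R := MvPolynomial (Fin n) A) (M := M)
  let B := TrivSqZeroExt (MvPolynomial (Fin n) A) M
  let θ := theta (A := A) (n := n) m
  let eB : B ≃ₗ[MvPolynomial (Fin n) A] (MvPolynomial (Fin n) A × M) :=
    { toFun := fun b ↦ (b.fst, b.snd)
      invFun := fun p ↦ TrivSqZeroExt.inl p.1 + TrivSqZeroExt.inr p.2
      left_inv := fun b ↦ TrivSqZeroExt.inl_fst_add_inr_snd_eq b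
      right_inv := fun p ↦ Prod.ext
        (show (TrivSqZeroExt.inl p.1 + TrivSqZeroExt.inr p.2 : B).fst = p.1 by
          rw [TrivSqZeroExt.fst_add, TrivSqZeroExt.fst_inl, TrivSqZeroExt.fst_inr, add_zero])
        (show (TrivSqZeroExt.inl p.1 + TrivSqZeroExt.inr p.2 : B).snd = p.2 by
          rw [TrivSqZeroExt.snd_add, TrivSqZeroExt.snd_inl, TrivSqZeroExt.snd_inr, zero_add])
      map_add' := fun x y ↦ rfl
      map_smul' := fun c x ↦ rfl }
  have hfpB : Module.FinitePresentation (MvPolynomial (Fin n) A) B :=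
    Module.FinitePresentation.of_equiv eB.symm
  have : Algebra.FinitePresentation (MvPolynomial (Fin n) A) B := inferInstance
  have hfpAB : Algebra.FinitePresentation A B :=
    Algebra.FinitePresentation.trans A (MvPolynomial (Fin n) A) B
  have : Module.Flat A (MvPolynomial (Fin n) A × M) := Groth.Agent.H8Props.flat_prod
  have hflatB : Module.Flat A B := Module.Flat.of_linearEquiv (eB.restrictScalars A)
  have hθ : Function.Surjective θ := by
    intro b
    suffices ∀ x : M, TrivSqZeroExt.inr x ∈ θ.range by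
      obtain ⟨q, hq⟩ := this b.snd
      refine ⟨incX A n r b.fst + q, ?_⟩
      rw [map_add, theta_incX, show θ q = _ from hq]
      exact TrivSqZeroExt.inl_fst_add_inr_snd_eq b
    intro x
    obtain ⟨c, rfl⟩ := (Submodule.mem_span_range_iff_exists_fun _).mp
      (hm ▸ Submodule.mem_top : x ∈ Submodule.span (MvPolynomial (Fin n) A) (Set.range m))
    refine ⟨∑ k, incX A n r (c k) * X (Fin.natAdd n k), ?_⟩
    simp only [AlgHom.toRingHom_eq_coe, RingHom.coe_coe, map_sum, map_mul, θ, theta_incX]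
    simp [theta, TrivSqZeroExt.inl_mul_inr, TrivSqZeroExt.inr_sum, TrivSqZeroExt.inr_smul]
  obtain ⟨Gθ, hGθ⟩ := Algebra.FinitePresentation.ker_fG_of_surjective θ hθ
  obtain ⟨H, hH⟩ := hπfg
  let G : Finset (MvPolynomial (Fin (n + r)) A) := Gθ ∪
    (Finset.univ.image fun q : Fin r × Fin r ↦ X (Fin.natAdd n q.1) * X (Fin.natAdd n q.2)) ∪
    ((H ×ˢ (Finset.univ : Finset (Fin r))).image fun q ↦ incX A n r q.1 * X (Fin.natAdd n q.2))
  have hGker : ∀ g ∈ G, θ g = 0 := by
    intro g hg
    simp only [G, Finset.mem_union, Finset.mem_image, Finset.mem_univ, true_and,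
      Finset.mem_product] at hg
    rcases hg with (hg | ⟨q, rfl⟩) | ⟨q, ⟨hq, -⟩, rfl⟩
    · have : g ∈ RingHom.ker θ := hGθ ▸ Ideal.subset_span hg
      exact this
    · simp [θ, theta, TrivSqZeroExt.inr_mul_inr]
    · have hq' : π q.1 = 0 := by
        have : q.1 ∈ RingHom.ker π := hH ▸ Ideal.subset_span hq
        exact this
      simp only [map_mul, θ, theta_incX]
      simp [theta, TrivSqZeroExt.inl_mul_inr, hsm, hq']
  have hG : Ideal.span (G : Set (MvPolynomial (Fin (n + r)) A)) = RingHom.ker θ := by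
    refine le_antisymm (Ideal.span_le.mpr fun g hg ↦ hGker g hg) ?_
    refine le_of_eq_of_le hGθ.symm ?_
    exact Ideal.span_mono fun g hg ↦ by simp [G, Finset.mem_coe.mp hg]
  let R₀₀ := Algebra.adjoin ℤ
    ((G.biUnion MvPolynomial.coeffs ∪ H.biUnion MvPolynomial.coeffs : Finset A) : Set A)
  have hrange : ∀ {k : ℕ} (g : MvPolynomial (Fin k) A) (R : Subalgebra ℤ A), R₀₀ ≤ R →
      (g.coeffs ⊆ G.biUnion MvPolynomial.coeffs ∪ H.biUnion MvPolynomial.coeffs) →
      g ∈ Set.range (incl R) := fun g R hR hg ↦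
    MvPolynomial.mem_range_map_iff_coeffs_subset.2 fun a ha ↦
      ⟨⟨a, hR (Algebra.subset_adjoin (Finset.mem_coe.2 (hg ha)))⟩, rfl⟩
  have hGR : ∀ R : Subalgebra ℤ A, R₀₀ ≤ R →
      (G : Set (MvPolynomial (Fin (n + r)) A)) ⊆ Set.range (incl R) := fun R hR g hg ↦
    hrange g R hR fun a ha ↦ Finset.mem_union_left _ (Finset.mem_biUnion.2 ⟨g, hg, ha⟩)
  have hHR : ∀ R : Subalgebra ℤ A, R₀₀ ≤ R →
      (H : Set (MvPolynomial (Fin n) A)) ⊆ Set.range (incl R) := fun R hR g hg ↦
    hrange g R hR fun a ha ↦ Finset.mem_union_right _ (Finset.mem_biUnion.2 ⟨g, hg, ha⟩)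
  obtain ⟨R, hle, hR, hstage⟩ := exists_stage_inf_le (G := (G : Set (MvPolynomial (Fin (n + r)) A)))
    (Subalgebra.fg_adjoin_finset _) (hGR R₀₀ le_rfl) ((flat_quotient_iff _).1
      (Module.Flat.of_linearEquiv ((Ideal.quotientEquivAlgOfEq A hG).trans
        (Ideal.quotientKerAlgEquivOfSurjective hθ)).toLinearEquiv))
  -- the stage
  have := isNoetherianRing_stage hR
  refine ⟨R, inferInstance, inferInstance, ?_⟩
  obtain ⟨S₀, i₁, i₂, i₃, i₄, i₅, i₆, M₀, j₁, j₂, j₃, j₄, j₅, j₆, f, hf⟩ := stage_model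
    (R := R) π hπ hsm m Subtype.val_injective
    (stageIdeal (G : Set (MvPolynomial (Fin (n + r)) A)) R)
    (stageIdeal (H : Set (MvPolynomial (Fin n) A)) R)
    ((flat_quotient_iff _).2 (hstage R le_rfl hR)) hθ
    (hG.symm.trans (map_stageIdeal _ R (hGR R hle)).symm)
    (hH.symm.trans (map_stageIdeal _ R (hHR R hle)).symm)
    (fun i j ↦ Ideal.subset_span (Set.mem_preimage.mpr (by
      simp only [map_mul, map_X]
      exact Finset.mem_union_left _ (Finset.mem_union_right _
        (Finset.mem_image.mpr ⟨(i, j), Finset.mem_univ _, rfl⟩)))))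
    (fun p hp k ↦ by
      induction hp using Submodule.span_induction with
      | mem g hg =>
        refine Ideal.subset_span (Set.mem_preimage.mpr ?_)
        rw [map_mul, incl, map_incX, map_X]
        exact Finset.mem_union_right _ (Finset.mem_image.mpr
          ⟨(incl R g, k), Finset.mem_product.mpr ⟨Finset.mem_coe.mp hg, Finset.mem_univ _⟩, rfl⟩)
      | zero => simp
      | add a b _ _ ha hb => rw [map_add, add_mul]; exact add_mem ha hb
      | smul c a _ ha => rw [smul_eq_mul, map_mul, mul_assoc]; exact Ideal.mul_mem_left _ _ ha)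
  exact ⟨S₀, i₁, i₂, i₃, i₄, i₅, i₆, M₀, j₁, j₂, j₃, j₄, j₅, j₆, f,
    R.fg_iff_finiteType.1 hR, hf⟩

end Groth.Agent.H02CA.FlatModel
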