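import Mathlib.Algebra.Category.ModuleCat.Ext.Finite
import Mathlib.Algebra.Category.ModuleCat.Ext.DimensionShifting
import Mathlib.Algebra.Category.ModuleCat.Projective
import Mathlib.RingTheory.TensorProduct.IsBaseChangeHom
import Mathlib.RingTheory.Flat.Stability
import Mathlib.LinearAlgebra.TensorProduct.RightExactness

/-!
# `Ext` commutes with flat base change
-/

set_option autoImplicit false
set_option linter.style.haveILetI false

universe u

open CategoryTheory CategoryTheory.Abelian
open scoped TensorProduct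

namespace Groth.Agent.H02CA.ExtFlatBC

section Shift

variable {R : Type u} [CommRing R] {K F M : Type u} [AddCommGroup K] [Module R K] [AddCommGroup F] [Module R F]
  [AddCommGroup M] [Module R M] (i : K →ₗ[R] F) (p : F →ₗ[R] M)

/-- Degree zero. -/
noncomputable def ext0 (X N : Type u) [AddCommGroup X] [Module R X] [AddCommGroup N] [Module R N] :
    Ext (ModuleCat.of R X) (ModuleCat.of R N) 0 ≃ₗ[R] (X →ₗ[R] N) :=
  Ext.linearEquiv₀.trans ModuleCat.homLinearEquiv

theorem ext_shift (hi : Function.Injective i) (hp : Function.Surjective p) (h : Function.Exact i p)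
    [Module.Projective R F] (N : Type u) [AddCommGroup N] [Module R N] (n : ℕ) :
    Nonempty (Ext (ModuleCat.of R M) (ModuleCat.of R N) (n + 2) ≃ₗ[R] Ext (ModuleCat.of R K) (ModuleCat.of R N) (n + 1)) ∧
    Nonempty (Ext (ModuleCat.of R M) (ModuleCat.of R N) 1 ≃ₗ[R] ((K →ₗ[R] N) ⧸ LinearMap.range (LinearMap.lcomp R N i))) := by
  let S : ShortComplex (ModuleCat.{u} R) := ShortComplex.mk (ModuleCat.ofHom i) (ModuleCat.ofHom p)
    (ModuleCat.hom_ext (LinearMap.ext fun x => h.apply_apply_eq_zero x))
  haveI : Mono S.f := (ModuleCat.mono_iff_injective _).mpr hi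
  haveI : Epi S.g := (ModuleCat.epi_iff_surjective _).mpr hp
  have hS : S.ShortExact :=
    { exact := (ShortComplex.ShortExact.moduleCat_exact_iff_function_exact S).mpr h }
  haveI : Projective S.X₂ := (IsProjective.iff_projective.{u, u} F).mp inferInstance
  let Y := ModuleCat.of R N
  refine ⟨⟨(LinearEquiv.ofBijective (hS.extClass.precompOfLinear R Y (add_comm 1 (n + 1)))
    ⟨?_, precomp_extClass_surjective_of_projective_X₂ Y hS (n + 1)⟩).symm⟩, ?_⟩
  · rw [injective_iff_map_eq_zero]
    intro x hx
    obtain ⟨y, rfl⟩ := Ext.contravariant_sequence_exact₁ hS Y x (add_comm 1 (n + 1)) hx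
    rw [Ext.eq_zero_of_projective y, Ext.comp_zero]
  · let δ : (K →ₗ[R] N) →ₗ[R] Ext (ModuleCat.of R M) Y 1 :=
      (hS.extClass.precompOfLinear R Y (add_zero 1)) ∘ₗ (ext0 K N).symm.toLinearMap
    have hδ : Function.Surjective δ :=
      (precomp_extClass_surjective_of_projective_X₂ Y hS 0).comp (ext0 K N).symm.surjective
    have hcomp : ∀ g : F →ₗ[R] N, (ext0 K N).symm (g ∘ₗ i) = (Ext.mk₀ S.f).comp ((ext0 F N).symm g) (zero_add 0) := by
      intro g
      rw [show (ext0 F N).symm g = Ext.mk₀ (ModuleCat.ofHom g) from rfl, Ext.mk₀_comp_mk₀]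
      rfl
    have hker : LinearMap.ker δ = LinearMap.range (LinearMap.lcomp R N i) := by
      ext φ
      constructor
      · intro hφ
        obtain ⟨y, hy⟩ := Ext.contravariant_sequence_exact₁ hS Y ((ext0 K N).symm φ) (add_zero 1) hφ
        refine ⟨ext0 F N y, (ext0 K N).symm.injective ?_⟩
        rw [LinearMap.lcomp_apply', hcomp, LinearEquiv.symm_apply_apply, hy]
      · rintro ⟨g, rfl⟩
        show hS.extClass.comp ((ext0 K N).symm (g ∘ₗ i)) (add_zero 1) = 0
        rw [hcomp]
        exact ShortComplex.ShortExact.extClass_comp_assoc hS _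
    exact ⟨((Submodule.quotEquivOfEq _ _ hker.symm).trans (δ.quotKerEquivOfSurjective hδ)).symm⟩

end Shift

section BaseChange

variable {A : Type u} [CommRing A] (B : Type u) [CommRing B] [Algebra A B]
  (M N : Type u) [AddCommGroup M] [Module A M] [AddCommGroup N] [Module A N]

/-- The comparison map on homomorphisms. -/
noncomputable def Φ : B ⊗[A] (M →ₗ[A] N) →ₗ[B] (B ⊗[A] M →ₗ[B] B ⊗[A] N) :=
  LinearMap.liftBaseChange B (LinearMap.baseChangeHom A B M N)

theorem Φ_tmul (b : B) (f : M →ₗ[A] N) : Φ (A := A) B M N (b ⊗ₜ f) = b • f.baseChange B := by simp [Φ]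

variable {M} {K : Type u} [AddCommGroup K] [Module A K]

theorem Φ_natural (i : K →ₗ[A] M) (x : B ⊗[A] (M →ₗ[A] N)) :
    Φ (A := A) B K N ((LinearMap.lcomp A N i).baseChange B x) = (Φ (A := A) B M N x) ∘ₗ i.baseChange B := by
  induction x using TensorProduct.induction_on with
  | zero => simp
  | add a b ha hb => simp [map_add, ha, hb, LinearMap.add_comp]
  | tmul b f =>
    rw [LinearMap.baseChange_tmul, Φ_tmul, Φ_tmul, LinearMap.lcomp_apply', LinearMap.baseChange_comp,
      LinearMap.smul_comp]

variable (M)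

theorem Φ_bijective_free [Module.Free A M] [Module.Finite A M] : Function.Bijective (Φ (A := A) B M N) := by
  have h := IsBaseChange.linearMapLeftRight (TensorProduct.isBaseChange A M B) (TensorProduct.isBaseChange A N B)
  have : Φ (A := A) B M N = h.equiv.toLinearMap := by
    ext f m
    simp only [Φ, IsBaseChange.equiv_tmul, LinearMap.coe_comp, LinearEquiv.coe_coe, Function.comp_apply, LinearMap.liftBaseChange_tmul, LinearMap.baseChangeHom_apply, TensorProduct.AlgebraTensorModule.curry_apply, TensorProduct.curry_apply, LinearMap.coe_restrictScalars, one_smul, LinearMap.baseChange_tmul]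
    exact (IsBaseChange.linearMapLeftRightHom_comp_apply (Q := B ⊗[A] N) (TensorProduct.isBaseChange A M B) (TensorProduct.mk A B N 1) f m).symm
  rw [this]; exact h.equiv.bijective

variable [Module.Flat A B]

theorem baseChange_short_exact {F : Type u} [AddCommGroup F] [Module A F] {i : K →ₗ[A] F} {p : F →ₗ[A] M}
    (hi : Function.Injective i) (hp : Function.Surjective p) (h : Function.Exact i p) :
    Function.Injective (i.baseChange B) ∧ Function.Surjective (p.baseChange B) ∧
      Function.Exact (i.baseChange B) (p.baseChange B) :=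
  ⟨Module.Flat.lTensor_preserves_injective_linearMap i hi, LinearMap.lTensor_surjective B hp, lTensor_exact B h hp⟩

theorem Φ_injective [Module.Finite A M] : Function.Injective (Φ (A := A) B M N) := by
  obtain ⟨n, p, hp⟩ := Module.Finite.exists_fin' A M
  rw [injective_iff_map_eq_zero]
  intro x hx
  have h1 : (LinearMap.lcomp A N p).baseChange B x = 0 := by
    refine (Φ_bijective_free (A := A) B (Fin n → A) N).1 ?_
    rw [Φ_natural, hx, LinearMap.zero_comp, map_zero]
  have hinj : Function.Injective (LinearMap.lcomp A N p) := fun f g hfg =>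
    LinearMap.ext fun m => by obtain ⟨v, rfl⟩ := hp m; exact LinearMap.congr_fun hfg v
  exact Module.Flat.lTensor_preserves_injective_linearMap _ hinj (h1.trans (map_zero _).symm)

theorem Φ_bijective [IsNoetherianRing A] [Module.Finite A M] : Function.Bijective (Φ (A := A) B M N) := by
  refine ⟨Φ_injective (A := A) B M N, fun ψ => ?_⟩
  obtain ⟨n, p, hp⟩ := Module.Finite.exists_fin' A M
  obtain ⟨ξ, hξ⟩ := (Φ_bijective_free (A := A) B (Fin n → A) N).2 (ψ ∘ₗ p.baseChange B)
  let i := (LinearMap.ker p).subtype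
  have hex : Function.Exact (LinearMap.lcomp A N p) (LinearMap.lcomp A N i) :=
    fun g => ⟨fun hg => ?_, fun ⟨f, hf⟩ => by
      rw [← hf]; ext x; show f (p (x : Fin n → A)) = 0; rw [LinearMap.mem_ker.mp x.2, map_zero]⟩
  · have h1 : (LinearMap.lcomp A N i).baseChange B ξ = 0 := by
      refine Φ_injective (A := A) B (LinearMap.ker p) N ?_
      rw [Φ_natural, hξ, map_zero, LinearMap.comp_assoc, ← LinearMap.baseChange_comp,
        show p ∘ₗ i = 0 from LinearMap.ext fun x => x.2, LinearMap.baseChange_zero, LinearMap.comp_zero]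
    obtain ⟨x, hx⟩ := ((Module.Flat.lTensor_exact B hex) ξ).mp h1
    refine ⟨x, ?_⟩
    have hs : Function.Surjective (p.baseChange B) := LinearMap.lTensor_surjective B hp
    refine LinearMap.ext fun m => ?_
    obtain ⟨v, rfl⟩ := hs m
    have := (Φ_natural (A := A) B N p x).symm.trans ((congrArg (Φ (A := A) B (Fin n → A) N) hx).trans hξ)
    exact LinearMap.congr_fun this v
  · have hle : LinearMap.ker p ≤ LinearMap.ker g := fun x hx => LinearMap.congr_fun hg ⟨x, hx⟩
    refine ⟨((LinearMap.ker p).liftQ g hle) ∘ₗ (p.quotKerEquivOfSurjective hp).symm.toLinearMap, ?_⟩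
    ext x
    simp [LinearMap.quotKerEquivOfSurjective_symm_apply]

theorem nonempty_ext_equiv [IsNoetherianRing A] : ∀ (r : ℕ) (M : Type u) [AddCommGroup M] [Module A M]
    [Module.Finite A M], Nonempty ((B ⊗[A] Ext (ModuleCat.of A M) (ModuleCat.of A N) r) ≃ₗ[B]
      Ext (ModuleCat.of B (B ⊗[A] M)) (ModuleCat.of B (B ⊗[A] N)) r) := by
  intro r
  induction r with
  | zero =>
    intro M _ _ _
    exact ⟨((ext0 M N).baseChange A B).trans ((LinearEquiv.ofBijective _ (Φ_bijective (A := A) B M N)).trans
      (ext0 (B ⊗[A] M) (B ⊗[A] N)).symm)⟩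
  | succ r ih =>
    intro M _ _ _
    obtain ⟨n, p, hp⟩ := Module.Finite.exists_fin' A M
    let K := LinearMap.ker p
    let i : K →ₗ[A] (Fin n → A) := K.subtype
    haveI : Module.Finite A K := Module.Finite.of_fg (IsNoetherian.noetherian _)
    have hex : Function.Exact i p := LinearMap.exact_subtype_ker_map p
    obtain ⟨h1, h2, h3⟩ := baseChange_short_exact B M Subtype.val_injective hp hex
    cases r with
    | succ r =>
      obtain ⟨e⟩ := (ext_shift i p Subtype.val_injective hp hex N r).1
      obtain ⟨e'⟩ := (ext_shift (i.baseChange B) (p.baseChange B) h1 h2 h3 (B ⊗[A] N) r).1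
      obtain ⟨e''⟩ := ih K
      exact ⟨(e.baseChange A B).trans (e''.trans e'.symm)⟩
    | zero =>
      obtain ⟨e⟩ := (ext_shift i p Subtype.val_injective hp hex N 0).2
      obtain ⟨e'⟩ := (ext_shift (i.baseChange B) (p.baseChange B) h1 h2 h3 (B ⊗[A] N) 0).2
      let L := LinearMap.lcomp A N i
      let L' := LinearMap.lcomp B (B ⊗[A] N) (i.baseChange B)
      let ψ : B ⊗[A] (K →ₗ[A] N) ≃ₗ[B] (B ⊗[A] K →ₗ[B] B ⊗[A] N) := LinearEquiv.ofBijective _ (Φ_bijective (A := A) B K N)
      have hmap : (LinearMap.range (L.baseChange B)).map ψ.toLinearMap = LinearMap.range L' := by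
        rw [← LinearMap.range_comp]
        refine le_antisymm ?_ ?_
        · rintro _ ⟨x, rfl⟩
          exact ⟨Φ (A := A) B (Fin n → A) N x, (Φ_natural (A := A) B N i x).symm⟩
        · rintro _ ⟨g, rfl⟩
          obtain ⟨x, rfl⟩ := (Φ_bijective_free (A := A) B (Fin n → A) N).2 g
          exact ⟨x, Φ_natural (A := A) B N i x⟩
      let q := (LinearMap.range L).mkQ.baseChange B
      have hq : Function.Surjective q := LinearMap.lTensor_surjective B (Submodule.mkQ_surjective _)
      have hqk : LinearMap.ker q = LinearMap.range (L.baseChange B) :=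
        LinearMap.exact_iff.mp (lTensor_exact B (LinearMap.exact_map_mkQ_range L) (Submodule.mkQ_surjective _))
      exact ⟨(e.baseChange A B).trans ((q.quotKerEquivOfSurjective hq).symm.trans
        ((Submodule.quotEquivOfEq _ _ hqk).trans ((Submodule.Quotient.equiv _ _ ψ hmap).trans e'.symm)))⟩

end BaseChange

end Groth.Agent.H02CA.ExtFlatBC
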