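import Mathlib.CategoryTheory.Monoidal.Tor
import Mathlib.Algebra.Homology.HomologySequenceLemmas
import Mathlib.Algebra.Category.ModuleCat.Monoidal.Closed
import Mathlib.Algebra.Category.ModuleCat.Projective
import Mathlib.Algebra.Category.ModuleCat.EnoughInjectives
import Mathlib.Algebra.Homology.ShortComplex.ModuleCat
import Mathlib.RingTheory.Flat.CategoryTheory
import Mathlib.Algebra.Homology.HomologicalComplexAbelian
import Mathlib.RingTheory.Filtration
import Mathlib.RingTheory.Ideal.Operations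

/-!
# High powers of an ideal kill Tor maps
-/

set_option autoImplicit false
universe u

open CategoryTheory CategoryTheory.Limits MonoidalCategory

namespace Groth.Agent.H02CA.TorPow

variable {A : Type u} [CommRing A]

/-- Tensoring a fixed resolution. -/
noncomputable def cx (P : ChainComplex (ModuleCat.{u} A) ℕ) (X : ModuleCat.{u} A) :
    ChainComplex (ModuleCat.{u} A) ℕ :=
  (((tensoringLeft (ModuleCat.{u} A)).obj X).mapHomologicalComplex _).obj P

/-- Functoriality. -/
noncomputable def cxMap (P : ChainComplex (ModuleCat.{u} A) ℕ) {X Y : ModuleCat.{u} A} (φ : X ⟶ Y) :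
    cx P X ⟶ cx P Y :=
  (NatTrans.mapHomologicalComplex ((tensoringLeft (ModuleCat.{u} A)).map φ) _).app P

theorem cxMap_f (P : ChainComplex (ModuleCat.{u} A) ℕ) {X Y : ModuleCat.{u} A} (φ : X ⟶ Y) (i : ℕ) :
    (cxMap P φ).f i = φ ▷ P.X i := rfl

theorem cxMap_comp (P : ChainComplex (ModuleCat.{u} A) ℕ) {X Y Z : ModuleCat.{u} A} (φ : X ⟶ Y)
    (ψ : Y ⟶ Z) : cxMap P (φ ≫ ψ) = cxMap P φ ≫ cxMap P ψ :=
  HomologicalComplex.hom_ext _ _ fun i ↦ by
    rw [HomologicalComplex.comp_f, cxMap_f, cxMap_f, cxMap_f, comp_whiskerRight]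
    rfl

theorem cxMap_add (P : ChainComplex (ModuleCat.{u} A) ℕ) {X Y : ModuleCat.{u} A} (φ ψ : X ⟶ Y) :
    cxMap P (φ + ψ) = cxMap P φ + cxMap P ψ :=
  HomologicalComplex.hom_ext _ _ fun i ↦ by
    rw [HomologicalComplex.add_f_apply, cxMap_f, cxMap_f, cxMap_f]
    apply MonoidalPreadditive.add_whiskerRight

theorem cxMap_zero (P : ChainComplex (ModuleCat.{u} A) ℕ) (X Y : ModuleCat.{u} A) :
    cxMap P (0 : X ⟶ Y) = 0 :=
  HomologicalComplex.hom_ext _ _ fun i ↦ by
    rw [cxMap_f, HomologicalComplex.zero_f]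
    apply MonoidalPreadditive.zero_whiskerRight

/-- A morphism killed in all homology degrees after tensoring. -/
def Kills (P : ChainComplex (ModuleCat.{u} A) ℕ) {X Y : ModuleCat.{u} A} (φ : X ⟶ Y) : Prop :=
  ∀ p, HomologicalComplex.homologyMap (cxMap P φ) p = 0

variable {P : ChainComplex (ModuleCat.{u} A) ℕ}

theorem Kills.comp_left {W X Y : ModuleCat.{u} A} {φ : X ⟶ Y} (h : Kills P φ) (α : W ⟶ X) :
    Kills P (α ≫ φ) := fun p ↦ by
  rw [cxMap_comp, HomologicalComplex.homologyMap_comp, h p, comp_zero]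

theorem Kills.comp_right {X Y Z : ModuleCat.{u} A} {φ : X ⟶ Y} (h : Kills P φ) (β : Y ⟶ Z) :
    Kills P (φ ≫ β) := fun p ↦ by
  rw [cxMap_comp, HomologicalComplex.homologyMap_comp, h p, zero_comp]

theorem Kills.zero (X Y : ModuleCat.{u} A) : Kills P (0 : X ⟶ Y) := fun p ↦ by
  rw [cxMap_zero, HomologicalComplex.homologyMap_zero]

theorem Kills.add {X Y : ModuleCat.{u} A} {φ ψ : X ⟶ Y} (h : Kills P φ) (h' : Kills P ψ) :
    Kills P (φ + ψ) := fun p ↦ by
  rw [cxMap_add, HomologicalComplex.homologyMap_add, h p, h' p, add_zero]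

/-- Tensoring a short complex. -/
noncomputable def cxS (P : ChainComplex (ModuleCat.{u} A) ℕ) (S : ShortComplex (ModuleCat.{u} A)) :
    ShortComplex (ChainComplex (ModuleCat.{u} A) ℕ) :=
  ShortComplex.mk (cxMap P S.f) (cxMap P S.g) (by rw [← cxMap_comp, S.zero, cxMap_zero])

theorem cxS_shortExact (hP : ∀ i, Projective (P.X i)) (S : ShortComplex (ModuleCat.{u} A))
    (hS : S.ShortExact) : (cxS P S).ShortExact := by
  apply HomologicalComplex.shortExact_of_degreewise_shortExact
  intro i
  have : Module.Projective A (P.X i) := (P.X i).projective_of_module_projective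
  exact
    { exact := Module.Flat.rTensor_shortComplex_exact (P.X i) S hS.exact
      mono_f := (ModuleCat.mono_iff_injective _).mpr
        (Module.Flat.rTensor_preserves_injective_linearMap _
          ((ModuleCat.mono_iff_injective _).mp hS.mono_f))
      epi_g := (ModuleCat.epi_iff_surjective _).mpr
        (LinearMap.rTensor_surjective (P.X i) ((ModuleCat.epi_iff_surjective _).mp hS.epi_g)) }

/-- The dévissage step. -/
theorem Kills.of_shortExact (hP : ∀ i, Projective (P.X i)) {S' S : ShortComplex (ModuleCat.{u} A)}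
    (hS' : S'.ShortExact) (hS : S.ShortExact) (ψ : S' ⟶ S) {M : ModuleCat.{u} A} (μ : S.X₃ ⟶ M)
    (h₁ : Kills P ψ.τ₁) (h₂ : Kills P (S.g ≫ μ)) : Kills P (ψ.τ₃ ≫ μ) := by
  let φ : cxS P S' ⟶ cxS P S := ShortComplex.homMk (cxMap P ψ.τ₁) (cxMap P ψ.τ₂) (cxMap P ψ.τ₃)
    (by change cxMap P ψ.τ₁ ≫ cxMap P S.f = cxMap P S'.f ≫ cxMap P ψ.τ₂
        rw [← cxMap_comp, ← cxMap_comp, ψ.comm₁₂])
    (by change cxMap P ψ.τ₂ ≫ cxMap P S.g = cxMap P S'.g ≫ cxMap P ψ.τ₃
        rw [← cxMap_comp, ← cxMap_comp, ψ.comm₂₃])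
  intro p
  have h₂' := h₂ p
  rw [cxMap_comp, HomologicalComplex.homologyMap_comp] at h₂'
  rw [cxMap_comp, HomologicalComplex.homologyMap_comp]
  rcases p with _ | p
  · have := (cxS_shortExact hP S' hS').epi_g
    have : Epi (HomologicalComplex.homologyMap (cxS P S').g 0) :=
      HomologicalComplex.epi_homologyMap_of_epi_of_not_rel _ 0 (by simp)
    refine (cancel_epi (HomologicalComplex.homologyMap (cxS P S').g 0)).mp (Eq.trans ?_ comp_zero.symm)
    refine (Category.assoc _ _ _).symm.trans ?_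
    change (HomologicalComplex.homologyMap (cxS P S').g 0 ≫ HomologicalComplex.homologyMap φ.τ₃ 0) ≫ _ = _
    rw [← HomologicalComplex.homologyMap_comp, ← φ.comm₂₃, HomologicalComplex.homologyMap_comp]
    exact (Category.assoc _ _ _).trans ((congrArg (_ ≫ ·) h₂').trans comp_zero)
  · refine ModuleCat.hom_ext (LinearMap.ext fun t ↦ ?_)
    have hT := cxS_shortExact hP S hS
    have hδ : (hT.δ (p + 1) p rfl) (HomologicalComplex.homologyMap (cxMap P ψ.τ₃) (p + 1) t) = 0 := by
      have e : HomologicalComplex.homologyMap φ.τ₃ (p + 1) ≫ hT.δ (p + 1) p rfl = 0 := by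
        exact (HomologicalComplex.HomologySequence.δ_naturality φ (cxS_shortExact hP S' hS') hT
          (p + 1) p rfl).symm.trans ((congrArg (_ ≫ ·) (h₁ p)).trans comp_zero)
      exact LinearMap.congr_fun (congrArg ModuleCat.Hom.hom e) t
    obtain ⟨w, hw⟩ := (ShortComplex.moduleCat_exact_iff _).mp (hT.homology_exact₃ (p + 1) p rfl) _ hδ
    change (HomologicalComplex.homologyMap (cxMap P μ) (p + 1))
      (HomologicalComplex.homologyMap (cxMap P ψ.τ₃) (p + 1) t) = 0
    rw [← hw]
    exact LinearMap.congr_fun (congrArg ModuleCat.Hom.hom h₂') w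

theorem kills_smul_id {N : ModuleCat.{u} A} (R : ProjectiveResolution N) (a : A)
    (hN : ∀ y : N, a • y = 0) (X : ModuleCat.{u} A) : Kills R.complex (a • 𝟙 X) := by
  intro p
  have h0 : (a • 𝟙 R.complex) ≫ R.π = R.π ≫ (ChainComplex.single₀ _).map (0 : N ⟶ N) := by
    rw [Functor.map_zero, comp_zero, Linear.smul_comp, Category.id_comp]
    refine HomologicalComplex.to_single_hom_ext (ModuleCat.hom_ext (LinearMap.ext fun x ↦ ?_))
    exact hN _
  let H := ProjectiveResolution.liftHomotopy (0 : N ⟶ N) (P := R) (Q := R) (a • 𝟙 R.complex) 0 h0 (by simp)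
  have e : cxMap R.complex (a • 𝟙 X) =
      (((tensoringLeft (ModuleCat.{u} A)).obj X).mapHomologicalComplex _).map (a • 𝟙 R.complex) := by
    refine HomologicalComplex.hom_ext _ _ fun i ↦ ?_
    change (a • 𝟙 X) ▷ R.complex.X i = X ◁ (a • 𝟙 (R.complex.X i))
    rw [MonoidalLinear.smul_whiskerRight, MonoidalLinear.whiskerLeft_smul, id_whiskerRight,
      whiskerLeft_id]
  rw [e]
  refine ((((tensoringLeft (ModuleCat.{u} A)).obj X).mapHomotopy H).homologyMap_eq p).trans ?_
  rw [Functor.map_zero]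
  exact HomologicalComplex.homologyMap_zero _ _ p

/-- Some positive power of `J` kills all Tor maps into finite modules. -/
def Good (P : ChainComplex (ModuleCat.{u} A) ℕ) (J : Ideal A) : Prop :=
  ∀ (M : Type u) [AddCommGroup M] [Module A M] [Module.Finite A M],
    ∃ n : ℕ, 0 < n ∧ Kills P (ModuleCat.ofHom (J ^ n • ⊤ : Submodule A M).subtype)

theorem kills_of_le {M : Type u} [AddCommGroup M] [Module A M] {U V : Submodule A M} (h : U ≤ V)
    (hV : Kills P (ModuleCat.ofHom V.subtype)) : Kills P (ModuleCat.ofHom U.subtype) :=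
  hV.comp_left (ModuleCat.ofHom (Submodule.inclusion h))

theorem good_span_singleton [IsNoetherianRing A] {N : ModuleCat.{u} A} (R : ProjectiveResolution N)
    (f : A) (hN : ∀ y : N, f • y = 0) : Good R.complex (Ideal.span {f}) := by
  intro M _ _ _
  let g : ℕ → M →ₗ[A] M := fun j ↦ LinearMap.lsmul A M (f ^ j)
  obtain ⟨k, hk⟩ := monotone_stabilizes_iff_noetherian.mpr (inferInstance : IsNoetherian A M)
    ⟨fun j ↦ LinearMap.ker (g j), monotone_nat_of_le_succ fun j x hx ↦ by
      change f ^ (j + 1) • x = 0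
      rw [pow_succ', mul_smul, show f ^ j • x = 0 from hx, smul_zero]⟩
  refine ⟨k + 1, Nat.succ_pos k, ?_⟩
  have hle : (Ideal.span {f} ^ (k + 1) • ⊤ : Submodule A M) ≤ LinearMap.range (g (k + 1)) := by
    rw [Ideal.span_singleton_pow, Submodule.ideal_span_singleton_smul]
    intro x hx
    obtain ⟨y, -, rfl⟩ := hx
    exact ⟨y, rfl⟩
  refine kills_of_le hle ?_
  let q : LinearMap.range (g k) →ₗ[A] LinearMap.range (g (k + 1)) :=
    LinearMap.codRestrict _ (f • (LinearMap.range (g k)).subtype) fun x ↦ by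
      obtain ⟨_, y, rfl⟩ := x
      exact ⟨y, by simp [g, pow_succ', mul_smul]⟩
  have hq : Function.Bijective q := by
    refine ⟨(injective_iff_map_eq_zero q).mpr fun x hx ↦ ?_, fun z ↦ ?_⟩
    · obtain ⟨_, y, rfl⟩ := x
      have h1 : f • f ^ k • y = 0 := congrArg Subtype.val hx
      rw [smul_smul, ← pow_succ'] at h1
      refine Subtype.ext (show f ^ k • y = 0 from ?_)
      have : y ∈ LinearMap.ker (g (k + 1)) := h1
      rwa [show LinearMap.ker (g (k + 1)) = LinearMap.ker (g k) from (hk (k + 1) (Nat.le_succ k)).symm] at this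
    · obtain ⟨_, y, rfl⟩ := z
      exact ⟨⟨_, y, rfl⟩, Subtype.ext (by simp [q, g, pow_succ', mul_smul])⟩
  let e := LinearEquiv.ofBijective q hq
  have : ModuleCat.ofHom (LinearMap.range (g (k + 1))).subtype =
      ModuleCat.ofHom (X := LinearMap.range (g (k + 1))) (Y := LinearMap.range (g k)) e.symm.toLinearMap ≫
        (f • 𝟙 (ModuleCat.of A (LinearMap.range (g k)))) ≫ ModuleCat.ofHom (LinearMap.range (g k)).subtype := by
    refine ModuleCat.hom_ext (LinearMap.ext fun z ↦ ?_)
    exact congrArg Subtype.val (e.apply_symm_apply z).symm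
  rw [this]
  exact ((kills_smul_id R f hN _).comp_right _).comp_left _

/-- The intersection-sum short complex. -/
noncomputable def supS {M : Type u} [AddCommGroup M] [Module A M] (U V : Submodule A M) :
    ShortComplex (ModuleCat.{u} A) :=
  ShortComplex.mk
    (ModuleCat.ofHom (X := (U ⊓ V : Submodule A M)) (Y := U × V)
      ((Submodule.inclusion inf_le_left).prod (-Submodule.inclusion inf_le_right)))
    (ModuleCat.ofHom (X := U × V) (Y := (U ⊔ V : Submodule A M))
      ((Submodule.inclusion le_sup_left).coprod (Submodule.inclusion le_sup_right)))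
    (ModuleCat.hom_ext (LinearMap.ext fun x ↦ Subtype.ext (add_neg_cancel x.1)))

theorem supS_shortExact {M : Type u} [AddCommGroup M] [Module A M] (U V : Submodule A M) :
    (supS U V).ShortExact where
  exact := (ShortComplex.moduleCat_exact_iff _).2 fun x hx ↦ by
    have h : x.1.1 + x.2.1 = 0 := congrArg Subtype.val hx
    refine ⟨⟨x.1.1, x.1.2, ?_⟩, Prod.ext (Subtype.ext rfl) (Subtype.ext ?_)⟩
    · rw [eq_neg_of_add_eq_zero_left h]
      exact neg_mem x.2.2
    · exact (eq_neg_of_add_eq_zero_right h).symm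
  mono_f := (ModuleCat.mono_iff_injective _).2 fun x y hxy ↦
    Subtype.ext (congrArg (fun z : U × V ↦ z.1.1) hxy)
  epi_g := (ModuleCat.epi_iff_surjective _).2 fun z ↦ by
    obtain ⟨a, ha, b, hb, hab⟩ := Submodule.mem_sup.mp z.2
    exact ⟨(⟨a, ha⟩, ⟨b, hb⟩), Subtype.ext hab⟩

theorem kills_sup (hP : ∀ i, Projective (P.X i)) {M : Type u} [AddCommGroup M] [Module A M]
    {U V U' V' : Submodule A M} (hUU : U' ≤ U) (hVV : V' ≤ V)
    (hU : Kills P (ModuleCat.ofHom U.subtype)) (hV : Kills P (ModuleCat.ofHom V.subtype))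
    (hτ₁ : Kills P (ModuleCat.ofHom (Submodule.inclusion (inf_le_inf hUU hVV)))) :
    Kills P (ModuleCat.ofHom (U' ⊔ V' : Submodule A M).subtype) := by
  let ψ : supS U' V' ⟶ supS U V := ShortComplex.homMk
    (ModuleCat.ofHom (X := (U' ⊓ V' : Submodule A M)) (Y := (U ⊓ V : Submodule A M))
      (Submodule.inclusion (inf_le_inf hUU hVV)))
    (ModuleCat.ofHom (X := U' × V') (Y := U × V)
      ((Submodule.inclusion hUU).prodMap (Submodule.inclusion hVV)))
    (ModuleCat.ofHom (X := (U' ⊔ V' : Submodule A M)) (Y := (U ⊔ V : Submodule A M))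
      (Submodule.inclusion (sup_le_sup hUU hVV))) rfl rfl
  have hg : Kills P ((supS U V).g ≫ ModuleCat.ofHom (U ⊔ V : Submodule A M).subtype) := by
    have : (supS U V).g ≫ ModuleCat.ofHom (U ⊔ V : Submodule A M).subtype =
        ModuleCat.ofHom (X := U × V) (Y := U) (LinearMap.fst A U V) ≫ ModuleCat.ofHom U.subtype +
          ModuleCat.ofHom (X := U × V) (Y := V) (LinearMap.snd A U V) ≫ ModuleCat.ofHom V.subtype :=
      ModuleCat.hom_ext (LinearMap.ext fun x ↦ rfl)
    rw [this]
    exact (hU.comp_left _).add (hV.comp_left _)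
  exact Kills.of_shortExact hP (supS_shortExact U' V') (supS_shortExact U V) ψ
    (ModuleCat.ofHom (U ⊔ V : Submodule A M).subtype) hτ₁ hg

theorem Good.sup_span [IsNoetherianRing A] (hP : ∀ i, Projective (P.X i)) {J : Ideal A} {f : A}
    (hJ : Good P J) (hf : Good P (Ideal.span {f})) : Good P (J ⊔ Ideal.span {f}) := by
  intro M _ _ _
  obtain ⟨n₁, hn₁, h₁⟩ := hJ M
  obtain ⟨n₂, hn₂, h₂⟩ := hf M
  let F : Ideal A := Ideal.span {f}
  let n := max n₁ n₂
  let U : Submodule A M := J ^ n • ⊤
  let V : Submodule A M := F ^ n • ⊤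
  have hU : Kills P (ModuleCat.ofHom U.subtype) :=
    kills_of_le (Submodule.smul_mono_left (Ideal.pow_le_pow_right (le_max_left _ _))) h₁
  have hV : Kills P (ModuleCat.ofHom V.subtype) :=
    kills_of_le (Submodule.smul_mono_left (Ideal.pow_le_pow_right (le_max_right _ _))) h₂
  obtain ⟨k, hk, hX⟩ := hJ (U ⊓ V : Submodule A M)
  obtain ⟨c, hc⟩ := Ideal.exists_pow_inf_eq_pow_smul J V
  let m := max c n + k
  let U' : Submodule A M := J ^ m • ⊤
  let V' : Submodule A M := F ^ m • ⊤
  have hUU : U' ≤ U := Submodule.smul_mono_left (Ideal.pow_le_pow_right (by omega))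
  have hVV : V' ≤ V := Submodule.smul_mono_left (Ideal.pow_le_pow_right (by omega))
  have hXX : (U' ⊓ V' : Submodule A M) ≤ J ^ k • (U ⊓ V) := by
    refine le_trans (inf_le_inf_left U' hVV) ?_
    rw [hc m (by omega), show m - c = k + (max c n - c) by omega, pow_add, ← smul_eq_mul,
      Submodule.smul_assoc]
    refine smul_mono_right _ (le_inf ?_ (Submodule.smul_le_right.trans inf_le_right))
    refine le_trans (smul_mono_right _ inf_le_left) ?_
    rw [← Submodule.smul_assoc, smul_eq_mul, ← pow_add]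
    exact Submodule.smul_mono_left (Ideal.pow_le_pow_right (by omega))
  have hsum : Kills P (ModuleCat.ofHom (U' ⊔ V' : Submodule A M).subtype) := by
    refine kills_sup hP hUU hVV hU hV (hX.comp_left (ModuleCat.ofHom
      (LinearMap.codRestrict _ (Submodule.inclusion (inf_le_inf hUU hVV))
        fun x ↦ (Submodule.mem_smul_top_iff _ _ _).mpr (hXX x.2))))
  refine ⟨m + m, by omega, ?_⟩
  have hsup : ((J ⊔ F) ^ (m + m) • ⊤ : Submodule A M) ≤ U' ⊔ V' :=
    (Submodule.smul_mono_left Ideal.sup_pow_add_le_pow_sup_pow).trans (le_of_eq (Submodule.sup_smul _ _ _))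
  exact kills_of_le hsup hsum

theorem good [IsNoetherianRing A] {N : ModuleCat.{u} A} (R : ProjectiveResolution N) (I : Ideal A)
    (hN : ∀ a ∈ I, ∀ y : N, a • y = 0) : Good R.complex I := by
  classical
  obtain ⟨s, rfl⟩ := (IsNoetherian.noetherian I : Submodule.FG (I : Submodule A A))
  induction s using Finset.induction with
  | empty =>
    intro M _ _ _
    refine ⟨1, one_pos, ?_⟩
    have h0 : ModuleCat.ofHom ((Submodule.span A ((∅ : Finset A) : Set A) : Ideal A) ^ 1 • ⊤ :
        Submodule A M).subtype = 0 := by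
      refine ModuleCat.hom_ext (LinearMap.ext fun x ↦ ?_)
      simpa using x.2
    rw [h0]
    exact Kills.zero _ _
  | insert f s _ ih =>
    have h : (Submodule.span A ((insert f s : Finset A) : Set A) : Ideal A) =
        Submodule.span A (s : Set A) ⊔ Ideal.span {f} := by
      rw [Finset.coe_insert, Submodule.span_insert, sup_comm]
    rw [h]
    refine Good.sup_span (fun i ↦ inferInstance) (ih fun a ha ↦ hN a (h ▸ Submodule.mem_sup_left ha))
      (good_span_singleton R f (hN f ?_))
    exact Submodule.subset_span (Finset.mem_insert_self f s)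

end Groth.Agent.H02CA.TorPow
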