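import Groth.Agent.H02CA.FlatComplexFibre
import Groth.Agent.H3CAlg.TorBasic
import Mathlib.CategoryTheory.Monoidal.Tor
import Mathlib.RingTheory.Flat.Tensor
import Mathlib.Algebra.Category.ModuleCat.Monoidal.Closed
import Mathlib.Algebra.Category.ModuleCat.Projective
import Mathlib.Algebra.Homology.ShortComplex.ModuleCat

/-!
# Tor dimension is detected on residue fields
-/

set_option autoImplicit false
universe u

open CategoryTheory CategoryTheory.Limits MonoidalCategory TensorProduct

namespace Groth.Agent.H02CA.TorResidue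

variable {A : Type u} [CommRing A] {M : ModuleCat.{u} A}

/-- The differentials of a resolution. -/
def dP (P : ProjectiveResolution M) (i : ℕ) : P.complex.X (i + 1) →ₗ[A] P.complex.X i :=
  (P.complex.d (i + 1) i).hom

theorem dP_dP (P : ProjectiveResolution M) (i : ℕ) : dP P i ∘ₗ dP P (i + 1) = 0 := by
  refine LinearMap.ext fun x ↦ ?_
  exact LinearMap.congr_fun (congrArg ModuleCat.Hom.hom (P.complex.d_comp_d (i + 2) (i + 1) i)) x

instance (P : ProjectiveResolution M) (i : ℕ) : Module.Flat A (P.complex.X i) :=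
  have : Module.Projective A (P.complex.X i) := (P.complex.X i).projective_of_module_projective
  inferInstance

theorem isZero_tor_iff_ex (P : ProjectiveResolution M) (N : ModuleCat.{u} A) (j : ℕ) :
    IsZero (((Tor (ModuleCat.{u} A) (j + 1)).obj N).obj M) ↔
      FlatComplexFibre.Ex (X := fun i ↦ (P.complex.X i : Type u)) (dP P) N j := by
  let C := (((tensoringLeft (ModuleCat.{u} A)).obj N).mapHomologicalComplex (ComplexShape.down ℕ)).obj
    P.complex
  refine (P.isoLeftDerivedObj ((tensoringLeft (ModuleCat.{u} A)).obj N) (j + 1)).isZero_iff.trans ?_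
  change IsZero (C.homology (j + 1)) ↔ _
  rw [← C.exactAt_iff_isZero_homology, C.exactAt_iff' (j + 2) (j + 1) j (by simp) (by simp)]
  exact ShortComplex.ShortExact.moduleCat_exact_iff_function_exact _

theorem isZero_tor_of_residueField [IsNoetherianRing A] (n : ℕ)
    (h : ∀ (x : Ideal A) [x.IsPrime] (i : ℕ), n < i →
      IsZero (((Tor (ModuleCat.{u} A) i).obj (ModuleCat.of A x.ResidueField)).obj M))
    (N : ModuleCat.{u} A) (i : ℕ) (hi : n < i) :
    IsZero (((Tor (ModuleCat.{u} A) i).obj N).obj M) := by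
  obtain ⟨j, rfl⟩ := Nat.exists_eq_add_of_le' (show 1 ≤ i by omega)
  let P := projectiveResolution M
  exact (isZero_tor_iff_ex P N j).mpr (FlatComplexFibre.ex_of_forall_residueField (X := fun i ↦ (P.complex.X i : Type u)) (d := dP P) (dP_dP P) n
    (fun p _ k hk ↦ (isZero_tor_iff_ex P (ModuleCat.of A p.ResidueField) k).mp
      (h p (k + 1) (by omega))) N j (by omega))

theorem flat_of_residueField [IsNoetherianRing A]
    (h : ∀ (x : Ideal A) [x.IsPrime] (i : ℕ), 0 < i →
      IsZero (((Tor (ModuleCat.{u} A) i).obj (ModuleCat.of A x.ResidueField)).obj M)) :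
    Module.Flat A M := by
  rw [Module.Flat.iff_rTensor_injective]
  intro I _
  let P := projectiveResolution M
  have hQ : FlatComplexFibre.Ex (X := fun i ↦ (P.complex.X i : Type u)) (dP P) (A ⧸ I) 0 :=
    (isZero_tor_iff_ex P (ModuleCat.of A (A ⧸ I)) 0).mp
      (isZero_tor_of_residueField 0 h _ 1 one_pos)
  let ε : P.complex.X 0 →ₗ[A] M := (P.π.f 0 ≫ (HomologicalComplex.singleObjXSelf _ 0 M).hom).hom
  have hε : Function.Surjective ε := (ModuleCat.epi_iff_surjective (P.π.f 0 ≫ (HomologicalComplex.singleObjXSelf _ 0 M).hom)).mp inferInstance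
  have hex : Function.Exact (dP P 0) ε := by
    have e := (ShortComplex.ShortExact.moduleCat_exact_iff_function_exact _).mp P.exact₀
    have hi : Function.Injective (HomologicalComplex.singleObjXSelf (ComplexShape.down ℕ) 0 M).hom :=
      (ModuleCat.mono_iff_injective _).mp inferInstance
    intro z
    refine Iff.trans ?_ (e z)
    change (HomologicalComplex.singleObjXSelf (ComplexShape.down ℕ) 0 M).hom (P.π.f 0 z) = 0 ↔ P.π.f 0 z = 0
    exact map_eq_zero_iff _ hi
  refine (injective_iff_map_eq_zero _).mpr fun x hx ↦ ?_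
  obtain ⟨z, rfl⟩ := LinearMap.lTensor_surjective I hε x
  have h0 : ε.lTensor A ((Submodule.subtype I).rTensor (P.complex.X 0) z) = 0 := by
    rw [← LinearMap.comp_apply, LinearMap.lTensor_comp_rTensor, ← LinearMap.rTensor_comp_lTensor,
      LinearMap.comp_apply]
    exact hx
  obtain ⟨w, hw⟩ := (lTensor_exact A hex hε _).mp h0
  obtain ⟨w₁, hw₁⟩ := FlatComplexFibre.mem_range_of_map (X := fun i ↦ (P.complex.X i : Type u)) (d := dP P) (dP_dP P) Subtype.val_injective
    (Submodule.mkQ_surjective _) (LinearMap.exact_subtype_mkQ I) hQ z w hw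
  rw [← hw₁, ← LinearMap.lTensor_comp_apply, hex.linearMap_comp_eq_zero, LinearMap.lTensor_zero,
    LinearMap.zero_apply]

/-- A two-term complex in degrees one and two. -/
def two (K F : ModuleCat.{u} A) : ℕ → ModuleCat.{u} A
  | 1 => F
  | 2 => K
  | _ => ModuleCat.of A PUnit

/-- Its differential. -/
def twoD {K F : ModuleCat.{u} A} (v : K →ₗ[A] F) : ∀ i, two K F (i + 1) →ₗ[A] two K F i
  | 0 => 0
  | 1 => v
  | _ + 2 => 0

theorem ex_two {K F : ModuleCat.{u} A} (v : K →ₗ[A] F) (hd : ∀ i, twoD v i ∘ₗ twoD v (i + 1) = 0)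
    (N : Type u) [AddCommGroup N] [Module A N] (h : Function.Bijective (v.lTensor N)) (j : ℕ) :
    FlatComplexFibre.Ex (X := fun i ↦ (two K F i : Type u)) (twoD v) N j := by
  intro z
  refine ⟨fun hz ↦ ?_, ?_⟩
  · match j with
    | 0 => exact h.2 z
    | 1 =>
      refine ⟨0, (map_zero _).trans (h.1 ?_).symm⟩
      exact hz.trans (map_zero (v.lTensor N)).symm
    | j + 2 =>
      have : Subsingleton (two K F (j + 2 + 1)) := inferInstanceAs (Subsingleton PUnit)
      exact ⟨0, Subsingleton.elim _ _⟩
  · rintro ⟨w, rfl⟩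
    rw [← LinearMap.lTensor_comp_apply, hd, LinearMap.lTensor_zero, LinearMap.zero_apply]

theorem bijective_of_residueField [IsNoetherianRing A] (K F : ModuleCat.{u} A) [Module.Flat A K]
    [Module.Flat A F] (v : K →ₗ[A] F)
    (h : ∀ (p : Ideal A) [p.IsPrime], Function.Bijective (v.lTensor p.ResidueField)) :
    Function.Bijective v := by
  have : ∀ i, Module.Flat A (two K F i) := by
    intro i
    match i with
    | 0 => exact inferInstanceAs (Module.Flat A PUnit)
    | 1 => exact inferInstanceAs (Module.Flat A F)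
    | 2 => exact inferInstanceAs (Module.Flat A K)
    | _ + 3 => exact inferInstanceAs (Module.Flat A PUnit)
  have hd : ∀ i, twoD v i ∘ₗ twoD v (i + 1) = 0 := by
    intro i
    match i with
    | 0 => exact LinearMap.zero_comp _
    | _ + 1 => exact LinearMap.comp_zero _
  have key := fun j ↦ FlatComplexFibre.ex_of_forall_residueField
    (X := fun i ↦ (two K F i : Type u)) (d := twoD v) hd 0
    (fun p _ k _ ↦ ex_two v hd p.ResidueField (h p) k) A j (Nat.zero_le j)
  constructor
  · refine (injective_iff_map_eq_zero v).mpr fun k hk ↦ ?_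
    obtain ⟨w, hw⟩ := ((key 1) ((1 : A) ⊗ₜ[A] k)).mp (by
      change (1 : A) ⊗ₜ[A] v k = 0
      rw [hk, tmul_zero])
    have hw0 : w = 0 := by
      have : Subsingleton (two K F (1 + 2)) := inferInstanceAs (Subsingleton PUnit)
      exact Subsingleton.elim _ _
    subst hw0
    have hw' : (1 : A) ⊗ₜ[A] k = (0 : A ⊗[A] K) :=
      hw.symm.trans (map_zero ((twoD v (1 + 1)).lTensor A))
    have := (congrArg (TensorProduct.lid A K) hw').trans (map_zero (TensorProduct.lid A K))
    rwa [TensorProduct.lid_tmul, one_smul] at this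
  · intro f
    obtain ⟨w, hw⟩ := ((key 0) ((1 : A) ⊗ₜ[A] f)).mp
      (LinearMap.congr_fun (LinearMap.lTensor_zero A) _)
    refine ⟨TensorProduct.lid A K w, ?_⟩
    have e : ∀ w : A ⊗[A] K, v (TensorProduct.lid A K w) = TensorProduct.lid A F (v.lTensor A w) := by
      intro w
      induction w using TensorProduct.induction_on with
      | zero => simp
      | tmul a k => simp
      | add a b ha hb => simp only [map_add, ha, hb]
    refine (e w).trans ((congrArg (TensorProduct.lid A F) hw).trans ?_)
    exact (TensorProduct.lid_tmul (R := A) f (1 : A)).trans (one_smul A f)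

end Groth.Agent.H02CA.TorResidue
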