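import Groth.Agent.H4Goren.Basic
import Groth.Agent.H4Matlis.Duality
import Groth.Agent.H4Matlis.Socle
import Groth.Agent.H4Inj.Essential
import Groth.Agent.H02CA.ExtFlatBC
import Groth.Agent.H8Props.FlatDepth
import Groth.Agent.H05EGA4.SerreCond
import Mathlib

/-!
Gorenstein rings under flat maps: localisation, the socle criterion in dimension zero, the local
criterion `B Gorenstein ↔ A and B/m_A B Gorenstein`, and its globalisation along fibres.
-/

set_option autoImplicit false

namespace Groth.Agent.H02CA.GorFlat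

universe u

open CategoryTheory CategoryTheory.Abelian IsLocalRing LocCoh
open scoped TensorProduct

section Transfer

/-- Vanishing of high `Ext` passes along flat maps with extended maximal ideal. -/
theorem subsingleton_ext_of_flat_extended {A : Type u} [CommRing A] [IsNoetherianRing A] (n : ℕ)
    (hn : HasInjectiveDimensionLT (ModuleCat.of A A) n)
    (B : Type u) [CommRing B] [IsLocalRing B] [IsNoetherianRing B] [Algebra A B] [Module.Flat A B]
    (J : Ideal A) (hJ : J.map (algebraMap A B) = maximalIdeal B) (i : ℕ) (hi : n ≤ i) :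
    Subsingleton (Ext (ModuleCat.of B (ResidueField B)) (ModuleCat.of B B) i) := by
  haveI : Subsingleton (Ext (ModuleCat.of A (A ⧸ J)) (ModuleCat.of A A) i) :=
    subsingleton_of_forall_eq 0 fun x => x.eq_zero_of_hasInjectiveDimensionLT n hi
  obtain ⟨e⟩ := Groth.Agent.H02CA.ExtFlatBC.nonempty_ext_equiv (A := A) B A i (A ⧸ J)
  haveI := e.symm.toEquiv.subsingleton
  let e1 : ResidueField B ≃ₗ[B] B ⊗[A] (A ⧸ J) :=
    ((Submodule.quotEquivOfEq _ _ hJ.symm).trans
      (Algebra.TensorProduct.quotIdealMapEquivTensorQuot B J).toLinearEquiv)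
  let e2 : B ≃ₗ[B] B ⊗[A] A := (TensorProduct.AlgebraTensorModule.rid A B B).symm
  refine subsingleton_of_forall_eq 0 fun x => ?_
  let y : Ext (ModuleCat.of B (B ⊗[A] (A ⧸ J))) (ModuleCat.of B (B ⊗[A] A)) i :=
    (Ext.mk₀ e1.toModuleIso.inv).comp (x.comp (Ext.mk₀ e2.toModuleIso.hom) (add_zero i)) (zero_add i)
  have hy : y = 0 := Subsingleton.elim _ _
  have : x = (Ext.mk₀ e1.toModuleIso.hom).comp (y.comp (Ext.mk₀ e2.toModuleIso.inv) (add_zero i))
      (zero_add i) := by
    simp only [y, Ext.comp_assoc_of_third_deg_zero, Ext.mk₀_comp_mk₀, Iso.hom_inv_id, Ext.comp_mk₀_id]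
    rw [Ext.mk₀_comp_mk₀_assoc, Iso.hom_inv_id, Ext.mk₀_id_comp]
  rw [this, hy, Ext.zero_comp, Ext.comp_zero]

/-- Finite injective dimension passes along flat maps `A → B` with the maximal ideal of `B` extended. -/
theorem gor_of_flat_extended {A : Type u} [CommRing A] [IsNoetherianRing A]
    (hA : ∃ n : ℕ, HasInjectiveDimensionLT (ModuleCat.of A A) n)
    (B : Type u) [CommRing B] [IsLocalRing B] [IsNoetherianRing B] [Algebra A B] [Module.Flat A B]
    (J : Ideal A) (hJ : J.map (algebraMap A B) = maximalIdeal B) : IsGorensteinLocalRing B := by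
  obtain ⟨n, hn⟩ := hA
  exact (H4Goren.isGorensteinLocalRing_iff_ext B).2
    ⟨n, fun i hi => subsingleton_ext_of_flat_extended n hn B J hJ i hi⟩

theorem gor_of_ringEquiv {A B : Type u} [CommRing A] [CommRing B] (e : A ≃+* B)
    (h : IsGorensteinLocalRing A) : IsGorensteinLocalRing B := by
  haveI : IsLocalRing B := e.isLocalRing
  haveI : IsNoetherianRing B := isNoetherianRing_of_ringEquiv A e
  letI := e.toRingHom.toAlgebra
  haveI : Module.Flat A B := Module.Flat.of_linearEquiv
    (LinearEquiv.ofBijective (Algebra.linearMap A B) e.bijective).symm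
  exact gor_of_flat_extended h.exists_hasInjectiveDimensionLT B (maximalIdeal A)
    (IsLocalRing.map_maximalIdeal_of_surjective _ e.surjective)

theorem gor_iff_of_ringEquiv {A B : Type u} [CommRing A] [CommRing B] (e : A ≃+* B) :
    IsGorensteinLocalRing A ↔ IsGorensteinLocalRing B :=
  ⟨gor_of_ringEquiv e, gor_of_ringEquiv e.symm⟩

theorem gor_localization_of_injdim {A : Type u} [CommRing A] [IsNoetherianRing A]
    (hA : ∃ n : ℕ, HasInjectiveDimensionLT (ModuleCat.of A A) n) (p : Ideal A) [p.IsPrime] :
    IsGorensteinLocalRing (Localization.AtPrime p) := by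
  haveI : IsNoetherianRing (Localization.AtPrime p) :=
    IsLocalization.isNoetherianRing p.primeCompl _ inferInstance
  haveI : Module.Flat A (Localization.AtPrime p) := IsLocalization.flat _ p.primeCompl
  exact gor_of_flat_extended hA _ p (Localization.AtPrime.map_eq_maximalIdeal)

theorem isGorensteinRing_of_local (A : Type u) [CommRing A] [IsGorensteinLocalRing A] :
    IsGorensteinRing A :=
  { isGorensteinLocalRing_localization := fun p _ =>
      gor_localization_of_injdim IsGorensteinLocalRing.exists_hasInjectiveDimensionLT p }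

theorem gor_congr {R : Type u} [CommRing R] {p q : Ideal R} [p.IsPrime] [q.IsPrime] (h : p = q) :
    IsGorensteinLocalRing (Localization.AtPrime p) ↔ IsGorensteinLocalRing (Localization.AtPrime q) := by
  subst h; rfl

theorem gor_localization_iff {R : Type u} [CommRing R] (S : Submonoid R) (R' : Type u) [CommRing R']
    [Algebra R R'] [IsLocalization S R'] (P : Ideal R') [P.IsPrime] :
    IsGorensteinLocalRing (Localization.AtPrime P) ↔
      IsGorensteinLocalRing (Localization.AtPrime (P.comap (algebraMap R R'))) := by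
  have := IsLocalization.isLocalization_isLocalization_atPrime_isLocalization S (Localization.AtPrime P) P
  exact gor_iff_of_ringEquiv (IsLocalization.algEquiv (P.comap (algebraMap R R')).primeCompl
    (Localization.AtPrime P) (Localization.AtPrime (P.comap (algebraMap R R')))).toRingEquiv

theorem isGorensteinRing_of_isLocalization {R : Type u} [CommRing R] (h : IsGorensteinRing R)
    (S : Submonoid R) (R' : Type u) [CommRing R'] [Algebra R R'] [IsLocalization S R'] :
    IsGorensteinRing R' :=
  haveI := h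
  haveI : IsNoetherianRing R' := IsLocalization.isNoetherianRing S R' inferInstance
  { isGorensteinLocalRing_localization := fun P _ =>
      (gor_localization_iff S R' P).2 (h.isGorensteinLocalRing_localization _) }

theorem isGorensteinRing_of_ringEquiv {A B : Type u} [CommRing A] [CommRing B] (e : A ≃+* B)
    (h : IsGorensteinRing A) : IsGorensteinRing B := by
  letI := e.toRingHom.toAlgebra
  have := IsLocalization.self (R := A) (M := (⊥ : Submonoid A)) bot_le
  have : IsLocalization (⊥ : Submonoid A) B :=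
    IsLocalization.isLocalization_of_algEquiv ⊥ (AlgEquiv.ofRingEquiv (f := e) fun _ => rfl)
  exact isGorensteinRing_of_isLocalization h ⊥ B

theorem isGorensteinLocalRing_of_ring (A : Type u) [CommRing A] [IsLocalRing A]
    (h : IsGorensteinRing A) : IsGorensteinLocalRing A :=
  gor_of_ringEquiv (IsLocalization.atUnits A (maximalIdeal A).primeCompl
    (fun x hx => notMem_maximalIdeal.mp hx) (S := Localization.AtPrime (maximalIdeal A))).symm.toRingEquiv
    (h.isGorensteinLocalRing_localization _)

theorem isGorensteinRing_of_isRegularRing (A : Type u) [CommRing A] [IsRegularRing A] :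
    IsGorensteinRing A :=
  { isGorensteinLocalRing_localization := fun p _ =>
      have := isRegularRing_iff.mp (inferInstance : IsRegularRing A) p
      H4Goren.isGorensteinLocalRing_of_isRegularLocalRing _ }

end Transfer

section Socle

variable (A : Type u) [CommRing A] [IsLocalRing A] [IsNoetherianRing A]

/-- The socle is cyclic. -/
def SocleCyclic : Prop :=
  ∃ z : A, (∀ a ∈ maximalIdeal A, a * z = 0) ∧
    ∀ y : A, (∀ a ∈ maximalIdeal A, a * y = 0) → ∃ r, r * z = y

variable {A}

theorem exists_socle_ne_zero (h0 : ringKrullDim A = 0) :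
    ∃ z : A, z ≠ 0 ∧ ∀ a ∈ maximalIdeal A, a * z = 0 := by
  haveI : Ring.KrullDimLE 0 A := Ring.krullDimLE_iff.2 h0.le
  obtain ⟨p, hp⟩ := associatedPrimes.nonempty A A
  obtain ⟨hprime, v, hv⟩ := isAssociatedPrime_iff.mp hp
  obtain rfl : p = maximalIdeal A := IsLocalRing.eq_maximalIdeal (Ideal.IsPrime.isMaximal' hprime)
  refine ⟨v, ?_, fun a ha => ?_⟩
  · rintro rfl
    exact hprime.ne_top (by rw [hv, eq_top_iff]; intro a _; simp [Submodule.mem_colon_singleton])
  · rw [hv, Submodule.mem_colon_singleton, Submodule.mem_bot, smul_eq_mul] at ha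
    exact ha

theorem socleCyclic_of_gor (h0 : ringKrullDim A = 0) (h : IsGorensteinLocalRing A) :
    SocleCyclic A := by
  haveI := h
  obtain ⟨n, h1, h2, h3⟩ := H4Goren.depth_eq_ringKrullDim A
  obtain rfl : n = 0 := by exact_mod_cast h2.symm.trans h0
  have hinj : Module.Injective A A := H4Goren.injective_self_of_depth_eq_zero (by simpa using h1) h3
  obtain ⟨z, hz0, hz⟩ := exists_socle_ne_zero h0
  refine ⟨z, hz, fun y hy => ?_⟩
  have hle : LinearMap.ker (LinearMap.toSpanSingleton A A z) ≤ LinearMap.ker (LinearMap.toSpanSingleton A A y) := by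
    intro a ha
    simp only [LinearMap.mem_ker, LinearMap.toSpanSingleton_apply, smul_eq_mul] at ha ⊢
    refine hy a ?_
    by_contra hu
    exact hz0 ((IsUnit.mul_right_eq_zero (notMem_maximalIdeal.mp hu)).1 ha)
  obtain ⟨φ, hφ⟩ := Module.Injective.extension_property (inj := hinj) A A _ A
    (LinearMap.range (LinearMap.toSpanSingleton A A z)).subtype Subtype.val_injective
    ((LinearMap.ker (LinearMap.toSpanSingleton A A z)).liftQ (LinearMap.toSpanSingleton A A y) hle ∘ₗ
      (LinearMap.toSpanSingleton A A z).quotKerEquivRange.symm.toLinearMap)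
  refine ⟨φ 1, ?_⟩
  have h4 := LinearMap.congr_fun hφ ⟨_, 1, rfl⟩
  simp only [LinearMap.comp_apply, LinearEquiv.coe_coe] at h4
  rw [show (LinearMap.toSpanSingleton A A z).quotKerEquivRange.symm ⟨_, 1, rfl⟩ = Submodule.Quotient.mk 1
    from (LinearMap.toSpanSingleton A A z).quotKerEquivRange.symm_apply_eq.2 (Subtype.ext rfl)] at h4
  simp only [Submodule.subtype_apply, LinearMap.toSpanSingleton_apply, one_smul,
    Submodule.liftQ_apply] at h4
  rw [← h4, mul_comm, ← smul_eq_mul, ← map_smul, smul_eq_mul, mul_one]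

theorem gor_of_socleCyclic (h0 : ringKrullDim A = 0) (h : SocleCyclic A) :
    IsGorensteinLocalRing A := by
  obtain ⟨z, hz, hzy⟩ := h
  haveI : Ring.KrullDimLE 0 A := Ring.krullDimLE_iff.2 h0.le
  haveI : IsArtinianRing A := IsNoetherianRing.isArtinianRing_of_krullDimLE_zero
  obtain ⟨E, _, _, f, hf⟩ := H4Inj.exists_isInjectiveHull (R := A) (ResidueField A)
  obtain ⟨w, hw0, hw⟩ := exists_socle_ne_zero h0
  have hz0 : z ≠ 0 := by
    rintro rfl
    obtain ⟨r, hr⟩ := hzy w hw
    exact hw0 (by rw [← hr, mul_zero])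
  have htor : LocCoh.IsPowerTorsion (maximalIdeal A) A := by
    obtain ⟨N, hN⟩ := IsArtinianRing.isNilpotent_jacobson_bot (R := A)
    intro x
    refine ⟨N, fun a ha => ?_⟩
    rw [IsLocalRing.jacobson_eq_maximalIdeal ⊥ bot_ne_top] at hN
    rw [hN, Ideal.zero_eq_bot, Ideal.mem_bot] at ha
    simp [ha]
  let g : ResidueField A →ₗ[A] A := (maximalIdeal A).liftQ (LinearMap.toSpanSingleton A A z)
    fun a ha => by simpa using hz a ha
  have hgi : Function.Injective g := LinearMap.ker_eq_bot.1 (Submodule.ker_liftQ_eq_bot _ _ _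
    fun a ha => by
      by_contra hu
      refine hz0 ((IsUnit.mul_right_eq_zero (notMem_maximalIdeal.mp hu)).1 ?_)
      simpa using ha)
  have hess : InjHull.IsEssentialInj g := H4Matlis.isEssentialInj_of_socle hgi htor fun y hy => by
    obtain ⟨r, hr⟩ := hzy y fun a ha => by
      simpa using (Submodule.mem_torsionBySet_iff _ _).mp hy ⟨a, ha⟩
    exact ⟨Submodule.Quotient.mk r, (Submodule.liftQ_apply _ _ r).trans hr⟩
  obtain ⟨ψ, hψ⟩ := Module.Injective.extension_property (inj := hf.isInjective) A E _ A g hgi f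
  have hψi : Function.Injective ψ := by
    rw [← LinearMap.ker_eq_bot]
    by_contra hk
    obtain ⟨x, hx, hx0⟩ := Submodule.exists_mem_ne_zero_of_ne_bot
      (p := LinearMap.ker ψ ⊓ LinearMap.range g) (hess.essential _ hk)
    obtain ⟨c, rfl⟩ := hx.2
    have h5 : f c = 0 := by rw [← hψ]; exact hx.1
    exact hx0 (by rw [hf.injective (h5.trans (map_zero f).symm), map_zero])
  have hfl : IsFiniteLength A A := isFiniteLength_iff_isNoetherian_isArtinian.2
    ⟨inferInstance, inferInstance⟩
  have hlen : Module.length A E = Module.length A A := by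
    rw [← H4Matlis.length_hom_eq_length hf hfl]
    exact (LinearMap.ringLmapEquivSelf A A E).length_eq.symm
  have hsurj : Function.Surjective ψ := by
    have h6 := Module.length_eq_add_of_exact ψ (LinearMap.range ψ).mkQ hψi
      (Submodule.mkQ_surjective _) (LinearMap.exact_map_mkQ_range ψ)
    rw [hlen] at h6
    have h7 : Module.length A (E ⧸ LinearMap.range ψ) = 0 := by
      exact ENat.add_right_injective_of_ne_top (Module.length_ne_top_iff.2 hfl)
        ((add_zero (Module.length A A)).trans h6).symm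
    rw [← LinearMap.range_eq_top]
    exact Submodule.Quotient.subsingleton_iff.1 (Module.length_eq_zero_iff.1 h7)
  haveI := hf.isInjective
  haveI : Module.Injective A A :=
    Module.Injective.of_ringEquiv (RingEquiv.refl A) (LinearEquiv.ofBijective ψ ⟨hψi, hsurj⟩).symm
  haveI := Module.injective_object_of_injective_module A A
  exact { exists_hasInjectiveDimensionLT := ⟨1, inferInstance⟩ }

end Socle

section Artinian

variable {A B : Type u} [CommRing A] [CommRing B] [Algebra A B] [Module.Flat A B]

theorem mem_map_of_forall_mul_eq_zero (s : Finset A) {x : B}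
    (hx : ∀ g ∈ s, algebraMap A B g * x = 0) :
    ∀ (T : Finset A), T ⊆ s →
      x ∈ Ideal.map (algebraMap A B) (Submodule.torsionBySet A A (T : Set A)) := by
  classical
  intro T
  induction T using Finset.induction_on with
  | empty =>
    intro _
    have : Submodule.torsionBySet A A ((∅ : Finset A) : Set A) = ⊤ := by
      rw [eq_top_iff]; intro a _; simp [Submodule.mem_torsionBySet_iff]
    rw [this, Ideal.map_top]; trivial
  | insert g T hgT ih =>
    intro hs
    have h1 := ih fun a ha => hs (Finset.mem_insert_of_mem ha)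
    rw [Ideal.map, Ideal.span, Submodule.mem_span_image_iff_exists_fun] at h1
    obtain ⟨S, hS, c, hc⟩ := h1
    have h2 : ∑ a : S, ((a : A) * g) • c a = 0 := by
      have : algebraMap A B g * x = 0 := hx g (hs (Finset.mem_insert_self g T))
      rw [← hc, Finset.mul_sum] at this
      rw [← this]
      refine Finset.sum_congr rfl fun a _ => ?_
      rw [Algebra.smul_def, map_mul, smul_eq_mul]
      ring
    obtain ⟨k, a', y, hy, ha'⟩ := Module.Flat.isTrivialRelation_of_sum_smul_eq_zero (R := A) (M := B) h2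
    have hx2 : x = ∑ j, algebraMap A B (∑ a : S, (a : A) * a' a j) * y j := by
      rw [← hc]
      simp only [map_sum, Finset.sum_mul]
      rw [Finset.sum_comm]
      refine Finset.sum_congr rfl fun a _ => ?_
      rw [smul_eq_mul, hy a, Finset.sum_mul]
      refine Finset.sum_congr rfl fun j _ => ?_
      rw [Algebra.smul_def, map_mul]
      ring
    rw [hx2]
    refine Submodule.sum_mem _ fun j _ => Ideal.mul_mem_right _ _ (Ideal.mem_map_of_mem _ ?_)
    rw [Submodule.mem_torsionBySet_iff]
    rintro ⟨t, ht⟩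
    rw [Finset.mem_coe, Finset.mem_insert] at ht
    change t * (∑ a : S, (a : A) * a' a j) = 0
    rcases ht with rfl | ht
    · rw [Finset.mul_sum, ← ha' j]
      exact Finset.sum_congr rfl fun a _ => by ring
    · rw [Finset.mul_sum]
      refine Finset.sum_eq_zero fun a _ => ?_
      have := (Submodule.mem_torsionBySet_iff _ _).1 (hS a.2) ⟨t, ht⟩
      change t * (a : A) = 0 at this
      rw [← mul_assoc, this, zero_mul]

variable (A B) in
theorem socleCyclic_iff [IsLocalRing A] [IsLocalRing B] [IsNoetherianRing A] [IsNoetherianRing B]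
    [IsLocalHom (algebraMap A B)] [IsLocalRing (B ⧸ (maximalIdeal A).map (algebraMap A B))]
    (hA0 : ringKrullDim A = 0)
    (hC0 : ringKrullDim (B ⧸ (maximalIdeal A).map (algebraMap A B)) = 0) :
    SocleCyclic B ↔ SocleCyclic A ∧ SocleCyclic (B ⧸ (maximalIdeal A).map (algebraMap A B)) := by
  classical
  let mB := (maximalIdeal A).map (algebraMap A B)
  have hle : mB ≤ maximalIdeal B := map_maximalIdeal_le _
  obtain ⟨w, hw0, hw⟩ := exists_socle_ne_zero hA0
  -- an element of `B` killed by `m_A` is in the extension of the socle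
  obtain ⟨G, hG⟩ := IsNoetherian.noetherian (maximalIdeal A)
  have hsoc : ∀ x : B, (∀ a ∈ maximalIdeal A, algebraMap A B a * x = 0) →
      x ∈ Ideal.map (algebraMap A B) (Submodule.torsionBySet A A (G : Set A)) := fun x hx =>
    mem_map_of_forall_mul_eq_zero G (fun g hg => hx g (hG ▸ Submodule.subset_span hg)) G subset_rfl
  have htor : ∀ s : A, s ∈ Submodule.torsionBySet A A (G : Set A) ↔ ∀ a ∈ maximalIdeal A, a * s = 0 := by
    intro s
    rw [Submodule.mem_torsionBySet_iff]
    refine ⟨fun h a ha => ?_, fun h g => h g (hG ▸ Submodule.subset_span g.2)⟩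
    rw [← hG] at ha
    induction ha using Submodule.span_induction with
    | mem g hg => exact h ⟨g, hg⟩
    | zero => rw [zero_mul]
    | add p q _ _ hp hq => rw [add_mul, hp, hq, add_zero]
    | smul c p _ hp => rw [smul_eq_mul, mul_assoc, hp, mul_zero]
  -- annihilator of the image of a socle element
  have hann : ∀ s : A, s ≠ 0 → ∀ b : B, algebraMap A B s * b = 0 → b ∈ mB := by
    intro s hs b hb
    have h1 := mem_map_of_forall_mul_eq_zero {s} (x := b) (fun g hg => by
      rw [Finset.mem_singleton.1 hg, hb]) {s} subset_rfl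
    refine Ideal.map_mono ?_ h1
    intro a ha
    by_contra hu
    have h2 := (Submodule.mem_torsionBySet_iff _ _).1 ha ⟨s, by simp⟩
    exact hs ((IsUnit.mul_left_eq_zero (notMem_maximalIdeal.mp hu)).1 h2)
  have hker : ∀ z : A, (∀ a ∈ maximalIdeal A, a * z = 0) → ∀ b ∈ mB, algebraMap A B z * b = 0 := by
    intro z hz b hb
    have : mB ≤ LinearMap.ker (LinearMap.toSpanSingleton B B (algebraMap A B z)) :=
      Ideal.map_le_iff_le_comap.2 fun a ha => by
        simp only [Ideal.mem_comap, LinearMap.mem_ker, LinearMap.toSpanSingleton_apply, smul_eq_mul]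
        rw [← map_mul, hz a ha, map_zero]
    have h3 := this hb
    rw [LinearMap.mem_ker, LinearMap.toSpanSingleton_apply, smul_eq_mul, mul_comm] at h3
    exact h3
  have hmk : ∀ a ∈ maximalIdeal B, Ideal.Quotient.mk mB a ∈ maximalIdeal (B ⧸ mB) := fun a ha =>
    IsLocalRing.map_maximalIdeal_of_surjective (Ideal.Quotient.mk mB) Ideal.Quotient.mk_surjective ▸
      Ideal.mem_map_of_mem _ ha
  have hmk' : ∀ c ∈ maximalIdeal (B ⧸ mB), ∃ a ∈ maximalIdeal B, Ideal.Quotient.mk mB a = c :=
    fun c hc => (Ideal.mem_map_iff_of_surjective _ Ideal.Quotient.mk_surjective).1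
      ((IsLocalRing.map_maximalIdeal_of_surjective (Ideal.Quotient.mk mB)
        Ideal.Quotient.mk_surjective).symm ▸ hc)
  have hCsoc : ∀ (z : A), z ≠ 0 → ∀ (e : B), (∀ a ∈ maximalIdeal B, a * (algebraMap A B z * e) = 0) →
      ∀ c ∈ maximalIdeal (B ⧸ mB), c * Ideal.Quotient.mk mB e = 0 := by
    intro z hz e he c hc
    obtain ⟨a, ha, rfl⟩ := hmk' c hc
    rw [← map_mul]
    refine Ideal.Quotient.eq_zero_iff_mem.2 (hann z hz _ ?_)
    rw [← he a ha]; ring
  constructor
  · rintro ⟨v, hv, hvy⟩
    obtain ⟨c, hc0, hc⟩ := exists_socle_ne_zero hC0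
    obtain ⟨c, rfl⟩ := Ideal.Quotient.mk_surjective c
    have hkill : ∀ z : A, (∀ a ∈ maximalIdeal A, a * z = 0) → ∀ a ∈ maximalIdeal B,
        a * (algebraMap A B z * c) = 0 := by
      intro z hz a ha
      have h4 : a * c ∈ mB := Ideal.Quotient.eq_zero_iff_mem.1 (by rw [map_mul]; exact hc _ (hmk a ha))
      rw [mul_left_comm]
      exact hker z hz _ h4
    obtain ⟨r0, hr0⟩ := hvy _ (hkill w hw)
    have hr0u : IsUnit r0 := by
      rw [← notMem_maximalIdeal]
      intro hm
      rw [hv r0 hm] at hr0
      exact hc0 (Ideal.Quotient.eq_zero_iff_mem.2 (hann w hw0 c hr0.symm))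
    refine ⟨⟨w, hw, fun y hy => ?_⟩, ?_⟩
    · -- `A`: a second socle element is a multiple
      obtain ⟨r1, hr1⟩ := hvy _ (hkill y hy)
      obtain ⟨u, hu⟩ := hr0u
      have h5 : algebraMap A B y * c - algebraMap A B w * c * (r1 * ↑u⁻¹) = 0 := by
        rw [← hr1, ← hr0, ← hu]
        have : (↑u : B) * ↑u⁻¹ = 1 := u.mul_inv
        linear_combination (-r1 * v) * this
      obtain ⟨k, a', q, hq, hq0⟩ := Module.Flat.isTrivialRelation_of_sum_smul_eq_zero
        (f := ![y, w]) (x := ![c, -(c * (r1 * ↑u⁻¹))]) (R := A) (M := B) (by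
          rw [Fin.sum_univ_two]
          simp only [Matrix.cons_val_zero, Matrix.cons_val_one, Algebra.smul_def]
          rw [← h5]; ring)
      by_contra hno
      push Not at hno
      have h6 : ∀ j, a' 0 j ∈ maximalIdeal A := by
        intro j
        by_contra hu'
        obtain ⟨u', hu'⟩ := notMem_maximalIdeal.mp hu'
        have h7 := hq0 j
        simp only [Fin.sum_univ_two, Matrix.cons_val_zero, Matrix.cons_val_one, Matrix.cons_val_fin_one, ← hu'] at h7
        refine hno (-(a' 1 j) * ↑u'⁻¹) ?_
        linear_combination (-(↑u'⁻¹ : A)) * h7 + y * u'.mul_inv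
      refine hc0 (Ideal.Quotient.eq_zero_iff_mem.2 ?_)
      have h8 := hq 0
      rw [Matrix.cons_val_zero] at h8
      rw [h8]
      refine Submodule.sum_mem _ fun j _ => ?_
      rw [Algebra.smul_def]
      exact Ideal.mul_mem_right _ _ (Ideal.mem_map_of_mem _ (h6 j))
    · refine ⟨Ideal.Quotient.mk mB c, hc, fun d hd => ?_⟩
      obtain ⟨d, rfl⟩ := Ideal.Quotient.mk_surjective d
      obtain ⟨r1, hr1⟩ := hvy (algebraMap A B w * d) fun a ha => by
        have h4 : a * d ∈ mB := Ideal.Quotient.eq_zero_iff_mem.1 (by rw [map_mul]; exact hd _ (hmk a ha))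
        rw [mul_left_comm]; exact hker w hw _ h4
      obtain ⟨u, hu⟩ := hr0u
      refine ⟨Ideal.Quotient.mk mB (r1 * ↑u⁻¹), ?_⟩
      rw [← map_mul, Ideal.Quotient.mk_eq_mk_iff_sub_mem]
      refine hann w hw0 _ ?_
      rw [← hu] at hr0
      have : (↑u : B) * ↑u⁻¹ = 1 := u.mul_inv
      linear_combination (-(r1 * (↑u⁻¹ : B))) * hr0 + hr1 + (r1 * v) * this
  · rintro ⟨⟨z, hz, hzy⟩, e, he, hey⟩
    obtain ⟨e, rfl⟩ := Ideal.Quotient.mk_surjective e
    have hz0 : z ≠ 0 := by
      rintro rfl
      obtain ⟨r, hr⟩ := hzy w hw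
      exact hw0 (by rw [← hr, mul_zero])
    refine ⟨algebraMap A B z * e, fun a ha => ?_, fun y hy => ?_⟩
    · have h4 : a * e ∈ mB := Ideal.Quotient.eq_zero_iff_mem.1 (by rw [map_mul]; exact he _ (hmk a ha))
      rw [mul_left_comm]; exact hker z hz _ h4
    · have h5 : y ∈ Ideal.span {algebraMap A B z} := by
        have h6 := hsoc y fun a ha => hy _ (hle (Ideal.mem_map_of_mem _ ha))
        refine (Ideal.map_le_iff_le_comap.2 fun s hs => ?_) h6
        obtain ⟨r, rfl⟩ := hzy s ((htor s).1 hs)
        rw [Ideal.mem_comap, map_mul]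
        exact Ideal.mul_mem_left _ _ (Ideal.mem_span_singleton_self _)
      obtain ⟨y', rfl⟩ := Ideal.mem_span_singleton'.1 h5
      obtain ⟨r, hr⟩ := hey (Ideal.Quotient.mk mB y')
        (hCsoc z hz0 y' fun a ha => by rw [mul_comm _ y', hy a ha])
      obtain ⟨r, rfl⟩ := Ideal.Quotient.mk_surjective r
      rw [← map_mul, Ideal.Quotient.mk_eq_mk_iff_sub_mem] at hr
      exact ⟨r, by linear_combination hker z hz _ hr⟩

end Artinian

end Groth.Agent.H02CA.GorFlat
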