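import Groth.Agent.H02CA.GorFlat

/-!
`B` is Gorenstein iff `A` and `B / m_A B` are, for a flat local map; globalisation along fibres.
-/

set_option autoImplicit false

namespace Groth.Agent.H02CA.GorFlat

universe u

open CategoryTheory CategoryTheory.Abelian IsLocalRing LocCoh
open scoped TensorProduct
open Groth.Agent.H8Props.FlatDepth

theorem gor_iff_socle {A : Type u} [CommRing A] [IsLocalRing A] [IsNoetherianRing A]
    (h0 : ringKrullDim A = 0) : IsGorensteinLocalRing A ↔ SocleCyclic A :=
  ⟨socleCyclic_of_gor h0, gor_of_socleCyclic h0⟩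

theorem dim_eq_zero_of_gor {A : Type u} [CommRing A] [IsLocalRing A] [IsNoetherianRing A]
    (h : IsGorensteinLocalRing A) (hd : LocCoh.depth A A = 0) : ringKrullDim A = 0 := by
  haveI := h
  obtain ⟨n, h1, h2, -⟩ := H4Goren.depth_eq_ringKrullDim A
  rw [hd] at h1
  have h0 : n = 0 := by exact_mod_cast h1.symm
  rw [h2, h0]; rfl

theorem gor_flat_local (n : ℕ) : ∀ (A B : Type u) [CommRing A] [CommRing B] [IsLocalRing A]
    [IsLocalRing B] [IsNoetherianRing A] [IsNoetherianRing B] [Algebra A B]
    [IsLocalHom (algebraMap A B)] [Module.Flat A B], LocCoh.depth B B = (n : ℕ∞) →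
      (IsGorensteinLocalRing B ↔ IsGorensteinLocalRing A ∧
        IsGorensteinLocalRing (B ⧸ (maximalIdeal A).map (algebraMap A B))) := by
  induction n with
  | zero =>
    intro A B _ _ _ _ _ _ _ _ _ h
    rw [Nat.cast_zero, depth_eq_add A B, add_eq_zero] at h
    have hdim := ringKrullDim_eq_add A B
    haveI : IsLocalRing (B ⧸ (maximalIdeal A).map (algebraMap A B)) := isLocalRing_fibre A B
    have hdB : LocCoh.depth B B = 0 := by rw [depth_eq_add A B, h.1, h.2, add_zero]
    constructor
    · intro hB
      have hB0 := dim_eq_zero_of_gor hB hdB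
      rw [hB0] at hdim
      have h1 : (0 : WithBot ℕ∞) ≤ ringKrullDim A := ringKrullDim_nonneg_of_nontrivial
      have h2 : (0 : WithBot ℕ∞) ≤ ringKrullDim (B ⧸ (maximalIdeal A).map (algebraMap A B)) :=
        ringKrullDim_nonneg_of_nontrivial
      have hA0 : ringKrullDim A = 0 := le_antisymm
        ((le_add_of_nonneg_right h2).trans hdim.ge) h1
      have hC0 : ringKrullDim (B ⧸ (maximalIdeal A).map (algebraMap A B)) = 0 := le_antisymm
        ((le_add_of_nonneg_left h1).trans hdim.ge) h2
      rw [gor_iff_socle hA0, gor_iff_socle hC0]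
      exact (socleCyclic_iff A B hA0 hC0).1 ((gor_iff_socle hB0).1 hB)
    · rintro ⟨hA, hC⟩
      have hA0 := dim_eq_zero_of_gor hA h.1
      have hC0 := dim_eq_zero_of_gor hC h.2
      rw [hA0, hC0, add_zero] at hdim
      exact (gor_iff_socle hdim).2 ((socleCyclic_iff A B hA0 hC0).2
        ⟨(gor_iff_socle hA0).1 hA, (gor_iff_socle hC0).1 hC⟩)
  | succ n ih =>
    intro A B _ _ _ _ _ _ _ _ _ h
    haveI hCloc : IsLocalRing (B ⧸ (maximalIdeal A).map (algebraMap A B)) := isLocalRing_fibre A B
    have hAne : maximalIdeal A • (⊤ : Submodule A A) ≠ ⊤ := by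
      simpa using (maximalIdeal.isMaximal A).ne_top
    have hCne : maximalIdeal B •
        (⊤ : Submodule B (B ⧸ (maximalIdeal A).map (algebraMap A B))) ≠ ⊤ :=
      (Submodule.top_ne_ideal_smul_of_le_jacobson_annihilator (maximalIdeal_le_jacobson _)).symm
    by_cases h0 : LocCoh.depth A A = 0
    · obtain ⟨x, hx, hxreg⟩ : ∃ x ∈ maximalIdeal B,
          IsSMulRegular (B ⧸ (maximalIdeal A).map (algebraMap A B)) x := by
        refine (H4Depth.one_le_idealDepth_iff hCne).mp ?_
        have h' := h
        rw [depth_eq_add A B, h0, zero_add] at h'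
        rw [← LocCoh.depth, ← depth_eq_of_surjective (R := B) (S := B ⧸ (maximalIdeal A).map (algebraMap A B))
          (M := B ⧸ (maximalIdeal A).map (algebraMap A B)) Ideal.Quotient.mk_surjective, h']
        exact_mod_cast Nat.le_add_left 1 n
      haveI : Nontrivial (B ⧸ Ideal.span {x}) := Ideal.Quotient.nontrivial_iff.mpr
        (ne_top_of_le_ne_top (maximalIdeal.isMaximal B).ne_top
          ((Ideal.span_singleton_le_iff_mem _).mpr hx))
      haveI : IsLocalRing (B ⧸ Ideal.span {x}) := .of_surjective' _ Ideal.Quotient.mk_surjective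
      haveI : IsLocalHom (algebraMap A (B ⧸ Ideal.span {x})) := by
        rw [IsScalarTower.algebraMap_eq A B]
        haveI : IsLocalHom (algebraMap B (B ⧸ Ideal.span {x})) :=
          .of_surjective _ Ideal.Quotient.mk_surjective
        exact RingHom.isLocalHom_comp _ _
      haveI := flat_quotient_of_fibre hxreg
      have hreg := isSMulRegular_of_fibre hxreg
      have hdep := depth_self_quotient_add_one B hx hreg _ rfl
      rw [h, Nat.cast_succ] at hdep
      have hdep' : LocCoh.depth (B ⧸ Ideal.span {x}) (B ⧸ Ideal.span {x}) = n :=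
        WithTop.add_right_cancel ENat.one_ne_top hdep
      -- the fibre of the quotient
      let mk := Ideal.Quotient.mk ((maximalIdeal A).map (algebraMap A B))
      have hxC : mk x ∈ maximalIdeal (B ⧸ (maximalIdeal A).map (algebraMap A B)) :=
        IsLocalRing.map_maximalIdeal_of_surjective mk Ideal.Quotient.mk_surjective ▸
          Ideal.mem_map_of_mem _ hx
      have hxC' : IsSMulRegular (B ⧸ (maximalIdeal A).map (algebraMap A B)) (mk x) := by
        intro a b hab
        refine hxreg ?_
        change x • a = x • b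
        rw [Algebra.smul_def, Algebra.smul_def, Ideal.Quotient.algebraMap_eq]
        exact hab
      haveI := H4Goren.isLocalRing_quotient hxC
      let e : ((B ⧸ Ideal.span {x}) ⧸ (maximalIdeal A).map (algebraMap A (B ⧸ Ideal.span {x}))) ≃+*
          ((B ⧸ (maximalIdeal A).map (algebraMap A B)) ⧸ Ideal.span {mk x}) :=
        (Ideal.quotEquivOfEq (by
          rw [IsScalarTower.algebraMap_eq A B (B ⧸ Ideal.span {x}), ← Ideal.map_map]; rfl)).trans
        ((DoubleQuot.quotQuotEquivComm _ _).trans
          (Ideal.quotEquivOfEq (by rw [Ideal.map_span, Set.image_singleton])))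
      rw [H4Goren.isGorensteinLocalRing_quotient_iff hx hreg,
        ih A (B ⧸ Ideal.span {x}) hdep', gor_iff_of_ringEquiv e,
        ← H4Goren.isGorensteinLocalRing_quotient_iff hxC hxC']
    · obtain ⟨a, ha, hareg⟩ : ∃ a ∈ maximalIdeal A, IsSMulRegular A a := by
        refine (H4Depth.one_le_idealDepth_iff hAne).mp ?_
        exact Order.one_le_iff_ne_zero.mpr h0
      have hI : Ideal.span {a} ≤ maximalIdeal A := (Ideal.span_singleton_le_iff_mem _).mpr ha
      have hIB : (Ideal.span {a}).map (algebraMap A B) ≤ maximalIdeal B :=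
        (Ideal.map_mono hI).trans (map_maximalIdeal_le _)
      have hb : algebraMap A B a ∈ maximalIdeal B :=
        hIB (Ideal.mem_map_of_mem _ (Ideal.mem_span_singleton_self a))
      haveI : IsLocalRing (A ⧸ Ideal.span {a}) := H4Goren.isLocalRing_quotient ha
      haveI : Nontrivial (B ⧸ (Ideal.span {a}).map (algebraMap A B)) :=
        Ideal.Quotient.nontrivial_iff.mpr (ne_top_of_le_ne_top (maximalIdeal.isMaximal B).ne_top hIB)
      haveI : IsLocalRing (B ⧸ (Ideal.span {a}).map (algebraMap A B)) :=
        .of_surjective' _ Ideal.Quotient.mk_surjective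
      haveI := isLocalHom_quotient (B := B) (Ideal.span {a})
      haveI := flat_base_quotient (B := B) (Ideal.span {a})
      have hspan : (Ideal.span {a}).map (algebraMap A B) = Ideal.span {algebraMap A B a} := by
        rw [Ideal.map_span, Set.image_singleton]
      have hregB : IsSMulRegular B (algebraMap A B a) := by
        intro p q hpq
        refine hareg.of_flat ?_
        exact hpq
      have hdep := depth_self_quotient_add_one B hb hregB _ hspan
      rw [h, Nat.cast_succ] at hdep
      have hdep' : LocCoh.depth (B ⧸ (Ideal.span {a}).map (algebraMap A B))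
          (B ⧸ (Ideal.span {a}).map (algebraMap A B)) = n :=
        WithTop.add_right_cancel ENat.one_ne_top hdep
      let e : ((B ⧸ (Ideal.span {a}).map (algebraMap A B)) ⧸ (maximalIdeal (A ⧸ Ideal.span {a})).map
          (algebraMap (A ⧸ Ideal.span {a}) (B ⧸ (Ideal.span {a}).map (algebraMap A B)))) ≃+*
          (B ⧸ (maximalIdeal A).map (algebraMap A B)) :=
        (Ideal.quotEquivOfEq (map_maximalIdeal_quotient (B := B) (Ideal.span {a}))).trans
          (DoubleQuot.quotQuotEquivQuotOfLE (Ideal.map_mono hI))
      haveI := H4Goren.isLocalRing_quotient hb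
      rw [H4Goren.isGorensteinLocalRing_quotient_iff hb hregB,
        gor_iff_of_ringEquiv (Ideal.quotEquivOfEq hspan.symm),
        ih (A ⧸ Ideal.span {a}) _ hdep', gor_iff_of_ringEquiv e,
        ← H4Goren.isGorensteinLocalRing_quotient_iff ha hareg]

theorem gor_iff_of_flat_local (A B : Type u) [CommRing A] [CommRing B] [IsLocalRing A]
    [IsLocalRing B] [IsNoetherianRing A] [IsNoetherianRing B] [Algebra A B]
    [IsLocalHom (algebraMap A B)] [Module.Flat A B] :
    IsGorensteinLocalRing B ↔ IsGorensteinLocalRing A ∧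
      IsGorensteinLocalRing (B ⧸ (maximalIdeal A).map (algebraMap A B)) := by
  obtain ⟨n, hn⟩ := ENat.ne_top_iff_exists.mp (depth_ne_top B B)
  exact gor_flat_local n A B hn.symm

/-- At a point of a fibre. -/
theorem gor_iff_fibre {A B : Type u} [CommRing A] [CommRing B] [Algebra A B] [IsNoetherianRing A]
    [IsNoetherianRing B] [Module.Flat A B]
    (p : Ideal A) [p.IsPrime] (Q : Ideal (p.Fiber B)) [Q.IsPrime] :
    IsGorensteinLocalRing (Localization.AtPrime (Q.comap Algebra.TensorProduct.includeRight)) ↔
      IsGorensteinLocalRing (Localization.AtPrime p) ∧ IsGorensteinLocalRing (Localization.AtPrime Q) := by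
  set q := Q.comap Algebra.TensorProduct.includeRight with hq
  haveI : q.LiesOver p :=
    ⟨congr($(((PrimeSpectrum.preimageEquivFiber A B ⟨p, inferInstance⟩).symm ⟨Q, inferInstance⟩).2.symm).asIdeal)⟩
  letI := Localization.AtPrime.algebraOfLiesOver p q
  haveI : IsLocalHom (algebraMap (Localization.AtPrime p) (Localization.AtPrime q)) := by
    rw [Localization.AtPrime.IsLiesOverAlgebra.algebraMap_eq]
    infer_instance
  haveI : IsNoetherianRing (Localization.AtPrime p) :=
    IsLocalization.isNoetherianRing p.primeCompl _ inferInstance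
  haveI : IsNoetherianRing (Localization.AtPrime q) :=
    IsLocalization.isNoetherianRing q.primeCompl _ inferInstance
  have heq : (maximalIdeal (Localization.AtPrime p)).map (algebraMap (Localization.AtPrime p) (Localization.AtPrime q)) =
      p.map (algebraMap A (Localization.AtPrime q)) := by
    rw [← Localization.AtPrime.map_eq_maximalIdeal, Ideal.map_map, ← IsScalarTower.algebraMap_eq]
  rw [gor_iff_of_flat_local (Localization.AtPrime p) (Localization.AtPrime q)]
  exact and_congr_right fun _ => gor_iff_of_ringEquiv ((Ideal.quotEquivOfEq heq).trans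
    (Ideal.Fiber.localizationAlgEquivQuotient p Q).toRingEquiv.symm)

theorem isGorensteinRing_of_flat {A B : Type u} [CommRing A] [CommRing B] [Algebra A B]
    [IsGorensteinRing A] [IsNoetherianRing B] [Module.Flat A B]
    (hF : ∀ (p : Ideal A) [p.IsPrime], IsGorensteinRing (p.Fiber B)) : IsGorensteinRing B :=
  { isGorensteinLocalRing_localization := fun q _ => by
      let p := q.comap (algebraMap A B)
      let Q := PrimeSpectrum.preimageEquivFiber A B ⟨p, inferInstance⟩ ⟨⟨q, inferInstance⟩, rfl⟩
      have hQ : Q.asIdeal.comap Algebra.TensorProduct.includeRight = q :=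
        congr($((PrimeSpectrum.preimageEquivFiber A B ⟨p, inferInstance⟩).left_inv ⟨⟨q, inferInstance⟩, rfl⟩).1.asIdeal)
      exact (gor_congr hQ).mp ((gor_iff_fibre p Q.asIdeal).2
        ⟨IsGorensteinRing.isGorensteinLocalRing_localization p,
          (hF p).isGorensteinLocalRing_localization _⟩) }

theorem isGorensteinRing_fibre {A B : Type u} [CommRing A] [CommRing B] [Algebra A B]
    [IsNoetherianRing A] [IsGorensteinRing B] [Module.Flat A B] (p : Ideal A) [p.IsPrime]
    [IsNoetherianRing (p.Fiber B)] : IsGorensteinRing (p.Fiber B) :=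
  { isGorensteinLocalRing_localization := fun Q _ =>
      ((gor_iff_fibre p Q).1 (IsGorensteinRing.isGorensteinLocalRing_localization _)).2 }

end Groth.Agent.H02CA.GorFlat
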