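import Groth.Agent.H8Props.FibreDimSemicont

/-!
# The fibre dimension at a point of an affine morphism is the local dimension of the algebraic fibre
-/

set_option autoImplicit false
set_option linter.style.haveILetI false
universe u

open AlgebraicGeometry CategoryTheory CategoryTheory.Limits TopologicalSpace Topology
open scoped TensorProduct

namespace Groth.Agent.H02CA

open Groth.Agent.H8Props Groth.Agent.H8Props.FieldDim

theorem fibreDimAt_eq_localDim_fiber {R A : Type u} [CommRing R] [CommRing A] [Algebra R A]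
    [Algebra.FiniteType R A] (q : PrimeSpectrum A)
    (Q : PrimeSpectrum ((q.asIdeal.under R).Fiber A))
    (hQ : Q.asIdeal.comap (Algebra.TensorProduct.includeRight : A →ₐ[R] (q.asIdeal.under R).Fiber A).toRingHom = q.asIdeal) :
    FlatMor.fibreDimAt (Spec.map (CommRingCat.ofHom (algebraMap R A))) q =
      FlatMor.localDim (PrimeSpectrum ((q.asIdeal.under R).Fiber A)) Q := by
  set φ := Spec.map (CommRingCat.ofHom (algebraMap R A)) with hφ
  haveI : LocallyOfFiniteType φ := (HasRingHomProperty.Spec_iff (P := @LocallyOfFiniteType)).mpr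
    (RingHom.finiteType_algebraMap.mpr inferInstance)
  let p : PrimeSpectrum R := PrimeSpectrum.comap (algebraMap R A) q
  let K := p.asIdeal.ResidueField
  let Fib := p.asIdeal.Fiber A
  let ι : A →+* Fib := (Algebra.TensorProduct.includeRight : A →ₐ[R] Fib).toRingHom
  have hsq : IsPullback (Spec.map (CommRingCat.ofHom ι))
      (Spec.map (CommRingCat.ofHom (algebraMap K Fib))) φ
      (Spec.map (CommRingCat.ofHom (algebraMap R K))) :=
    (isPullback_SpecMap_of_isPushout _ _ _ _ (CommRingCat.isPushout_tensorProduct R K A)).flip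
  let f' := Spec.map (CommRingCat.ofHom (algebraMap K Fib))
  haveI : LocallyOfFiniteType f' := MorphismProperty.of_isPullback hsq ‹_›
  have hQ' : PrimeSpectrum.comap ι Q = q := PrimeSpectrum.ext hQ
  have h1 := fibreDimAt_baseChange φ hsq (Q : Spec (CommRingCat.of Fib))
  rw [show (Spec.map (CommRingCat.ofHom ι)) (Q : Spec (CommRingCat.of Fib)) = q from hQ'] at h1
  rw [← h1]
  haveI : LocallyOfFiniteType (𝟙 (Spec (CommRingCat.of K))) := inferInstance
  haveI : Flat f' := (HasRingHomProperty.Spec_iff (P := @Flat)).mpr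
    (show (algebraMap K Fib).Flat from RingHom.flat_algebraMap_iff.mpr inferInstance)
  show _ = FlatMor.localDim (Spec (CommRingCat.of Fib)) Q
  rw [(localDim_le_fibreDimAt_add (k := K) f' (𝟙 _) f' (Category.comp_id _) Q).2 (Flat.stalkMap f' Q),
    show FlatMor.localDim (Spec (CommRingCat.of K)) (f' (Q : Spec (CommRingCat.of Fib))) = 0 from ?_, add_zero]
  refine le_antisymm ((H28Top.localDim_le_dim _).trans ?_) ?_
  · haveI : Subsingleton (Spec (CommRingCat.of K)) := inferInstanceAs (Subsingleton (PrimeSpectrum K))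
    exact dim_subsingleton_le
  · obtain ⟨s, hs⟩ := exists_nat_cdim (k := K) (𝟙 (Spec (CommRingCat.of K))) (f' (Q : Spec (CommRingCat.of Fib)))
    rw [localDim_eq_stalk_add_cdim (k := K) (𝟙 (Spec (CommRingCat.of K))), hs]
    exact add_nonneg ringKrullDim_nonneg_of_nontrivial (by exact_mod_cast Nat.zero_le s)

theorem forall_localDim_le_iff {R A : Type u} [CommRing R] [CommRing A] [Algebra R A]
    [Algebra.FiniteType R A] (q : PrimeSpectrum A) (n : WithBot ℕ∞) :
    (∀ Q : PrimeSpectrum ((q.asIdeal.under R).Fiber A),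
        Q.asIdeal.comap (Algebra.TensorProduct.includeRight : A →ₐ[R] (q.asIdeal.under R).Fiber A).toRingHom = q.asIdeal →
          FlatMor.localDim (PrimeSpectrum ((q.asIdeal.under R).Fiber A)) Q ≤ n) ↔
      FlatMor.fibreDimAt (Spec.map (CommRingCat.ofHom (algebraMap R A))) q ≤ n := by
  let p : PrimeSpectrum R := PrimeSpectrum.comap (algebraMap R A) q
  let Q := PrimeSpectrum.preimageEquivFiber R A p ⟨q, rfl⟩
  have hQ : PrimeSpectrum.comap (Algebra.TensorProduct.includeRight : A →ₐ[R] p.asIdeal.Fiber A).toRingHom Q = q :=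
    congrArg Subtype.val ((PrimeSpectrum.preimageEquivFiber R A p).symm_apply_apply ⟨q, rfl⟩)
  refine ⟨fun h => ?_, fun h Q hQ => by rwa [← fibreDimAt_eq_localDim_fiber q Q hQ]⟩
  rw [fibreDimAt_eq_localDim_fiber q Q (congrArg PrimeSpectrum.asIdeal hQ)]
  exact h Q (congrArg PrimeSpectrum.asIdeal hQ)

end Groth.Agent.H02CA
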