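import Mathlib

/-!
Integral closures of polynomial rings over a field, and of finitely generated domains over a
field, in finite field extensions are finite.
-/

set_option autoImplicit false
set_option linter.style.haveILetI false

universe u

namespace Groth.Agent.H02CA

/-- A root of the `Q`-th root of a separable polynomial is separable. -/
theorem isSeparable_of_roots {K F Ω : Type*} [Field K] [Field F] [Field Ω] [Algebra K F]
    [Algebra F Ω] [Algebra K Ω] [IsScalarTower K F Ω] (q N : ℕ) [ExpChar F q] [ExpChar Ω q]
    (g : Polynomial K) (hg : g.Separable)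
    (hc : ∀ n, ∃ z : F, z ^ q ^ N = algebraMap K F (g.coeff n)) (y : Ω)
    (hy : Polynomial.aeval (y ^ q ^ N) g = 0) : IsSeparable F y := by
  have hlift : g.map (algebraMap K F) ∈ Polynomial.lifts (iterateFrobenius F q N) := by
    rw [Polynomial.lifts_iff_coeff_lifts]
    intro n
    obtain ⟨z, hz⟩ := hc n
    exact ⟨z, by rw [iterateFrobenius_def, hz, Polynomial.coeff_map]⟩
  obtain ⟨g', hg'⟩ := Polynomial.mem_lifts _ |>.mp hlift
  have hg's : g'.Separable := by
    rw [← Polynomial.separable_map (iterateFrobenius F q N), hg', Polynomial.separable_map]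
    exact hg
  refine hg's.of_dvd (minpoly.dvd F _ ?_)
  refine (pow_eq_zero_iff (n := q ^ N) (pow_pos (expChar_pos F q) N).ne').mp ?_
  have h2 : (iterateFrobenius Ω q N).comp (algebraMap F Ω) =
      (algebraMap F Ω).comp (iterateFrobenius F q N) := by
    ext x; simp [iterateFrobenius_def]
  rw [← iterateFrobenius_def, Polynomial.aeval_def, Polynomial.hom_eval₂, h2,
    ← Polynomial.eval₂_map, hg', Polynomial.eval₂_map, ← IsScalarTower.algebraMap_eq,
    ← Polynomial.aeval_def, iterateFrobenius_def]
  exact hy

/-- Finiteness of the integral closure after adjoining `Q`-th roots. -/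
theorem finite_integralClosure_of_roots {P P' K F L : Type u} [CommRing P] [CommRing P']
    [Field K] [Field F] [Field L] [Algebra P P'] [Module.Finite P P'] [IsNoetherianRing P]
    [IsNoetherianRing P'] [IsDomain P'] [IsIntegrallyClosed P']
    [Algebra P K] [Algebra P' F] [IsFractionRing P' F] [Algebra P F] [IsScalarTower P P' F]
    [Algebra K F] [IsScalarTower P K F]
    [Algebra P L] [Algebra K L] [IsScalarTower P K L] {ι : Type*} [Finite ι]
    (b : Module.Basis ι K L) (q N : ℕ) [ExpChar F q]
    (hsep : ∀ i, IsSeparable K (b i ^ q ^ N))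
    (hroots : ∀ i n, ∃ z : F, z ^ q ^ N = algebraMap K F ((minpoly K (b i ^ q ^ N)).coeff n)) :
    Module.Finite P (integralClosure P L) := by
  classical
  cases nonempty_fintype ι
  haveI : FiniteDimensional K L := Module.Finite.of_basis b
  let Ω := AlgebraicClosure F
  haveI : ExpChar Ω q := expChar_of_injective_ringHom (algebraMap F Ω).injective q
  let e : L →ₐ[K] Ω := IsAlgClosed.lift
  let E : IntermediateField F Ω := IntermediateField.adjoin F (Set.range fun i => e (b i))
  haveI : FiniteDimensional F E := by
    haveI : Finite (Set.range fun i => e (b i)) := (Set.finite_range _).to_subtype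
    exact IntermediateField.finiteDimensional_adjoin fun x _ => Algebra.IsIntegral.isIntegral x
  haveI : Algebra.IsSeparable F E := by
    rw [IntermediateField.isSeparable_adjoin_iff_isSeparable]
    rintro _ ⟨i, rfl⟩
    exact isSeparable_of_roots q N _ (hsep i) (hroots i) _
      (by rw [← map_pow, Polynomial.aeval_algHom_apply, minpoly.aeval, map_zero])
  haveI : Module.Finite P' (integralClosure P' E) :=
    IsIntegralClosure.finite P' F E (integralClosure P' E)
  haveI : IsScalarTower P P' E := IsScalarTower.of_algebraMap_eq fun p => Subtype.ext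
    (IsScalarTower.algebraMap_apply P P' Ω p)
  haveI : Module.Finite P (integralClosure P' E) := Module.Finite.trans P' _
  have hrange : ∀ x, e x ∈ E := fun x => by
    rw [← b.sum_repr x, map_sum]
    refine sum_mem fun i _ => ?_
    rw [Algebra.smul_def, map_mul, AlgHom.commutes, IsScalarTower.algebraMap_apply K F Ω]
    exact mul_mem (IntermediateField.algebraMap_mem _ _)
      (IntermediateField.subset_adjoin F _ ⟨i, rfl⟩)
  let eE : L →ₐ[P] E :=
    { toRingHom := e.toRingHom.codRestrict E.toSubalgebra hrange
      commutes' := fun p => Subtype.ext <| by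
        change e (algebraMap P L p) = algebraMap P Ω p
        rw [IsScalarTower.algebraMap_apply P K L, AlgHom.commutes,
          IsScalarTower.algebraMap_apply K F Ω, ← IsScalarTower.algebraMap_apply P K F,
          ← IsScalarTower.algebraMap_apply P F Ω] }
  let ψ : integralClosure P L →ₗ[P] integralClosure P' E :=
    { toFun := fun x => ⟨eE (x : L), ((x.2 : IsIntegral P (x : L)).map eE).tower_top⟩
      map_add' := fun x y => Subtype.ext (map_add eE _ _)
      map_smul' := fun p x => Subtype.ext (map_smul eE p (x : L)) }
  exact Module.Finite.of_injective ψ fun x y h =>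
    Subtype.ext (eE.toRingHom.injective (congrArg Subtype.val h))

open MvPolynomial in
/-- A polynomial whose coefficients are `Q`-th powers in `k'` becomes a `Q`-th power after the
substitution `X ↦ X ^ Q`. -/
theorem exists_pow_eq_expand_map {k k' : Type u} [Field k] [Field k'] (f : k →+* k') {σ : Type}
    (q N : ℕ) [ExpChar k' q] (p : MvPolynomial σ k)
    (h : ∀ e, ∃ r : k', r ^ q ^ N = f (p.coeff e)) :
    ∃ z : MvPolynomial σ k', z ^ q ^ N = expand (q ^ N) (map f p) := by
  classical
  haveI : ExpChar (MvPolynomial σ k') q :=
    expChar_of_injective_ringHom (MvPolynomial.C_injective σ k') q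
  choose r hr using h
  refine ⟨∑ e ∈ p.support, monomial e (r e), ?_⟩
  rw [sum_pow_char_pow]
  conv_rhs => rw [p.as_sum, map_sum, map_sum]
  refine Finset.sum_congr rfl fun e _ => ?_
  rw [monomial_pow, hr e, map_monomial, expand_monomial]

set_option maxHeartbeats 1000000 in
set_option synthInstance.maxHeartbeats 100000 in
/-- The integral closure of a polynomial ring over a field in a finite extension of its fraction
field is finite. -/
theorem finite_integralClosure_mvPolynomial {k : Type u} [Field k] {σ : Type} [Finite σ]
    (L : Type u) [Field L] [Algebra (MvPolynomial σ k) L]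
    [Algebra (FractionRing (MvPolynomial σ k)) L]
    [IsScalarTower (MvPolynomial σ k) (FractionRing (MvPolynomial σ k)) L]
    [FiniteDimensional (FractionRing (MvPolynomial σ k)) L] :
    Module.Finite (MvPolynomial σ k) (integralClosure (MvPolynomial σ k) L) := by
  classical
  let P := MvPolynomial σ k
  let K := FractionRing P
  let q := ringExpChar k
  haveI : ExpChar K q :=
    expChar_of_injective_ringHom (f := (algebraMap P K).comp MvPolynomial.C)
      ((IsFractionRing.injective P K).comp (MvPolynomial.C_injective σ k)) q
  let b := Module.finBasis K L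
  -- uniform exponent
  have hex : ∀ i, ∃ m, IsSeparable K (b i ^ q ^ m) := fun i => by
    obtain ⟨g, hg, m, hm⟩ := Irreducible.hasSeparableContraction q
      (minpoly.irreducible (IsIntegral.of_finite K (b i)))
    refine ⟨m, hg.of_dvd (minpoly.dvd K _ ?_)⟩
    rw [← Polynomial.expand_aeval, hm, minpoly.aeval]
  choose m hm using hex
  let N := Finset.univ.sup m
  have hN : ∀ i, IsSeparable K (b i ^ q ^ N) := fun i => by
    have hle : m i ≤ N := Finset.le_sup (Finset.mem_univ i)
    rw [← Nat.add_sub_cancel' hle, pow_add, pow_mul]
    exact mem_separableClosure_iff.mp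
      (pow_mem (mem_separableClosure_iff.mpr (hm i)) _)
  have hQ : 0 < q ^ N := pow_pos (expChar_pos k q) N
  let g : Fin (Module.finrank K L) → Polynomial K := fun i => minpoly K (b i ^ q ^ N)
  choose nd hnd using fun c : K => IsLocalization.surj (nonZeroDivisors P) c
  let cs : Finset K := Finset.univ.biUnion fun i => (g i).coeffs
  let T : Finset k := cs.biUnion fun c =>
    ((nd c).1.support.image fun e => (nd c).1.coeff e) ∪
      ((nd c).2.1.support.image fun e => (nd c).2.1.coeff e)
  choose r hr using fun t : k =>
    IsAlgClosed.exists_pow_nat_eq (algebraMap k (AlgebraicClosure k) t) hQ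
  let k' : IntermediateField k (AlgebraicClosure k) := IntermediateField.adjoin k ↑(T.image r)
  haveI : Module.Finite k k' :=
    IntermediateField.finiteDimensional_adjoin fun x _ => Algebra.IsIntegral.isIntegral x
  haveI : ExpChar k' q := expChar_of_injective_ringHom (algebraMap k k').injective q
  have hroot : ∀ t ∈ T, ∃ x : k', x ^ q ^ N = algebraMap k k' t := fun t ht =>
    ⟨⟨r t, IntermediateField.subset_adjoin k _
      (Finset.mem_coe.mpr (Finset.mem_image_of_mem r ht))⟩, Subtype.ext (hr t)⟩
  let P' := MvPolynomial σ k'
  let φ : P →+* P' :=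
    (MvPolynomial.expand (q ^ N) : P' →ₐ[k'] P').toRingHom.comp (MvPolynomial.map (algebraMap k k'))
  have hφ : Function.Injective φ :=
    (MvPolynomial.expand_injective (R := k') (σ := σ) hQ).comp
      (MvPolynomial.map_injective _ (algebraMap k k').injective)
  have hroots : ∀ c ∈ cs, ∀ p : P, (p = (nd c).1 ∨ p = (nd c).2.1) → ∃ z : P', z ^ q ^ N = φ p := by
    intro c hc p hp
    refine exists_pow_eq_expand_map _ q N p fun e => ?_
    by_cases he : p.coeff e = 0
    · exact ⟨0, by rw [he, map_zero, zero_pow hQ.ne']⟩
    · refine hroot _ (Finset.mem_biUnion.mpr ⟨c, hc, ?_⟩)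
      rcases hp with rfl | rfl
      · exact Finset.mem_union_left _ (Finset.mem_image.mpr ⟨e, MvPolynomial.mem_support_iff.mpr he, rfl⟩)
      · exact Finset.mem_union_right _ (Finset.mem_image.mpr ⟨e, MvPolynomial.mem_support_iff.mpr he, rfl⟩)
  letI : Algebra P P' := φ.toAlgebra
  haveI : IsScalarTower k P P' := IsScalarTower.of_algebraMap_eq fun a => by
    change MvPolynomial.C (algebraMap k k' a) =
      MvPolynomial.expand (q ^ N) (MvPolynomial.map (algebraMap k k') (MvPolynomial.C a))
    rw [MvPolynomial.map_C, MvPolynomial.expand_C]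
  haveI : Algebra.FiniteType k P' := Algebra.FiniteType.trans (S := k') inferInstance inferInstance
  haveI : Algebra.FiniteType P P' := Algebra.FiniteType.of_restrictScalars_finiteType k P P'
  haveI : Algebra.IsIntegral P P' := by
    refine ⟨fun p => ?_⟩
    induction p using MvPolynomial.induction_on with
    | C a =>
      have h1 : IsIntegral k a := Algebra.IsIntegral.isIntegral a
      exact (h1.map (IsScalarTower.toAlgHom k k' P')).tower_top
    | add p p' hp hp' => exact hp.add hp'
    | mul_X p n hp =>
      refine hp.mul (IsIntegral.of_pow hQ ?_)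
      rw [show (MvPolynomial.X n : P') ^ q ^ N = algebraMap P P' (MvPolynomial.X n) by
        change _ = MvPolynomial.expand (q ^ N) (MvPolynomial.map (algebraMap k k') (MvPolynomial.X n))
        rw [MvPolynomial.map_X, MvPolynomial.expand_X]]
      exact isIntegral_algebraMap
  haveI : Module.Finite P P' := Algebra.IsIntegral.finite
  let F := FractionRing P'
  have hPF : Function.Injective (algebraMap P F) := by
    rw [IsScalarTower.algebraMap_eq P P' F]
    exact (IsFractionRing.injective P' F).comp hφ
  letI : Algebra K F :=
    (IsFractionRing.lift (A := P) (K := K) (g := algebraMap P F) hPF).toAlgebra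
  haveI : IsScalarTower P K F := IsScalarTower.of_algebraMap_eq fun p => by
    rw [RingHom.algebraMap_toAlgebra (IsFractionRing.lift (A := P) (K := K) (g := algebraMap P F) hPF),
      IsFractionRing.lift_algebraMap]
  haveI : ExpChar F q :=
    expChar_of_injective_ringHom (algebraMap K F).injective q
  refine finite_integralClosure_of_roots (P' := P') (F := F) b q N hN fun i n => ?_
  by_cases hn : (g i).coeff n = 0
  · exact ⟨0, by rw [hn, map_zero, zero_pow hQ.ne']⟩
  have hc : (g i).coeff n ∈ cs := Finset.mem_biUnion.mpr
    ⟨i, Finset.mem_univ i, Polynomial.coeff_mem_coeffs hn⟩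
  obtain ⟨zn, hzn⟩ := hroots _ hc _ (Or.inl rfl)
  obtain ⟨zd, hzd⟩ := hroots _ hc _ (Or.inr rfl)
  have hd0 : algebraMap P F (nd ((g i).coeff n)).2.1 ≠ 0 :=
    (map_ne_zero_iff _ hPF).mpr (nonZeroDivisors.ne_zero (nd ((g i).coeff n)).2.2)
  refine ⟨algebraMap P' F zn / algebraMap P' F zd, ?_⟩
  have hφ' : ∀ p, algebraMap P' F (φ p) = algebraMap P F p := fun p =>
    (IsScalarTower.algebraMap_apply P P' F p).symm
  rw [div_pow, ← map_pow, ← map_pow, hzn, hzd, hφ', hφ', eq_comm, eq_div_iff hd0]
  have h1 := congrArg (algebraMap K F) (hnd ((g i).coeff n))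
  rw [map_mul, ← IsScalarTower.algebraMap_apply, ← IsScalarTower.algebraMap_apply] at h1
  exact h1

/-- The integral closure of a finitely generated domain over a field in a finite extension of its
fraction field is finite. -/
theorem finite_integralClosure_of_finiteType_field (k : Type u) [Field k] (A K L : Type u)
    [CommRing A] [IsDomain A] [Algebra k A] [Algebra.FiniteType k A] [Field K] [Field L]
    [Algebra A K] [IsFractionRing A K] [Algebra K L] [FiniteDimensional K L] [Algebra A L]
    [IsScalarTower A K L] : Module.Finite A (integralClosure A L) := by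
  obtain ⟨s, g, hg, hgf⟩ := exists_finite_inj_algHom_of_fg k A
  let P := MvPolynomial (Fin s) k
  letI : Algebra P A := g.toRingHom.toAlgebra
  haveI : Module.Finite P A := hgf
  let K0 := FractionRing P
  letI : Algebra P K := ((algebraMap A K).comp g.toRingHom).toAlgebra
  haveI : IsScalarTower P A K := IsScalarTower.of_algebraMap_eq fun _ => rfl
  letI : Algebra K0 K := (IsFractionRing.lift (A := P) (K := K0) (g := algebraMap P K)
    ((IsFractionRing.injective A K).comp hg)).toAlgebra
  haveI : IsScalarTower P K0 K := IsScalarTower.of_algebraMap_eq fun p => by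
    rw [RingHom.algebraMap_toAlgebra (IsFractionRing.lift (A := P) (K := K0) (g := algebraMap P K)
      ((IsFractionRing.injective A K).comp hg)), IsFractionRing.lift_algebraMap]
  haveI : FiniteDimensional K0 K := by
    obtain ⟨S, hS⟩ := Module.Finite.fg_top (R := P) (M := A)
    classical
    let F0 : IntermediateField K0 K := IntermediateField.adjoin K0 ↑(S.image (algebraMap A K))
    haveI : FiniteDimensional K0 F0 :=
      IntermediateField.finiteDimensional_adjoin fun x hx => by
        obtain ⟨a, -, rfl⟩ := Finset.mem_image.mp (Finset.mem_coe.mp hx)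
        exact ((Algebra.IsIntegral.isIntegral (R := P) a).map (IsScalarTower.toAlgHom P A K)).tower_top
    have hA : ∀ a : A, algebraMap A K a ∈ F0 := by
      intro a
      have ha : a ∈ Submodule.span P (S : Set A) := hS ▸ trivial
      induction ha using Submodule.span_induction with
      | mem x hx =>
        exact IntermediateField.subset_adjoin K0 _ (Finset.mem_coe.mpr (Finset.mem_image_of_mem _ hx))
      | zero => rw [map_zero]; exact zero_mem _
      | add x y _ _ hx hy => rw [map_add]; exact add_mem hx hy
      | smul p x _ hx =>
        rw [Algebra.smul_def, map_mul, ← IsScalarTower.algebraMap_apply P A K,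
          IsScalarTower.algebraMap_apply P K0 K]
        exact mul_mem (IntermediateField.algebraMap_mem _ _) hx
    refine Module.Finite.of_surjective F0.val.toLinearMap fun x => ?_
    obtain ⟨a, c, -, rfl⟩ := IsFractionRing.div_surjective A x
    exact ⟨⟨_, div_mem (hA a) (hA c)⟩, rfl⟩
  letI : Algebra P L := ((algebraMap A L).comp g.toRingHom).toAlgebra
  haveI : IsScalarTower P A L := IsScalarTower.of_algebraMap_eq fun _ => rfl
  letI : Algebra K0 L := ((algebraMap K L).comp (algebraMap K0 K)).toAlgebra
  haveI : IsScalarTower K0 K L := IsScalarTower.of_algebraMap_eq fun _ => rfl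
  haveI : IsScalarTower P K0 L := IsScalarTower.of_algebraMap_eq fun p => by
    change algebraMap A L (g p) = algebraMap K L (algebraMap K0 K (algebraMap P K0 p))
    rw [← IsScalarTower.algebraMap_apply P K0 K, IsScalarTower.algebraMap_apply A K L]
    rfl
  haveI : FiniteDimensional K0 L := Module.Finite.trans K L
  haveI := finite_integralClosure_mvPolynomial (k := k) (σ := Fin s) L
  let ψ : integralClosure P L →ₗ[P] integralClosure A L :=
    { toFun := fun x => ⟨(x : L), (x.2 : IsIntegral P (x : L)).tower_top⟩
      map_add' := fun _ _ => rfl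
      map_smul' := fun p x => Subtype.ext (by
        simp [Algebra.smul_def]) }
  haveI : Module.Finite P (integralClosure A L) :=
    Module.Finite.of_surjective ψ fun x => ⟨⟨(x : L), isIntegral_trans (x : L) x.2⟩, rfl⟩
  exact Module.Finite.of_restrictScalars_finite P A _

end Groth.Agent.H02CA
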