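import Mathlib.RingTheory.Ideal.AssociatedPrime.Finiteness
import Mathlib.RingTheory.LocalRing.ResidueField.Ideal
import Mathlib.RingTheory.Flat.Basic
import Mathlib.LinearAlgebra.TensorProduct.RightExactness
import Mathlib.LinearAlgebra.TensorProduct.Finiteness
import Mathlib.RingTheory.Localization.FractionRing

/-!
# Exactness of complexes of flat modules is detected on residue fields
-/

set_option autoImplicit false
universe u

open TensorProduct

namespace Groth.Agent.H02CA.FlatComplexFibre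

variable {A : Type u} [CommRing A] {X : ℕ → Type u} [∀ i, AddCommGroup (X i)] [∀ i, Module A (X i)]
  (d : ∀ i, X (i + 1) →ₗ[A] X i)

/-- Exactness at `X (j + 1)` after tensoring with `N`. -/
def Ex (N : Type u) [AddCommGroup N] [Module A N] (j : ℕ) : Prop :=
  Function.Exact ((d (j + 1)).lTensor N) ((d j).lTensor N)

variable {d}

theorem lTensor_d_d (hd : ∀ i, (d i) ∘ₗ (d (i + 1)) = 0) (N : Type u) [AddCommGroup N] [Module A N]
    (j : ℕ) (x : N ⊗[A] X (j + 2)) : (d j).lTensor N ((d (j + 1)).lTensor N x) = 0 := by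
  rw [← LinearMap.lTensor_comp_apply, hd, LinearMap.lTensor_zero, LinearMap.zero_apply]

variable (hd : ∀ i, (d i) ∘ₗ (d (i + 1)) = 0)
include hd

theorem Ex.of_equiv {N N' : Type u} [AddCommGroup N] [Module A N] [AddCommGroup N'] [Module A N']
    (e : N ≃ₗ[A] N') {j : ℕ} (h : Ex d N' j) : Ex d N j := by
  intro z
  refine ⟨fun hz ↦ ?_, ?_⟩
  · have h1 : (d j).lTensor N' (e.toLinearMap.rTensor (X (j + 1)) z) = 0 := by
      rw [← LinearMap.comp_apply, LinearMap.lTensor_comp_rTensor, ← LinearMap.rTensor_comp_lTensor,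
        LinearMap.comp_apply, hz, map_zero]
    obtain ⟨w, hw⟩ := (h _).mp h1
    refine ⟨e.symm.toLinearMap.rTensor (X (j + 2)) w, ?_⟩
    rw [← LinearMap.comp_apply, LinearMap.lTensor_comp_rTensor, ← LinearMap.rTensor_comp_lTensor,
      LinearMap.comp_apply, hw, ← LinearMap.rTensor_comp_apply]
    simp
  · rintro ⟨w, rfl⟩
    exact lTensor_d_d hd N j w

variable [∀ i, Module.Flat A (X i)]

theorem Ex.of_exact {N₁ N₂ N₃ : Type u} [AddCommGroup N₁] [Module A N₁] [AddCommGroup N₂]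
    [Module A N₂] [AddCommGroup N₃] [Module A N₃] {f : N₁ →ₗ[A] N₂} {g : N₂ →ₗ[A] N₃}
    (hf : Function.Injective f) (hg : Function.Surjective g) (hfg : Function.Exact f g) {j : ℕ}
    (h₁ : Ex d N₁ j) (h₃ : Ex d N₃ j) : Ex d N₂ j := by
  intro z
  refine ⟨fun hz ↦ ?_, fun ⟨w, hw⟩ ↦ hw ▸ lTensor_d_d hd N₂ j w⟩
  have h0 : (d j).lTensor N₃ (g.rTensor (X (j + 1)) z) = 0 := by
    rw [← LinearMap.comp_apply, LinearMap.lTensor_comp_rTensor, ← LinearMap.rTensor_comp_lTensor,
      LinearMap.comp_apply, hz, map_zero]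
  obtain ⟨w₃, hw₃⟩ := (h₃ _).mp h0
  obtain ⟨w, rfl⟩ := LinearMap.rTensor_surjective (X (j + 2)) hg w₃
  obtain ⟨z₁, hz₁⟩ := (rTensor_exact (X (j + 1)) hfg hg _).mp
    (show g.rTensor (X (j + 1)) (z - (d (j + 1)).lTensor N₂ w) = 0 by
      rw [map_sub, sub_eq_zero, ← hw₃, ← LinearMap.comp_apply (f := (d (j + 1)).lTensor N₃),
        ← LinearMap.comp_apply (f := g.rTensor (X (j + 1))), LinearMap.lTensor_comp_rTensor,
        LinearMap.rTensor_comp_lTensor])
  have hz₁' : (d j).lTensor N₁ z₁ = 0 := by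
    refine Module.Flat.rTensor_preserves_injective_linearMap (M := X j) f hf ?_
    rw [map_zero, ← LinearMap.comp_apply, LinearMap.rTensor_comp_lTensor, ← LinearMap.lTensor_comp_rTensor,
      LinearMap.comp_apply, hz₁, map_sub, hz, lTensor_d_d hd, sub_zero]
  obtain ⟨w₁, hw₁⟩ := (h₁ _).mp hz₁'
  refine ⟨w + f.rTensor (X (j + 2)) w₁, ?_⟩
  rw [map_add, ← LinearMap.comp_apply (f := (d (j + 1)).lTensor N₂), LinearMap.lTensor_comp_rTensor,
    ← LinearMap.rTensor_comp_lTensor, LinearMap.comp_apply, hw₁, hz₁]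
  abel

/-- If the cokernel of an injection is acyclic one degree higher, the injection is injective on
homology. -/
theorem mem_range_of_map {N' N Q : Type u} [AddCommGroup N'] [Module A N'] [AddCommGroup N]
    [Module A N] [AddCommGroup Q] [Module A Q]
    {f : N' →ₗ[A] N} {g : N →ₗ[A] Q} (hf : Function.Injective f) (hg : Function.Surjective g)
    (hfg : Function.Exact f g) {j : ℕ} (hQ : Ex d Q j) (z : N' ⊗[A] X j)
    (w : N ⊗[A] X (j + 1)) (hw : (d j).lTensor N w = f.rTensor (X j) z) :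
    z ∈ LinearMap.range ((d j).lTensor N') := by
  have h0 : (d j).lTensor Q (g.rTensor (X (j + 1)) w) = 0 := by
    rw [← LinearMap.comp_apply, LinearMap.lTensor_comp_rTensor, ← LinearMap.rTensor_comp_lTensor,
      LinearMap.comp_apply, hw, ← LinearMap.rTensor_comp_apply, hfg.linearMap_comp_eq_zero,
      LinearMap.rTensor_zero, LinearMap.zero_apply]
  obtain ⟨v₃, hv₃⟩ := (hQ _).mp h0
  obtain ⟨v, rfl⟩ := LinearMap.rTensor_surjective (X (j + 2)) hg v₃
  obtain ⟨w₁, hw₁⟩ := (rTensor_exact (X (j + 1)) hfg hg _).mp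
    (show g.rTensor (X (j + 1)) (w - (d (j + 1)).lTensor N v) = 0 by
      rw [map_sub, sub_eq_zero, ← hv₃, ← LinearMap.comp_apply (f := (d (j + 1)).lTensor Q),
        ← LinearMap.comp_apply (f := g.rTensor (X (j + 1))), LinearMap.lTensor_comp_rTensor,
        LinearMap.rTensor_comp_lTensor])
  refine ⟨w₁, Module.Flat.rTensor_preserves_injective_linearMap (M := X j) f hf ?_⟩
  rw [← LinearMap.comp_apply, LinearMap.rTensor_comp_lTensor, ← LinearMap.lTensor_comp_rTensor,
    LinearMap.comp_apply, hw₁, map_sub, lTensor_d_d hd, sub_zero, hw]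

omit hd in
theorem exists_smul_eq (p : Ideal A) [p.IsPrime] {P : Type u} [AddCommGroup P] [Module A P]
    (w : p.ResidueField ⊗[A] P) :
    ∃ s : A, s ∉ p ∧ ∃ w₀ : (A ⧸ p) ⊗[A] P,
      (IsScalarTower.toAlgHom A (A ⧸ p) p.ResidueField).toLinearMap.rTensor P w₀ = s • w := by
  induction w with
  | zero => exact ⟨1, p.ne_top_iff_one.mp (Ideal.IsPrime.ne_top ‹_›), 0, by simp⟩
  | tmul x y =>
    obtain ⟨⟨a, t⟩, ht⟩ := IsLocalization.surj (nonZeroDivisors (A ⧸ p)) x
    obtain ⟨s, hs⟩ := Ideal.Quotient.mk_surjective (t : A ⧸ p)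
    refine ⟨s, fun hsp ↦ nonZeroDivisors.ne_zero t.2 (hs.symm.trans (Ideal.Quotient.eq_zero_iff_mem.mpr hsp)),
      a ⊗ₜ y, ?_⟩
    rw [LinearMap.rTensor_tmul, smul_tmul', Algebra.smul_def,
      IsScalarTower.algebraMap_apply A (A ⧸ p) p.ResidueField, mul_comm]
    exact congrArg (· ⊗ₜ[A] y) ((by rw [← hs] at ht; exact ht.symm))
  | add x y hx hy =>
    obtain ⟨s, hs, x₀, hx₀⟩ := hx
    obtain ⟨t, ht, y₀, hy₀⟩ := hy
    refine ⟨s * t, fun h ↦ (Ideal.IsPrime.mem_or_mem ‹_› h).elim hs ht, t • x₀ + s • y₀, ?_⟩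
    rw [map_add, map_smul, map_smul, hx₀, hy₀, smul_add, smul_smul, smul_smul, mul_comm t s]

/-- Exactness above degree `n` on all residue fields implies exactness on `A/p`. -/
theorem ex_quotient_prime [IsNoetherianRing A] (n : ℕ)
    (hk : ∀ (p : Ideal A) [p.IsPrime] (j : ℕ), n ≤ j → Ex d p.ResidueField j) :
    ∀ (p : Ideal A), p.IsPrime → ∀ j, n ≤ j → Ex d (A ⧸ p) j := by
  intro p
  induction p using (inferInstance : WellFoundedGT (Ideal A)).wf.induction with
  | _ p ih =>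
  intro hp j hj z
  refine ⟨fun hz ↦ ?_, fun ⟨w, hw⟩ ↦ hw ▸ lTensor_d_d hd _ j w⟩
  let ι := (IsScalarTower.toAlgHom A (A ⧸ p) p.ResidueField).toLinearMap
  have hι : Function.Injective ι := IsFractionRing.injective (A ⧸ p) p.ResidueField
  have hz' : (d j).lTensor p.ResidueField (ι.rTensor (X (j + 1)) z) = 0 := by
    rw [← LinearMap.comp_apply, LinearMap.lTensor_comp_rTensor, ← LinearMap.rTensor_comp_lTensor,
      LinearMap.comp_apply, hz, map_zero]
  obtain ⟨w, hw⟩ := ((@hk p hp j hj) _).mp hz'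
  obtain ⟨s, hs, w₀, hw₀⟩ := exists_smul_eq p w
  let f : (A ⧸ p) →ₗ[A] (A ⧸ p) := LinearMap.lsmul A (A ⧸ p) s
  have hfz : ∀ v, f.rTensor (X (j + 1)) v = s • v := fun v ↦ by
    induction v using TensorProduct.induction_on with
    | zero => simp
    | tmul x y => simp [f, smul_tmul']
    | add x y hx hy => rw [map_add, hx, hy, smul_add]
  have heq : (d (j + 1)).lTensor (A ⧸ p) w₀ = f.rTensor (X (j + 1)) z := by
    refine Module.Flat.rTensor_preserves_injective_linearMap (M := X (j + 1)) ι hι ?_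
    rw [hfz z, map_smul, ← hw, ← map_smul, ← hw₀, ← LinearMap.comp_apply, LinearMap.rTensor_comp_lTensor,
      ← LinearMap.lTensor_comp_rTensor, LinearMap.comp_apply]
  have hfinj : Function.Injective f := by
    refine (injective_iff_map_eq_zero f).mpr fun x hx ↦ ?_
    obtain ⟨x, rfl⟩ := Ideal.Quotient.mk_surjective x
    exact Ideal.Quotient.eq_zero_iff_mem.mpr ((hp.mem_or_mem
      (Ideal.Quotient.eq_zero_iff_mem.mp (show Ideal.Quotient.mk p (s * x) = 0 from hx))).resolve_left hs)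
  refine mem_range_of_map hd hfinj (LinearMap.range f).mkQ_surjective
    (LinearMap.exact_iff.mpr (Submodule.ker_mkQ _)) ?_ z w₀ heq
  -- acyclicity of the cokernel
  have hann : ∀ a ∈ p ⊔ Ideal.span {s}, ∀ y : (A ⧸ p) ⧸ LinearMap.range f, a • y = 0 := by
    intro a ha y
    obtain ⟨y, rfl⟩ := Submodule.mkQ_surjective _ y
    obtain ⟨b, hb, c, hc, rfl⟩ := Submodule.mem_sup.mp ha
    obtain ⟨r, rfl⟩ := Ideal.mem_span_singleton'.mp hc
    obtain ⟨y, rfl⟩ := Ideal.Quotient.mk_surjective y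
    rw [← map_smul, ← LinearMap.mem_ker, Submodule.ker_mkQ]
    refine ⟨Ideal.Quotient.mk p (r * y), ?_⟩
    change Ideal.Quotient.mk p (s * (r * y)) = Ideal.Quotient.mk p ((b + r * s) * y)
    rw [Ideal.Quotient.eq]
    have : s * (r * y) - (b + r * s) * y = (-y) * b := by ring
    rw [this]
    exact p.mul_mem_left _ hb
  suffices H : ∀ (N : Type u) [AddCommGroup N] [Module A N] [Module.Finite A N],
      (∀ a ∈ p ⊔ Ideal.span {s}, ∀ y : N, a • y = 0) → ∀ i, n ≤ i → Ex d N i from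
    H _ hann (j + 1) (by omega)
  intro N _ _ hN
  induction hN using IsNoetherianRing.induction_on_isQuotientEquivQuotientPrime (A := A) with
  | subsingleton N =>
    intro _ i _
    have : Subsingleton (N ⊗[A] X (i + 1)) := inferInstance
    exact fun x ↦ ⟨fun _ ↦ ⟨0, Subsingleton.elim _ _⟩, fun ⟨w, hw⟩ ↦ hw ▸ lTensor_d_d hd N i w⟩
  | quotient N q e =>
    intro hN i hi
    refine Ex.of_equiv hd e (ih q.1 ?_ q.2 i hi)
    refine lt_of_lt_of_le (b := p ⊔ Ideal.span {s}) ?_ fun a ha ↦ ?_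
    · exact lt_of_le_of_ne le_sup_left fun h ↦ hs (h ▸ Ideal.mem_sup_right (Ideal.mem_span_singleton_self s))
    · have := congrArg e (hN a ha (e.symm 1))
      rw [map_smul, map_zero, LinearEquiv.apply_symm_apply] at this
      change Ideal.Quotient.mk q.1 (a * 1) = 0 at this
      rw [mul_one] at this
      exact Ideal.Quotient.eq_zero_iff_mem.mp this
  | exact N₁ N₂ N₃ f g hf hg hfg h₁ h₃ =>
    intro hN i hi
    refine Ex.of_exact hd hf hg hfg (h₁ (fun a ha y ↦ hf ?_) i hi) (h₃ (fun a ha y ↦ ?_) i hi)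
    · rw [map_smul, hN a ha, map_zero]
    · obtain ⟨y, rfl⟩ := hg y
      rw [← map_smul, hN a ha, map_zero]

/-- Exactness above degree `n` on all residue fields implies exactness for all modules. -/
theorem ex_of_forall_residueField [IsNoetherianRing A] (n : ℕ)
    (hk : ∀ (p : Ideal A) [p.IsPrime] (j : ℕ), n ≤ j → Ex d p.ResidueField j)
    (N : Type u) [AddCommGroup N] [Module A N] (j : ℕ) (hj : n ≤ j) : Ex d N j := by
  have hfg : ∀ (N : Type u) [AddCommGroup N] [Module A N] [Module.Finite A N], Ex d N j := by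
    intro N _ _ hN
    induction hN using IsNoetherianRing.induction_on_isQuotientEquivQuotientPrime (A := A) with
    | subsingleton N =>
      exact fun x ↦ ⟨fun _ ↦ ⟨0, Subsingleton.elim _ _⟩, fun ⟨w, hw⟩ ↦ hw ▸ lTensor_d_d hd N j w⟩
    | quotient N q e => exact Ex.of_equiv hd e (ex_quotient_prime hd n hk q.1 q.2 j hj)
    | exact N₁ N₂ N₃ f g hf hg hfg h₁ h₃ => exact Ex.of_exact hd hf hg hfg h₁ h₃
  intro z
  refine ⟨fun hz ↦ ?_, fun ⟨w, hw⟩ ↦ hw ▸ lTensor_d_d hd N j w⟩
  obtain ⟨S, hS⟩ := TensorProduct.exists_finset z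
  classical
  let N₀ : Submodule A N := Submodule.span A (S.image Prod.fst : Set N)
  have : Module.Finite A N₀ := Module.Finite.iff_fg.mpr (Submodule.fg_span (Finset.finite_toSet _))
  let z₀ : N₀ ⊗[A] X (j + 1) := ∑ i : S,
    (⟨i.1.1, Submodule.subset_span (Finset.mem_image_of_mem _ i.2)⟩ : N₀) ⊗ₜ[A] i.1.2
  have hz₀ : N₀.subtype.rTensor (X (j + 1)) z₀ = z := by
    rw [hS, map_sum, ← Finset.sum_coe_sort S]
    exact Finset.sum_congr rfl fun i _ ↦ rfl
  have hz₀' : (d j).lTensor N₀ z₀ = 0 := by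
    refine Module.Flat.rTensor_preserves_injective_linearMap (M := X j) N₀.subtype Subtype.val_injective ?_
    rw [map_zero, ← LinearMap.comp_apply, LinearMap.rTensor_comp_lTensor, ← LinearMap.lTensor_comp_rTensor,
      LinearMap.comp_apply, hz₀, hz]
  obtain ⟨w, hw⟩ := (hfg N₀ _).mp hz₀'
  refine ⟨N₀.subtype.rTensor (X (j + 2)) w, ?_⟩
  rw [← LinearMap.comp_apply, LinearMap.lTensor_comp_rTensor, ← LinearMap.rTensor_comp_lTensor,
    LinearMap.comp_apply, hw, hz₀]

end Groth.Agent.H02CA.FlatComplexFibre
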