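import Groth.Prelude.Def_W4c5flasquetoriphsGLat
import Mathlib

/-!
# Flasque and coflasque resolutions of lattices over a finite group
-/

namespace Groth.Agent.H02CA.GLatRes

open GLat

variable {G : Type} [Group G]

section Perm

variable (G) (X : Type) [MulAction G X]

/-- The permutation representation on functions. -/
def perm : Representation ℤ G (X → ℤ) where
  toFun g := LinearMap.funLeft ℤ ℤ (fun x => g⁻¹ • x)
  map_one' := by ext f x; simp
  map_mul' g h := by ext f x; simp [mul_smul]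

variable {G X}

@[simp] theorem perm_apply (g : G) (f : X → ℤ) (x : X) : perm G X g f x = f (g⁻¹ • x) := rfl

theorem perm_single [DecidableEq X] (g : G) (x : X) (c : ℤ) :
    perm G X g (Pi.single x c) = Pi.single (g • x) c := by
  funext y
  simp only [perm_apply, Pi.single_apply, inv_smul_eq_iff]

theorem isPermutation_perm [Fintype X] : IsPermutation (perm G X) := by
  classical
  refine ⟨X, Pi.basisFun ℤ X, fun g x => ⟨g • x, ?_⟩⟩
  rw [Pi.basisFun_apply, Pi.basisFun_apply, perm_single]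

theorem perm_isCoflasque [Finite G] : IsCoflasque (perm G X) := by
  classical
  intro H f hf
  let Q := MulAction.orbitRel.Quotient H X
  let r : X → X := fun x => (Quotient.mk'' x : Q).out
  have hr : ∀ x, ∃ a : H, a • r x = x := by
    intro x
    have h : MulAction.orbitRel H X (r x) x := Quotient.exact' (Quotient.out_eq (Quotient.mk'' x : Q))
    obtain ⟨a, ha⟩ := MulAction.orbitRel_apply.1 h
    exact ⟨a⁻¹, inv_smul_eq_iff.2 ha.symm⟩
  choose t ht using hr
  have hr' : ∀ (a : H) x, r (a • x) = r x := fun a x => by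
    show Quotient.out _ = Quotient.out _
    congr 1
    exact Quotient.sound' (MulAction.orbitRel_apply.2 ⟨a, rfl⟩)
  have hcoc : ∀ (a b : H) (z : X), f (a * b) z = f a z + f b ((a⁻¹ : H) • z) := fun a b z => by
    rw [hf a b]; rfl
  have hone : ∀ z, f 1 z = 0 := fun z => by
    have := hcoc 1 1 z
    rw [one_mul, inv_one, one_smul] at this
    linarith
  have hstab : ∀ (s : H) (x : X), s • x = x → f s x = 0 := by
    intro s x hs
    have hs' : s⁻¹ • x = x := inv_smul_eq_iff.2 hs.symm
    have hpow : ∀ n : ℕ, f (s ^ n) x = n * f s x := by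
      intro n
      induction n with
      | zero => simp [hone]
      | succ n ih =>
        rw [pow_succ', hcoc, hs', ih]; push_cast; ring
    have := hpow (orderOf s)
    rw [pow_orderOf_eq_one, hone] at this
    have hpos : (0 : ℤ) < orderOf s := by exact_mod_cast orderOf_pos s
    exact (mul_eq_zero.1 this.symm).resolve_left hpos.ne'
  refine ⟨fun x => - f (t x) x, fun a => funext fun z => ?_⟩
  show f a z = - f (t (a⁻¹ • z)) (a⁻¹ • z) - - f (t z) z
  set b := t (a⁻¹ • z)
  set c := t z
  have hx : (a * b) • r z = z := by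
    have := ht (a⁻¹ • z)
    rw [hr'] at this
    rw [mul_smul, this, smul_inv_smul]
  have hz := ht z
  have hs : (c⁻¹ * (a * b)) • r z = r z := by
    rw [mul_smul, hx, inv_smul_eq_iff, hz]
  have h1 : f (a * b) z = f c z := by
    have := hcoc c (c⁻¹ * (a * b)) z
    rw [mul_inv_cancel_left] at this
    rw [this, show c⁻¹ • z = r z by rw [inv_smul_eq_iff, hz], hstab _ _ hs, add_zero]
  have h2 := hcoc a b z
  linarith

theorem perm_isFlasque [Finite G] [Fintype X] : IsFlasque (perm G X) := by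
  classical
  intro H m hm
  haveI := Fintype.ofFinite H
  rw [finsum_eq_sum_of_fintype] at hm
  let S := Submodule.span ℤ {x : X → ℤ | ∃ (h : H) (y : X → ℤ), x = perm G X (h : G) y - y}
  let Q := MulAction.orbitRel.Quotient H X
  let r : X → X := fun x => (Quotient.mk'' x : Q).out
  have hr : ∀ x, ∃ a : H, a • x = r x := by
    intro x
    have h : MulAction.orbitRel H X (r x) x := Quotient.exact' (Quotient.out_eq (Quotient.mk'' x : Q))
    exact MulAction.orbitRel_apply.1 h
  have hr' : ∀ (a : H) x, r (a • x) = r x := fun a x => by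
    show Quotient.out _ = Quotient.out _
    congr 1
    exact Quotient.sound' (MulAction.orbitRel_apply.2 ⟨a, rfl⟩)
  have h1 : m - ∑ x, Pi.single (r x) (m x) ∈ S := by
    conv => enter [2, 1]; rw [← Finset.univ_sum_single m]
    rw [← Finset.sum_sub_distrib]
    refine Submodule.sum_mem _ fun x _ => ?_
    obtain ⟨a, ha⟩ := hr x
    rw [← neg_sub]
    refine Submodule.neg_mem _ (Submodule.subset_span ⟨a, Pi.single x (m x), ?_⟩)
    rw [perm_single, ← ha]
    rfl
  have h2 : ∑ x, Pi.single (r x) (m x) = (0 : X → ℤ) := by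
    funext z
    rw [Finset.sum_apply, Pi.zero_apply]
    simp only [Pi.single_apply]
    rw [← Finset.sum_filter]
    by_cases hz : ∃ x, z = r x
    · obtain ⟨x₀, rfl⟩ := hz
      have hz0 : ∑ h : H, m (h • r x₀) = 0 := by
        have := congrFun hm (r x₀)
        rw [Finset.sum_apply, Pi.zero_apply] at this
        rw [← this]
        exact Fintype.sum_equiv (Equiv.inv H) _ _ fun h => by simp; rfl
      have hfil : Finset.univ.filter (fun x => r x₀ = r x) =
          Finset.univ.image (fun h : H => h • r x₀) := by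
        ext y
        simp only [Finset.mem_filter, Finset.mem_univ, true_and, Finset.mem_image]
        constructor
        · intro he
          obtain ⟨a, ha⟩ := hr y
          exact ⟨a⁻¹, inv_smul_eq_iff.2 (he.trans ha.symm)⟩
        · rintro ⟨a, rfl⟩
          obtain ⟨b, hb⟩ := hr x₀
          conv_rhs => rw [hr', ← hb, hr']
      rw [hfil]
      have hcard : ∀ h : H, (Finset.univ.filter fun k : H => k • r x₀ = h • r x₀).card =
          (Finset.univ.filter fun k : H => k • r x₀ = r x₀).card := fun h =>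
        Finset.card_bij (fun k _ => h⁻¹ * k)
          (fun k hk => by
            simp only [Finset.mem_filter, Finset.mem_univ, true_and] at hk ⊢
            rw [mul_smul, hk, inv_smul_smul])
          (fun k _ l _ e => mul_left_cancel e)
          (fun k hk => ⟨h * k, by
            simp only [Finset.mem_filter, Finset.mem_univ, true_and] at hk ⊢
            rw [mul_smul, hk], by simp⟩)
      rw [Finset.sum_comp m (fun h : H => h • r x₀)] at hz0
      rw [Finset.sum_congr rfl (g := fun y =>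
        (Finset.univ.filter fun k : H => k • r x₀ = r x₀).card • m y) (fun y hy => by
        obtain ⟨h, -, rfl⟩ := Finset.mem_image.1 hy
        rw [hcard h]), ← Finset.smul_sum, smul_eq_zero] at hz0
      refine hz0.resolve_left ?_
      exact Finset.card_ne_zero.2 ⟨1, by simp⟩
    · rw [Finset.sum_eq_zero]
      exact fun x hx => absurd ⟨x, (Finset.mem_filter.1 hx).2⟩ hz
  rw [h2, sub_zero] at h1
  exact h1

end Perm

section Gen

variable [Finite G] {A : Type} [AddCommGroup A] [Module.Finite ℤ A] (ρ : Representation ℤ G A)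

/-- A permutation cover, surjective on all fixed points. -/
theorem exists_cover :
    ∃ (X : Type) (_ : MulAction G X) (_ : Fintype X) (v : X → A),
      (∀ (g : G) x, v (g • x) = ρ g (v x)) ∧
      ∀ (H : Subgroup G) (a : A), (∀ h : H, ρ (h : G) a = a) →
        ∃ f : X → ℤ, (∀ h : H, perm G X (h : G) f = f) ∧ ∑ x, f x • v x = a := by
  classical
  haveI := Fintype.ofFinite (Subgroup G)
  haveI := Fintype.ofFinite G
  let fx : Subgroup G → Submodule ℤ A := fun H =>
    ⨅ h : H, LinearMap.eqLocus (ρ (h : G)) LinearMap.id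
  have hfx : ∀ {H : Subgroup G} {a : A}, a ∈ fx H ↔ ∀ h : H, ρ (h : G) a = a := by
    intro H a; simp [fx, Submodule.mem_iInf]
  have hfg : ∀ H, ∃ s : Finset A, Submodule.span ℤ (s : Set A) = fx H := fun H =>
    IsNoetherian.noetherian (fx H)
  choose s hs using hfg
  let I := Σ H : Subgroup G, {a // a ∈ s H}
  let v0 : ∀ i : I, G ⧸ i.1 → A := fun i q => Quotient.liftOn' q (fun g => ρ g i.2.1) (by
    intro g g' hgg
    have hmem := QuotientGroup.leftRel_apply.1 hgg
    have hfix : ρ (g⁻¹ * g') i.2.1 = i.2.1 :=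
      hfx.1 (hs i.1 ▸ Submodule.subset_span i.2.2) ⟨_, hmem⟩
    calc ρ g i.2.1 = ρ g (ρ (g⁻¹ * g') i.2.1) := by rw [hfix]
      _ = ρ (g * (g⁻¹ * g')) i.2.1 := (LinearMap.congr_fun (map_mul ρ g _) _).symm
      _ = ρ g' i.2.1 := by rw [mul_inv_cancel_left])
  refine ⟨Σ i : I, G ⧸ i.1, inferInstance, inferInstance, fun x => v0 x.1 x.2, ?_, ?_⟩
  · rintro g ⟨i, q⟩
    induction q using QuotientGroup.induction_on with
    | _ g' =>
      show ρ (g * g') i.2.1 = ρ g (ρ g' i.2.1)
      rw [map_mul]; rfl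
  · intro H a ha
    have hmem : a ∈ Submodule.span ℤ (s H : Set A) := hs H ▸ hfx.2 ha
    clear ha
    induction hmem using Submodule.span_induction with
    | mem b hb =>
      let x0 : Σ i : I, G ⧸ i.1 := ⟨⟨H, b, hb⟩, ((1 : G) : G ⧸ H)⟩
      refine ⟨Pi.single x0 1, fun h => ?_, ?_⟩
      · rw [perm_single]
        congr 1
        show (⟨⟨H, b, hb⟩, ((((h : G) * 1 : G)) : G ⧸ H)⟩ : Σ i : I, G ⧸ i.1) = x0
        have : (((h : G) * 1 : G) : G ⧸ H) = ((1 : G) : G ⧸ H) :=
          QuotientGroup.eq.2 (by simp)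
        rw [this]
      · simp only [Pi.single_apply, ite_smul, one_smul, zero_smul]
        rw [Finset.sum_ite_eq' Finset.univ x0, if_pos (Finset.mem_univ _)]
        show ρ 1 b = b
        simp
    | zero => exact ⟨0, fun h => map_zero _, by simp⟩
    | add b c _ _ hb hc =>
      obtain ⟨f, hf, hfb⟩ := hb
      obtain ⟨g, hg, hgc⟩ := hc
      exact ⟨f + g, fun h => by rw [map_add, hf h, hg h],
        by simp [add_smul, Finset.sum_add_distrib, hfb, hgc]⟩
    | smul c b _ hb =>
      obtain ⟨f, hf, hfb⟩ := hb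
      exact ⟨c • f, fun h => by rw [map_zsmul, hf h],
        by simp [← hfb, Finset.smul_sum, mul_smul]⟩

/-- The map from a permutation module. -/
def ofVec {X : Type} [Fintype X] (v : X → A) : (X → ℤ) →ₗ[ℤ] A := Fintype.linearCombination ℤ v

omit [Finite G] [Module.Finite ℤ A] in
theorem ofVec_equivariant {X : Type} [Fintype X] [MulAction G X] (v : X → A)
    (hv : ∀ (g : G) x, v (g • x) = ρ g (v x)) : IsEquivariant (perm G X) ρ (ofVec v) := by
  intro g f
  simp only [ofVec, Fintype.linearCombination_apply, perm_apply, map_sum, map_zsmul, ← hv]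
  exact Fintype.sum_equiv (MulAction.toPerm g⁻¹) _ _ fun x => by simp

/-- The coflasque-kernel cover. -/
theorem exists_coflasque_cover :
    ∃ (X : Type) (_ : MulAction G X) (_ : Fintype X) (π : (X → ℤ) →ₗ[ℤ] A),
      IsEquivariant (perm G X) ρ π ∧ Function.Surjective π ∧
      ∀ (H : Subgroup G) (a : A), (∀ h : H, ρ (h : G) a = a) →
        ∃ f : X → ℤ, (∀ h : H, perm G X (h : G) f = f) ∧ π f = a := by
  obtain ⟨X, iA, iF, v, hv, hfix⟩ := exists_cover ρ
  refine ⟨X, iA, iF, ofVec v, ?_, fun a => ?_, fun H a ha => ?_⟩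
  · exact @ofVec_equivariant G _ A _ ρ X iF iA v hv
  · obtain ⟨f, -, hf⟩ := hfix ⊥ a (fun h => by
      rw [show (h : G) = 1 from Subgroup.mem_bot.1 h.2]; simp)
    exact ⟨f, by rw [ofVec, Fintype.linearCombination_apply]; exact hf⟩
  · obtain ⟨f, hf, hfa⟩ := hfix H a ha
    exact ⟨f, hf, by rw [ofVec, Fintype.linearCombination_apply]; exact hfa⟩

end Gen

section Norm

variable [Finite G] {M : Type} [AddCommGroup M] (ρ : Representation ℤ G M)

/-- The norm of a subgroup. -/
noncomputable def nrm (H : Subgroup G) : M →ₗ[ℤ] M :=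
  letI := Fintype.ofFinite H
  ∑ h : H, ρ (h : G)

theorem nrm_apply (H : Subgroup G) (m : M) : nrm ρ H m = ∑ᶠ h : H, ρ (h : G) m := by
  letI := Fintype.ofFinite H
  rw [finsum_eq_sum_of_fintype, nrm, LinearMap.sum_apply]

theorem rho_nrm (H : Subgroup G) (g : H) (m : M) : ρ (g : G) (nrm ρ H m) = nrm ρ H m := by
  letI := Fintype.ofFinite H
  simp only [nrm, LinearMap.sum_apply, map_sum]
  exact Fintype.sum_equiv (Equiv.mulLeft g) _ _ fun h => by
    simp [map_mul]

theorem nrm_rho (H : Subgroup G) (g : H) (m : M) : nrm ρ H (ρ (g : G) m) = nrm ρ H m := by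
  letI := Fintype.ofFinite H
  simp only [nrm, LinearMap.sum_apply]
  exact Fintype.sum_equiv (Equiv.mulRight g) _ _ fun h => by
    simp [map_mul]

theorem nrm_fixed (H : Subgroup G) (m : M) (hm : ∀ h : H, ρ (h : G) m = m) :
    nrm ρ H m = Nat.card H • m := by
  letI := Fintype.ofFinite H
  simp [nrm, LinearMap.sum_apply, hm, Nat.card_eq_fintype_card]

theorem nrm_map {N : Type} [AddCommGroup N] (σ : Representation ℤ G N) (f : M →ₗ[ℤ] N)
    (hf : IsEquivariant ρ σ f) (H : Subgroup G) (m : M) : f (nrm ρ H m) = nrm σ H (f m) := by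
  letI := Fintype.ofFinite H
  simp [nrm, LinearMap.sum_apply, map_sum, hf _ _]

theorem nrm_aug (H : Subgroup G) {m : M}
    (hm : m ∈ Submodule.span ℤ {x : M | ∃ (h : H) (y : M), x = ρ (h : G) y - y}) :
    nrm ρ H m = 0 := by
  induction hm using Submodule.span_induction with
  | mem x hx => obtain ⟨h, y, rfl⟩ := hx; rw [map_sub, nrm_rho, sub_self]
  | zero => simp
  | add x y _ _ hx hy => rw [map_add, hx, hy, add_zero]
  | smul c x _ hx => rw [map_zsmul, hx, smul_zero]

theorem aug_map {N : Type} [AddCommGroup N] (σ : Representation ℤ G N) (f : M →ₗ[ℤ] N)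
    (hf : IsEquivariant ρ σ f) (H : Subgroup G) {m : M}
    (hm : m ∈ Submodule.span ℤ {x : M | ∃ (h : H) (y : M), x = ρ (h : G) y - y}) :
    f m ∈ Submodule.span ℤ {x : N | ∃ (h : H) (y : N), x = σ (h : G) y - y} := by
  induction hm using Submodule.span_induction with
  | mem x hx =>
    obtain ⟨h, y, rfl⟩ := hx
    exact Submodule.subset_span ⟨h, f y, by rw [map_sub, hf]⟩
  | zero => simp
  | add x y _ _ hx hy => rw [map_add]; exact add_mem hx hy
  | smul c x _ hx => rw [map_zsmul]; exact Submodule.smul_mem _ c hx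

theorem aug_lift {N : Type} [AddCommGroup N] (σ : Representation ℤ G N) (f : M →ₗ[ℤ] N)
    (hf : IsEquivariant ρ σ f) (hs : Function.Surjective f) (H : Subgroup G) {n : N}
    (hn : n ∈ Submodule.span ℤ {x : N | ∃ (h : H) (y : N), x = σ (h : G) y - y}) :
    ∃ m ∈ Submodule.span ℤ {x : M | ∃ (h : H) (y : M), x = ρ (h : G) y - y}, f m = n := by
  induction hn using Submodule.span_induction with
  | mem x hx =>
    obtain ⟨h, y, rfl⟩ := hx
    obtain ⟨z, rfl⟩ := hs y
    exact ⟨_, Submodule.subset_span ⟨h, z, rfl⟩, by rw [map_sub, hf]⟩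
  | zero => exact ⟨0, zero_mem _, map_zero _⟩
  | add x y _ _ hx hy =>
    obtain ⟨a, ha, rfl⟩ := hx
    obtain ⟨b, hb, rfl⟩ := hy
    exact ⟨a + b, add_mem ha hb, map_add _ _ _⟩
  | smul c x _ hx =>
    obtain ⟨a, ha, rfl⟩ := hx
    exact ⟨c • a, Submodule.smul_mem _ c ha, map_zsmul _ _ _⟩

/-- An element killed by every invariant functional modulo the order is a norm. -/
theorem exists_nrm_eq [Module.Finite ℤ M] [Module.Free ℤ M] (H : Subgroup G) (a : M)
    (ha : ∀ h : H, ρ (h : G) a = a)
    (hφ : ∀ φ : Module.Dual ℤ M, (∀ (h : H) y, φ (ρ (h : G) y) = φ y) → (Nat.card H : ℤ) ∣ φ a) :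
    ∃ y, nrm ρ H y = a := by
  classical
  set n := Nat.card H
  have hn : 0 < n := Nat.card_pos
  have hnz : (n : ℤ) ≠ 0 := by exact_mod_cast hn.ne'
  by_contra hno
  push Not at hno
  let S : Submodule ℤ M := LinearMap.range (nrm ρ H) ⊔ LinearMap.range ((n : ℤ) • LinearMap.id)
  have haS : Submodule.Quotient.mk (p := S) a ≠ 0 := by
    rw [Ne, Submodule.Quotient.mk_eq_zero]
    intro h
    obtain ⟨_, ⟨x, rfl⟩, _, ⟨y, rfl⟩, hxy⟩ := Submodule.mem_sup.1 h
    simp only [LinearMap.smul_apply, LinearMap.id_apply] at hxy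
    have hy : ∀ h : H, ρ h y = y := by
      intro h
      have h1 := congrArg (ρ (h : G)) hxy
      rw [map_add, rho_nrm, map_zsmul, ha h] at h1
      exact smul_right_injective M hnz (add_left_cancel (h1.trans hxy.symm))
    refine hno (x + y) ?_
    rw [map_add, nrm_fixed ρ H y hy]
    rwa [natCast_zsmul] at hxy
  obtain ⟨χ, hχ⟩ := CharacterModule.exists_character_apply_ne_zero_of_ne_zero haS
  let b := Module.Free.chooseBasis ℤ M
  have hk : ∀ i, ∃ k : ℤ, χ (Submodule.Quotient.mk (b i)) = (((k : ℚ) / n : ℚ) : AddCircle (1 : ℚ)) := by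
    intro i
    obtain ⟨q, hq⟩ := QuotientAddGroup.mk_surjective (χ (Submodule.Quotient.mk (b i)))
    have hz : n • χ (Submodule.Quotient.mk (b i)) = 0 := by
      rw [← map_nsmul, ← Submodule.Quotient.mk_smul,
        (Submodule.Quotient.mk_eq_zero S).2 (Submodule.mem_sup_right ⟨b i, by simp [natCast_zsmul]⟩),
        map_zero]
    rw [← hq] at hz
    have hz' : ((n • q : ℚ) : AddCircle (1 : ℚ)) = 0 := hz
    obtain ⟨k, hk⟩ := (AddCircle.coe_eq_zero_iff (1 : ℚ)).1 hz'
    refine ⟨k, hq.symm.trans ?_⟩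
    congr 1
    simp only [zsmul_eq_mul, mul_one, nsmul_eq_mul] at hk
    field_simp
    linarith
  choose k hk using hk
  let ψ : Module.Dual ℤ M := b.constr ℤ k
  have hψ : ∀ x, χ (Submodule.Quotient.mk x) = (((ψ x : ℚ) / n : ℚ) : AddCircle (1 : ℚ)) := by
    intro x
    let g1 : M →+ AddCircle (1 : ℚ) :=
      AddMonoidHom.mk' (fun x => χ (Submodule.Quotient.mk x)) fun x y => by
        rw [Submodule.Quotient.mk_add, map_add]
    let g2 : M →+ AddCircle (1 : ℚ) :=
      AddMonoidHom.mk' (fun x => (((ψ x : ℚ) / n : ℚ) : AddCircle (1 : ℚ))) fun x y => by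
        rw [map_add, Int.cast_add, add_div, AddCircle.coe_add]
    have : g1.toIntLinearMap = g2.toIntLinearMap := b.ext fun i => by
      show χ (Submodule.Quotient.mk (b i)) = (((ψ (b i) : ℚ) / n : ℚ) : AddCircle (1 : ℚ))
      rw [hk i]
      simp [ψ]
    exact LinearMap.congr_fun this x
  have hdvd : ∀ x, χ (Submodule.Quotient.mk x) = 0 ↔ (n : ℤ) ∣ ψ x := by
    intro x
    rw [hψ, AddCircle.coe_eq_zero_iff]
    simp only [zsmul_eq_mul, mul_one]
    constructor
    · rintro ⟨c, hc⟩
      refine ⟨c, ?_⟩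
      field_simp at hc
      have : ((ψ x : ℤ) : ℚ) = ((n : ℤ) * c : ℤ) := by push_cast; linarith
      exact_mod_cast this
    · rintro ⟨c, hc⟩
      refine ⟨c, ?_⟩
      rw [hc]; push_cast; field_simp
  have hN : ∀ x, (n : ℤ) ∣ ψ (nrm ρ H x) := fun x => (hdvd _).1 (by
    rw [(Submodule.Quotient.mk_eq_zero S).2 (Submodule.mem_sup_left ⟨x, rfl⟩), map_zero])
  choose φ hφ' using hN
  let φl : Module.Dual ℤ M :=
    (AddMonoidHom.mk' φ fun x y => mul_left_cancel₀ hnz (by
      rw [mul_add, ← hφ', ← hφ', ← hφ', map_add, map_add])).toIntLinearMap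
  have hinv : ∀ (h : H) y, φl (ρ h y) = φl y := fun h y => mul_left_cancel₀ hnz (by
    show (n : ℤ) * φ _ = (n : ℤ) * φ _
    rw [← hφ', ← hφ', nrm_rho])
  have hval : φl a = ψ a := mul_left_cancel₀ hnz (by
    show (n : ℤ) * φ a = _
    rw [← hφ', nrm_fixed ρ H a ha, map_nsmul, nsmul_eq_mul])
  exact hχ ((hdvd a).2 (hval ▸ hφ φl hinv))

/-- An embedding with flasque cokernel. -/
theorem exists_flasque_embed [Module.Finite ℤ M] [Module.Free ℤ M] :
    ∃ (X : Type) (_ : MulAction G X) (_ : Fintype X) (i : M →ₗ[ℤ] (X → ℤ)) (r : (X → ℤ) →ₗ[ℤ] M),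
      IsEquivariant ρ (perm G X) i ∧ r ∘ₗ i = LinearMap.id ∧
      ∀ (H : Subgroup G) (a : M) (q : X → ℤ), (∀ h : H, ρ (h : G) a = a) →
        nrm (perm G X) H q = i a → ∃ y, nrm ρ H y = a := by
  classical
  obtain ⟨X, _, _, π, hπ, hsurj, hfix⟩ := exists_coflasque_cover ρ.dual
  let v : X → Module.Dual ℤ M := fun x => π (Pi.single x 1)
  have hπv : ∀ (f : X → ℤ) (a : M), π f a = ∑ x, f x * v x a := by
    intro f a
    conv_lhs => rw [← Finset.univ_sum_single f, map_sum, LinearMap.sum_apply]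
    refine Finset.sum_congr rfl fun x _ => ?_
    rw [show (Pi.single x (f x) : X → ℤ) = f x • Pi.single x 1 by
      rw [← Pi.single_smul', smul_eq_mul, mul_one], map_zsmul, LinearMap.smul_apply, smul_eq_mul]
  let i : M →ₗ[ℤ] (X → ℤ) := LinearMap.pi v
  have hv : ∀ (g : G) x a, v (g • x) a = v x (ρ g⁻¹ a) := by
    intro g x a
    show π _ a = _
    rw [← perm_single, hπ]
    rfl
  have hi : IsEquivariant ρ (perm G X) i := by
    intro g a
    funext x
    show v x (ρ g a) = v (g⁻¹ • x) a
    rw [hv, inv_inv]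
  let b := Module.Free.chooseBasis ℤ M
  choose f hf using fun j => hsurj (b.coord j)
  let r : (X → ℤ) →ₗ[ℤ] M :=
    ∑ j, (∑ x, f j x • LinearMap.proj x).smulRight (b j)
  have hr : r ∘ₗ i = LinearMap.id := LinearMap.ext fun a => by
    have hc : ∀ j, ∑ x, f j x * v x a = b.repr a j := fun j => by rw [← hπv, hf]; rfl
    conv_rhs => rw [LinearMap.id_apply, ← b.sum_repr a]
    simp [r, i, LinearMap.sum_apply, hc]
  refine ⟨X, ‹_›, ‹_›, i, r, hi, hr, fun H a q ha hq => exists_nrm_eq ρ H a ha fun φ hinv => ?_⟩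
  obtain ⟨c, hc, hcφ⟩ := hfix H φ (fun h => LinearMap.ext fun y => by
    show φ (ρ (h : G)⁻¹ y) = φ y
    exact hinv h⁻¹ y)
  refine ⟨∑ x, c x * q x, ?_⟩
  letI := Fintype.ofFinite H
  rw [← hcφ, hπv]
  have hq' : ∀ x, v x a = ∑ h : H, q ((h : G)⁻¹ • x) := fun x => by
    show i a x = _
    rw [← hq]
    simp [nrm, LinearMap.sum_apply, Finset.sum_apply]
  simp only [hq', Finset.mul_sum]
  rw [Finset.sum_comm, Finset.sum_congr rfl (g := fun _ => ∑ x, c x * q x) fun h _ => ?_]
  · simp [Finset.mul_sum, Nat.card_eq_fintype_card]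
  · refine Fintype.sum_equiv (MulAction.toPerm (h : G)⁻¹) _ _ fun x => ?_
    have := congrFun (hc h) x
    simp only [perm_apply] at this
    simp [this]

end Norm

end Groth.Agent.H02CA.GLatRes
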