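import Groth.Agent.H02CA.GLatRes

/-!
# Lattice sequences with permutation, flasque and coflasque terms
-/

namespace Groth.Agent.H02CA.GLatRes

open GLat

variable {G : Type} [Group G] {M N : Type} [AddCommGroup M] [AddCommGroup N]
  (ρ : Representation ℤ G M) (σ : Representation ℤ G N)

/-- Restriction to a stable submodule. -/
def subRep (S : Submodule ℤ M) (hS : ∀ g, ∀ x ∈ S, ρ g x ∈ S) : Representation ℤ G S where
  toFun g := (ρ g).restrict (hS g)
  map_one' := by ext x; simp
  map_mul' g h := by ext x; simp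

@[simp] theorem subRep_apply (S : Submodule ℤ M) (hS) (g : G) (x : S) :
    (subRep ρ S hS g x : M) = ρ g x := rfl

/-- The quotient representation. -/
def quotRep (S : Submodule ℤ M) (hS : ∀ g, ∀ x ∈ S, ρ g x ∈ S) : Representation ℤ G (M ⧸ S) where
  toFun g := Submodule.mapQ S S (ρ g) (hS g)
  map_one' := Submodule.linearMap_qext _ (LinearMap.ext fun x => by simp)
  map_mul' g h := Submodule.linearMap_qext _ (LinearMap.ext fun x => by simp)

@[simp] theorem quotRep_mk (S : Submodule ℤ M) (hS) (g : G) (x : M) :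
    quotRep ρ S hS g (Submodule.Quotient.mk x) = Submodule.Quotient.mk (ρ g x) := rfl

variable {ρ σ}

theorem range_stable {f : M →ₗ[ℤ] N} (hf : IsEquivariant ρ σ f) :
    ∀ g, ∀ x ∈ LinearMap.range f, σ g x ∈ LinearMap.range f := by
  rintro g _ ⟨y, rfl⟩
  exact ⟨ρ g y, hf g y⟩

theorem ker_stable {f : M →ₗ[ℤ] N} (hf : IsEquivariant ρ σ f) :
    ∀ g, ∀ x ∈ LinearMap.ker f, ρ g x ∈ LinearMap.ker f := by
  intro g x hx
  rw [LinearMap.mem_ker] at hx ⊢
  rw [hf, hx, map_zero]

theorem prod_equivariant_inl : IsEquivariant ρ (ρ.prod σ) (LinearMap.inl ℤ M N) := by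
  intro g m; simp

theorem prod_equivariant_inr : IsEquivariant σ (ρ.prod σ) (LinearMap.inr ℤ M N) := by
  intro g m; simp

theorem free_of_injective [Module.Finite ℤ M] [Module.Free ℤ N] (f : M →ₗ[ℤ] N)
    (hf : Function.Injective f) : Module.Free ℤ M := by
  haveI : Module.IsTorsionFree ℤ M := hf.moduleIsTorsionFree f fun _ _ => map_zsmul f _ _
  exact Module.free_of_finite_type_torsion_free'

/-- The kernel of a fixed-point surjective map from a coflasque module is coflasque. -/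
theorem ker_isCoflasque {f : M →ₗ[ℤ] N} (hf : IsEquivariant ρ σ f) (hM : IsCoflasque ρ)
    (hfix : ∀ (H : Subgroup G) (a : N), (∀ h : H, σ (h : G) a = a) →
      ∃ m : M, (∀ h : H, ρ (h : G) m = m) ∧ f m = a) :
    IsCoflasque (subRep ρ (LinearMap.ker f) (ker_stable hf)) := by
  intro H c hc
  obtain ⟨m, hm⟩ := hM H (fun a => (c a : M)) fun a b => congrArg Subtype.val (hc a b)
  obtain ⟨m₀, hm₀, hfm⟩ := hfix H (f m) fun h => by
    have h0 : f (c h : M) = 0 := (c h).2
    rw [hm h, map_sub, hf, sub_eq_zero] at h0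
    exact h0
  refine ⟨⟨m - m₀, by rw [LinearMap.mem_ker, map_sub, hfm, sub_self]⟩, fun a => Subtype.ext ?_⟩
  show (c a : M) = ρ (a : G) (m - m₀) - (m - m₀)
  rw [hm a, map_sub, hm₀ a]; abel

theorem prod_isFlasque [Finite G] (hM : IsFlasque ρ) (hN : IsFlasque σ) : IsFlasque (ρ.prod σ) := by
  intro H x hx
  rw [← nrm_apply] at hx
  have hfst : IsEquivariant (ρ.prod σ) ρ (LinearMap.fst ℤ M N) := fun g m => by simp
  have hsnd : IsEquivariant (ρ.prod σ) σ (LinearMap.snd ℤ M N) := fun g m => by simp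
  have h1 := hM H x.1 (by
    rw [← nrm_apply]
    have := nrm_map (ρ.prod σ) ρ _ hfst H x
    rw [hx, map_zero] at this
    exact this.symm)
  have h2 := hN H x.2 (by
    rw [← nrm_apply]
    have := nrm_map (ρ.prod σ) σ _ hsnd H x
    rw [hx, map_zero] at this
    exact this.symm)
  have := add_mem (aug_map ρ (ρ.prod σ) _ prod_equivariant_inl H h1)
    (aug_map σ (ρ.prod σ) _ prod_equivariant_inr H h2)
  simpa using this

/-- A quotient of a flasque module by an Ĥ⁰-injective submodule is flasque. -/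
theorem quot_isFlasque [Finite G] {i : M →ₗ[ℤ] N} (hi : IsEquivariant ρ σ i)
    (hinj : Function.Injective i) (hN : IsFlasque σ)
    (hH : ∀ (H : Subgroup G) (a : M) (q : N), (∀ h : H, ρ (h : G) a = a) →
      nrm σ H q = i a → ∃ y, nrm ρ H y = a) :
    IsFlasque (quotRep σ (LinearMap.range i) (range_stable hi)) := by
  intro H x hx
  obtain ⟨p, rfl⟩ := Submodule.Quotient.mk_surjective _ x
  have hmk : IsEquivariant σ (quotRep σ _ (range_stable hi)) (LinearMap.range i).mkQ := fun g m => rfl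
  rw [← nrm_apply, ← Submodule.mkQ_apply, ← nrm_map σ _ _ hmk, Submodule.mkQ_apply,
    Submodule.Quotient.mk_eq_zero] at hx
  obtain ⟨a, ha⟩ := hx
  obtain ⟨y, hy⟩ := hH H a p (fun h => hinj (by rw [hi, ha, rho_nrm])) ha.symm
  have h1 := hN H (p - i y) (by rw [← nrm_apply, map_sub, ← nrm_map ρ σ i hi, hy, ha, sub_self])
  have h2 := aug_map σ _ _ hmk H h1
  rwa [map_sub, Submodule.mkQ_apply, Submodule.mkQ_apply,
    (Submodule.Quotient.mk_eq_zero _).2 (LinearMap.mem_range_self i y), sub_zero] at h2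

section Sequences

variable [Finite G] {A : Type} [AddCommGroup A] [Module.Finite ℤ A] (ρA : Representation ℤ G A)

theorem coflasque_cover :
    ∃ (Q : Type) (_ : AddCommGroup Q) (P : Type) (_ : AddCommGroup P)
      (_ : Module.Finite ℤ Q) (_ : Module.Free ℤ Q) (_ : Module.Finite ℤ P) (_ : Module.Free ℤ P)
      (σ : Representation ℤ G Q) (τ : Representation ℤ G P) (i : Q →ₗ[ℤ] P) (π : P →ₗ[ℤ] A),
      IsEquivariant σ τ i ∧ IsEquivariant τ ρA π ∧ Function.Injective i ∧ Function.Surjective π ∧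
      LinearMap.range i = LinearMap.ker π ∧ IsPermutation τ ∧ IsCoflasque σ := by
  obtain ⟨X, iA, iF, π, hπ, hsurj, hfix⟩ := exists_coflasque_cover ρA
  have hfree : Module.Free ℤ ↥(LinearMap.ker π) :=
    free_of_injective (LinearMap.ker π).subtype Subtype.val_injective
  exact ⟨LinearMap.ker π, inferInstance, X → ℤ, inferInstance, inferInstance, hfree, inferInstance,
    inferInstance, subRep _ _ (ker_stable hπ), perm G X, (LinearMap.ker π).subtype, π, fun g x => rfl,
    hπ, Subtype.val_injective, hsurj, Submodule.range_subtype _, isPermutation_perm,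
    ker_isCoflasque hπ perm_isCoflasque hfix⟩

theorem flasque_resolution [Module.Free ℤ A] :
    ∃ (P : Type) (_ : AddCommGroup P) (F : Type) (_ : AddCommGroup F)
      (_ : Module.Finite ℤ P) (_ : Module.Free ℤ P) (_ : Module.Finite ℤ F) (_ : Module.Free ℤ F)
      (σ : Representation ℤ G P) (τ : Representation ℤ G F) (i : A →ₗ[ℤ] P) (π : P →ₗ[ℤ] F),
      IsEquivariant ρA σ i ∧ IsEquivariant σ τ π ∧ Function.Injective i ∧ Function.Surjective π ∧
      LinearMap.range i = LinearMap.ker π ∧ IsPermutation σ ∧ IsFlasque τ := by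
  obtain ⟨X, iA, iF, i, r, hi, hr, hH⟩ := exists_flasque_embed ρA
  have hinj : Function.Injective i := fun a b h => by
    have := congrArg r h
    rwa [← LinearMap.comp_apply, ← LinearMap.comp_apply, hr] at this
  have hfree : Module.Free ℤ ((X → ℤ) ⧸ LinearMap.range i) := by
    refine free_of_injective ((LinearMap.range i).liftQ (LinearMap.id - i ∘ₗ r) ?_) ?_
    · rintro _ ⟨a, rfl⟩
      rw [LinearMap.mem_ker]
      simp [show r (i a) = a from LinearMap.congr_fun hr a]
    · rw [← LinearMap.ker_eq_bot, LinearMap.ker_eq_bot']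
      intro x hx
      obtain ⟨p, rfl⟩ := Submodule.Quotient.mk_surjective _ x
      rw [Submodule.liftQ_apply] at hx
      refine (Submodule.Quotient.mk_eq_zero _).2 ⟨r p, ?_⟩
      simp only [LinearMap.sub_apply, LinearMap.id_apply, LinearMap.comp_apply] at hx
      exact (sub_eq_zero.1 hx).symm
  exact ⟨X → ℤ, inferInstance, (X → ℤ) ⧸ LinearMap.range i, inferInstance, inferInstance,
    inferInstance, inferInstance, hfree, perm G X, quotRep _ _ (range_stable hi), i,
    (LinearMap.range i).mkQ, hi, fun g x => rfl, hinj, Submodule.mkQ_surjective _,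
    (Submodule.ker_mkQ _).symm, isPermutation_perm, quot_isFlasque hi hinj perm_isFlasque hH⟩

theorem coflasque_resolution [Module.Free ℤ A] :
    ∃ (Q : Type) (_ : AddCommGroup Q) (P : Type) (_ : AddCommGroup P)
      (_ : Module.Finite ℤ Q) (_ : Module.Free ℤ Q) (_ : Module.Finite ℤ P) (_ : Module.Free ℤ P)
      (σ : Representation ℤ G Q) (τ : Representation ℤ G P) (i : A →ₗ[ℤ] Q) (π : Q →ₗ[ℤ] P),
      IsEquivariant ρA σ i ∧ IsEquivariant σ τ π ∧ Function.Injective i ∧ Function.Surjective π ∧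
      LinearMap.range i = LinearMap.ker π ∧ IsCoflasque σ ∧ IsPermutation τ := by
  obtain ⟨X, iA, iF, i₁, r, hi, hr, -⟩ := exists_flasque_embed ρA
  have hinj : Function.Injective i₁ := fun a b h => by
    have := congrArg r h
    rwa [← LinearMap.comp_apply, ← LinearMap.comp_apply, hr] at this
  let S := LinearMap.range i₁
  let τ₁ := quotRep (perm G X) S (range_stable hi)
  obtain ⟨Y, jA, jF, π₂, hπ₂, hs₂, hfix⟩ := exists_coflasque_cover τ₁
  let D : ((X → ℤ) × (Y → ℤ)) →ₗ[ℤ] (X → ℤ) ⧸ S :=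
    S.mkQ ∘ₗ LinearMap.fst ℤ _ _ - π₂ ∘ₗ LinearMap.snd ℤ _ _
  let ρP := (perm G X).prod (perm G Y)
  have hD : IsEquivariant ρP τ₁ D := by
    intro g x
    show S.mkQ (perm G X g x.1) - π₂ (perm G Y g x.2) = τ₁ g (S.mkQ x.1 - π₂ x.2)
    rw [map_sub, hπ₂]; rfl
  let i : A →ₗ[ℤ] LinearMap.ker D := ((LinearMap.inl ℤ (X → ℤ) (Y → ℤ)) ∘ₗ i₁).codRestrict _
    fun a => by simp [D, S]
  let π : LinearMap.ker D →ₗ[ℤ] (Y → ℤ) := LinearMap.snd ℤ _ _ ∘ₗ (LinearMap.ker D).subtype
  have hfree : Module.Free ℤ ↥(LinearMap.ker D) :=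
    free_of_injective (LinearMap.ker D).subtype Subtype.val_injective
  refine ⟨LinearMap.ker D, inferInstance, Y → ℤ, inferInstance, inferInstance, hfree, inferInstance,
    inferInstance, subRep ρP _ (ker_stable hD), perm G Y, i, π, ?_, fun g x => rfl, ?_, ?_, ?_, ?_,
    isPermutation_perm⟩
  · intro g a
    apply Subtype.ext
    show (i₁ (ρA g a), (0 : Y → ℤ)) = (perm G X g (i₁ a), perm G Y g 0)
    rw [hi, map_zero]
  · intro a b h
    exact hinj (congrArg (fun z : LinearMap.ker D => z.1.1) h)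
  · intro y
    obtain ⟨x, hx⟩ := Submodule.mkQ_surjective S (π₂ y)
    exact ⟨⟨(x, y), by rw [LinearMap.mem_ker]; simp only [D, LinearMap.sub_apply, LinearMap.comp_apply,
      LinearMap.fst_apply, LinearMap.snd_apply, hx, sub_self]⟩, rfl⟩
  · ext ⟨⟨x, y⟩, hxy⟩
    constructor
    · rintro ⟨a, ha⟩
      rw [LinearMap.mem_ker]
      exact (congrArg (fun z : LinearMap.ker D => z.1.2) ha).symm
    · intro hy
      have hy0 : y = 0 := hy
      subst hy0
      rw [LinearMap.mem_ker] at hxy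
      simp only [D, LinearMap.sub_apply, LinearMap.comp_apply, LinearMap.fst_apply,
        LinearMap.snd_apply, map_zero, sub_zero, Submodule.mkQ_apply, Submodule.Quotient.mk_eq_zero] at hxy
      obtain ⟨a, ha⟩ := hxy
      exact ⟨a, Subtype.ext (Prod.ext ha rfl)⟩
  · refine ker_isCoflasque hD ?_ fun H a ha => ?_
    · intro H c hc
      obtain ⟨m₁, hm₁⟩ := perm_isCoflasque (G := G) (X := X) H (fun a => (c a).1)
        fun a b => congrArg Prod.fst (hc a b)
      obtain ⟨m₂, hm₂⟩ := perm_isCoflasque (G := G) (X := Y) H (fun a => (c a).2)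
        fun a b => congrArg Prod.snd (hc a b)
      exact ⟨(m₁, m₂), fun a => Prod.ext (hm₁ a) (hm₂ a)⟩
    · obtain ⟨f, hf, hfa⟩ := hfix H a ha
      refine ⟨(0, -f), fun h => ?_, ?_⟩
      · show (perm G X (h : G) 0, perm G Y (h : G) (-f)) = _
        rw [map_zero, map_neg, hf h]
      · simp [D, hfa]

theorem flasque_cover :
    ∃ (P : Type) (_ : AddCommGroup P) (F : Type) (_ : AddCommGroup F)
      (_ : Module.Finite ℤ P) (_ : Module.Free ℤ P) (_ : Module.Finite ℤ F) (_ : Module.Free ℤ F)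
      (σ : Representation ℤ G P) (τ : Representation ℤ G F) (i : P →ₗ[ℤ] F) (π : F →ₗ[ℤ] A),
      IsEquivariant σ τ i ∧ IsEquivariant τ ρA π ∧ Function.Injective i ∧ Function.Surjective π ∧
      LinearMap.range i = LinearMap.ker π ∧ IsPermutation σ ∧ IsFlasque τ := by
  obtain ⟨X₀, iA₀, iF₀, π₀, hπ₀, hs₀, -⟩ := exists_coflasque_cover ρA
  let K := LinearMap.ker π₀
  let ρK := subRep (perm G X₀) K (ker_stable hπ₀)
  haveI : Module.Free ℤ K := free_of_injective K.subtype Subtype.val_injective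
  obtain ⟨X, iA, iF, i₁, r, hi, hr, hH⟩ := exists_flasque_embed ρK
  have hr' : ∀ q, r (i₁ q) = q := fun q => LinearMap.congr_fun hr q
  let j : K →ₗ[ℤ] (X → ℤ) × (X₀ → ℤ) := LinearMap.prod i₁ (-K.subtype)
  let ρP := (perm G X).prod (perm G X₀)
  have hj : IsEquivariant ρK ρP j := by
    intro g q
    show (i₁ (ρK g q), -(ρK g q : X₀ → ℤ)) = (perm G X g (i₁ q), perm G X₀ g (-(q : X₀ → ℤ)))
    rw [hi, map_neg]; rfl
  have hjinj : Function.Injective j := fun a b h => by
    have := congrArg (fun z => r z.1) h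
    simpa [j, hr'] using this
  let F := ((X → ℤ) × (X₀ → ℤ)) ⧸ LinearMap.range j
  have hker : LinearMap.range j ≤ LinearMap.ker (π₀ ∘ₗ LinearMap.snd ℤ (X → ℤ) (X₀ → ℤ)) := by
    rintro _ ⟨q, rfl⟩
    have h0 : π₀ (q : X₀ → ℤ) = 0 := q.2
    rw [LinearMap.mem_ker]
    simp [j, h0]
  let π : F →ₗ[ℤ] A := (LinearMap.range j).liftQ _ hker
  let i : (X → ℤ) →ₗ[ℤ] F := (LinearMap.range j).mkQ ∘ₗ LinearMap.inl ℤ _ _
  have hfree : Module.Free ℤ F := by
    let u : ((X → ℤ) × (X₀ → ℤ)) →ₗ[ℤ] (X → ℤ) × (X₀ → ℤ) :=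
      LinearMap.id + LinearMap.prod (-(i₁ ∘ₗ r)) (K.subtype ∘ₗ r) ∘ₗ LinearMap.fst ℤ _ _
    refine free_of_injective ((LinearMap.range j).liftQ u ?_) ?_
    · rintro _ ⟨q, rfl⟩
      rw [LinearMap.mem_ker]
      simp [u, j, hr']
    · rw [← LinearMap.ker_eq_bot, LinearMap.ker_eq_bot']
      intro x hx
      obtain ⟨⟨p, s⟩, rfl⟩ := Submodule.Quotient.mk_surjective _ x
      rw [Submodule.liftQ_apply] at hx
      simp only [u, LinearMap.add_apply, LinearMap.id_apply, LinearMap.comp_apply, LinearMap.fst_apply,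
        LinearMap.prod_apply, Function.prod_apply, LinearMap.neg_apply, Submodule.subtype_apply, Prod.mk_add_mk,
        Prod.mk_eq_zero] at hx
      refine (Submodule.Quotient.mk_eq_zero _).2 ⟨r p, Prod.ext ?_ ?_⟩
      · exact (eq_of_sub_eq_zero (by rw [sub_eq_add_neg]; exact hx.1)).symm
      · exact (eq_neg_of_add_eq_zero_left hx.2).symm
  refine ⟨X → ℤ, inferInstance, F, inferInstance, inferInstance, inferInstance, inferInstance, hfree,
    perm G X, quotRep ρP _ (range_stable hj), i, π, ?_, ?_, ?_, ?_, ?_, isPermutation_perm, ?_⟩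
  · intro g p
    show Submodule.Quotient.mk (perm G X g p, (0 : X₀ → ℤ)) =
      Submodule.Quotient.mk (perm G X g p, perm G X₀ g 0)
    rw [map_zero]
  · intro g x
    obtain ⟨z, rfl⟩ := Submodule.Quotient.mk_surjective _ x
    show π₀ (perm G X₀ g z.2) = ρA g (π₀ z.2)
    exact hπ₀ g z.2
  · intro p p' h
    obtain ⟨q, hq⟩ := (Submodule.Quotient.eq _).1 h
    have h2 : -(q : X₀ → ℤ) = 0 - 0 := congrArg Prod.snd hq
    have hq0 : q = 0 := by
      refine Subtype.ext ?_
      rw [sub_self, neg_eq_zero] at h2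
      exact h2
    have h1 : i₁ q = p - p' := congrArg Prod.fst hq
    rw [hq0, map_zero] at h1
    exact sub_eq_zero.1 h1.symm
  · intro a
    obtain ⟨s, rfl⟩ := hs₀ a
    exact ⟨Submodule.Quotient.mk (0, s), rfl⟩
  · ext x
    obtain ⟨⟨p, s⟩, rfl⟩ := Submodule.Quotient.mk_surjective _ x
    constructor
    · rintro ⟨p', hp'⟩
      rw [← hp', LinearMap.mem_ker]
      show π₀ (0 : X₀ → ℤ) = 0
      exact map_zero _
    · intro hs
      have hs' : s ∈ K := hs
      refine ⟨p + i₁ ⟨s, hs'⟩, (Submodule.Quotient.eq _).2 ⟨⟨s, hs'⟩, Prod.ext ?_ ?_⟩⟩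
      · simp [j]
      · simp [j]
  · refine quot_isFlasque hj hjinj (prod_isFlasque perm_isFlasque perm_isFlasque) fun H a q ha hq => ?_
    refine hH H a q.1 ha ?_
    have hfst : IsEquivariant ρP (perm G X) (LinearMap.fst ℤ _ _) := fun g m => by simp [ρP]
    have := nrm_map ρP (perm G X) _ hfst H q
    rw [hq] at this
    exact this.symm

end Sequences

end Groth.Agent.H02CA.GLatRes
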