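import Groth.Agent.LeadDev.Filt
import Groth.Agent.H16Derived.KFlat.LocFreeOps
import Groth.Agent.H27KZero.SerreSeq
import Groth.Prelude.Def_SGA6

/-!
# Tensoring with a vector bundle of rank `r` minus `r` is nilpotent on `K₀(Coh)`
-/

set_option autoImplicit false
set_option linter.style.haveILetI false
set_option linter.unusedSectionVars false

universe u

open CategoryTheory CategoryTheory.Limits AlgebraicGeometry TopologicalSpace

attribute [local instance] HasDerivedCategory.standard

namespace Groth.Agent.H02CA.KcohNilp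

open H16Derived.KFlat.Stalk H27KZero.SerreSeq

variable {X : Scheme.{u}}

local notation "cl" => KZero.clSub (fun M : Scheme.Modules _ => Coh.IsCoh M)

/-- The sum of `n` copies of `M`. -/
noncomputable abbrev copies (M : X.Modules) (n : ℕ) : X.Modules := ∐ fun _ : Fin n => M

/-- The braiding of the tensor product. -/
noncomputable def symm' (M N : X.Modules) :
    ((DCoh.tensorBi (X := X)).obj M).obj N ≅ ((DCoh.tensorBi (X := X)).obj N).obj M :=
  (CohB1.sheafifyMod X).mapIso
    (show (CohB1.tensorPre M N : X.PresheafOfModules) ≅ (CohB1.tensorPre N M : X.PresheafOfModules) from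
      (β_ (CohB1.toPMod M) (CohB1.toPMod N)))

/-- The left unit of the tensor product. -/
noncomputable def unitL (M : X.Modules) : ((DCoh.tensorBi (X := X)).obj (Coh.structureModule X)).obj M ≅ M :=
  symm' _ M ≪≫ (tensorRightModIso (Coh.structureModule X)).symm.app M ≪≫ tensorUnitModIso.app M

/-- `freeMod n ⊗ M` is the sum of `n` copies of `M`. -/
theorem nonempty_freeMod_tensor (M : X.Modules) (n : ℕ) :
    Nonempty (((DCoh.tensorBi (X := X)).obj (FlatMod.freeMod X n)).obj M ≅ copies M n) := by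
  haveI := preservesColimitsOfSize_shrink.{0, u, 0, u} ((DCoh.tensorBi (X := X)).flip.obj M)
  exact ⟨(PreservesCoproduct.iso ((DCoh.tensorBi (X := X)).flip.obj M) fun _ : Fin n => Coh.structureModule X) ≪≫
    Sigma.mapIso fun _ : Fin n => unitL M⟩

/-- If `V` is free of rank `r` on `U`, then so `V ⊗ M` is the sum of `r` copies of `M` there. -/
theorem nonempty_restrict_iso {V : X.Modules} {r : ℕ} (U : X.Opens)
    (h : Nonempty (V.restrict U.ι ≅ FlatMod.freeMod (↑U) r)) (M : X.Modules) :
    Nonempty ((((DCoh.tensorBi (X := X)).obj V).obj M).restrict U.ι ≅ (copies M r).restrict U.ι) := by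
  obtain ⟨e⟩ := h
  obtain ⟨f⟩ := nonempty_freeMod_tensor ((Scheme.Modules.pullback U.ι).obj M) r
  exact ⟨(Scheme.Modules.restrictFunctorIsoPullback U.ι).app _ ≪≫
    (pullTensorLIso U.ι M).app V ≪≫
    ((DCoh.tensorBi (X := (↑U : Scheme.{u}))).mapIso
      ((Scheme.Modules.restrictFunctorIsoPullback U.ι).symm.app V ≪≫ e)).app _ ≪≫ f ≪≫
    (PreservesCoproduct.iso (Scheme.Modules.pullback U.ι) (fun _ : Fin r => M)).symm ≪≫
    (Scheme.Modules.restrictFunctorIsoPullback U.ι).symm.app _⟩

theorem nonempty_copies_succ (M : X.Modules) (n : ℕ) : Nonempty (copies M (n + 1) ≅ M ⊞ copies M n) := by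
  let hom : copies M (n + 1) ⟶ M ⊞ copies M n :=
    Sigma.desc (Fin.cases biprod.inl fun i => Sigma.ι (fun _ : Fin n => M) i ≫ biprod.inr)
  let inv : M ⊞ copies M n ⟶ copies M (n + 1) :=
    biprod.desc (Sigma.ι (fun _ : Fin (n + 1) => M) 0) (Sigma.desc fun i => Sigma.ι (fun _ : Fin (n + 1) => M) i.succ)
  have h0 : Sigma.ι (fun _ : Fin (n + 1) => M) 0 ≫ hom = biprod.inl := by
    rw [show hom = _ from rfl, Sigma.ι_desc]; rfl
  have hs : ∀ i : Fin n, Sigma.ι (fun _ : Fin (n + 1) => M) i.succ ≫ hom = Sigma.ι (fun _ : Fin n => M) i ≫ biprod.inr :=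
    fun i => by rw [show hom = _ from rfl, Sigma.ι_desc]; rfl
  refine ⟨⟨hom, inv, ?_, ?_⟩⟩
  · refine Sigma.hom_ext _ _ fun i => ?_
    rw [Category.comp_id]
    refine Fin.cases ?_ (fun i => ?_) i
    · rw [reassoc_of% h0]; simp [inv]
    · rw [reassoc_of% (hs i)]; simp [inv]
  · refine biprod.hom_ext' _ _ ?_ (Sigma.hom_ext _ _ fun i => ?_)
    · simp [inv, h0]
    · simp [inv, hs]

theorem isZero_copies_zero (M : X.Modules) : IsZero (copies M 0) :=
  (IsZero.iff_id_eq_zero _).2 (Sigma.hom_ext _ _ fun i => i.elim0)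

variable [IsNoetherian X]

theorem cl_zero' {Z : X.Modules} (hZ : IsZero Z) : cl Z = 0 := by
  have hc := LeadDev.isCoh_of_isZero hZ
  simpa using clSub_shortExact (P := fun M : X.Modules => Coh.IsCoh M) (shortExact_of_iso (Iso.refl Z) hZ) hc hc hc

theorem cl_iso' {M N : X.Modules} (e : M ≅ N) (hM : Coh.IsCoh M) : cl M = cl N := by
  simpa [cl_zero' (isZero_zero X.Modules)] using clSub_shortExact (P := fun M : X.Modules => Coh.IsCoh M)
    (shortExact_of_iso e (isZero_zero X.Modules)) (LeadDev.isCoh_of_isZero (isZero_zero _)) hM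
    (H10Coh.isCoh_of_iso e hM)

theorem copies_spec {M : X.Modules} (hM : Coh.IsCoh M) :
    ∀ n : ℕ, Coh.IsCoh (copies M n) ∧ cl (copies M n) = n • cl M ∧
      CohB1.support (copies M n) ⊆ CohB1.support M
  | 0 => ⟨LeadDev.isCoh_of_isZero (isZero_copies_zero M), by rw [cl_zero' (isZero_copies_zero M), zero_smul],
      by rw [LeadDev.support_eq_empty_of_isZero (isZero_copies_zero M)]; exact Set.empty_subset _⟩
  | n + 1 => by
    obtain ⟨hc, hcl, hs⟩ := copies_spec hM n
    obtain ⟨e⟩ := nonempty_copies_succ M n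
    have hS := shortExact_biprod_inl M (copies M n)
    have hb := LeadDev.isCoh_biprod hM hc
    refine ⟨H10Coh.isCoh_of_iso e.symm hb, ?_, ?_⟩
    · rw [← cl_iso' e.symm hb, clSub_shortExact (P := fun M : X.Modules => Coh.IsCoh M) hS hM hb hc,
        succ_nsmul', ← hcl]
    · exact (LeadDev.support_subset_of_iso e).trans ((LeadDev.support_subset_of_shortExact hS).trans
        (Set.union_subset subset_rfl hs))

theorem isZero_of_stalks (M : X.Modules) (h : ∀ y, Subsingleton (M.presheaf.stalk y)) : IsZero M := by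
  refine (IsZero.iff_id_eq_zero _).2 (Scheme.Modules.hom_ext _ _ fun U => ?_)
  ext m
  exact TopCat.Presheaf.section_ext ⟨M.presheaf, M.isSheaf⟩ U _ _ fun x hx => (h x).elim _ _

/-- The subgroup generated by classes of coherent modules supported in `S`. -/
noncomputable def supported (S : Set X) : AddSubgroup (SGA6.Kcoh X) :=
  AddSubgroup.closure {y | ∃ G : X.Modules, Coh.IsCoh G ∧ CohB1.support G ⊆ S ∧ y = cl G}

theorem cl_mem_supported {S : Set X} {G : X.Modules} (hG : Coh.IsCoh G) (h : CohB1.support G ⊆ S) :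
    cl G ∈ supported S :=
  AddSubgroup.subset_closure ⟨G, hG, h, rfl⟩

/-- A map which is an isomorphism on `U`: comparison of classes and supports. -/
theorem hom_spec (U : X.Opens) {A B : X.Modules} (hA : Coh.IsCoh A) (hB : Coh.IsCoh B) (a : A ⟶ B)
    (ha : IsIso ((Scheme.Modules.restrictFunctor U.ι).map a)) :
    (cl A - cl B ∈ supported ((CohB1.support A ∪ CohB1.support B) \ U)) ∧
      CohB1.support A ∩ U ⊆ CohB1.support B ∧ CohB1.support B ∩ U ⊆ CohB1.support A := by
  let F := Scheme.Modules.restrictFunctor U.ι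
  have hU : ∀ {x : X}, x ∈ U → x ∈ Set.range U.ι := fun {x} hx => ⟨⟨x, hx⟩, rfl⟩
  have hker : Coh.IsCoh (kernel a) := H10Coh.isCoh_kernel a hA hB.1
  have hcok : Coh.IsCoh (cokernel a) := H10Coh.isCoh_cokernel a hA.1 hB
  have him : Coh.IsCoh (Abelian.image a) := H10Coh.isCoh_kernel (cokernel.π a) hB hcok.1
  have zk : IsZero ((kernel a).restrict U.ι) :=
    (isZero_kernel_of_mono (F.map a)).of_iso (PreservesKernel.iso F a)
  have zc : IsZero ((cokernel a).restrict U.ι) :=
    (isZero_cokernel_of_epi (F.map a)).of_iso (PreservesCokernel.iso F a)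
  have hnk : ∀ x ∈ CohB1.support (kernel a), x ∉ U := fun x hx hxU =>
    LeadDev.notMem_support_of_isZero_restrict U.ι zk (hU hxU) hx
  have hnc : ∀ x ∈ CohB1.support (cokernel a), x ∉ U := fun x hx hxU =>
    LeadDev.notMem_support_of_isZero_restrict U.ι zc (hU hxU) hx
  have h1 := shortExact_of_kernel_cokernel a
  have h2 := shortExact_image A a
  have e1 := clSub_shortExact (P := fun M : X.Modules => Coh.IsCoh M) h1 hker hA him
  have e2 := clSub_shortExact (P := fun M : X.Modules => Coh.IsCoh M) h2 him hB hcok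
  refine ⟨?_, ?_, ?_⟩
  · have e : cl A - cl B = cl (kernel a) - cl (cokernel a) := by
      rw [e1, e2]; abel
    rw [e]
    refine AddSubgroup.sub_mem _ (cl_mem_supported hker fun x hx => ⟨Or.inl ?_, hnk x hx⟩)
      (cl_mem_supported hcok fun x hx => ⟨Or.inr ?_, hnc x hx⟩)
    · exact LeadDev.support_subset_of_mono (kernel.ι a) hx
    · exact LeadDev.support_subset_of_epi (cokernel.π a) hx
  · rintro x ⟨hx, hxU⟩
    exact LeadDev.support_subset_of_mono (Abelian.image.ι a)
      ((LeadDev.support_subset_of_shortExact h1 hx).resolve_left fun h => hnk x h hxU)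
  · rintro x ⟨hx, hxU⟩
    exact LeadDev.support_subset_of_epi (Abelian.factorThruImage a)
      ((LeadDev.support_subset_of_shortExact h2 hx).resolve_right fun h => hnc x h hxU)

variable {r : ℕ} {V : X.Modules}

theorem tensor_spec (U : X.Opens) (hU : Nonempty (V.restrict U.ι ≅ FlatMod.freeMod (↑U) r))
    (hVc : ∀ M : X.Modules, Coh.IsCoh M → Coh.IsCoh (((DCoh.tensorBi (X := X)).obj V).obj M))
    {M : X.Modules} (hM : Coh.IsCoh M) :
    (cl (((DCoh.tensorBi (X := X)).obj V).obj M) - r • cl M ∈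
      supported ((CohB1.support (((DCoh.tensorBi (X := X)).obj V).obj M) ∪ CohB1.support M) \ U)) ∧
      CohB1.support (((DCoh.tensorBi (X := X)).obj V).obj M) ∩ U ⊆ CohB1.support M := by
  obtain ⟨hBc, hBcl, hBs⟩ := copies_spec hM r
  obtain ⟨f⟩ := nonempty_restrict_iso U hU M
  set A := ((DCoh.tensorBi (X := X)).obj V).obj M with hAdef
  have hA : Coh.IsCoh A := hVc M hM
  obtain ⟨H, a, b, hH, hmono, ha, hb⟩ := LeadDev.exists_compare U.ι hA hBc f.hom
  haveI := ha
  have hb' : IsIso ((Scheme.Modules.restrictFunctor U.ι).map b) :=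
    hb.symm ▸ (inferInstance : IsIso ((Scheme.Modules.restrictFunctor U.ι).map a ≫ f.hom))
  obtain ⟨da, saH, saA⟩ := hom_spec U hH hA a ha
  obtain ⟨db, sbH, -⟩ := hom_spec U hH hBc b hb'
  haveI := hmono
  have hsH : CohB1.support H ⊆ CohB1.support A ∪ CohB1.support M := by
    refine (LeadDev.support_subset_of_mono (biprod.lift a b)).trans ?_
    exact (LeadDev.support_subset_of_shortExact (shortExact_biprod_inl A (copies M r))).trans
      (Set.union_subset_union_right _ hBs)
  refine ⟨?_, fun x hx => hBs (sbH ⟨saA hx, hx.2⟩)⟩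
  rw [← hBcl, show cl A - cl (copies M r) = (cl H - cl (copies M r)) - (cl H - cl A) by abel]
  refine AddSubgroup.sub_mem _ (?_ : _ ∈ supported _) (?_ : _ ∈ supported _)
  · refine AddSubgroup.closure_mono ?_ db
    rintro y ⟨G, hG, hs, rfl⟩
    exact ⟨G, hG, hs.trans (Set.diff_subset_diff_left (Set.union_subset hsH (hBs.trans Set.subset_union_right))), rfl⟩
  · refine AddSubgroup.closure_mono ?_ da
    rintro y ⟨G, hG, hs, rfl⟩
    exact ⟨G, hG, hs.trans (Set.diff_subset_diff_left (Set.union_subset hsH Set.subset_union_left)), rfl⟩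

theorem main (hV : FlatMod.IsFinLocFreeOfRank r V)
    [((DCoh.tensorBi (X := X)).obj V).Additive] [PreservesFiniteLimits ((DCoh.tensorBi (X := X)).obj V)]
    [PreservesFiniteColimits ((DCoh.tensorBi (X := X)).obj V)]
    (hVc : ∀ M : X.Modules, Coh.IsCoh M → Coh.IsCoh (((DCoh.tensorBi (X := X)).obj V).obj M)) :
    ∃ n : ℕ, ∀ y : SGA6.Kcoh X,
      (⇑(SGA6.mapSub ((DCoh.tensorBi (X := X)).obj V) (fun M : X.Modules => Coh.IsCoh M) (fun M : X.Modules => Coh.IsCoh M) hVc -
        r • AddMonoidHom.id (SGA6.Kcoh X)))^[n] y = 0 := by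
  set T := SGA6.mapSub ((DCoh.tensorBi (X := X)).obj V) (fun M : X.Modules => Coh.IsCoh M) (fun M : X.Modules => Coh.IsCoh M) hVc -
        r • AddMonoidHom.id (SGA6.Kcoh X) with hT
  choose U hxU hU using hV
  obtain ⟨t, ht⟩ := (NoetherianSpace.isCompact (Set.univ : Set X)).elim_finite_subcover
    (fun x => (U x : Set X)) (fun x => (U x).2) fun x _ => Set.mem_iUnion.2 ⟨x, hxU x⟩
  have hsupp : ∀ M : X.Modules, Coh.IsCoh M →
      CohB1.support (((DCoh.tensorBi (X := X)).obj V).obj M) ⊆ CohB1.support M := fun M hM x hx =>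
    (tensor_spec (U x) (hU x) hVc hM).2 ⟨hx, hxU x⟩
  have hTcl : ∀ M : X.Modules, Coh.IsCoh M →
      T (cl M) = cl (((DCoh.tensorBi (X := X)).obj V).obj M) - r • cl M := fun M hM => by
    simp [T, SGA6.mapSub, KZero.clSub, dif_pos hM, dif_pos (hVc M hM), SGA6.objMap]
  have key : ∀ L : List X, ∀ y ∈ supported {x : X | ∃ i ∈ L, x ∈ U i}, (⇑T)^[L.length] y = 0 := by
    intro L
    induction L with
    | nil =>
      intro y hy
      refine (AddSubgroup.closure_le (K := (⊥ : AddSubgroup (SGA6.Kcoh X)))).2 ?_ hy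
      rintro z ⟨G, hG, hs, rfl⟩
      refine cl_zero' (isZero_of_stalks G fun x => ?_)
      exact not_not.1 fun hx => by simpa using hs hx
    | cons i L ih =>
      intro y hy
      rw [List.length_cons, Function.iterate_succ_apply]
      refine ih _ ?_
      refine (AddSubgroup.closure_le (K := (supported {x : X | ∃ i ∈ L, x ∈ U i}).comap T)).2 ?_ hy
      rintro z ⟨M, hM, hs, rfl⟩
      show T (cl M) ∈ supported _
      rw [hTcl M hM]
      refine AddSubgroup.closure_mono ?_ (tensor_spec (U i) (hU i) hVc hM).1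
      rintro w ⟨G, hG, hG', rfl⟩
      refine ⟨G, hG, fun x hx => ?_, rfl⟩
      obtain ⟨h1, h2⟩ := hG' hx
      obtain ⟨j, hj, hxj⟩ := hs (h1.elim (fun h => hsupp M hM h) id)
      rcases List.mem_cons.1 hj with rfl | hj
      · exact absurd hxj h2
      · exact ⟨j, hj, hxj⟩
  refine ⟨t.toList.length, fun y => key t.toList y ?_⟩
  induction y using QuotientAddGroup.induction_on with
  | _ y =>
  induction y using FreeAbelianGroup.induction_on with
  | zero => exact AddSubgroup.zero_mem _
  | of M =>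
    have : (QuotientAddGroup.mk (FreeAbelianGroup.of M) : SGA6.Kcoh X) = cl M.1 := by
      rw [KZero.clSub, dif_pos M.2]
    rw [this]
    refine cl_mem_supported M.2 fun x _ => ?_
    simpa using ht (Set.mem_univ x)
  | neg M hM => exact AddSubgroup.neg_mem _ hM
  | add a b ha hb => exact AddSubgroup.add_mem _ ha hb

end Groth.Agent.H02CA.KcohNilp
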