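import Groth.Agent.H19Grp.PuncturedLineLaw
import Groth.Agent.H19Grp.Kernel

/-!
# Quotients of the additive and the multiplicative group by finite subgroups
-/

set_option autoImplicit false
set_option linter.style.haveILetI false
set_option backward.isDefEq.respectTransparency false

universe u

open CategoryTheory CategoryTheory.Limits MonoidalCategory CartesianMonoidalCategory MonObj GrpObj AlgebraicGeometry

namespace Groth.Agent.H02CA.GaGm

open Groth.Agent.H19Grp.AffineLineLaw (T Tmap exists_T_iso mul_ext)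

variable {k : Type u} [Field k]

lemma exists_Tmap {R R' : Type u} [CommRing R] [Algebra k R] [CommRing R'] [Algebra k R'] (g : T k R' ⟶ T k R) :
    ∃ φ : R →ₐ[k] R', Tmap φ = g := by
  let ψ := (Spec.preimage g.left).hom
  have h : Spec.map (CommRingCat.ofHom (ψ.comp (algebraMap k R))) = Spec.map (CommRingCat.ofHom (algebraMap k R')) := by
    rw [CommRingCat.ofHom_comp, Spec.map_comp, CommRingCat.ofHom_hom, Spec.map_preimage]
    exact Over.w g
  exact ⟨{ ψ with commutes' := fun c => RingHom.congr_fun (congrArg CommRingCat.Hom.hom (Spec.map_injective h)) c },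
    Over.OverMorphism.ext (Spec.map_preimage g.left)⟩

lemma Tmap_injective {R R' : Type u} [CommRing R] [Algebra k R] [CommRing R'] [Algebra k R'] :
    Function.Injective (Tmap (k := k) (R := R) (R' := R')) := fun φ ψ h =>
  AlgHom.ext fun x => RingHom.congr_fun (congrArg CommRingCat.Hom.hom
    (Spec.map_injective (congrArg CommaMorphism.left h : _))) x

lemma Tmap_comp {R R' R'' : Type u} [CommRing R] [Algebra k R] [CommRing R'] [Algebra k R'] [CommRing R'']
    [Algebra k R''] (φ : R →ₐ[k] R') (ψ : R' →ₐ[k] R'') : Tmap (ψ.comp φ) = Tmap ψ ≫ Tmap φ :=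
  Over.OverMorphism.ext (Spec.map_comp (CommRingCat.ofHom φ.toRingHom) (CommRingCat.ofHom ψ.toRingHom))

lemma Tmap_id (R : Type u) [CommRing R] [Algebra k R] : Tmap (AlgHom.id k R) = 𝟙 (T k R) :=
  Over.OverMorphism.ext (Spec.map_id _)

/-- Maps to affine schemes factor through the spectrum of the global functions. -/
lemma exists_factor (X : Over (Spec (CommRingCat.of k))) :
    ∃ (R : Type u) (_ : CommRing R) (_ : Algebra k R) (c : X ⟶ T k R),
      ∀ (R' : Type u) [CommRing R'] [Algebra k R'],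
        Function.Bijective (fun g : T k R ⟶ T k R' => c ≫ g) := by
  let θ : CommRingCat.of k ⟶ Γ(X.left, ⊤) := (Scheme.ΓSpecIso _).inv ≫ X.hom.appTop
  letI : Algebra k Γ(X.left, ⊤) := θ.hom.toAlgebra
  have hc : X.left.toSpecΓ ≫ Spec.map θ = X.hom := by
    rw [show Spec.map θ = Spec.map X.hom.appTop ≫ Spec.map (Scheme.ΓSpecIso (CommRingCat.of k)).inv from Spec.map_comp _ _,
      ← Category.assoc, ← Scheme.toSpecΓ_naturality, Category.assoc, ← SpecMap_ΓSpecIso_hom, ← Spec.map_comp,
      Iso.inv_hom_id, Spec.map_id, Category.comp_id]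
  have inj : ∀ (S : CommRingCat.{u}) (a b : S ⟶ Γ(X.left, ⊤)),
      X.left.toSpecΓ ≫ Spec.map a = X.left.toSpecΓ ≫ Spec.map b → a = b := by
    intro S a b h
    have ha : ∀ a : S ⟶ Γ(X.left, ⊤), (Scheme.ΓSpecIso S).inv ≫ (X.left.toSpecΓ ≫ Spec.map a).appTop = a := by
      intro a
      rw [Scheme.Hom.comp_appTop, Scheme.toSpecΓ_appTop, ← Category.assoc, ← Scheme.ΓSpecIso_inv_naturality,
        Category.assoc, Iso.inv_hom_id, Category.comp_id]
    rw [← ha a, ← ha b, h]
  refine ⟨Γ(X.left, ⊤), inferInstance, inferInstance, Over.homMk X.left.toSpecΓ hc, fun R' _ _ => ⟨?_, ?_⟩⟩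
  · intro g g' h
    obtain ⟨φ, rfl⟩ := exists_Tmap g
    obtain ⟨φ', rfl⟩ := exists_Tmap g'
    have h2 := inj _ _ _ (congrArg CommaMorphism.left h)
    exact congrArg Tmap (AlgHom.ext fun x => RingHom.congr_fun (congrArg CommRingCat.Hom.hom h2) x)
  · intro x
    let a : CommRingCat.of R' ⟶ Γ(X.left, ⊤) := (Scheme.ΓSpecIso _).inv ≫ x.left.appTop
    have hx : X.left.toSpecΓ ≫ Spec.map a = x.left := by
      rw [show Spec.map a = Spec.map x.left.appTop ≫ Spec.map (Scheme.ΓSpecIso (CommRingCat.of R')).inv from Spec.map_comp _ _,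
        ← Category.assoc, ← Scheme.toSpecΓ_naturality, Category.assoc]
      change x.left ≫ (Spec (CommRingCat.of R')).toSpecΓ ≫ _ = _
      rw [← SpecMap_ΓSpecIso_hom, ← Spec.map_comp, Iso.inv_hom_id, Spec.map_id]
      exact Category.comp_id _
    have ha : CommRingCat.ofHom (algebraMap k R') ≫ a = θ := by
      apply inj
      rw [Spec.map_comp, ← Category.assoc, hx, hc]
      exact Over.w x
    exact ⟨Tmap (show R' →ₐ[k] Γ(X.left, ⊤) from { a.hom with commutes' := fun c => RingHom.congr_fun (congrArg CommRingCat.Hom.hom ha) c }),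
      Over.OverMorphism.ext hx⟩

/-- A universal point gives a presentation. -/
lemma isIso_of_bijective_points {P : Type u} [CommRing P] [Algebra k P] {G : Over (Spec (CommRingCat.of k))}
    [IsAffine G.left] (u : T k P ⟶ G)
    (hu : ∀ (R : Type u) [CommRing R] [Algebra k R], Function.Bijective (fun χ : P →ₐ[k] R => Tmap χ ≫ u)) :
    IsIso u := by
  obtain ⟨R0, _, _, ⟨e⟩⟩ := exists_T_iso G
  obtain ⟨χ, hχ⟩ := (hu R0).2 e.hom
  dsimp only at hχ
  refine ⟨⟨e.inv ≫ Tmap χ, ?_, ?_⟩⟩
  · obtain ⟨ξ, hξ⟩ := exists_Tmap (u ≫ e.inv ≫ Tmap χ)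
    rw [← hξ, ← Tmap_id]
    refine congrArg Tmap ((hu P).1 ?_)
    show Tmap ξ ≫ u = Tmap (AlgHom.id k P) ≫ u
    rw [hξ, Tmap_id, Category.id_comp, Category.assoc, Category.assoc, hχ, Iso.inv_hom_id, Category.comp_id]
  · rw [Category.assoc, hχ, Iso.inv_hom_id]

variable {G H : Over (Spec (CommRingCat.of k))} [GrpObj G] [GrpObj H]

/-- The data of a finite subgroup of an affine group. -/
theorem exists_subgroup_presentation {P : Type u} [CommRing P] [Algebra k P] (u : T k P ≅ G)
    (i : H ⟶ G) [IsMonHom i] [Mono i] [IsFinite H.hom] :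
    ∃ (A : Type u) (_ : CommRing A) (_ : Algebra k A) (h : T k A ≅ H) (π : P →ₐ[k] A),
      Module.Finite k A ∧ Nontrivial A ∧ Function.Surjective π ∧ Tmap π ≫ u.hom = h.hom ≫ i := by
  haveI : IsAffine H.left := isAffine_of_isAffineHom H.hom
  obtain ⟨A, _, _, ⟨h⟩⟩ := exists_T_iso H
  obtain ⟨π, hπ⟩ := exists_Tmap (h.hom ≫ i ≫ u.inv)
  have heq : Tmap π ≫ u.hom = h.hom ≫ i := by rw [hπ]; simp
  have hfinA : IsFinite (T k A).hom := by
    rw [← Over.w h.hom]
    haveI : IsIso h.hom.left := (Over.forget _).map_isIso h.hom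
    exact (MorphismProperty.cancel_left_of_respectsIso @IsFinite h.hom.left H.hom).mpr inferInstance
  haveI : Module.Finite k A := RingHom.finite_algebraMap.mp ((IsFinite.SpecMap_iff _).mp hfinA)
  refine ⟨A, inferInstance, inferInstance, h, π, inferInstance, ?_, ?_, heq⟩
  · obtain ⟨χ, -⟩ := exists_Tmap ((toUnit (T k k) ≫ η[H]) ≫ h.inv)
    exact χ.toRingHom.domain_nontrivial
  · haveI : Mono (Tmap π) := by
      have : Tmap π = h.hom ≫ i ≫ u.inv := hπ
      rw [this]; infer_instance
    haveI : Mono (Spec.map (CommRingCat.ofHom π.toRingHom)) := inferInstanceAs (Mono (Tmap π).left)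
    haveI : IsFinite (Spec.map (CommRingCat.ofHom π.toRingHom)) := by
      rw [IsFinite.SpecMap_iff]
      exact RingHom.Finite.of_comp_finite (f := algebraMap k P) (g := π.toRingHom)
        (by rw [AlgHom.toRingHom_eq_coe, π.comp_algebraMap]; exact RingHom.finite_algebraMap.mpr inferInstance)
    haveI : IsClosedImmersion (Spec.map (CommRingCat.ofHom π.toRingHom)) :=
      (IsClosedImmersion.iff_isFinite_and_mono (f := _)).mpr ⟨inferInstance, inferInstance⟩
    have h2 := (IsClosedImmersion.isAffine_surjective_of_isAffine (Spec.map (CommRingCat.ofHom π.toRingHom))).2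
    intro a
    obtain ⟨y, hy⟩ := h2 ((Scheme.ΓSpecIso (CommRingCat.of A)).inv a)
    refine ⟨(Scheme.ΓSpecIso (CommRingCat.of P)).hom y, ?_⟩
    have hnat := Scheme.ΓSpecIso_naturality (CommRingCat.ofHom π.toRingHom)
    have := congrArg (fun f => f.hom y) hnat
    simp only [CommRingCat.hom_comp, RingHom.comp_apply] at this
    rw [hy] at this
    simpa using this.symm

/-- An endomorphism of the coordinate ring gives a quotient. -/
theorem exists_quotient {P : Type u} [CommRing P] [Algebra k P] (u : T k P ≅ G)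
    (i : H ⟶ G) [Mono i] {A : Type u} [CommRing A] [Algebra k A] (h : T k A ≅ H) (π : P →ₐ[k] A)
    (hπ : Function.Surjective π) (heq : Tmap π ≫ u.hom = h.hom ≫ i) (ψ : P →ₐ[k] P)
    (hff : ψ.toRingHom.FaithfullyFlat)
    (hmul : ∀ (R : Type u) [CommRing R] [Algebra k R] (χ χ' χ'' : P →ₐ[k] R),
      (Tmap χ ≫ u.hom) * (Tmap χ' ≫ u.hom) = Tmap χ'' ≫ u.hom →
      (Tmap (χ.comp ψ) ≫ u.hom) * (Tmap (χ'.comp ψ) ≫ u.hom) = Tmap (χ''.comp ψ) ≫ u.hom)
    (hker : ∀ (R : Type u) [CommRing R] [Algebra k R] (χ : P →ₐ[k] R),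
      Tmap (χ.comp ψ) ≫ u.hom = 1 ↔ ∀ x, π x = 0 → χ x = 0) :
    ∃ φ : G ⟶ G, IsMonHom φ ∧ AlgGrp.IsKernel i φ ∧ Flat φ.left ∧ Surjective φ.left := by
  let φ : G ⟶ G := u.inv ≫ Tmap ψ ≫ u.hom
  have hφ : ∀ (R : Type u) [CommRing R] [Algebra k R] (χ : P →ₐ[k] R),
      (Tmap χ ≫ u.hom) ≫ φ = Tmap (χ.comp ψ) ≫ u.hom := fun R _ _ χ => by
    simp [φ, Tmap_comp]
  have hpts : ∀ (R : Type u) [CommRing R] [Algebra k R] (x : T k R ⟶ G), ∃ χ : P →ₐ[k] R, Tmap χ ≫ u.hom = x := by
    intro R _ _ x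
    obtain ⟨χ, hχ⟩ := exists_Tmap (x ≫ u.inv)
    exact ⟨χ, by rw [hχ, Category.assoc, Iso.inv_hom_id, Category.comp_id]⟩
  haveI : IsAffine (T k P).left := inferInstanceAs (IsAffine (Spec (CommRingCat.of P)))
  haveI hG : IsAffine G.left := by
    haveI : IsIso u.hom.left := (Over.forget _).map_isIso u.hom
    exact IsAffine.of_isIso (inv u.hom.left)
  haveI : IsAffine (G ⊗ G).left := inferInstanceAs (IsAffine (pullback G.hom G.hom))
  have hmulφ : μ[G] ≫ φ = (φ ⊗ₘ φ) ≫ μ[G] := by
    refine mul_ext _ _ fun R _ _ a b => ?_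
    obtain ⟨χ, rfl⟩ := hpts R a
    obtain ⟨χ', rfl⟩ := hpts R b
    obtain ⟨χ'', h''⟩ := hpts R ((Tmap χ ≫ u.hom) * (Tmap χ' ≫ u.hom))
    rw [← Category.assoc, lift_map_assoc, hφ, hφ]
    exact ((congrArg (· ≫ φ) h''.symm).trans ((hφ R χ'').trans (hmul R χ χ' χ'' h''.symm).symm))
  haveI hhom : IsMonHom φ := by
    refine { mul_hom := hmulφ, one_hom := ?_ }
    have h1 : (η[G] ≫ φ) * (η[G] ≫ φ) = η[G] ≫ φ := by
      have : (η[G] : 𝟙_ _ ⟶ G) * η[G] = η[G] := by
        rw [show (η[G] : 𝟙_ _ ⟶ G) = 1 by rw [Hom.one_def, toUnit_unique (toUnit _) (𝟙 _), Category.id_comp], _root_.one_mul]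
      conv_rhs => rw [← this]
      show lift (η[G] ≫ φ) (η[G] ≫ φ) ≫ μ[G] = (lift η[G] η[G] ≫ μ[G]) ≫ φ
      rw [Category.assoc, hmulφ, lift_map_assoc]
    have h2 : η[G] ≫ φ = 1 := mul_left_cancel (h1.trans (_root_.mul_one _).symm)
    rw [h2, Hom.one_def, toUnit_unique (toUnit _) (𝟙 _), Category.id_comp]
  refine ⟨φ, hhom, ?_, ?_⟩
  · refine Groth.Agent.H19Grp.isKernel_of ?_ (fun T a b hab => (cancel_mono i).mp hab) fun X x hx => ?_
    · rw [← cancel_epi h.hom, ← Category.assoc, ← heq, hφ, MonObj.comp_one]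
      exact (hker A π).mpr fun x hx => hx
    · obtain ⟨R, _, _, c, hc⟩ := exists_factor X
      obtain ⟨g, hg⟩ := (hc P).2 (x ≫ u.inv)
      obtain ⟨χ, rfl⟩ := exists_Tmap g
      dsimp only at hg
      have hx' : c ≫ Tmap χ ≫ u.hom = x := by
        rw [← Category.assoc, hg, Category.assoc, Iso.inv_hom_id, Category.comp_id]
      have h1 : Tmap (χ.comp ψ) ≫ u.hom = 1 := by
        rw [← cancel_mono u.inv]
        apply (hc P).1
        show c ≫ _ ≫ u.inv = c ≫ _ ≫ u.inv
        have e1 : c ≫ Tmap (χ.comp ψ) ≫ u.hom = 1 := by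
          rw [← hφ, ← Category.assoc, hx', hx]
        rw [← Category.assoc, e1, ← Category.assoc, MonObj.comp_one]
      have hk := (hker R χ).mp h1
      have hI : ∀ x ∈ RingHom.ker π, χ x = 0 := fun x hx => hk x (by simpa using hx)
      let χ' : A →ₐ[k] R := (Ideal.Quotient.liftₐ (RingHom.ker π) χ hI).comp
        (Ideal.quotientKerAlgEquivOfSurjective hπ).symm.toAlgHom
      have hχ' : χ'.comp π = χ := AlgHom.ext fun x => by
        show Ideal.Quotient.liftₐ (RingHom.ker π) χ hI ((Ideal.quotientKerAlgEquivOfSurjective hπ).symm (π x)) = χ x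
        rw [Ideal.quotientKerAlgEquivOfSurjective_symm_apply]
        rfl
      refine ⟨c ≫ Tmap χ' ≫ h.hom, ?_⟩
      rw [Category.assoc, Category.assoc, ← heq, ← Category.assoc (Tmap χ'), ← Tmap_comp, hχ', hx']
  · haveI : IsIso u.hom.left := (Over.forget _).map_isIso u.hom
    haveI : IsIso u.inv.left := (Over.forget _).map_isIso u.inv
    obtain ⟨hf, hs⟩ := (flat_and_surjective_SpecMap_iff (CommRingCat.ofHom ψ.toRingHom)).mpr hff
    haveI : Flat (Tmap ψ).left := hf
    haveI : Surjective (Tmap ψ).left := hs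
    exact ⟨inferInstanceAs (Flat (u.inv.left ≫ (Tmap ψ).left ≫ u.hom.left)),
      inferInstanceAs (Surjective (u.inv.left ≫ (Tmap ψ).left ≫ u.hom.left))⟩

open Polynomial

lemma faithfullyFlat_of_finite {P Q : Type u} [CommRing P] [CommRing Q] [IsDedekindDomain P] [IsDomain Q]
    {ψ : P →+* Q} (hinj : Function.Injective ψ) (hint : ψ.IsIntegral) : ψ.FaithfullyFlat := by
  refine RingHom.FaithfullyFlat.iff_flat_and_comap_surjective.mpr ⟨?_, hint.comap_surjective hinj⟩
  letI := ψ.toAlgebra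
  show Module.Flat P Q
  haveI : Module.IsTorsionFree P Q := by
    refine Module.IsTorsionFree.comap ψ (fun r hr => ?_) (fun r m => (Algebra.smul_def r m).symm)
    exact IsRegular.of_ne_zero ((map_ne_zero_iff _ hinj).mpr hr.ne_zero)
  infer_instance

lemma isIntegral_of_X {P : Type u} [CommRing P] (ψ : P →+* k[X]) (hC : ∀ c : k, ψ.IsIntegralElem (C c))
    (hX : ψ.IsIntegralElem (X : k[X])) : ψ.IsIntegral := by
  letI := ψ.toAlgebra
  intro x
  show IsIntegral P x
  induction x using Polynomial.induction_on' with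
  | add p q hp hq => exact hp.add hq
  | monomial n c =>
    rw [← C_mul_X_pow_eq_monomial]
    exact IsIntegral.mul (hC c) (IsIntegral.pow hX n)

/-- A group with additive coordinate: the quotient by a finite subgroup. -/
theorem exists_quotient_additive (u : T k k[X] ≅ G)
    (hu : ∀ (R : Type u) [CommRing R] [Algebra k R] (χ χ' χ'' : k[X] →ₐ[k] R),
      (Tmap χ ≫ u.hom) * (Tmap χ' ≫ u.hom) = Tmap χ'' ≫ u.hom ↔ χ X + χ' X = χ'' X)
    (i : H ⟶ G) [IsMonHom i] [Mono i] [IsFinite H.hom] :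
    ∃ φ : G ⟶ G, IsMonHom φ ∧ AlgGrp.IsKernel i φ ∧ Flat φ.left ∧ Surjective φ.left := by
  obtain ⟨A, _, _, h, π, _, _, hπ, heq⟩ := exists_subgroup_presentation u i
  have hone : ∀ (R : Type u) [CommRing R] [Algebra k R] (χ : k[X] →ₐ[k] R), Tmap χ ≫ u.hom = 1 ↔ χ X = 0 := by
    intro R _ _ χ
    constructor
    · intro h1
      have := (hu R χ χ χ).mp (by rw [h1, _root_.one_mul])
      simpa using this
    · intro h0
      have := (hu R χ χ χ).mpr (by rw [h0, add_zero])
      exact mul_left_cancel (this.trans (_root_.mul_one _).symm)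
  set a : A := π X with ha
  have hπa : ∀ p, π p = aeval a p := fun p =>
    AlgHom.congr_fun (Polynomial.algHom_ext (f := π) (g := aeval a) (by simp [ha])) p
  have hint : IsIntegral k a := Algebra.IsIntegral.isIntegral a
  set g := minpoly k a with hg
  have hgm : g.Monic := minpoly.monic hint
  have hn : 0 < g.natDegree := minpoly.natDegree_pos hint
  have hgπ : ∀ p, π p = 0 ↔ g ∣ p := fun p => by rw [hπa, minpoly.dvd_iff]
  have hlift : ∀ (R : Type u) [CommRing R] [Algebra k R] (r : R), aeval r g = 0 →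
      ∃ x : T k R ⟶ H, x ≫ i = Tmap (aeval r) ≫ u.hom := fun R _ _ r hr => by
    have hI : ∀ x ∈ RingHom.ker π, (aeval r : k[X] →ₐ[k] R) x = 0 := fun x hx => by
        obtain ⟨q, rfl⟩ := (hgπ x).mp (by simpa using hx)
        rw [map_mul, hr, zero_mul]
    let χ' : A →ₐ[k] R := (Ideal.Quotient.liftₐ (RingHom.ker π) (aeval r) hI).comp
      (Ideal.quotientKerAlgEquivOfSurjective hπ).symm.toAlgHom
    have hχ' : χ'.comp π = aeval r := AlgHom.ext fun x => by
      show Ideal.Quotient.liftₐ (RingHom.ker π) (aeval r) hI ((Ideal.quotientKerAlgEquivOfSurjective hπ).symm (π x)) = _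
      rw [Ideal.quotientKerAlgEquivOfSurjective_symm_apply]
      rfl
    exact ⟨Tmap χ' ≫ h.hom, by rw [Category.assoc, ← heq, ← Category.assoc, ← Tmap_comp, hχ']⟩
  have hroot : ∀ (R : Type u) [CommRing R] [Algebra k R] (x : T k R ⟶ H) (r : R),
      x ≫ i = Tmap (aeval r) ≫ u.hom → aeval r g = 0 := fun R _ _ x r hx => by
    obtain ⟨χ', hχ'⟩ := exists_Tmap (x ≫ h.inv)
    have h1 : Tmap (χ'.comp π) ≫ u.hom = Tmap (aeval r) ≫ u.hom := by
      rw [Tmap_comp, Category.assoc, heq, hχ', ← Category.assoc, Category.assoc x, Iso.inv_hom_id, Category.comp_id, hx]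
    have h2 := Tmap_injective ((cancel_mono u.hom).mp h1)
    rw [← AlgHom.congr_fun h2 g]
    show χ' (π g) = 0
    rw [(hgπ g).mpr dvd_rfl, map_zero]
  have hg0 : g.coeff 0 = 0 := by
    have h1 : (1 : T k k ⟶ H) ≫ i = Tmap (aeval (0 : k)) ≫ u.hom := by
      rw [MonObj.one_comp, eq_comm, hone]; simp
    have := hroot k 1 0 h1
    rwa [← coeff_zero_eq_aeval_zero] at this
  have hadd : ∀ (R : Type u) [CommRing R] [Algebra k R] (r s : R), aeval r g = 0 → aeval s g = 0 → aeval (r + s) g = 0 := by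
    intro R _ _ r s hr hs
    obtain ⟨x, hx⟩ := hlift R r hr
    obtain ⟨y, hy⟩ := hlift R s hs
    refine hroot R (x * y) (r + s) ?_
    rw [MonObj.mul_comp, hx, hy, hu]
    simp
  let gA := g.map (algebraMap k A)
  have hgA : gA.Monic := hgm.map _
  have htaylor : taylor a gA = gA := by
    refine sub_eq_zero.mp ?_
    let B := AdjoinRoot gA
    let b : B := AdjoinRoot.root gA
    have haB : aeval (algebraMap A B a) g = 0 := by
      rw [aeval_algebraMap_apply, minpoly.aeval, map_zero]
    have hbB : aeval b g = 0 := by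
      rw [← aeval_map_algebraMap A, AdjoinRoot.aeval_eq]
      exact AdjoinRoot.mk_self
    have hab := hadd B _ _ hbB haB
    have hd : gA ∣ taylor a gA - gA := by
      rw [← AdjoinRoot.mk_eq_zero, map_sub, AdjoinRoot.mk_self, sub_zero, taylor_apply, ← AdjoinRoot.aeval_eq,
        aeval_comp, map_add, aeval_X, aeval_C, aeval_map_algebraMap]
      exact hab
    by_contra hne
    refine hgA.not_dvd_of_degree_lt hne ?_ hd
    have h1 : (taylor a gA).degree = gA.degree := by simp
    refine (degree_sub_lt_left h1 (by simpa using hgA.ne_zero) ?_).trans_le h1.le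
    rw [leadingCoeff_taylor]
  have hhasse : ∀ j, j ≠ 0 → hasseDeriv j g = C (g.coeff j) := by
    intro j hj
    have h1 := congrArg (fun p => p.coeff j) htaylor
    simp only [taylor_coeff, gA, coeff_map] at h1
    have h2 : π (hasseDeriv j g - C (g.coeff j)) = 0 := by
      have hmap : (hasseDeriv j (g.map (algebraMap k A))).eval a = aeval a (hasseDeriv j g) := by
        rw [← eval_map_algebraMap]
        congr 1
        ext l
        simp [hasseDeriv_coeff]
      rw [map_sub, hπa, hπa, aeval_C, ← hmap, h1, sub_self]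
    rw [hgπ] at h2
    refine sub_eq_zero.mp (eq_zero_of_dvd_of_natDegree_lt h2 ?_)
    rw [natDegree_sub_C]
    refine (natDegree_hasseDeriv_le g j).trans_lt ?_
    omega
  have haddall : ∀ (R : Type u) [CommRing R] [Algebra k R] (r s : R), aeval (r + s) g = aeval r g + aeval s g := by
    intro R _ _ r s
    let gR := g.map (algebraMap k R)
    have hT : taylor r gR = gR + C (gR.eval r) := by
      ext j
      rw [taylor_coeff, coeff_add, coeff_C]
      rcases eq_or_ne j 0 with rfl | hj
      · simp [gR, hg0]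
      · rw [if_neg hj, add_zero, show hasseDeriv j gR = (hasseDeriv j g).map (algebraMap k R) by
            ext l; simp [gR, hasseDeriv_coeff], hhasse j hj]
        simp [gR]
    have := congrArg (eval s) hT
    rw [taylor_eval, eval_add, eval_C] at this
    simp only [gR, eval_map_algebraMap] at this
    rw [add_comm r s, this, add_comm]
  let ψ : k[X] →ₐ[k] k[X] := aeval g
  have hinj : Function.Injective ψ.toRingHom := by
    rw [injective_iff_map_eq_zero]
    intro p hp
    have hp' : p.comp g = 0 := by rw [← hp]; exact (aeval_def g p).symm ▸ rfl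
    rcases comp_eq_zero_iff.mp hp' with h0 | ⟨-, h0⟩
    · exact h0
    · rw [h0, natDegree_C] at hn; exact absurd hn (lt_irrefl 0)
  have hψint : ψ.toRingHom.IsIntegral := by
    have hC : ∀ c : k, ψ (C c) = C c := fun c => aeval_C g c
    refine isIntegral_of_X ψ.toRingHom (fun c => hC c ▸ ψ.toRingHom.isIntegralElem_map) ?_
    refine ⟨g.map C - C X, ?_, ?_⟩
    · refine (hgm.map C).sub_of_left ?_
      rw [degree_map, degree_eq_natDegree hgm.ne_zero]
      exact degree_C_le.trans_lt (Nat.cast_pos.mpr hn)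
    · rw [eval₂_sub, eval₂_C, eval₂_map]
      have : ψ.toRingHom.comp C = C := RingHom.ext fun c => hC c
      rw [this, show ψ.toRingHom X = g from aeval_X g, eval₂_C_X, sub_self]
  refine exists_quotient u i h π hπ heq ψ (faithfullyFlat_of_finite hinj hψint)
    (fun R _ _ χ χ' χ'' hh => (hu R _ _ _).mpr ?_) fun R _ _ χ => ?_
  · have h1 : ∀ χ : k[X] →ₐ[k] R, χ (ψ X) = aeval (χ X) g := fun χ => by simp [ψ, aeval_algHom_apply]
    simp only [AlgHom.comp_apply, h1]
    rw [← haddall, (hu R χ χ' χ'').mp hh]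
  · rw [hone, AlgHom.comp_apply, show ψ X = g from aeval_X g]
    refine ⟨fun h0 x hx => ?_, fun hk => hk g ((hgπ g).mpr dvd_rfl)⟩
    obtain ⟨q, rfl⟩ := (hgπ x).mp hx
    rw [map_mul, h0, zero_mul]


open LaurentPolynomial in
lemma laurent_ext {R : Type u} [CommRing R] [Algebra k R] {χ χ' : k[T;T⁻¹] →ₐ[k] R}
    (h : χ (LaurentPolynomial.T 1) = χ' (LaurentPolynomial.T 1)) : χ = χ' := by
  refine AlgHom.coe_ringHom_injective (IsLocalization.ringHom_ext (Submonoid.powers (X : k[X])) ?_)
  refine Polynomial.ringHom_ext (fun c => ?_) ?_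
  · show χ (Polynomial.toLaurent (Polynomial.C c)) = χ' (Polynomial.toLaurent (Polynomial.C c))
    rw [Polynomial.toLaurent_C]
    exact (χ.commutes c).trans (χ'.commutes c).symm
  · show χ (Polynomial.toLaurent X) = χ' (Polynomial.toLaurent X)
    rw [Polynomial.toLaurent_X]; exact h

lemma exists_laurent_hom {R : Type u} [CommRing R] [Algebra k R] (v : Rˣ) :
    ∃ χ : LaurentPolynomial k →ₐ[k] R, χ (LaurentPolynomial.T 1) = v :=
  ⟨{ LaurentPolynomial.eval₂ (algebraMap k R) v with
      commutes' := fun c => by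
        show LaurentPolynomial.eval₂ _ v (algebraMap k (LaurentPolynomial k) c) = _
        rw [show algebraMap k (LaurentPolynomial k) c = LaurentPolynomial.C c from rfl, LaurentPolynomial.eval₂_C] },
    by simp⟩

lemma laurent_hom_toLaurent {R : Type u} [CommRing R] [Algebra k R] (χ : LaurentPolynomial k →ₐ[k] R) (p : k[X]) :
    χ (Polynomial.toLaurent p) = aeval (χ (LaurentPolynomial.T 1)) p := by
  have : χ.comp Polynomial.toLaurentAlg = aeval (χ (LaurentPolynomial.T 1)) :=
    Polynomial.algHom_ext (by simp [Polynomial.toLaurentAlg_apply])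
  exact AlgHom.congr_fun this p

lemma laurent_isIntegral {n : ℕ} (hn : 0 < n) (ψ : LaurentPolynomial k →ₐ[k] LaurentPolynomial k)
    (hψ : ψ (LaurentPolynomial.T 1) = LaurentPolynomial.T n) : ψ.toRingHom.IsIntegral := by
  letI := ψ.toRingHom.toAlgebra
  have hψ' : ψ (LaurentPolynomial.T (-1)) = LaurentPolynomial.T (-(n : ℤ)) := by
    refine left_inv_eq_right_inv ?_ (b := ψ (LaurentPolynomial.T (-1))) ?_ (a := LaurentPolynomial.T n)
    · rw [← hψ, ← map_mul, ← LaurentPolynomial.T_add, neg_add_cancel, LaurentPolynomial.T_zero, map_one]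
    · rw [← LaurentPolynomial.T_add, add_neg_cancel, LaurentPolynomial.T_zero]
  have hTm : ∀ ε : ℤ, ψ (LaurentPolynomial.T ε) = LaurentPolynomial.T (n * ε) →
      ψ.toRingHom.IsIntegralElem (LaurentPolynomial.T ε) := by
    intro ε hε
    refine ⟨X ^ n - Polynomial.C (LaurentPolynomial.T ε), monic_X_pow_sub_C _ hn.ne', ?_⟩
    rw [eval₂_sub, eval₂_X_pow, eval₂_C, LaurentPolynomial.T_pow, sub_eq_zero]
    exact hε.symm
  have h1 : IsIntegral (LaurentPolynomial k) (LaurentPolynomial.T 1 : LaurentPolynomial k) :=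
    hTm 1 (by rw [_root_.mul_one]; exact hψ)
  have h2 : IsIntegral (LaurentPolynomial k) (LaurentPolynomial.T (-1) : LaurentPolynomial k) :=
    hTm (-1) (by rw [mul_neg, _root_.mul_one]; exact hψ')
  intro x
  show IsIntegral (LaurentPolynomial k) x
  induction x using LaurentPolynomial.induction_on' with
  | add p q hp hq => exact hp.add hq
  | C_mul_T m c =>
    refine IsIntegral.mul ?_ ?_
    · exact (ψ.commutes c) ▸ ψ.toRingHom.isIntegralElem_map (x := algebraMap k _ c)
    · rcases Int.eq_nat_or_neg m with ⟨j, rfl | rfl⟩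
      · have := IsIntegral.pow h1 j
        rwa [LaurentPolynomial.T_pow, _root_.mul_one] at this
      · have := IsIntegral.pow h2 j
        rwa [LaurentPolynomial.T_pow, mul_neg, _root_.mul_one] at this

/-- A group with multiplicative coordinate: the quotient by a finite subgroup. -/
theorem exists_quotient_multiplicative (u : T k (LaurentPolynomial k) ≅ G)
    (hu : ∀ (R : Type u) [CommRing R] [Algebra k R] (χ χ' χ'' : LaurentPolynomial k →ₐ[k] R),
      (Tmap χ ≫ u.hom) * (Tmap χ' ≫ u.hom) = Tmap χ'' ≫ u.hom ↔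
        χ (LaurentPolynomial.T 1) * χ' (LaurentPolynomial.T 1) = χ'' (LaurentPolynomial.T 1))
    (i : H ⟶ G) [IsMonHom i] [Mono i] [IsFinite H.hom] :
    ∃ φ : G ⟶ G, IsMonHom φ ∧ AlgGrp.IsKernel i φ ∧ Flat φ.left ∧ Surjective φ.left := by
  obtain ⟨A, _, _, h, π, _, _, hπ, heq⟩ := exists_subgroup_presentation u i
  have hunit : ∀ (R : Type u) [CommRing R] [Algebra k R] (χ : LaurentPolynomial k →ₐ[k] R),
      IsUnit (χ (LaurentPolynomial.T 1)) := fun R _ _ χ => (LaurentPolynomial.isUnit_T 1).map χ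
  have hone : ∀ (R : Type u) [CommRing R] [Algebra k R] (χ : LaurentPolynomial k →ₐ[k] R),
      Tmap χ ≫ u.hom = 1 ↔ χ (LaurentPolynomial.T 1) = 1 := by
    intro R _ _ χ
    constructor
    · intro h1
      have := (hu R χ χ χ).mp (by rw [h1, _root_.one_mul])
      exact (hunit R χ).mul_left_cancel (this.trans (_root_.mul_one _).symm)
    · intro h0
      have := (hu R χ χ χ).mpr (by rw [h0, _root_.one_mul])
      exact mul_left_cancel (this.trans (_root_.mul_one _).symm)
  set a : A := π (LaurentPolynomial.T 1) with ha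
  have hau : IsUnit a := hunit A π
  have hint : IsIntegral k a := Algebra.IsIntegral.isIntegral a
  set g := minpoly k a with hg
  have hgm : g.Monic := minpoly.monic hint
  have hn : 0 < g.natDegree := minpoly.natDegree_pos hint
  set n := g.natDegree with hndef
  have hgπ : ∀ p, π (Polynomial.toLaurent p) = 0 ↔ g ∣ p := fun p => by
    rw [laurent_hom_toLaurent, minpoly.dvd_iff]
  have hkills : ∀ (R : Type u) [CommRing R] [Algebra k R] (χ : LaurentPolynomial k →ₐ[k] R),
      aeval (χ (LaurentPolynomial.T 1)) g = 0 → ∀ x, π x = 0 → χ x = 0 := fun R _ _ χ hr x hx => by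
    obtain ⟨j, p, hp⟩ := LaurentPolynomial.exists_T_pow x
    obtain ⟨q, rfl⟩ := (hgπ p).mp (by rw [hp, map_mul, hx, zero_mul])
    have := congrArg χ hp
    rw [laurent_hom_toLaurent, map_mul, hr, zero_mul, map_mul, eq_comm] at this
    exact ((LaurentPolynomial.isUnit_T (R := k) (j : ℤ)).map χ).mul_left_eq_zero.mp this
  have hlift : ∀ (R : Type u) [CommRing R] [Algebra k R] (χ : LaurentPolynomial k →ₐ[k] R),
      aeval (χ (LaurentPolynomial.T 1)) g = 0 → ∃ x : T k R ⟶ H, x ≫ i = Tmap χ ≫ u.hom := fun R _ _ χ hr => by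
    have hI : ∀ x ∈ RingHom.ker π, χ x = 0 := fun x hx => hkills R χ hr x (by simpa using hx)
    let χ' : A →ₐ[k] R := (Ideal.Quotient.liftₐ (RingHom.ker π) χ hI).comp
      (Ideal.quotientKerAlgEquivOfSurjective hπ).symm.toAlgHom
    have hχ' : χ'.comp π = χ := AlgHom.ext fun x => by
      show Ideal.Quotient.liftₐ (RingHom.ker π) χ hI ((Ideal.quotientKerAlgEquivOfSurjective hπ).symm (π x)) = _
      rw [Ideal.quotientKerAlgEquivOfSurjective_symm_apply]
      rfl
    exact ⟨Tmap χ' ≫ h.hom, by rw [Category.assoc, ← heq, ← Category.assoc, ← Tmap_comp, hχ']⟩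
  have hroot : ∀ (R : Type u) [CommRing R] [Algebra k R] (x : T k R ⟶ H) (χ : LaurentPolynomial k →ₐ[k] R),
      x ≫ i = Tmap χ ≫ u.hom → aeval (χ (LaurentPolynomial.T 1)) g = 0 := fun R _ _ x χ hx => by
    obtain ⟨χ', hχ'⟩ := exists_Tmap (x ≫ h.inv)
    have h1 : Tmap (χ'.comp π) ≫ u.hom = Tmap χ ≫ u.hom := by
      rw [Tmap_comp, Category.assoc, heq, hχ', ← Category.assoc, Category.assoc x, Iso.inv_hom_id, Category.comp_id, hx]
    rw [← Tmap_injective ((cancel_mono u.hom).mp h1), AlgHom.comp_apply, aeval_algHom_apply, ← ha, minpoly.aeval,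
      map_zero]
  have hmulroot : ∀ (R : Type u) [CommRing R] [Algebra k R] (r s : Rˣ),
      aeval (r : R) g = 0 → aeval (s : R) g = 0 → aeval ((r * s : Rˣ) : R) g = 0 := by
    intro R _ _ r s hr hs
    obtain ⟨χ, hχ⟩ := exists_laurent_hom (k := k) r
    obtain ⟨χ', hχ'⟩ := exists_laurent_hom (k := k) s
    obtain ⟨χ'', hχ''⟩ := exists_laurent_hom (k := k) (r * s)
    obtain ⟨x, hx⟩ := hlift R χ (by rwa [hχ])
    obtain ⟨y, hy⟩ := hlift R χ' (by rwa [hχ'])
    rw [← hχ'']
    refine hroot R (x * y) χ'' ?_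
    rw [MonObj.mul_comp, hx, hy, hu, hχ, hχ', hχ'', Units.val_mul]
  have hg0 : g.coeff 0 ≠ 0 := by
    intro h0
    obtain ⟨q, hq⟩ := X_dvd_iff.mpr h0
    have hq0 : aeval a q = 0 := by
      have := minpoly.aeval k a
      rw [← hg, hq, map_mul, aeval_X] at this
      exact hau.mul_right_eq_zero.mp this
    obtain ⟨r, hr⟩ := (minpoly.dvd_iff (x := a)).mpr hq0
    rw [← hg] at hr
    have hgne : g ≠ 0 := hgm.ne_zero
    rw [hr, ← _root_.mul_assoc, mul_comm X g, _root_.mul_assoc] at hq
    have h1 : X * r = 1 := mul_left_cancel₀ hgne (hq.symm.trans (_root_.mul_one g).symm)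
    exact not_isUnit_X (IsUnit.of_mul_eq_one r h1)
  let gA := g.map (algebraMap k A)
  have hgA : gA.Monic := hgm.map _
  have hnA : gA.natDegree = n := hgm.natDegree_map _
  have han : a ^ n = 1 := by
    let B := AdjoinRoot gA
    let b : B := AdjoinRoot.root gA
    have hbB : aeval b g = 0 := by
      rw [← aeval_map_algebraMap A, AdjoinRoot.aeval_eq]
      exact AdjoinRoot.mk_self
    have hbu : IsUnit b := by
      have e := hbB
      rw [← X_mul_divX_add g, map_add, map_mul, aeval_X, aeval_C] at e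
      refine isUnit_of_mul_isUnit_left (y := aeval b g.divX) ?_
      rw [eq_neg_of_add_eq_zero_left e]
      exact (hg0.isUnit.map (algebraMap k B)).neg
    have haB : aeval (algebraMap A B a) g = 0 := by
      rw [aeval_algebraMap_apply, minpoly.aeval, map_zero]
    have hab := hmulroot B (hau.map (algebraMap A B)).unit hbu.unit haB hbB
    rw [Units.val_mul, IsUnit.unit_spec, IsUnit.unit_spec] at hab
    have hd : gA ∣ gA.comp (Polynomial.C a * X) - Polynomial.C (a ^ n) * gA := by
      rw [← AdjoinRoot.mk_eq_zero, map_sub, map_mul _ _ gA, AdjoinRoot.mk_self, mul_zero, sub_zero,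
        ← AdjoinRoot.aeval_eq, aeval_comp, map_mul, aeval_X, aeval_C, aeval_map_algebraMap]
      exact hab
    have hzero : gA.comp (Polynomial.C a * X) - Polynomial.C (a ^ n) * gA = 0 := by
      by_contra hne
      refine hgA.not_dvd_of_degree_lt hne ?_ hd
      rw [degree_eq_natDegree hgA.ne_zero, hnA, degree_lt_iff_coeff_zero]
      intro j hj
      rw [coeff_sub, comp_C_mul_X_coeff, coeff_C_mul]
      rcases hj.eq_or_lt with rfl | hj
      · ring
      · rw [coeff_eq_zero_of_natDegree_lt (hnA.symm ▸ hj), zero_mul, mul_zero, sub_zero]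
    have := congrArg (fun p => p.coeff 0) hzero
    simp only [coeff_sub, comp_C_mul_X_coeff, coeff_C_mul, coeff_zero, pow_zero, _root_.mul_one, gA, coeff_map] at this
    have hu0 : IsUnit (algebraMap k A (g.coeff 0)) := hg0.isUnit.map _
    exact hu0.mul_right_cancel ((sub_eq_zero.mp this).symm.trans (_root_.one_mul _).symm)
  have hgX : g = X ^ n - 1 := by
    refine (eq_of_monic_of_dvd_of_natDegree_le hgm ?_ ?_ ?_).symm
    · simpa using monic_X_pow_sub_C (1 : k) hn.ne'
    · rw [hg, minpoly.dvd_iff]; simp [han]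
    · rw [← Polynomial.C_1, natDegree_X_pow_sub_C]
  obtain ⟨ψ, hψ⟩ := exists_laurent_hom (k := k) (LaurentPolynomial.isUnit_T (R := k) (n : ℤ)).unit
  rw [IsUnit.unit_spec] at hψ
  have hinj : Function.Injective ψ.toRingHom := by
    rw [injective_iff_map_eq_zero]
    intro x hx
    obtain ⟨j, p, hp⟩ := LaurentPolynomial.exists_T_pow x
    have h1 : Polynomial.toLaurent (p.comp (X ^ n)) = 0 := by
      have := congrArg ψ hp
      rw [laurent_hom_toLaurent, hψ, map_mul, show ψ x = 0 from hx, zero_mul] at this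
      rw [← this, ← Polynomial.toLaurentAlg_apply, ← aeval_X_left_apply (p.comp _), aeval_comp, ← aeval_algHom_apply,
        map_pow, aeval_X, map_pow, Polynomial.toLaurentAlg_apply, Polynomial.toLaurent_X, LaurentPolynomial.T_pow,
        _root_.mul_one]
    rcases comp_eq_zero_iff.mp (Polynomial.toLaurent_injective (h1.trans (map_zero _).symm)) with h0 | ⟨-, h0⟩
    · rw [h0, map_zero, eq_comm] at hp
      exact (LaurentPolynomial.isUnit_T (j : ℤ)).mul_left_eq_zero.mp hp
    · exfalso
      have := congrArg natDegree h0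
      rw [natDegree_X_pow, natDegree_C] at this
      omega
  haveI : IsDedekindDomain (LaurentPolynomial k) :=
    IsLocalization.isDedekindDomain k[X] (powers_le_nonZeroDivisors_of_noZeroDivisors X_ne_zero) _
  refine exists_quotient u i h π hπ heq ψ (faithfullyFlat_of_finite hinj (laurent_isIntegral hn ψ hψ))
    (fun R _ _ χ χ' χ'' hh => (hu R _ _ _).mpr ?_) fun R _ _ χ => ?_
  · have h1 : ∀ χ : LaurentPolynomial k →ₐ[k] R, χ (ψ (LaurentPolynomial.T 1)) = χ (LaurentPolynomial.T 1) ^ n :=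
      fun χ => by rw [hψ, ← map_pow, LaurentPolynomial.T_pow, _root_.mul_one]
    simp only [AlgHom.comp_apply, h1]
    rw [← _root_.mul_pow, (hu R χ χ' χ'').mp hh]
  · rw [hone, AlgHom.comp_apply, hψ]
    have h1 : χ (LaurentPolynomial.T (n : ℤ)) = 1 ↔ aeval (χ (LaurentPolynomial.T 1)) g = 0 := by
      rw [hgX, map_sub, map_pow, aeval_X, map_one, sub_eq_zero, ← map_pow, LaurentPolynomial.T_pow, _root_.mul_one]
    rw [h1]
    refine ⟨fun h0 => hkills R χ h0, fun hk => ?_⟩
    rw [← laurent_hom_toLaurent]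
    exact hk _ ((hgπ g).mpr dvd_rfl)

end Groth.Agent.H02CA.GaGm
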