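import Groth.Agent.H19Grp.AlgClosedGeom
import Mathlib

/-!
Geometrically irreducible / connected / integral algebras over a field.
-/

set_option autoImplicit false
set_option linter.style.haveILetI false

universe u v w

open TensorProduct

namespace Groth.Agent.H02CA.GeomIrred

/-- A subring of a ring with irreducible spectrum has irreducible spectrum. -/
theorem irreducibleSpace_of_injective {A B : Type*} [CommRing A] [CommRing B] (f : A →+* B)
    (hf : Function.Injective f) (h : IrreducibleSpace (PrimeSpectrum B)) :
    IrreducibleSpace (PrimeSpectrum A) := by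
  rw [PrimeSpectrum.irreducibleSpace_iff_isPrime_nilradical] at h ⊢
  have : nilradical A = (nilradical B).comap f := by
    ext x
    rw [Ideal.mem_comap, mem_nilradical, mem_nilradical]
    exact (IsNilpotent.map_iff hf).symm
  rw [this]
  exact Ideal.comap_isPrime f _

theorem irreducibleSpace_of_ringEquiv {A B : Type*} [CommRing A] [CommRing B] (e : A ≃+* B)
    (h : IrreducibleSpace (PrimeSpectrum B)) : IrreducibleSpace (PrimeSpectrum A) :=
  irreducibleSpace_of_injective e.toRingHom e.injective h

theorem connectedSpace_of_ringEquiv {A B : Type*} [CommRing A] [CommRing B] (e : A ≃+* B)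
    (h : ConnectedSpace (PrimeSpectrum B)) : ConnectedSpace (PrimeSpectrum A) :=
  (PrimeSpectrum.homeomorphOfRingEquiv e).connectedSpace_iff.mpr h

/-- If every element of `B` becomes an element of `A` after multiplying by a unit, then `B`
inherits irreducibility of the spectrum from `A`. -/
theorem irreducibleSpace_of_injective_of_units {A B : Type*} [CommRing A] [CommRing B]
    (f : A →+* B) (hf : Function.Injective f) (hu : ∀ b : B, ∃ u : B, IsUnit u ∧ b * u ∈ f.range)
    (h : IrreducibleSpace (PrimeSpectrum A)) : IrreducibleSpace (PrimeSpectrum B) := by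
  rw [PrimeSpectrum.irreducibleSpace_iff_isPrime_nilradical] at h ⊢
  constructor
  · rw [Ideal.ne_top_iff_one, mem_nilradical]
    intro h1
    refine h.ne_top ((Ideal.eq_top_iff_one _).mpr ?_)
    rw [mem_nilradical, ← IsNilpotent.map_iff hf, map_one]
    exact h1
  · intro x y hxy
    obtain ⟨u, hu1, a, ha⟩ := hu x
    obtain ⟨v, hv1, b, hb⟩ := hu y
    have hab : a * b ∈ nilradical A := by
      rw [mem_nilradical, ← IsNilpotent.map_iff hf, map_mul, ha, hb]
      rw [show x * u * (y * v) = x * y * (u * v) by ring]
      exact (Commute.all _ _).isNilpotent_mul_right hxy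
    rcases h.mem_or_mem hab with h' | h' <;> rw [mem_nilradical, ← IsNilpotent.map_iff hf] at h'
    · left
      rw [ha] at h'
      exact ((Commute.all _ _).isNilpotent_mul_right_iff hu1.mem_nonZeroDivisors.2).mp h'
    · right
      rw [hb] at h'
      exact ((Commute.all _ _).isNilpotent_mul_right_iff hv1.mem_nonZeroDivisors.2).mp h'

section fibres

variable {k : Type u} [Field k] (R : Type v) [CommRing R] [Algebra k R] (S : Type w) [CommRing S]
  [Algebra k S]

/-- The fibre of `Spec (R ⊗ S) → Spec R` over `p` is `Spec (κ(p) ⊗ S)`. -/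
noncomputable def fiberHomeo (p : PrimeSpectrum R) :
    PrimeSpectrum.comap (algebraMap R (R ⊗[k] S)) ⁻¹' {p} ≃ₜ
      PrimeSpectrum (p.asIdeal.ResidueField ⊗[k] S) :=
  (PrimeSpectrum.preimageHomeomorphFiber R (R ⊗[k] S) p).trans
    (PrimeSpectrum.homeomorphOfRingEquiv
      (Algebra.TensorProduct.cancelBaseChange k R p.asIdeal.ResidueField p.asIdeal.ResidueField
        S).toRingEquiv)

theorem isIrreducible_fiber {p : PrimeSpectrum R}
    (h : IrreducibleSpace (PrimeSpectrum (p.asIdeal.ResidueField ⊗[k] S))) :
    IsIrreducible (PrimeSpectrum.comap (algebraMap R (R ⊗[k] S)) ⁻¹' {p}) :=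
  isIrreducible_iff_irreducibleSpace.mpr ((fiberHomeo R S p).irreducibleSpace_iff.mpr h)

theorem isConnected_fiber {p : PrimeSpectrum R}
    (h : ConnectedSpace (PrimeSpectrum (p.asIdeal.ResidueField ⊗[k] S))) :
    IsConnected (PrimeSpectrum.comap (algebraMap R (R ⊗[k] S)) ⁻¹' {p}) :=
  isConnected_iff_connectedSpace.mpr ((fiberHomeo R S p).connectedSpace_iff.mpr h)

theorem irreducibleSpace_tensor
    (hS : ∀ (k' : Type v) [Field k'] [Algebra k k'], IrreducibleSpace (PrimeSpectrum (k' ⊗[k] S)))
    [IrreducibleSpace (PrimeSpectrum R)] : IrreducibleSpace (PrimeSpectrum (R ⊗[k] S)) := by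
  have hfib := fun p : PrimeSpectrum R => isIrreducible_fiber R S (p := p) (hS _)
  have hsurj : Function.Surjective (PrimeSpectrum.comap (algebraMap R (R ⊗[k] S))) := fun p => by
    obtain ⟨z, hz⟩ := (hfib p).nonempty
    exact ⟨z, hz⟩
  rw [irreducibleSpace_def]
  simpa using (IrreducibleSpace.isIrreducible_univ (PrimeSpectrum R)).preimage_of_isPreirreducible_fiber
    _ PrimeSpectrum.isOpenMap_comap_algebraMap_tensorProduct_of_field
    (fun p => (hfib p).isPreirreducible)
    (by rw [hsurj.range_eq, Set.inter_univ]; exact Set.univ_nonempty)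

theorem connectedSpace_tensor
    (hS : ∀ (k' : Type v) [Field k'] [Algebra k k'], ConnectedSpace (PrimeSpectrum (k' ⊗[k] S)))
    [ConnectedSpace (PrimeSpectrum R)] : ConnectedSpace (PrimeSpectrum (R ⊗[k] S)) := by
  have hfib := fun p : PrimeSpectrum R => isConnected_fiber R S (p := p) (hS _)
  have hsurj : Function.Surjective (PrimeSpectrum.comap (algebraMap R (R ⊗[k] S))) := fun p => by
    obtain ⟨z, hz⟩ := (hfib p).nonempty
    exact ⟨z, hz⟩
  have hq := (PrimeSpectrum.isOpenMap_comap_algebraMap_tensorProduct_of_field.isQuotientMap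
    (PrimeSpectrum.continuous_comap (algebraMap R (R ⊗[k] S))) hsurj).isCoinducing
  simpa [connectedSpace_iff_univ] using hq.isConnected_preimage_of_isClosed
    hfib isClosed_univ isConnected_univ

end fibres

section algClosed

variable {k : Type u} [Field k] [IsAlgClosed k]

/-- Over an algebraically closed field, irreducible times domain is irreducible. -/
theorem irreducibleSpace_tensor_domain (R : Type v) [CommRing R] [Algebra k R]
    [IrreducibleSpace (PrimeSpectrum R)] (S : Type w) [CommRing S] [IsDomain S] [Algebra k S] :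
    IrreducibleSpace (PrimeSpectrum (R ⊗[k] S)) := by
  refine irreducibleSpace_tensor R S fun k' _ _ => ?_
  haveI := H19Grp.isDomain_tensorProduct (k := k) k' S
  infer_instance

end algClosed

variable {k : Type u} [Field k]

/-- Irreducibility of `k̄ ⊗ R` gives geometric irreducibility. -/
theorem irreducibleSpace_of_algClosure {R : Type v} [CommRing R] [Algebra k R]
    (h : IrreducibleSpace (PrimeSpectrum (AlgebraicClosure k ⊗[k] R))) (k' : Type w) [Field k']
    [Algebra k k'] : IrreducibleSpace (PrimeSpectrum (k' ⊗[k] R)) := by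
  let kb := AlgebraicClosure k
  let Ω := AlgebraicClosure k'
  let i : kb →ₐ[k] Ω := IsAlgClosed.lift
  letI := i.toRingHom.toAlgebra
  haveI : IsScalarTower k kb Ω := IsScalarTower.of_algebraMap_eq fun r => (i.commutes r).symm
  haveI := h
  haveI h1 := irreducibleSpace_tensor_domain (k := kb) (kb ⊗[k] R) Ω
  have h2 : IrreducibleSpace (PrimeSpectrum (Ω ⊗[k] R)) :=
    irreducibleSpace_of_ringEquiv
      ((Algebra.TensorProduct.cancelBaseChange k kb kb Ω R).symm.toRingEquiv.trans
        (Algebra.TensorProduct.comm kb Ω (kb ⊗[k] R)).toRingEquiv) h1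
  exact irreducibleSpace_of_injective
    (Algebra.TensorProduct.map (IsScalarTower.toAlgHom k k' Ω) (AlgHom.id k R)).toRingHom
    (Module.Flat.rTensor_preserves_injective_linearMap _ (algebraMap k' Ω).injective) h2

/-- Integrality of `k̄ ⊗ R` gives geometric integrality. -/
theorem isDomain_of_algClosure {R : Type v} [CommRing R] [Algebra k R]
    (h : IsDomain (AlgebraicClosure k ⊗[k] R)) (k' : Type w) [Field k'] [Algebra k k'] :
    IsDomain (k' ⊗[k] R) := by
  let kb := AlgebraicClosure k
  let Ω := AlgebraicClosure k'
  let i : kb →ₐ[k] Ω := IsAlgClosed.lift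
  letI := i.toRingHom.toAlgebra
  haveI : IsScalarTower k kb Ω := IsScalarTower.of_algebraMap_eq fun r => (i.commutes r).symm
  haveI := h
  haveI := H19Grp.isDomain_tensorProduct (k := kb) Ω (kb ⊗[k] R)
  haveI : IsDomain (Ω ⊗[k] R) :=
    MulEquiv.isDomain (Ω ⊗[kb] (kb ⊗[k] R))
      (Algebra.TensorProduct.cancelBaseChange k kb kb Ω R).symm.toRingEquiv.toMulEquiv
  exact Function.Injective.isDomain
    (Algebra.TensorProduct.map (IsScalarTower.toAlgHom k k' Ω) (AlgHom.id k R)).toRingHom
    (Module.Flat.rTensor_preserves_injective_linearMap _ (algebraMap k' Ω).injective)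

/-- The base change to `k̄` of a `k`-algebra has the same spectrum when `k` is separably closed. -/
theorem isHomeomorph_algClosure [IsSepClosed k] (R : Type v) [CommRing R] [Algebra k R] :
    IsHomeomorph (PrimeSpectrum.comap (algebraMap R (R ⊗[k] AlgebraicClosure k))) :=
  PrimeSpectrum.isHomeomorph_comap_of_isPurelyInseparable k (AlgebraicClosure k) R

/-- Over a separably closed field irreducible implies geometrically irreducible. -/
theorem irreducibleSpace_of_isSepClosed [IsSepClosed k] (R : Type v) [CommRing R] [Algebra k R]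
    [IrreducibleSpace (PrimeSpectrum R)] (k' : Type w) [Field k']
    [Algebra k k'] : IrreducibleSpace (PrimeSpectrum (k' ⊗[k] R)) := by
  refine irreducibleSpace_of_algClosure ?_ k'
  exact irreducibleSpace_of_ringEquiv (Algebra.TensorProduct.comm k _ R).toRingEquiv
    ((isHomeomorph_algClosure R).homeomorph.irreducibleSpace_iff.mpr inferInstance)

/-- Over a separably closed field connected implies geometrically connected. -/
theorem connectedSpace_of_isSepClosed [IsSepClosed k] (S : Type v) [CommRing S] [Algebra k S]
    [ConnectedSpace (PrimeSpectrum S)] (k' : Type v) [Field k']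
    [Algebra k k'] : ConnectedSpace (PrimeSpectrum (k' ⊗[k] S)) := by
  refine connectedSpace_of_ringEquiv (Algebra.TensorProduct.comm k k' S).toRingEquiv
    (connectedSpace_tensor S k' fun κ _ _ => ?_)
  haveI := irreducibleSpace_of_isSepClosed (k := k) k' κ
  infer_instance

/-- Two elements of `K ⊗ R`, `K` algebraic over `k`, come from a finite subextension. -/
theorem exists_finite_subextension {K : Type v} [Field K] [Algebra k K] [Algebra.IsAlgebraic k K]
    {R : Type w} [CommRing R] [Algebra k R] (x y : K ⊗[k] R) :
    ∃ L : IntermediateField k K, Module.Finite k L ∧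
      x ∈ (Algebra.TensorProduct.map L.val (AlgHom.id k R)).range ∧
      y ∈ (Algebra.TensorProduct.map L.val (AlgHom.id k R)).range := by
  classical
  obtain ⟨s, hs⟩ := TensorProduct.exists_finset x
  obtain ⟨t, ht⟩ := TensorProduct.exists_finset y
  let L : IntermediateField k K := IntermediateField.adjoin k ↑((s ∪ t).image Prod.fst)
  have key : ∀ p ∈ s ∪ t,
      (p : K × R).1 ⊗ₜ[k] p.2 ∈ (Algebra.TensorProduct.map L.val (AlgHom.id k R)).range :=
    fun p hp => ⟨(⟨p.1, IntermediateField.subset_adjoin k _
      (Finset.mem_coe.mpr (Finset.mem_image_of_mem _ hp))⟩ : L) ⊗ₜ p.2, by simp⟩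
  refine ⟨L, IntermediateField.finiteDimensional_adjoin fun a _ =>
    Algebra.IsIntegral.isIntegral a, ?_, ?_⟩
  · rw [hs]; exact Subalgebra.sum_mem _ fun p hp => key p (Finset.mem_union_left _ hp)
  · rw [ht]; exact Subalgebra.sum_mem _ fun p hp => key p (Finset.mem_union_right _ hp)

theorem map_val_injective {K : Type v} [Field K] [Algebra k K] (L : IntermediateField k K)
    (R : Type w) [CommRing R] [Algebra k R] :
    Function.Injective (Algebra.TensorProduct.map L.val (AlgHom.id k R)) :=
  Module.Flat.rTensor_preserves_injective_linearMap _ L.val.injective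

/-- Irreducibility passes from finite subextensions to the whole algebraic extension. -/
theorem irreducibleSpace_of_finite_subextensions {K : Type v} [Field K] [Algebra k K]
    [Algebra.IsAlgebraic k K] {R : Type w} [CommRing R] [Algebra k R]
    (h : ∀ L : IntermediateField k K, Module.Finite k L →
      IrreducibleSpace (PrimeSpectrum (L ⊗[k] R))) :
    IrreducibleSpace (PrimeSpectrum (K ⊗[k] R)) := by
  rw [PrimeSpectrum.irreducibleSpace_iff_isPrime_nilradical]
  constructor
  · rw [Ideal.ne_top_iff_one, mem_nilradical]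
    intro h1
    obtain ⟨L, hL, -, -⟩ := exists_finite_subextension (1 : K ⊗[k] R) 1
    have h' := PrimeSpectrum.irreducibleSpace_iff_isPrime_nilradical.mp (h L hL)
    refine h'.ne_top ((Ideal.eq_top_iff_one _).mpr ?_)
    rw [mem_nilradical, ← IsNilpotent.map_iff (map_val_injective L R), map_one]
    exact h1
  · intro x y hxy
    obtain ⟨L, hL, ⟨a, ha⟩, ⟨b, hb⟩⟩ := exists_finite_subextension x y
    have h' := PrimeSpectrum.irreducibleSpace_iff_isPrime_nilradical.mp (h L hL)
    have hab : a * b ∈ nilradical (L ⊗[k] R) := by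
      rw [mem_nilradical, ← IsNilpotent.map_iff (map_val_injective L R), map_mul]
      simp only [AlgHom.toRingHom_eq_coe, RingHom.coe_coe] at ha hb
      rw [ha, hb]
      exact hxy
    rcases h'.mem_or_mem hab with h1 | h1
    · left; rw [← ha]; exact (mem_nilradical.mp h1).map _
    · right; rw [← hb]; exact (mem_nilradical.mp h1).map _

/-- Integrality passes from finite subextensions to the whole algebraic extension. -/
theorem isDomain_of_finite_subextensions {K : Type v} [Field K] [Algebra k K]
    [Algebra.IsAlgebraic k K] {R : Type w} [CommRing R] [Algebra k R]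
    (h : ∀ L : IntermediateField k K, Module.Finite k L → IsDomain (L ⊗[k] R)) :
    IsDomain (K ⊗[k] R) := by
  haveI : Nontrivial (K ⊗[k] R) := by
    obtain ⟨L, hL, -, -⟩ := exists_finite_subextension (1 : K ⊗[k] R) 1
    haveI := h L hL
    exact (map_val_injective L R).nontrivial
  haveI : NoZeroDivisors (K ⊗[k] R) := by
    refine ⟨fun {x y} hxy => ?_⟩
    obtain ⟨L, hL, ⟨a, ha⟩, ⟨b, hb⟩⟩ := exists_finite_subextension x y
    haveI := h L hL
    simp only [AlgHom.toRingHom_eq_coe, RingHom.coe_coe] at ha hb
    have hab : a * b = 0 := map_val_injective L R (by rw [map_mul, ha, hb, hxy, map_zero])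
    rcases mul_eq_zero.mp hab with h1 | h1
    · left; rw [← ha, h1, map_zero]
    · right; rw [← hb, h1, map_zero]
  exact NoZeroDivisors.to_isDomain _

end Groth.Agent.H02CA.GeomIrred
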