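import Groth.Agent.H05EGA4.FieldSmooth
import Groth.Agent.H02CA.RegularQuotient
import Groth.Agent.S2036
import Mathlib.RingTheory.RegularLocalRing.Polynomial
import Mathlib.RingTheory.Flat.Localization
import Groth.Agent.S5777
import Groth.Prelude.Def_CAlg
import Mathlib.RingTheory.MvPolynomial.Basic
import Mathlib.Algebra.MvPolynomial.PDeriv
import Mathlib.RingTheory.Smooth.Field
import Mathlib.FieldTheory.IntermediateField.Basic

/-!
A geometrically regular algebra over polynomials whose differentials form a basis in the residue field.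
-/

set_option autoImplicit false
set_option linter.style.haveILetI false

universe u

open IsLocalRing MvPolynomial

namespace Groth.Agent.H02CA.GeomRegFlat

/-- A derivation to the residue field with given values on the maximal ideal. -/
theorem exists_derivation_extending (p : ℕ) [Fact p.Prime] (L : Type u) [CommRing L] [IsLocalRing L]
    [CharP L p] (ℓ : Module.Dual (ResidueField L) (CotangentSpace L)) :
    ∃ Δ : L → ResidueField L, (∀ a b, Δ (a + b) = Δ a + Δ b) ∧
      (∀ a b, Δ (a * b) = residue L a * Δ b + residue L b * Δ a) ∧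
      ∀ z : maximalIdeal L, Δ z = ℓ ((maximalIdeal L).toCotangent z) := by
  classical
  haveI : CharP (ResidueField L) p := by
    refine (CharP.charP_iff_prime_eq_zero Fact.out).2 ?_
    rw [← map_natCast (residue L), CharP.cast_eq_zero L p, map_zero]
  letI : Algebra (ULift.{u} (ZMod p)) (ResidueField L) :=
    ((ZMod.castHom dvd_rfl (ResidueField L)).comp ULift.ringEquiv.toRingHom).toAlgebra
  letI : Algebra (ULift.{u} (ZMod p)) (L ⧸ maximalIdeal L ^ 2) :=
    ((Ideal.Quotient.mk (maximalIdeal L ^ 2)).comp
      ((ZMod.castHom dvd_rfl L).comp ULift.ringEquiv.toRingHom)).toAlgebra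
  haveI : Finite (ULift.{u} (ZMod p)) := Finite.of_equiv (ZMod p) Equiv.ulift.symm
  haveI : PerfectField (ULift.{u} (ZMod p)) := inferInstance
  haveI : Algebra.FormallySmooth (ULift.{u} (ZMod p)) (ResidueField L) :=
    H05EGA4.formallySmooth_of_perfectField _ _
  let π : (L ⧸ maximalIdeal L ^ 2) →ₐ[ULift.{u} (ZMod p)] ResidueField L :=
    { Ideal.Quotient.lift (maximalIdeal L ^ 2) (residue L)
        (fun a ha => (residue_eq_zero_iff a).2 (Ideal.pow_le_self two_ne_zero ha)) with
      commutes' := fun c => RingHom.congr_fun (Subsingleton.elim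
        ((residue L).comp (ZMod.castHom dvd_rfl L)) (ZMod.castHom dvd_rfl (ResidueField L))) c.down }
  have hπ : Function.Surjective π := fun x => by
    obtain ⟨a, rfl⟩ := residue_surjective x
    exact ⟨Ideal.Quotient.mk _ a, rfl⟩
  have hnil : IsNilpotent (RingHom.ker π.toRingHom) := by
    refine ⟨2, eq_bot_iff.2 ?_⟩
    simp only [pow_two]
    refine Ideal.mul_le.2 fun x hx y hy => ?_
    obtain ⟨x, rfl⟩ := Ideal.Quotient.mk_surjective x
    obtain ⟨y, rfl⟩ := Ideal.Quotient.mk_surjective y
    rw [Ideal.mem_bot, ← map_mul, Ideal.Quotient.eq_zero_iff_mem, pow_two]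
    exact Ideal.mul_mem_mul ((residue_eq_zero_iff x).1 hx) ((residue_eq_zero_iff y).1 hy)
  let s := Algebra.FormallySmooth.liftOfSurjective (AlgHom.id (ULift.{u} (ZMod p)) (ResidueField L)) π hπ hnil
  have hs : ∀ c, π (s c) = c := fun c =>
    AlgHom.congr_fun (Algebra.FormallySmooth.comp_liftOfSurjective _ π hπ hnil) c
  choose s₀ hs₀ using fun c => Ideal.Quotient.mk_surjective (s c)
  have hres : ∀ c, residue L (s₀ c) = c := fun c => by
    conv_rhs => rw [← hs c, ← hs₀ c]
    rfl
  have hmem : ∀ z, z - s₀ (residue L z) ∈ maximalIdeal L := fun z => by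
    rw [← residue_eq_zero_iff, map_sub, hres, sub_self]
  have hlin : ∀ (a : L) (w : (maximalIdeal L)), ℓ ((maximalIdeal L).toCotangent (a • w)) =
      residue L a * ℓ ((maximalIdeal L).toCotangent w) := fun a w => by
    rw [LinearMap.map_smul, ← algebraMap_smul (ResidueField L) a, LinearMap.map_smul]
    rfl
  refine ⟨fun z => ℓ ((maximalIdeal L).toCotangent ⟨z - s₀ (residue L z), hmem z⟩), fun a b => ?_, fun a b => ?_,
    fun z => ?_⟩
  · show ℓ _ = ℓ _ + ℓ _
    rw [← map_add, ← map_add]
    congr 1
    rw [Ideal.toCotangent_eq, ← Ideal.Quotient.eq]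
    simp only [Submodule.coe_add, map_sub, map_add, hs₀]
    ring
  · show ℓ _ = residue L a * ℓ _ + residue L b * ℓ _
    have h1 := hlin a ⟨b - s₀ (residue L b), hmem b⟩
    have h2 := hlin (s₀ (residue L b)) ⟨a - s₀ (residue L a), hmem a⟩
    rw [hres] at h2
    rw [← h1, ← h2, ← map_add, ← map_add]
    congr 1
    rw [Ideal.toCotangent_eq, ← Ideal.Quotient.eq]
    simp only [Submodule.coe_add, Submodule.coe_smul, smul_eq_mul, map_sub, map_add, map_mul, hs₀, hres]
    ring
  · show ℓ _ = ℓ _
    congr 1
    rw [Ideal.toCotangent_eq, ← Ideal.Quotient.eq]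
    simp only [map_sub, hs₀, (residue_eq_zero_iff (z : L)).2 z.2, map_zero, sub_zero]

/-- Additive Leibniz maps dual to elements of the maximal ideal give independence modulo its square. -/
theorem indep_of_dual {R K' : Type u} [CommRing R] [IsLocalRing R] [CommRing K'] (ρ : R →+* K')
    (hρ : ∀ x, ρ x = 0 ↔ x ∈ maximalIdeal R) {d : ℕ} (w : Fin d → R) (hw : ∀ i, w i ∈ maximalIdeal R)
    (E : Fin d → R →+ K') (hE : ∀ l a b, E l (a * b) = ρ a * E l b + ρ b * E l a)
    (hwE : ∀ l j, E l (w j) = if j = l then 1 else 0) (a : Fin d → R)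
    (ha : ∑ j, a j * w j ∈ maximalIdeal R ^ 2) (l : Fin d) : a l ∈ maximalIdeal R := by
  have h0 : ∀ z ∈ maximalIdeal R ^ 2, E l z = 0 := fun z hz => by
    rw [pow_two] at hz
    induction hz using Submodule.mul_induction_on' with
    | mem_mul_mem x hx y hy => rw [hE, (hρ x).2 hx, (hρ y).2 hy, zero_mul, zero_mul, add_zero]
    | add x _ y _ hx hy => rw [map_add, hx, hy, add_zero]
  have h1 := h0 _ ha
  rw [map_sum] at h1
  simp only [hE, hwE, (hρ (w _)).2 (hw _), zero_mul, add_zero, mul_ite, mul_one, mul_zero] at h1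
  rw [Finset.sum_ite_eq' Finset.univ l (fun j => ρ (a j))] at h1
  exact (hρ _).1 (by simpa using h1)

variable (p : ℕ) [Fact p.Prime] {k : Type u} [Field k] [CharP k p] {A : Type u} [CommRing A] [IsLocalRing A]
  [Algebra k A] {F : IntermediateField k (ResidueField A)} {m : ℕ}
  (φ : MvPolynomial (Fin m) k →ₐ[k] A)

theorem pderiv_mem (hφ : ∀ i : Fin m, residue A (φ (X i)) ∈ F)
    (hb : LinearIndependent F (fun i : Fin m => KaehlerDifferential.D k F ⟨residue A (φ (X i)), hφ i⟩))
    (f : MvPolynomial (Fin m) k) (hf : residue A (φ f) = 0) (i : Fin m) :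
    residue A (φ (pderiv i f)) = 0 := by
  classical
  let η : MvPolynomial (Fin m) k →ₐ[k] F := aeval fun i => ⟨residue A (φ (X i)), hφ i⟩
  have hη : ∀ g, (η g : ResidueField A) = residue A (φ g) := by
    intro g
    have : (F.val.comp η) = (IsScalarTower.toAlgHom k A (ResidueField A)).comp φ :=
      MvPolynomial.algHom_ext fun i => by simp [η]
    exact AlgHom.congr_fun this g
  have hD : ∀ g, KaehlerDifferential.D k F (η g) =
      ∑ i, η (pderiv i g) • KaehlerDifferential.D k F ⟨residue A (φ (X i)), hφ i⟩ := by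
    intro g
    induction g using MvPolynomial.induction_on with
    | C a =>
      rw [show (C a : MvPolynomial (Fin m) k) = algebraMap k _ a from rfl, AlgHom.commutes,
        Derivation.map_algebraMap]
      simp
    | add a b ha hb' =>
      simp only [map_add, ha, hb', add_smul, Finset.sum_add_distrib]
    | mul_X a j ha =>
      rw [map_mul, Derivation.leibniz, ha, show η (X j) = ⟨residue A (φ (X j)), hφ j⟩ from aeval_X _ j,
        Finset.smul_sum]
      simp only [pderiv_mul, map_add, map_mul, add_smul, Finset.sum_add_distrib, mul_smul]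
      rw [add_comm]
      congr 1
      · refine Finset.sum_congr rfl fun x _ => ?_
        rw [show η (X j) = ⟨residue A (φ (X j)), hφ j⟩ from aeval_X _ j, smul_comm]
      · rw [Finset.sum_eq_single j (fun x _ hx => by rw [pderiv_X_of_ne (Ne.symm hx), map_zero, zero_smul, smul_zero])
          (fun h => absurd (Finset.mem_univ _) h), pderiv_X_self, map_one, one_smul]
  have h0 : η f = 0 := Subtype.ext ((hη f).trans hf)
  have h1 := hD f
  rw [h0, map_zero] at h1
  have h2 := Fintype.linearIndependent_iff.1 hb (fun i => η (pderiv i f)) h1.symm i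
  rw [← hη, h2]
  rfl

include p in
theorem flat_and_regular (hA : CAlgX.IsAdicFormallySmooth k A (maximalIdeal A)) [IsNoetherianRing A]
    (hφ : ∀ i : Fin m, residue A (φ (X i)) ∈ F)
    (hb : LinearIndependent F (fun i : Fin m => KaehlerDifferential.D k F ⟨residue A (φ (X i)), hφ i⟩)) :
    letI := φ.toRingHom.toAlgebra
    Module.Flat (MvPolynomial (Fin m) k) A ∧
      IsRegularLocalRing (A ⧸ Ideal.map φ.toRingHom (Ideal.comap φ.toRingHom (maximalIdeal A))) := by
  classical
  letI algPA : Algebra (MvPolynomial (Fin m) k) A := φ.toRingHom.toAlgebra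
  have hRA : IsRegularLocalRing A := (H05EGA4.isRegularLocalRing_of_isAdicFormallySmooth hA).1
  let 𝔭 := Ideal.comap φ.toRingHom (maximalIdeal A)
  haveI : 𝔭.IsPrime := Ideal.IsPrime.comap _
  let L := Localization.AtPrime 𝔭
  let θ : MvPolynomial (Fin m) k →+* L := algebraMap _ L
  have hunit : ∀ y : 𝔭.primeCompl, IsUnit (φ.toRingHom y) := fun y => notMem_maximalIdeal.mp y.2
  let Φ : L →+* A := IsLocalization.lift hunit
  have hΦθ : ∀ f, Φ (θ f) = φ f := fun f => IsLocalization.lift_eq hunit f
  haveI : IsLocalHom Φ := ⟨fun x hx => by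
    obtain ⟨⟨f, t⟩, h⟩ := IsLocalization.surj 𝔭.primeCompl x
    have hf : IsUnit (φ f) := by
      rw [← hΦθ f, show θ f = x * θ t from h.symm, map_mul]
      exact hx.mul ((hΦθ t).symm ▸ hunit t)
    have hfp : f ∈ 𝔭.primeCompl := notMem_maximalIdeal.mpr hf
    have hu : IsUnit (θ f) := IsLocalization.map_units L ⟨f, hfp⟩
    rw [show θ f = x * θ t from h.symm] at hu
    exact (IsUnit.mul_iff.mp hu).1⟩
  letI algLA : Algebra L A := Φ.toAlgebra
  haveI : IsScalarTower (MvPolynomial (Fin m) k) L A := IsScalarTower.of_algebraMap_eq fun x => (hΦθ x).symm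
  haveI : IsLocalHom (algebraMap L A) := ‹IsLocalHom Φ›
  haveI : CharP L p := charP_of_injective_ringHom ((θ.comp C).injective) p
  haveI : IsRegularLocalRing L := inferInstance
  let b := Module.finBasis (ResidueField L) (CotangentSpace L)
  set d := Module.finrank (ResidueField L) (CotangentSpace L)
  choose v hv using fun j => Ideal.toCotangent_surjective (maximalIdeal L) (b j)
  let i : ResidueField L →+* ResidueField A := ResidueField.map Φ
  have hi : ∀ x, i (residue L x) = residue A (Φ x) := fun x => rfl
  have hdual : ∀ l : Fin d, ∃ (Δ : L →+ ResidueField L) (E : A →+ ResidueField A),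
      (∀ a b, Δ (a * b) = residue L a * Δ b + residue L b * Δ a) ∧
      (∀ a b, E (a * b) = residue A a * E b + residue A b * E a) ∧
      (∀ j, Δ (v j) = if j = l then 1 else 0) ∧ ∀ z ∈ maximalIdeal L, E (Φ z) = i (Δ z) := by
    intro l
    obtain ⟨Δ₀, hadd, hmul, hm⟩ := exists_derivation_extending p L (b.coord l)
    let Δ : L →+ ResidueField L := AddMonoidHom.mk' Δ₀ hadd
    have hΔ : ∀ a b, Δ (a * b) = residue L a * Δ b + residue L b * Δ a := hmul
    letI : Algebra ℤ k := Ring.toIntAlgebra k
    let D₀ : k →+ ResidueField A := (i.toAddMonoidHom.comp Δ).comp (θ.comp C).toAddMonoidHom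
    have hC : ∀ a : k, residue A (Φ (θ (C a))) = algebraMap k (ResidueField A) a := fun a => by
      rw [hΦθ, show φ (C a) = algebraMap k A a from φ.commutes a]
      rfl
    let D : Derivation ℤ k (ResidueField A) := Derivation.mk' D₀.toIntLinearMap fun a c => by
      show i (Δ (θ (C (a * c)))) = a • i (Δ (θ (C c))) + c • i (Δ (θ (C a)))
      rw [map_mul, map_mul, hΔ, map_add, map_mul, map_mul, hi, hi, hC, hC, Algebra.smul_def, Algebra.smul_def]
    obtain ⟨E, hE⟩ := H05EGA4.exists_derivation_of_isAdicFormallySmooth hA D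
    have hEmul : ∀ a c, E (a * c) = residue A a * E c + residue A c * E a := fun a c => by
      rw [E.leibniz, Algebra.smul_def, Algebra.smul_def]
      rfl
    refine ⟨Δ, AddMonoidHom.mk' (fun a => E a) (map_add E), hΔ, hEmul, fun j => ?_, fun z hz => ?_⟩
    · show Δ₀ (v j) = _
      rw [hm, hv, Module.Basis.coord_apply, Module.Basis.repr_self, Finsupp.single_apply]
    · let δ : MvPolynomial (Fin m) k → ResidueField A := fun f => E (φ f) - i (Δ (θ f))
      have hδ : ∀ f, δ f = ∑ j, residue A (φ (pderiv j f)) * δ (X j) := by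
        intro f
        induction f using MvPolynomial.induction_on with
        | C a =>
          simp only [pderiv_C, map_zero, zero_mul, Finset.sum_const_zero]
          show E (φ (C a)) - i (Δ (θ (C a))) = 0
          rw [show φ (C a) = algebraMap k A a from φ.commutes a, hE]
          exact sub_self _
        | add f g hf hg =>
          simp only [map_add, add_mul, Finset.sum_add_distrib, ← hf, ← hg]
          simp only [δ, map_add]
          ring
        | mul_X f n hf =>
          have h1 : δ (f * X n) = residue A (φ f) * δ (X n) + residue A (φ (X n)) * δ f := by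
            simp only [δ, map_mul, hEmul, hΔ, map_add, map_mul, hi, hΦθ]
            ring
          rw [h1, hf, Finset.mul_sum]
          simp only [pderiv_mul, map_add, map_mul, add_mul, Finset.sum_add_distrib]
          rw [add_comm]
          congr 1
          · exact Finset.sum_congr rfl fun x _ => by ring
          · rw [Finset.sum_eq_single n (fun x _ hx => by rw [pderiv_X_of_ne (Ne.symm hx)]; simp)
              (fun h => absurd (Finset.mem_univ _) h), pderiv_X_self, map_one, map_one, mul_one]
      obtain ⟨⟨f, t⟩, h⟩ := IsLocalization.surj 𝔭.primeCompl z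
      have h' : θ f = z * θ t := h.symm
      have hfp : f ∈ 𝔭 := (IsLocalization.AtPrime.to_map_mem_maximal_iff L 𝔭 f).1
        (by show θ f ∈ _; rw [h']; exact Ideal.mul_mem_right _ _ hz)
      have hf0 : residue A (φ f) = 0 := (residue_eq_zero_iff _).2 hfp
      have h2 : E (φ f) = i (Δ (θ f)) := by
        refine sub_eq_zero.1 ((hδ f).trans (Finset.sum_eq_zero fun j _ => ?_))
        rw [pderiv_mem φ hφ hb f hf0 j, zero_mul]
      rw [← hΦθ f, h', map_mul, hEmul, hΔ, map_add, map_mul, map_mul, hi, hi] at h2
      have hz0 : residue A (Φ z) = 0 := by rw [← hi, (residue_eq_zero_iff _).2 hz, map_zero]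
      rw [hz0, zero_mul, zero_mul, zero_add, zero_add] at h2
      refine mul_left_cancel₀ (fun h0 => ?_) h2
      rw [hΦθ, residue_eq_zero_iff] at h0
      exact t.2 h0
  choose Δ E hΔ hE hΔv hEΦ using hdual
  have hvA : ∀ j, Φ (v j) ∈ maximalIdeal A := fun j =>
    map_nonunit Φ (v j : L) (v j).2
  have hEv : ∀ l j, E l (Φ (v j)) = if j = l then 1 else 0 := fun l j => by
    rw [hEΦ l _ (v j).2, hΔv, apply_ite i, map_one, map_zero]
  obtain ⟨hregA, hseqA⟩ := regular_quotient_of_independent (fun j => Φ (v j)) hvA
    (indep_of_dual (residue A) residue_eq_zero_iff _ hvA E hE hEv)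
  obtain ⟨-, hseqL⟩ := regular_quotient_of_independent (fun j => (v j : L)) (fun j => (v j).2)
    (indep_of_dual (residue L) residue_eq_zero_iff _ (fun j => (v j).2) Δ hΔ hΔv)
  have hspan : Ideal.span (Set.range fun j => (v j : L)) = maximalIdeal L := by
    have h1 : Submodule.span L (Set.range v) = ⊤ := by
      rw [← CotangentSpace.span_image_eq_top_iff, ← Set.range_comp]
      simpa [Function.comp_def, hv] using b.span_eq
    have h2 := congrArg (Submodule.map (Submodule.subtype (maximalIdeal L))) h1
    rw [Submodule.map_span, ← Set.range_comp, Submodule.map_top, Submodule.range_subtype] at h2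
    exact h2
  constructor
  · have hlist : Ideal.ofList (List.ofFn fun j => (v j : L)) = maximalIdeal L := by
      refine Eq.trans ?_ hspan
      exact congrArg Ideal.span (Set.ext fun x => by simp)
    haveI : (Ideal.ofList (List.ofFn fun j => (v j : L))).IsMaximal := by
      rw [hlist]
      exact maximalIdeal.isMaximal L
    haveI : Module.Flat L A := by
      refine (S5777.result L A A (List.ofFn fun j => (v j : L)) (fun x hx => ?_) hseqL.toIsWeaklyRegular).2 ⟨?_, ?_⟩
      · obtain ⟨j, rfl⟩ := List.mem_ofFn.mp hx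
        exact (v j).2
      · letI := Ideal.Quotient.field (Ideal.ofList (List.ofFn fun j => (v j : L)))
        infer_instance
      · refine (RingTheory.Sequence.isWeaklyRegular_map_algebraMap_iff A A _).1 ?_
        rw [List.map_ofFn]
        exact hseqA.toIsWeaklyRegular
    haveI : Module.Flat (MvPolynomial (Fin m) k) L := IsLocalization.flat L 𝔭.primeCompl
    exact Module.Flat.trans (MvPolynomial (Fin m) k) L A
  · have h1 : Ideal.map φ.toRingHom 𝔭 = Ideal.span (Set.range fun j => Φ (v j)) := by
      rw [show φ.toRingHom = Φ.comp θ from RingHom.ext fun x => (hΦθ x).symm, ← Ideal.map_map,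
        IsLocalization.AtPrime.map_eq_maximalIdeal 𝔭 L]
      refine (congrArg (Ideal.map Φ) hspan.symm).trans ?_
      rw [Ideal.map_span, ← Set.range_comp]
      rfl
    exact IsRegularLocalRing.of_ringEquiv (Ideal.quotientEquiv _ _ (RingEquiv.refl A)
      (h1.trans (Ideal.map_id _).symm))

end Groth.Agent.H02CA.GeomRegFlat
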