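import Groth.Prelude.Def_Found
import Groth.Agent.H05EGA4.Regular
import Mathlib.RingTheory.Unramified.Finite
import Mathlib.RingTheory.Unramified.Field
import Mathlib.RingTheory.TensorProduct.Maps
import Mathlib.FieldTheory.IntermediateField.Basic
import Mathlib.FieldTheory.Separable
import Mathlib.RingTheory.LocalProperties.Reduced
import Mathlib.LinearAlgebra.Dimension.Finite

/-!
# Geometric regularity: descent to subfields, separable change of field
-/

set_option autoImplicit false
universe u

open TensorProduct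

namespace Groth.Agent.H02CA

/-- A finite set in a directed union lies in one member. -/
theorem exists_index_of_finset {k : Type u} [Field k] {ι : Type u}
    (K : ι → Type u) [∀ i, Field (K i)] [∀ i, Algebra (K i) k]
    (hdir : ∀ i j, ∃ l, Set.range (algebraMap (K i) k) ⊆ Set.range (algebraMap (K l) k) ∧
      Set.range (algebraMap (K j) k) ⊆ Set.range (algebraMap (K l) k))
    (hcov : ∀ x : k, ∃ i, x ∈ Set.range (algebraMap (K i) k)) (s : Finset k) :
    ∃ l, ∀ x ∈ s, x ∈ Set.range (algebraMap (K l) k) := by
  classical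
  induction s using Finset.induction with
  | empty => exact ⟨(hcov 0).choose, by simp⟩
  | insert a s _ ih =>
    obtain ⟨i, hi⟩ := ih
    obtain ⟨j, hj⟩ := hcov a
    obtain ⟨l, hl, hl'⟩ := hdir i j
    exact ⟨l, fun x hx ↦ (Finset.mem_insert.mp hx).elim (fun e ↦ hl' (e ▸ hj)) fun h ↦ hl (hi x h)⟩

/-- A finite extension of a directed union of fields comes from one of the fields. -/
theorem exists_finite_model {k : Type u} [Field k] {ι : Type u}
    (K : ι → Type u) [∀ i, Field (K i)] [∀ i, Algebra (K i) k]
    (hdir : ∀ i j, ∃ l, Set.range (algebraMap (K i) k) ⊆ Set.range (algebraMap (K l) k) ∧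
      Set.range (algebraMap (K j) k) ⊆ Set.range (algebraMap (K l) k))
    (hcov : ∀ x : k, ∃ i, x ∈ Set.range (algebraMap (K i) k))
    (k' : Type u) [Field k'] [Algebra k k'] [Module.Finite k k'] :
    ∃ (l : ι) (E : Type u) (_ : Field E) (_ : Algebra (K l) E),
      Module.Finite (K l) E ∧ Nonempty ((k ⊗[K l] E) ≃ₐ[k] k') := by
  classical
  let b := Module.finBasis k k'
  let s : Finset k := Finset.univ.image (fun x : Fin _ × Fin _ × Fin _ ↦
      b.repr (b x.1 * b x.2.1) x.2.2) ∪ Finset.univ.image (fun j ↦ b.repr 1 j)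
  obtain ⟨l, hl⟩ := exists_index_of_finset K hdir hcov s
  let _ : Algebra (K l) k' := ((algebraMap k k').comp (algebraMap (K l) k)).toAlgebra
  have : IsScalarTower (K l) k k' := IsScalarTower.of_algebraMap_eq fun _ ↦ rfl
  let M := Submodule.span (K l) (Set.range b)
  have hmem : ∀ x : k', (∀ j, b.repr x j ∈ Set.range (algebraMap (K l) k)) → x ∈ M := by
    intro x hx
    rw [← b.sum_repr x]
    refine M.sum_mem fun j _ ↦ ?_
    obtain ⟨c, hc⟩ := hx j
    rw [← hc, algebraMap_smul]
    exact M.smul_mem c (Submodule.subset_span ⟨j, rfl⟩)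
  have h1 : (1 : k') ∈ M := hmem 1 fun j ↦ hl _ (by simp [s])
  have hb : ∀ x y, b x * b y ∈ M := fun x y ↦ hmem _ fun j ↦ hl _ (by
    simp only [s, Finset.mem_union, Finset.mem_image, Finset.mem_univ, true_and]
    exact Or.inl ⟨(x, y, j), rfl⟩)
  have hmul : ∀ x y : k', x ∈ M → y ∈ M → x * y ∈ M := by
    intro x y hx hy
    have hle : M * M ≤ M := by
      rw [Submodule.span_mul_span, Submodule.span_le]
      rintro _ ⟨_, ⟨i, rfl⟩, _, ⟨j, rfl⟩, rfl⟩
      exact hb i j
    exact hle (Submodule.mul_mem_mul hx hy)
  let A₀ : Subalgebra (K l) k' := M.toSubalgebra h1 hmul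
  have : Module.Finite (K l) A₀ := by
    have : Module.Finite (K l) M := Module.Finite.span_of_finite (K l) (Set.finite_range b)
    exact this
  have hF : IsField A₀ :=
    isField_of_isIntegral_of_isField' (R := K l) (Field.toIsField (K l))
  let E := A₀.toIntermediateField' hF
  have : Module.Finite (K l) E := ‹Module.Finite (K l) A₀›
  let f : (k ⊗[K l] E) →ₐ[k] k' :=
    Algebra.TensorProduct.lift (Algebra.ofId k k') E.val fun _ _ ↦ .all _ _
  have hsurj : Function.Surjective f := by
    rw [← AlgHom.range_eq_top, ← top_le_iff]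
    intro x _
    rw [← b.sum_repr x]
    refine Subalgebra.sum_mem _ fun j _ ↦ ?_
    exact ⟨b.repr x j ⊗ₜ (⟨b j, Submodule.subset_span ⟨j, rfl⟩⟩ : E), by
      simp [f, Algebra.smul_def, Algebra.ofId_apply]⟩
  have hdim : Module.finrank k (k ⊗[K l] E) = Module.finrank k k' := by
    rw [Module.finrank_baseChange]
    have h : Module.finrank (K l) M = Fintype.card (Fin (Module.finrank k k')) :=
      finrank_span_eq_card (b.linearIndependent.restrict_scalars' (K l))
    rw [Fintype.card_fin] at h
    exact h
  exact ⟨l, E, inferInstance, inferInstance, inferInstance, ⟨AlgEquiv.ofBijective f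
    ⟨(LinearMap.injective_iff_surjective_of_finrank_eq_finrank (f := f.toLinearMap) hdim).mpr hsurj,
      hsurj⟩⟩⟩

/-- Regularity is inherited from base change over `k` to base change over an unramified `F`. -/
theorem isRegularRing_tensor_of_unramified (k F E A : Type u) [CommRing k] [CommRing F]
    [CommRing E] [CommRing A] [Algebra k F] [Algebra k E] [Algebra F E] [IsScalarTower k F E]
    [Algebra k A] [Algebra F A] [IsScalarTower k F A] [Algebra.FormallyUnramified k F]
    [Algebra.EssFiniteType k F] [IsRegularRing (E ⊗[k] A)] : IsRegularRing (E ⊗[F] A) := by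
  obtain ⟨t, ht, ht1⟩ :=
    (Algebra.FormallyUnramified.iff_exists_tensorProduct (R := k) (S := F)).mp inferInstance
  let φ : F ⊗[k] F →ₐ[k] E ⊗[k] A :=
    Algebra.TensorProduct.map (IsScalarTower.toAlgHom k F E) (IsScalarTower.toAlgHom k F A)
  let ψ : E ⊗[k] A →ₐ[k] E ⊗[F] A := Algebra.TensorProduct.lift
    ((Algebra.TensorProduct.includeLeft (R := F) (S := F) (A := E) (B := A)).restrictScalars k)
    ((Algebra.TensorProduct.includeRight (R := F) (A := E) (B := A)).restrictScalars k)
    fun _ _ ↦ .all _ _
  have hψ : ∀ (e : E) (a : A), ψ (e ⊗ₜ a) = e ⊗ₜ a := fun e a ↦ by simp [ψ]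
  have hψφ : ∀ x, ψ (φ x) = algebraMap F (E ⊗[F] A) (Algebra.TensorProduct.lmul' k x) := by
    intro x
    induction x with
    | zero => simp
    | add x y hx hy => simp only [map_add, hx, hy]
    | tmul x y =>
      simp only [φ, Algebra.TensorProduct.map_tmul, IsScalarTower.coe_toAlgHom', hψ,
        Algebra.TensorProduct.lmul'_apply_tmul, map_mul]
      rw [← (Algebra.TensorProduct.includeRight (R := F) (A := E) (B := A)).commutes y,
        Algebra.TensorProduct.algebraMap_apply, Algebra.TensorProduct.includeRight_apply,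
        Algebra.TensorProduct.tmul_mul_tmul, mul_one, one_mul]
  let J : Ideal (E ⊗[k] A) := LinearMap.ker (LinearMap.mulRight (E ⊗[k] A) (φ t))
  have hJ : ∀ x, x ∈ J ↔ x * φ t = 0 := fun x ↦ Iff.rfl
  let D := (E ⊗[k] A) ⧸ J
  let iE : E →ₐ[k] D := (Ideal.Quotient.mkₐ k J).comp Algebra.TensorProduct.includeLeft
  let iA : A →ₐ[k] D := (Ideal.Quotient.mkₐ k J).comp Algebra.TensorProduct.includeRight
  let iE' : E →ₐ[F] D := { iE with commutes' := fun _ ↦ rfl }
  let iA' : A →ₐ[F] D :=
    { iA with
      commutes' := fun c ↦ by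
        change Ideal.Quotient.mk J (1 ⊗ₜ algebraMap F A c) =
          Ideal.Quotient.mk J (algebraMap F E c ⊗ₜ 1)
        rw [Ideal.Quotient.eq, hJ]
        have := congrArg φ (ht c)
        simpa [φ] using this }
  let χ : E ⊗[F] A →ₐ[F] D := Algebra.TensorProduct.lift iE' iA' fun _ _ ↦ .all _ _
  have hχ : ∀ x, χ (ψ x) = Ideal.Quotient.mk J x := by
    intro x
    induction x with
    | zero => simp
    | add x y hx hy => simp only [map_add, hx, hy]
    | tmul e a =>
      rw [hψ]
      simp only [χ, Algebra.TensorProduct.lift_tmul]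
      change Ideal.Quotient.mk J (e ⊗ₜ 1) * Ideal.Quotient.mk J (1 ⊗ₜ a) = _
      rw [← map_mul, Algebra.TensorProduct.tmul_mul_tmul, mul_one, one_mul]
  have hsurj : Function.Surjective ψ := by
    intro x
    induction x with
    | zero => exact ⟨0, map_zero _⟩
    | add x y hx hy =>
      obtain ⟨a, rfl⟩ := hx
      obtain ⟨b, rfl⟩ := hy
      exact ⟨a + b, map_add _ _ _⟩
    | tmul e a => exact ⟨e ⊗ₜ a, hψ e a⟩
  let _ : Algebra (E ⊗[k] A) (E ⊗[F] A) := ψ.toRingHom.toAlgebra
  have : IsLocalization (Submonoid.powers (φ t)) (E ⊗[F] A) := by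
    refine (isLocalization_iff _ _).mpr ⟨?_, fun z ↦ ?_, fun {x y} hxy ↦ ?_⟩
    · rintro ⟨_, n, rfl⟩
      change IsUnit (ψ (φ t ^ n))
      rw [map_pow, hψφ, ht1, map_one, one_pow]
      exact isUnit_one
    · obtain ⟨x, rfl⟩ := hsurj z
      exact ⟨⟨x, 1⟩, by
        change ψ x * ψ 1 = ψ x
        rw [map_one, mul_one]⟩
    · refine ⟨⟨φ t, 1, pow_one _⟩, ?_⟩
      have h1 : x - y ∈ J := by
        rw [← Ideal.Quotient.eq, ← hχ, ← hχ]
        exact congrArg χ hxy
      rw [hJ] at h1
      change φ t * x = φ t * y
      rw [sub_mul, sub_eq_zero] at h1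
      rw [mul_comm, h1, mul_comm]
  exact Groth.Agent.H05EGA4.isRegularRing_of_isLocalization (Submonoid.powers (φ t)) _

/-- Regularity of every residue algebra of a reduced Artinian base gives regularity. -/
theorem isRegularRing_of_forall_residue (B C : Type u) [CommRing B] [CommRing C] [Algebra B C]
    [IsArtinianRing B] [IsReduced B] [IsNoetherianRing C]
    (h : ∀ m : Ideal B, m.IsMaximal → IsRegularRing (C ⊗[B] (B ⧸ m))) : IsRegularRing C := by
  refine isRegularRing_iff.2 fun P hP ↦ ?_
  let m := P.comap (algebraMap B C)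
  have : m.IsMaximal := IsArtinianRing.isMaximal_of_isPrime m
  have hloc : IsLocalization m.primeCompl (B ⧸ m) := by
    have hsurj : Function.Surjective (algebraMap B (Localization.AtPrime m)) :=
      IsArtinianRing.localization_surjective m.primeCompl _
    have : IsReduced (Localization.AtPrime m) := inferInstance
    have : IsArtinianRing (Localization.AtPrime m) := hsurj.isArtinianRing
    have hf : IsField (Localization.AtPrime m) :=
      IsArtinianRing.isField_of_isReduced_of_isLocalRing _
    have hker : RingHom.ker (Algebra.ofId B (Localization.AtPrime m)) = m := by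
      change RingHom.ker (algebraMap B (Localization.AtPrime m)) = m
      rw [RingHom.ker_eq_comap_bot, ← IsLocalRing.isField_iff_maximalIdeal_eq.mp hf]
      exact Localization.AtPrime.under_maximalIdeal
    exact IsLocalization.isLocalization_of_algEquiv m.primeCompl
      ((Ideal.quotientKerAlgEquivOfSurjective (f := Algebra.ofId B (Localization.AtPrime m))
        hsurj).symm.trans (Ideal.quotientEquivAlgOfEq B hker))
  have : IsLocalization (Algebra.algebraMapSubmonoid C m.primeCompl) (C ⊗[B] (B ⧸ m)) :=
    inferInstance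
  have := h m inferInstance
  have hdisj : Disjoint (Algebra.algebraMapSubmonoid C m.primeCompl : Set C) (P : Set C) := by
    rw [Set.disjoint_left]
    rintro _ ⟨x, hx, rfl⟩ hxP
    exact hx hxP
  let C' := C ⊗[B] (B ⧸ m)
  let P' : Ideal C' := P.map (algebraMap C C')
  have : P'.IsPrime := IsLocalization.isPrime_of_isPrime_disjoint _ C' P hP hdisj
  have hP' : P'.comap (algebraMap C C') = P :=
    IsLocalization.comap_map_of_isPrime_disjoint _ C' hP hdisj
  have hl := IsLocalization.isLocalization_isLocalization_atPrime_isLocalization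
    (Algebra.algebraMapSubmonoid C m.primeCompl) (Localization.AtPrime P') P'
  have hl' : IsLocalization.AtPrime (Localization.AtPrime P') P := by
    simp only [IsLocalization.AtPrime] at hl ⊢
    convert hl using 2
    exact hP'.symm
  have := isRegularRing_iff.1 (inferInstance : IsRegularRing C') P'
  exact IsRegularLocalRing.of_ringEquiv (R := Localization.AtPrime P')
    (IsLocalization.algEquiv P.primeCompl
      (Localization.AtPrime P') (Localization.AtPrime P)).toRingEquiv

end Groth.Agent.H02CA
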