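import Groth.Agent.H05EGA4.GeomFibre
import Groth.Agent.H05EGA4.RegHomFS
import Groth.Agent.H05EGA4.FSBaseChange
import Groth.Agent.H02CA.RegularHom

/-!
# Geometrically regular algebras and arbitrary field extensions
-/

set_option autoImplicit false
set_option linter.style.haveILetI false
universe u
open IsLocalRing TensorProduct

namespace Groth.Agent.H02CA.GeomRegularFields

/-- A geometrically regular Noetherian algebra stays regular after any field extension keeping it
Noetherian. -/
theorem isRegularRing_tensor (k A L : Type u) [Field k] [CommRing A] [Algebra k A] [IsNoetherianRing A]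
    [Field L] [Algebra k L] [IsNoetherianRing (L ⊗[k] A)] (h : CAlg.IsGeometricallyRegular k A) :
    IsRegularRing (L ⊗[k] A) := by
  rw [isRegularRing_iff]
  intro P _
  let q : Ideal A := P.comap (Algebra.TensorProduct.includeRight : A →ₐ[k] L ⊗[k] A)
  let S := Localization.AtPrime q
  have hS : CAlgX.IsAdicFormallySmooth k S (maximalIdeal S) :=
    H05EGA4.isAdicFormallySmooth_of_isGeometricallyRegular
      (H05EGA4.isGeometricallyRegular_of_isLocalization q.primeCompl h)
  letI : Algebra (L ⊗[k] A) (L ⊗[k] S) :=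
    (Algebra.TensorProduct.map (AlgHom.id k L) (IsScalarTower.toAlgHom k A S)).toRingHom.toAlgebra
  let M := q.primeCompl.map (Algebra.TensorProduct.includeRight : A →ₐ[k] L ⊗[k] A).toRingHom
  have hM : IsLocalization M (L ⊗[k] S) := H05EGA4.isLocalization_tensor_right k A S L q.primeCompl
  have hdisj : Disjoint (M : Set (L ⊗[k] A)) P := by
    rw [Set.disjoint_left]
    rintro _ ⟨a, ha, rfl⟩ hP
    exact ha hP
  let P' := P.map (algebraMap (L ⊗[k] A) (L ⊗[k] S))
  haveI : P'.IsPrime := IsLocalization.isPrime_of_isPrime_disjoint M _ P ‹_› hdisj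
  have hc : P'.comap (algebraMap (L ⊗[k] A) (L ⊗[k] S)) = P :=
    IsLocalization.under_map_of_isPrime_disjoint M _ ‹_› hdisj
  haveI : IsNoetherianRing (L ⊗[k] S) := IsLocalization.isNoetherianRing M _ inferInstance
  haveI : IsNoetherianRing (Localization.AtPrime P') :=
    IsLocalization.isNoetherianRing P'.primeCompl _ inferInstance
  have hmax : ∀ s ∈ maximalIdeal S, (Algebra.TensorProduct.includeRight : S →ₐ[k] L ⊗[k] S) s ∈ P' := by
    intro s hs
    rw [← Localization.AtPrime.map_eq_maximalIdeal] at hs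
    refine (Ideal.map_le_iff_le_comap.mpr ?_ :
      q.map (algebraMap A S) ≤ P'.comap (Algebra.TensorProduct.includeRight : S →ₐ[k] L ⊗[k] S)) hs
    intro a ha
    have h1 : algebraMap (L ⊗[k] A) (L ⊗[k] S) ((1 : L) ⊗ₜ[k] a) ∈ P' := Ideal.mem_map_of_mem _ ha
    exact h1
  haveI := (H05EGA4.isRegularLocalRing_of_isAdicFormallySmooth
    (H05EGA4.isAdicFormallySmooth_localization_tensor hS L P' hmax)).1
  haveI : IsLocalization.AtPrime (Localization.AtPrime P') (P'.comap (algebraMap (L ⊗[k] A) (L ⊗[k] S))) :=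
    IsLocalization.isLocalization_isLocalization_atPrime_isLocalization M (Localization.AtPrime P') P'
  have hr := IsRegularLocalRing.of_ringEquiv (R := Localization.AtPrime P')
    (R' := Localization.AtPrime (P'.comap (algebraMap (L ⊗[k] A) (L ⊗[k] S)))) (IsLocalization.algEquiv
    (P'.comap (algebraMap (L ⊗[k] A) (L ⊗[k] S))).primeCompl (Localization.AtPrime P')
    (Localization.AtPrime (P'.comap (algebraMap (L ⊗[k] A) (L ⊗[k] S))))).toRingEquiv
  have aux : ∀ (r : Ideal (L ⊗[k] A)) [r.IsPrime], r = P → IsRegularLocalRing (Localization.AtPrime r) →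
      IsRegularLocalRing (Localization.AtPrime P) := by
    intro r _ hr H
    subst hr
    exact H
  exact aux _ hc hr

/-- Fibres of a regular homomorphism over fields essentially of finite type are regular. -/
theorem isRegularRing_tensor_of_essFiniteType {R Λ : Type u} [CommRing R] [CommRing Λ] [Algebra R Λ]
    (h : CAlg.IsRegularHom R Λ) (L : Type u) [Field L] [Algebra R L] [Algebra.EssFiniteType R L] :
    IsRegularRing (L ⊗[R] Λ) ∧ IsNoetherianRing (L ⊗[R] Λ) := by
  let p := RingHom.ker (algebraMap R L)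
  haveI : p.IsPrime := RingHom.ker_isPrime _
  letI : Algebra (R ⧸ p) L := (Ideal.Quotient.lift p (algebraMap R L) fun _ hx => hx).toAlgebra
  have hinj : Function.Injective (algebraMap (R ⧸ p) L) :=
    RingHom.lift_injective_of_ker_le_ideal _ _ le_rfl
  letI : Algebra p.ResidueField L := (IsFractionRing.lift (K := p.ResidueField) hinj).toAlgebra
  haveI : IsScalarTower R p.ResidueField L := by
    refine IsScalarTower.of_algebraMap_eq fun r => ?_
    rw [IsScalarTower.algebraMap_apply R (R ⧸ p) p.ResidueField]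
    exact (IsFractionRing.lift_algebraMap hinj (algebraMap R (R ⧸ p) r)).symm
  haveI : Algebra.EssFiniteType p.ResidueField L := Algebra.EssFiniteType.of_comp R p.ResidueField L
  obtain ⟨hN, hG⟩ := h.2 p
  letI : Algebra (p.Fiber Λ) ((p.Fiber Λ) ⊗[p.ResidueField] L) := Algebra.TensorProduct.leftAlgebra
  haveI : Algebra.EssFiniteType (p.Fiber Λ) ((p.Fiber Λ) ⊗[p.ResidueField] L) := inferInstance
  haveI : IsNoetherianRing ((p.Fiber Λ) ⊗[p.ResidueField] L) :=
    Algebra.EssFiniteType.isNoetherianRing (p.Fiber Λ) ((p.Fiber Λ) ⊗[p.ResidueField] L)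
  haveI : IsNoetherianRing (L ⊗[p.ResidueField] (p.Fiber Λ)) :=
    isNoetherianRing_of_ringEquiv _ (Algebra.TensorProduct.comm p.ResidueField (p.Fiber Λ) L).toRingEquiv
  haveI := isRegularRing_tensor p.ResidueField (p.Fiber Λ) L hG
  have e := fiberBaseChangeEquiv p L Λ
  exact ⟨IsRegularRing.of_ringEquiv (R := L ⊗[p.ResidueField] (p.Fiber Λ)) e, isNoetherianRing_of_ringEquiv _ e⟩

/-- Regular homomorphisms are stable under base change essentially of finite type. -/
theorem isRegularHom_baseChange {R Λ : Type u} [CommRing R] [CommRing Λ] [Algebra R Λ]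
    (h : CAlg.IsRegularHom R Λ) (R' : Type u) [CommRing R'] [Algebra R R'] [Algebra.EssFiniteType R R'] :
    CAlg.IsRegularHom R' (R' ⊗[R] Λ) := by
  haveI : Module.Flat R Λ := h.1
  have key : ∀ (L : Type u) [Field L] [Algebra R' L] [Algebra.EssFiniteType R' L],
      IsRegularRing (L ⊗[R'] (R' ⊗[R] Λ)) ∧ IsNoetherianRing (L ⊗[R'] (R' ⊗[R] Λ)) := by
    intro L _ _ _
    letI : Algebra R L := ((algebraMap R' L).comp (algebraMap R R')).toAlgebra
    haveI : IsScalarTower R R' L := IsScalarTower.of_algebraMap_eq fun _ => rfl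
    haveI := Algebra.EssFiniteType.comp R R' L
    obtain ⟨h1, h2⟩ := isRegularRing_tensor_of_essFiniteType h L
    have e := (Algebra.TensorProduct.cancelBaseChange R R' L L Λ).toRingEquiv.symm
    exact ⟨IsRegularRing.of_ringEquiv e, isNoetherianRing_of_ringEquiv _ e⟩
  refine isRegularHom_of_forall (fun p _ => (key p.ResidueField).2) fun p _ k' _ _ _ _ _ => ?_
  haveI : Algebra.EssFiniteType R' k' := Algebra.EssFiniteType.comp R' p.ResidueField k'
  exact (key k').1

end Groth.Agent.H02CA.GeomRegularFields
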