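import Groth.Agent.H02CA.GorRing
import Groth.Agent.H05EGA4.Dim
import Mathlib

/-!
A Noetherian ring has finite injective dimension over itself iff it is Gorenstein of finite dimension.
-/

set_option autoImplicit false

namespace Groth.Agent.H02CA.GorFlat

universe u

open CategoryTheory CategoryTheory.Abelian IsLocalRing LocCoh
open scoped TensorProduct

theorem isNoetherianRing_atPrime {A : Type u} [CommRing A] [IsNoetherianRing A] (p : Ideal A) [p.IsPrime] :
    IsNoetherianRing (Localization.AtPrime p) :=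
  IsLocalization.isNoetherianRing p.primeCompl _ inferInstance

theorem height_le_of_injdim {A : Type u} [CommRing A] [IsNoetherianRing A] {n : ℕ}
    (hn : HasInjectiveDimensionLT (ModuleCat.of A A) n) (p : Ideal A) [p.IsPrime] :
    (p.height : WithBot ℕ∞) ≤ n := by
  haveI := isNoetherianRing_atPrime p
  haveI := gor_localization_of_injdim ⟨n, hn⟩ p
  haveI : Module.Flat A (Localization.AtPrime p) := IsLocalization.flat _ p.primeCompl
  let B := Localization.AtPrime p
  obtain ⟨d, hd, hdim, -⟩ := H4Goren.depth_eq_ringKrullDim B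
  rw [← IsLocalization.AtPrime.ringKrullDim_eq_height p B, hdim]
  by_contra hlt
  have hdn : n < d := by
    by_contra h'
    exact hlt (by exact_mod_cast Nat.le_of_not_lt h')
  have hsupp : Module.support B (ModuleCat.of B (ResidueField B)) =
      PrimeSpectrum.zeroLocus (maximalIdeal B : Set B) := by
    rw [Module.support_eq_zeroLocus]
    exact congrArg PrimeSpectrum.zeroLocus (congrArg SetLike.coe
      (Ideal.annihilator_quotient (I := maximalIdeal B)))
  have h1 : ∀ i : ℕ, i < d + 1 →
      Subsingleton (Ext (ModuleCat.of B (ResidueField B)) (ModuleCat.of B B) i) := by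
    intro i _
    by_cases hi : n ≤ i
    · exact subsingleton_ext_of_flat_extended n hn B p Localization.AtPrime.map_eq_maximalIdeal i hi
    · refine H4Depth.subsingleton_ext_of_lt_idealDepth (I := maximalIdeal B) (M := B) _ hsupp.le i ?_
      rw [show LocCoh.idealDepth (maximalIdeal B) B = LocCoh.depth B B from rfl, hd]
      exact_mod_cast lt_trans (Nat.lt_of_not_le hi) hdn
  have h2 := H4Depth.le_idealDepth_of_subsingleton_ext (I := maximalIdeal B) (M := B) _ hsupp (d + 1) h1
  rw [show LocCoh.idealDepth (maximalIdeal B) B = LocCoh.depth B B from rfl, hd] at h2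
  exact absurd (ENat.natCast_le_natCast.1 h2) (by omega)

theorem hasInjectiveDimensionLT_of_dim_le {A : Type u} [CommRing A] [IsGorensteinRing A] {d : ℕ}
    (hd : ringKrullDim A ≤ d) : HasInjectiveDimensionLT (ModuleCat.of A A) (d + 1) := by
  refine H05EGA4.hasInjectiveDimensionLT_of_ext_quotient d _ fun I => ?_
  let E := Ext (ModuleCat.of A (A ⧸ I)) (ModuleCat.of A A) (d + 1)
  refine Module.subsingleton_of_localization_maximal (R := A) (M := E)
    (fun m _ => Localization.AtPrime m ⊗[A] E)
    (fun m _ => TensorProduct.mk A (Localization.AtPrime m) E 1) fun m hm => ?_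
  haveI := isNoetherianRing_atPrime m
  haveI := IsGorensteinRing.isGorensteinLocalRing_localization (A := A) m
  haveI : Module.Flat A (Localization.AtPrime m) := IsLocalization.flat _ m.primeCompl
  let B := Localization.AtPrime m
  obtain ⟨n, -, hdim, hev⟩ := H4Goren.depth_eq_ringKrullDim B
  have hnd : n ≤ d := by
    have : ((n : ℕ∞) : WithBot ℕ∞) ≤ d := by
      rw [show ((n : ℕ∞) : WithBot ℕ∞) = (n : WithBot ℕ∞) from rfl, ← hdim,
        IsLocalization.AtPrime.ringKrullDim_eq_height m B]
      exact (Ideal.height_le_ringKrullDim_of_ne_top hm.ne_top).trans hd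
    exact_mod_cast this
  haveI := H4Goren.hasInjectiveDimensionLT_of_eva B B hev
  obtain ⟨e⟩ := Groth.Agent.H02CA.ExtFlatBC.nonempty_ext_equiv (A := A) B A (d + 1) (A ⧸ I)
  haveI : Subsingleton (Ext (ModuleCat.of B (B ⊗[A] (A ⧸ I))) (ModuleCat.of B (B ⊗[A] A)) (d + 1)) := by
    refine subsingleton_of_forall_eq 0 fun x => ?_
    let e2 : B ⊗[A] A ≃ₗ[B] B := TensorProduct.AlgebraTensorModule.rid A B B
    rw [← x.comp_mk₀_id, ← e2.toModuleIso.hom_inv_id, ← Ext.mk₀_comp_mk₀,
      ← Ext.comp_assoc_of_third_deg_zero,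
      (x.comp (Ext.mk₀ e2.toModuleIso.hom) (add_zero _)).eq_zero_of_hasInjectiveDimensionLT (n + 1)
        (by omega), Ext.zero_comp]
  exact e.toEquiv.subsingleton

theorem finite_injdim_iff (A : Type u) [CommRing A] [IsNoetherianRing A] :
    (∃ n : ℕ, HasInjectiveDimensionLT (ModuleCat.of A A) n) ↔
      (IsGorensteinRing A ∧ ringKrullDim A < ⊤) := by
  constructor
  · rintro ⟨n, hn⟩
    refine ⟨{ isGorensteinLocalRing_localization := fun p _ =>
      gor_localization_of_injdim ⟨n, hn⟩ p }, ?_⟩
    refine lt_of_le_of_lt ((ringKrullDim_le_iff_height_le (n : WithBot ℕ∞)).2 ?_) (WithBot.coe_lt_coe.2 (ENat.natCast_lt_top n))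
    intro I hI
    exact height_le_of_injdim hn I
  · rintro ⟨hA, hlt⟩
    haveI := hA
    obtain ⟨d, hd⟩ : ∃ d : ℕ, ringKrullDim A ≤ d := by
      cases h : ringKrullDim A with
      | bot => exact ⟨0, bot_le⟩
      | coe a =>
        obtain ⟨d, rfl⟩ := ENat.ne_top_iff_exists.mp (WithBot.coe_lt_coe.1 (h ▸ hlt)).ne
        exact ⟨d, le_rfl⟩
    exact ⟨d + 1, hasInjectiveDimensionLT_of_dim_le hd⟩

end Groth.Agent.H02CA.GorFlat
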