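import Groth.Agent.H05EGA4.FlatPresentation
import Groth.Agent.H02CA.AdicSmooth
import Groth.Agent.H02CA.GorFlat
import Groth.Agent.H8Props.FlatDepth
import Groth.Agent.S0341
import Groth.Agent.S0342
import Groth.Agent.H9Hens.BranchSum

/-!
Factorisation of a local homomorphism of Artinian local rings through a flat one with Gorenstein fibre.
-/

set_option autoImplicit false
set_option linter.style.haveILetI false

universe u

open IsLocalRing
open scoped TensorProduct

namespace Groth.Agent.H02CA.GorFactor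

variable {A S : Type u} [CommRing A] [IsArtinianRing A] [IsLocalRing A] [CommRing S] [IsArtinianRing S]
  [IsLocalRing S] [Algebra A S]

/-- Cutting a Gorenstein quotient by a regular element. -/
theorem gor_cut {B : Type u} [CommRing B] [IsLocalRing B] [IsNoetherianRing B] (I : Ideal B) (x : B)
    (hx : x ∈ maximalIdeal B) (hreg : IsSMulRegular (B ⧸ I) x) (hG : LocCoh.IsGorensteinLocalRing (B ⧸ I)) :
    LocCoh.IsGorensteinLocalRing ((B ⧸ Ideal.span {x}) ⧸ I.map (Ideal.Quotient.mk (Ideal.span {x}))) := by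
  haveI := hG
  haveI : IsLocalHom (Ideal.Quotient.mk I) := Function.Surjective.isLocalHom _ Ideal.Quotient.mk_surjective
  have hm : Ideal.Quotient.mk I x ∈ maximalIdeal (B ⧸ I) := map_nonunit (Ideal.Quotient.mk I) x hx
  have hreg' : IsSMulRegular (B ⧸ I) (Ideal.Quotient.mk I x) := fun a b h => hreg h
  have h1 : LocCoh.IsGorensteinLocalRing ((B ⧸ I) ⧸ Ideal.span {Ideal.Quotient.mk I x}) :=
    (H4Goren.isGorensteinLocalRing_quotient_iff (A := B ⧸ I) hm hreg').1 hG
  have e0 : Ideal.span {Ideal.Quotient.mk I x} = (Ideal.span {x}).map (Ideal.Quotient.mk I) := by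
    rw [Ideal.map_span, Set.image_singleton]
  exact GorFlat.gor_of_ringEquiv ((Ideal.quotEquivOfEq e0).trans
    (DoubleQuot.quotQuotEquivComm I (Ideal.span {x}))) h1

theorem exists_artinian : ∀ (n : ℕ) (B : Type u) [CommRing B] [IsLocalRing B] [IsNoetherianRing B] [Algebra A B]
    [IsLocalHom (algebraMap A B)] [Module.Flat A B],
    LocCoh.IsGorensteinLocalRing (B ⧸ (maximalIdeal A).map (algebraMap A B)) →
    LocCoh.depth B (B ⧸ (maximalIdeal A).map (algebraMap A B)) = (n : ℕ∞) →
    ∀ g : B →ₐ[A] S, Function.Surjective g →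
    ∃ (R' : Type u) (_ : CommRing R') (_ : Algebra A R'), IsArtinianRing R' ∧ IsLocalRing R' ∧ Module.Flat A R' ∧
      IsLocalHom (algebraMap A R') ∧ LocCoh.IsGorensteinLocalRing (R' ⧸ (maximalIdeal A).map (algebraMap A R')) ∧
      ∃ g : R' →ₐ[A] S, Function.Surjective g := by
  intro n
  induction n with
  | zero =>
    intro B _ _ _ _ _ _ hG hd g hg
    refine ⟨B, inferInstance, inferInstance, ?_, inferInstance, inferInstance, inferInstance, hG, g, hg⟩
    haveI := hG
    haveI := S0341.result (B ⧸ (maximalIdeal A).map (algebraMap A B))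
    have hcm := LocCoh.IsCohenMacaulayLocalRing.supportDim_eq_depth
      (R := B ⧸ (maximalIdeal A).map (algebraMap A B))
    rw [Module.supportDim_self_eq_ringKrullDim,
      H8Props.FlatDepth.depth_eq_of_surjective (R := B) Ideal.Quotient.mk_surjective, hd] at hcm
    haveI : Ring.KrullDimLE 0 (B ⧸ (maximalIdeal A).map (algebraMap A B)) :=
      Ring.krullDimLE_iff.mpr (le_of_eq hcm)
    haveI : Ring.KrullDimLE 0 B := Ring.krullDimLE_zero_iff.mpr fun P hP => by
      have hle : (maximalIdeal A).map (algebraMap A B) ≤ P := by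
        obtain ⟨k, hk⟩ := (IsArtinianRing.isNilpotent_jacobson_bot (R := A))
        rw [IsLocalRing.jacobson_eq_maximalIdeal _ bot_ne_top, Ideal.zero_eq_bot] at hk
        refine (Ideal.IsPrime.pow_le_iff (n := k + 1) (by omega)).1 ?_
        rw [pow_succ, ← Ideal.map_pow, hk, Ideal.map_bot, Ideal.bot_mul]
        exact bot_le
      haveI : (P.map (Ideal.Quotient.mk ((maximalIdeal A).map (algebraMap A B)))).IsPrime :=
        Ideal.map_isPrime_of_surjective Ideal.Quotient.mk_surjective (by rw [Ideal.mk_ker]; exact hle)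
      have hmax := Ring.krullDimLE_zero_iff.mp ‹Ring.KrullDimLE 0 (B ⧸ (maximalIdeal A).map (algebraMap A B))›
        (P.map (Ideal.Quotient.mk ((maximalIdeal A).map (algebraMap A B)))) inferInstance
      haveI := hmax
      have := Ideal.comap_isMaximal_of_surjective _ (Ideal.Quotient.mk_surjective (I := (maximalIdeal A).map (algebraMap A B)))
        (K := P.map (Ideal.Quotient.mk ((maximalIdeal A).map (algebraMap A B))))
      rwa [Ideal.comap_map_of_surjective _ Ideal.Quotient.mk_surjective, ← RingHom.ker_eq_comap_bot, Ideal.mk_ker,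
        sup_eq_left.2 hle] at this
    exact isArtinianRing_iff_krullDimLE_zero.2 inferInstance
  | succ n ih =>
    intro B _ _ _ _ _ _ hG hd g hg
    haveI := hG
    set F := B ⧸ (maximalIdeal A).map (algebraMap A B) with hF
    haveI : Nontrivial F := inferInstance
    have hex : ∃ x ∈ RingHom.ker g, IsSMulRegular F x := by
      by_contra hcon
      push Not at hcon
      obtain ⟨P, hP, hle⟩ := H4Depth.exists_associatedPrime_ge_of_no_regular (M := F) hcon
      haveI : P.IsPrime := IsAssociatedPrime.isPrime hP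
      haveI : (P.map g.toRingHom).IsPrime := Ideal.map_isPrime_of_surjective (f := g.toRingHom) hg hle
      haveI : (P.map g.toRingHom).IsMaximal := IsArtinianRing.isMaximal_of_isPrime _
      have hmax : P.IsMaximal := by
        have := Ideal.comap_isMaximal_of_surjective g.toRingHom hg (K := P.map g.toRingHom)
        rwa [Ideal.comap_map_of_surjective g.toRingHom hg, ← RingHom.ker_eq_comap_bot, sup_eq_left.2 (show RingHom.ker g.toRingHom ≤ P from hle)] at this
      have h0 : LocCoh.depth B F = 0 := by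
        refine (H4Depth.idealDepth_eq_zero_iff_exists_associatedPrime ?_).2 ⟨P, hP, ?_⟩
        · exact (Submodule.top_ne_ideal_smul_of_le_jacobson_annihilator (maximalIdeal_le_jacobson _)).symm
        · rw [IsLocalRing.eq_maximalIdeal hmax]
      rw [hd] at h0
      exact absurd h0 (by simp)
    obtain ⟨x, hxg, hxreg⟩ := hex
    have hx : x ∈ maximalIdeal B := le_maximalIdeal (RingHom.ker_ne_top g) hxg
    haveI : IsLocalRing (B ⧸ Ideal.span {x}) := H9Hens.isLocalRing_quotient fun h => by
      rw [Ideal.span_singleton_eq_top] at h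
      exact (mem_maximalIdeal _).1 hx h
    haveI : IsLocalHom (algebraMap A (B ⧸ Ideal.span {x})) := by
      haveI : IsLocalHom (Ideal.Quotient.mk (Ideal.span {x})) := Function.Surjective.isLocalHom _ Ideal.Quotient.mk_surjective
      exact RingHom.isLocalHom_comp (Ideal.Quotient.mk (Ideal.span {x})) (algebraMap A B)
    haveI := H8Props.FlatDepth.flat_quotient_of_fibre (A := A) (B := B) hxreg
    have hmap : (maximalIdeal A).map (algebraMap A (B ⧸ Ideal.span {x})) =
        ((maximalIdeal A).map (algebraMap A B)).map (Ideal.Quotient.mk (Ideal.span {x})) := by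
      rw [Ideal.map_map]; rfl
    have hGor : LocCoh.IsGorensteinLocalRing
        ((B ⧸ Ideal.span {x}) ⧸ (maximalIdeal A).map (algebraMap A (B ⧸ Ideal.span {x}))) := by
      rw [hmap]
      exact gor_cut _ x hx hxreg hG
    have hdep : LocCoh.depth (B ⧸ Ideal.span {x})
        ((B ⧸ Ideal.span {x}) ⧸ (maximalIdeal A).map (algebraMap A (B ⧸ Ideal.span {x}))) = (n : ℕ∞) := by
      have := H8Props.FlatDepth.depth_fibre_quotient (A := A) (B := B) hx hxreg
      rw [hd, Nat.cast_add, Nat.cast_one] at this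
      exact WithTop.add_right_cancel ENat.one_ne_top this
    exact ih (B ⧸ Ideal.span {x}) hGor hdep
      (Ideal.Quotient.liftₐ (Ideal.span {x}) g fun b hb => by
        obtain ⟨c, rfl⟩ := Ideal.mem_span_singleton'.1 hb
        rw [map_mul, show g x = 0 from hxg, mul_zero])
      fun s => by obtain ⟨b, rfl⟩ := hg s; exact ⟨Ideal.Quotient.mk _ b, rfl⟩

theorem exists_factorization [IsLocalHom (algebraMap A S)] :
    ∃ (R' : Type u) (_ : CommRing R') (_ : Algebra A R'), IsArtinianRing R' ∧ IsLocalRing R' ∧ Module.Flat A R' ∧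
      IsLocalHom (algebraMap A R') ∧ LocCoh.IsGorensteinLocalRing (R' ⧸ (maximalIdeal A).map (algebraMap A R')) ∧
      ∃ g : R' →ₐ[A] S, Function.Surjective g := by
  have hc : ∀ (R : Type u) [CommRing R] [IsArtinianRing R] [IsLocalRing R], IsAdicComplete (maximalIdeal R) R := by
    intro R _ _ _
    obtain ⟨k, hk⟩ := IsArtinianRing.isNilpotent_jacobson_bot (R := R)
    rw [IsLocalRing.jacobson_eq_maximalIdeal _ bot_ne_top, Ideal.zero_eq_bot] at hk
    exact H02CA.AdicSmooth.isAdicComplete_of_pow_eq_bot hk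
  haveI := hc A
  haveI := hc S
  obtain ⟨Λ, Λ', _, _, _, _, n, m, ρ, σ, τ, hdis, hρ, hσ, hcomm, hτl, hτf, hfib⟩ :=
    H05EGA4.exists_flat_presentation A S
  letI : Algebra (MvPowerSeries (Fin n) Λ) A := ρ.toAlgebra
  letI : Algebra (MvPowerSeries (Fin n) Λ) (MvPowerSeries (Fin m) Λ') := τ.toAlgebra
  letI : Algebra (MvPowerSeries (Fin n) Λ) S := ((algebraMap A S).comp ρ).toAlgebra
  haveI : IsScalarTower (MvPowerSeries (Fin n) Λ) A S := IsScalarTower.of_algebraMap_eq fun _ => rfl
  haveI : Module.Flat (MvPowerSeries (Fin n) Λ) (MvPowerSeries (Fin m) Λ') := hτf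
  let R1 := A ⊗[MvPowerSeries (Fin n) Λ] MvPowerSeries (Fin m) Λ'
  let i2 : MvPowerSeries (Fin m) Λ' →+* R1 :=
    (Algebra.TensorProduct.includeRight : MvPowerSeries (Fin m) Λ' →ₐ[MvPowerSeries (Fin n) Λ] R1).toRingHom
  have hi2 : Function.Surjective i2 := fun z => by
    induction z using TensorProduct.induction_on with
    | zero => exact ⟨0, map_zero _⟩
    | tmul a w =>
      obtain ⟨r, rfl⟩ := hρ a
      refine ⟨τ r * w, ?_⟩
      show (1 : A) ⊗ₜ (r • w) = (ρ r) ⊗ₜ[MvPowerSeries (Fin n) Λ] w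
      rw [← TensorProduct.smul_tmul, Algebra.smul_def, mul_one]
      rfl
    | add a b ha hb =>
      obtain ⟨a', rfl⟩ := ha
      obtain ⟨b', rfl⟩ := hb
      exact ⟨a' + b', map_add _ _ _⟩
  let σ' : MvPowerSeries (Fin m) Λ' →ₐ[MvPowerSeries (Fin n) Λ] S :=
    { σ with commutes' := fun r => RingHom.congr_fun hcomm r }
  let g : R1 →ₐ[A] S := Algebra.TensorProduct.lift (Algebra.ofId A S) σ' fun _ _ => Commute.all _ _
  have hgi : ∀ w, g (i2 w) = σ w := fun w => by
    show g ((1 : A) ⊗ₜ w) = σ w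
    rw [Algebra.TensorProduct.lift_tmul, map_one, one_mul]
    rfl
  have hg : Function.Surjective g := fun s => by
    obtain ⟨w, rfl⟩ := hσ s
    exact ⟨i2 w, hgi w⟩
  haveI : Nontrivial R1 := g.toRingHom.domain_nontrivial
  haveI : IsLocalRing R1 := IsLocalRing.of_surjective' i2 hi2
  haveI : IsNoetherianRing (MvPowerSeries (Fin m) Λ') := by
    have hΛ' : IsField Λ' ∨ CAlg.IsCohenRing Λ' := hdis.imp (fun h => h.2.2) (fun h => h.2.2)
    haveI := (H05EGA4.coefficientRing_spec hΛ').2.2.1
    haveI := H05EGA4.isRegularRing_of_isField_or_isCohenRing hΛ'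
    haveI : IsRegularRing (MvPowerSeries (Fin m) Λ') := S5784.result Λ' _
    exact inferInstance
  haveI : IsNoetherianRing R1 := isNoetherianRing_of_surjective _ _ i2 hi2
  haveI : IsLocalHom (algebraMap A R1) := by
    haveI : IsLocalHom (g.toRingHom.comp (algebraMap A R1)) := by
      rw [show g.toRingHom.comp (algebraMap A R1) = algebraMap A S from g.comp_algebraMap]; infer_instance
    exact isLocalHom_of_comp _ g.toRingHom
  -- the fibre
  let M := (maximalIdeal (MvPowerSeries (Fin n) Λ)).map τ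
  have hM : (maximalIdeal A).map (algebraMap A R1) = M.map i2 := by
    haveI : IsLocalHom ρ := Function.Surjective.isLocalHom ρ hρ
    rw [← IsLocalRing.map_maximalIdeal_of_surjective ρ hρ, Ideal.map_map, Ideal.map_map]
    congr 1
    refine RingHom.ext fun r => ?_
    show (ρ r) ⊗ₜ[MvPowerSeries (Fin n) Λ] (1 : MvPowerSeries (Fin m) Λ') = (1 : A) ⊗ₜ (τ r)
    rw [show τ r = r • (1 : MvPowerSeries (Fin m) Λ') by rw [Algebra.smul_def, mul_one]; rfl,
      ← TensorProduct.smul_tmul, Algebra.smul_def, mul_one]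
    rfl
  let φ : MvPowerSeries (Fin m) Λ' →+* R1 ⧸ (maximalIdeal A).map (algebraMap A R1) :=
    (Ideal.Quotient.mk _).comp i2
  have hkerρ : RingHom.ker ρ ≤ maximalIdeal _ := le_maximalIdeal (RingHom.ker_ne_top ρ)
  let toF : A →ₐ[MvPowerSeries (Fin n) Λ] MvPowerSeries (Fin m) Λ' ⧸ M :=
    { ρ.liftOfSurjective hρ ⟨(Ideal.Quotient.mk M).comp τ, fun r hr => by
        rw [RingHom.mem_ker, RingHom.comp_apply, Ideal.Quotient.eq_zero_iff_mem]
        exact Ideal.mem_map_of_mem τ (hkerρ hr)⟩ with
      commutes' := fun r => RingHom.liftOfRightInverse_comp_apply ρ _ _ _ r }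
  let ψ : R1 →ₐ[MvPowerSeries (Fin n) Λ] MvPowerSeries (Fin m) Λ' ⧸ M :=
    Algebra.TensorProduct.lift toF (Ideal.Quotient.mkₐ _ M) fun _ _ => Commute.all _ _
  have hψ : ∀ w, ψ (i2 w) = Ideal.Quotient.mk M w := fun w => by
    show ψ ((1 : A) ⊗ₜ w) = _
    rw [Algebra.TensorProduct.lift_tmul, map_one, one_mul]
    rfl
  have hψs : Function.Surjective ψ.toRingHom := fun z => by
    obtain ⟨w, rfl⟩ := Ideal.Quotient.mk_surjective z
    exact ⟨i2 w, hψ w⟩
  have hkerψ : RingHom.ker ψ.toRingHom = (maximalIdeal A).map (algebraMap A R1) := by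
    rw [hM]
    refine le_antisymm (fun z hz => ?_) (Ideal.map_le_iff_le_comap.2 fun w hw => ?_)
    · obtain ⟨w, rfl⟩ := hi2 z
      refine Ideal.mem_map_of_mem i2 ?_
      rw [← Ideal.Quotient.eq_zero_iff_mem, ← hψ]
      exact hz
    · rw [Ideal.mem_comap, RingHom.mem_ker]
      exact (hψ w).trans (Ideal.Quotient.eq_zero_iff_mem.2 hw)
  have hGor : LocCoh.IsGorensteinLocalRing (R1 ⧸ (maximalIdeal A).map (algebraMap A R1)) := by
    haveI := hfib
    exact GorFlat.gor_of_ringEquiv
      ((RingHom.quotientKerEquivOfSurjective hψs).symm.trans (Ideal.quotEquivOfEq hkerψ))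
      (S0342.result _)
  haveI := hGor
  obtain ⟨d, hd⟩ := ENat.ne_top_iff_exists.1
    (H8Props.FlatDepth.depth_ne_top R1 (R1 ⧸ (maximalIdeal A).map (algebraMap A R1)))
  exact exists_artinian d R1 hGor hd.symm g hg

end Groth.Agent.H02CA.GorFactor
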