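import Groth.Agent.H02CA.GorFlatLocal
import Groth.Agent.H02CA.RegularLocal
import Groth.Agent.H05EGA4.Regular
import Groth.Agent.H17.KoszulBC
import Groth.Agent.H29Slice.KoszulReg
import Groth.Agent.H29Slice.H1Quasi
import Groth.Agent.H29Slice.SeqOps
import Groth.Agent.H29Slice.QRegular
import Groth.Agent.H29Slice.QBaseChange
import Groth.Prelude.Def_LCI2
import Mathlib

/-!
Gorenstein rings: quotients by regular sequences, polynomial rings, tensor products of fields,
field extensions, local complete intersections.
-/

set_option autoImplicit false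

namespace Groth.Agent.H02CA.GorFlat

universe u

open IsLocalRing LocCoh RingTheory.Sequence
open scoped TensorProduct

theorem gor_quot_list {A : Type u} [CommRing A] (hA : IsGorensteinLocalRing A) (rs : List A)
    (hmem : ∀ r ∈ rs, r ∈ maximalIdeal A) (hreg : IsWeaklyRegular A rs) :
    IsGorensteinLocalRing (A ⧸ Ideal.ofList rs) := by
  haveI := hA
  induction rs using List.reverseRecOn with
  | nil =>
    exact gor_of_ringEquiv ((RingEquiv.quotientBot A).symm.trans
      (Ideal.quotEquivOfEq Ideal.ofList_nil.symm)) hA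
  | append_singleton l x ih =>
    rw [isWeaklyRegular_append_iff] at hreg
    have hl := ih (fun r hr => hmem r (List.mem_append_left _ hr)) hreg.1
    haveI := hl
    have hxreg : IsSMulRegular (A ⧸ Ideal.ofList l) (Ideal.Quotient.mk (Ideal.ofList l) x) := by
      have h1 : IsSMulRegular (A ⧸ (Ideal.ofList l • (⊤ : Submodule A A))) x :=
        ((isWeaklyRegular_cons_iff _ x []).1 hreg.2).1
      rw [show (Ideal.ofList l • (⊤ : Submodule A A)) = Ideal.ofList l by simp] at h1
      intro p q hpq
      refine h1 ?_
      change x • p = x • q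
      rw [Algebra.smul_def, Algebra.smul_def, Ideal.Quotient.algebraMap_eq]
      exact hpq
    have hxm : Ideal.Quotient.mk (Ideal.ofList l) x ∈ maximalIdeal (A ⧸ Ideal.ofList l) := by
      rw [← IsLocalRing.map_maximalIdeal_of_surjective (Ideal.Quotient.mk (Ideal.ofList l))
        Ideal.Quotient.mk_surjective]
      exact Ideal.mem_map_of_mem _ (hmem x (by simp))
    have h2 := (H4Goren.isGorensteinLocalRing_quotient_iff hxm hxreg).1 hl
    refine gor_of_ringEquiv ?_ h2
    exact (Ideal.quotEquivOfEq (by rw [Ideal.map_span, Set.image_singleton])).trans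
      ((DoubleQuot.quotQuotEquivQuotSup (Ideal.ofList l) (Ideal.span {x})).trans
        (Ideal.quotEquivOfEq (by rw [Ideal.ofList_append, Ideal.ofList_singleton])))

/-- The local ring at a prime of the target of a surjection. -/
theorem nonempty_equiv_quot {R S : Type u} [CommRing R] [CommRing S] (φ : R →+* S)
    (hφ : Function.Surjective φ) (q : Ideal S) [q.IsPrime] (L : Type u) [CommRing L] [Algebra R L]
    [IsLocalization (q.comap φ).primeCompl L] :
    Nonempty ((L ⧸ (RingHom.ker φ).map (algebraMap R L)) ≃+* Localization.AtPrime q) := by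
  have hT : (q.comap φ).primeCompl.map φ = q.primeCompl := by
    ext s
    constructor
    · rintro ⟨r, hr, rfl⟩; exact hr
    · intro hs
      obtain ⟨r, rfl⟩ := hφ s
      exact ⟨r, hs, rfl⟩
  haveI : IsLocalization ((q.comap φ).primeCompl.map φ) (Localization.AtPrime q) := by
    rw [hT]; infer_instance
  let ψ : L →+* Localization.AtPrime q :=
    IsLocalization.map (Localization.AtPrime q) φ (q.comap φ).primeCompl.le_comap_map
  have hker : RingHom.ker ψ = (RingHom.ker φ).map (algebraMap R L) :=
    IsLocalization.ker_map (S := L) (Localization.AtPrime q) φ rfl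
  exact ⟨(Ideal.quotEquivOfEq hker.symm).trans
    (RingHom.quotientKerEquivOfSurjective
      (IsLocalization.map_surjective_of_surjective (M := (q.comap φ).primeCompl) (S := L)
        (Q := Localization.AtPrime q) (g := φ) hφ))⟩

/-- Quotients of Gorenstein rings which are locally cut out by regular sequences. -/
theorem isGorensteinRing_of_surjective {R S : Type u} [CommRing R] [CommRing S] [IsGorensteinRing R]
    (φ : R →+* S) (hφ : Function.Surjective φ)
    (h : ∀ (P : Ideal R) [P.IsPrime], RingHom.ker φ ≤ P →
      ∃ rs : List (Localization.AtPrime P), IsWeaklyRegular (Localization.AtPrime P) rs ∧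
        Ideal.ofList rs = (RingHom.ker φ).map (algebraMap R (Localization.AtPrime P))) :
    IsGorensteinRing S :=
  haveI : IsNoetherianRing S := isNoetherianRing_of_surjective R S φ hφ
  { isGorensteinLocalRing_localization := fun q _ => by
      have hle : RingHom.ker φ ≤ q.comap φ := fun x hx => by
        rw [Ideal.mem_comap, RingHom.mem_ker.mp hx]; exact q.zero_mem
      obtain ⟨rs, hreg, hrs⟩ := h (q.comap φ) hle
      have hmem : ∀ r ∈ rs, r ∈ maximalIdeal (Localization.AtPrime (q.comap φ)) := fun r hr => by
        rw [← Localization.AtPrime.map_eq_maximalIdeal]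
        exact Ideal.map_mono hle (hrs ▸ Ideal.subset_span hr)
      have h1 := gor_quot_list (IsGorensteinRing.isGorensteinLocalRing_localization (q.comap φ)) rs hmem hreg
      obtain ⟨e⟩ := nonempty_equiv_quot φ hφ q (Localization.AtPrime (q.comap φ))
      exact gor_of_ringEquiv ((Ideal.quotEquivOfEq hrs).trans e) h1 }

theorem isRegularRing_mvPolynomial (k : Type u) [Field k] (n : ℕ) :
    IsRegularRing (MvPolynomial (Fin n) k) :=
  inferInstance

theorem isGorensteinRing_mvPolynomial (R : Type u) [CommRing R] [IsGorensteinRing R] (n : ℕ) :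
    IsGorensteinRing (MvPolynomial (Fin n) R) :=
  isGorensteinRing_of_flat (A := R) fun p _ => by
    haveI : IsRegularRing (MvPolynomial (Fin n) p.ResidueField) := isRegularRing_mvPolynomial _ n
    exact isGorensteinRing_of_ringEquiv
      (MvPolynomial.algebraTensorAlgEquiv R p.ResidueField).toRingEquiv.symm
      (isGorensteinRing_of_isRegularRing _)

/-- Over any field `K`, the tensor product with a finitely generated field extension is Gorenstein. -/
theorem isGorensteinRing_field_tensor (k K k' : Type u) [Field k] [Field K] [Field k'] [Algebra k K]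
    [Algebra k k'] (hfg : ∃ s : Finset k', IntermediateField.adjoin k (s : Set k') = ⊤) :
    IsGorensteinRing (K ⊗[k] k') := by
  classical
  obtain ⟨s, hs⟩ := hfg
  let n := s.card
  let g : MvPolynomial (Fin n) k →ₐ[k] k' := MvPolynomial.aeval fun i => ((s.equivFin.symm i : s) : k')
  let P : Ideal (MvPolynomial (Fin n) k) := RingHom.ker g.toRingHom
  haveI : P.IsPrime := RingHom.ker_isPrime g.toRingHom
  let L := Localization.AtPrime P
  let gL : L →ₐ[k] k' := IsLocalization.liftAlgHom (M := P.primeCompl) (f := g) fun y =>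
    isUnit_iff_ne_zero.2 fun h => y.2 (RingHom.mem_ker.2 h)
  have hgL : ∀ x, gL (algebraMap _ L x) = g x := fun x => IsLocalization.lift_eq _ x
  have hker : RingHom.ker gL.toRingHom = maximalIdeal L := by
    refine le_antisymm (le_maximalIdeal (RingHom.ker_ne_top _)) ?_
    rw [← Localization.AtPrime.map_eq_maximalIdeal, Ideal.map_le_iff_le_comap]
    intro x hx
    rw [Ideal.mem_comap, RingHom.mem_ker]
    exact (hgL x).trans (RingHom.mem_ker.1 hx)
  have hsurj : Function.Surjective gL := by
    let F : IntermediateField k k' :=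
      { toSubalgebra := gL.range
        inv_mem' := by
          rintro _ ⟨x, rfl⟩
          by_cases hx : IsUnit x
          · obtain ⟨u, rfl⟩ := hx
            exact ⟨↑u⁻¹, (inv_eq_of_mul_eq_one_right (by rw [← map_mul, u.mul_inv, map_one])).symm⟩
          · have : gL.toRingHom x = 0 := RingHom.mem_ker.1 (hker.ge ((mem_maximalIdeal _).2 hx))
            change gL x = 0 at this
            change (gL x)⁻¹ ∈ gL.range
            rw [this, inv_zero]
            exact zero_mem _ }
    have : F = ⊤ := by
      rw [eq_top_iff, ← hs, IntermediateField.adjoin_le_iff]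
      intro x hx
      refine ⟨algebraMap (MvPolynomial (Fin n) k) L (MvPolynomial.X (s.equivFin ⟨x, hx⟩)), ?_⟩
      change gL (algebraMap _ L (MvPolynomial.X (s.equivFin ⟨x, hx⟩))) = x
      rw [hgL]; simp [g]
    intro y
    exact this.ge (IntermediateField.mem_top (x := y))
  haveI : IsRegularLocalRing L := by
    haveI := isRegularRing_mvPolynomial k n
    exact isRegularRing_iff.mp inferInstance P
  obtain ⟨d, hd⟩ : ∃ d : ℕ, ringKrullDim L = d := by
    haveI := H4Goren.isGorensteinLocalRing_of_isRegularLocalRing L
    obtain ⟨d, -, h2, -⟩ := H4Goren.depth_eq_ringKrullDim L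
    exact ⟨d, h2⟩
  obtain ⟨S₀, hS₀, hspan⟩ := Submodule.FG.exists_span_finset_card_eq_spanFinrank
    (IsNoetherian.noetherian (maximalIdeal L))
  have hd' : (maximalIdeal L).spanFinrank = d := by
    have := (isRegularLocalRing_iff L).1 inferInstance
    rw [hd] at this
    exact_mod_cast this
  let x : Fin d → L := fun i => (((S₀.equivFinOfCardEq (hS₀.trans hd')).symm i : S₀) : L)
  have hx : Ideal.span (Set.range x) = maximalIdeal L := by
    have : Set.range x = (S₀ : Set L) := by
      ext y
      exact ⟨fun ⟨j, hj⟩ => hj ▸ ((S₀.equivFinOfCardEq (hS₀.trans hd')).symm j).2,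
        fun hy => ⟨S₀.equivFinOfCardEq (hS₀.trans hd') ⟨y, hy⟩, by simp [x]⟩⟩
    rw [this]; exact hspan
  have hreg := (H4Depth.isRegular_ofFn_of_span_eq d hd x hx).toIsWeaklyRegular
  -- `K ⊗ L` is regular
  haveI : IsRegularRing (K ⊗[k] MvPolynomial (Fin n) k) := by
    haveI := isRegularRing_mvPolynomial K n
    exact IsRegularRing.of_ringEquiv (MvPolynomial.algebraTensorAlgEquiv k K).toRingEquiv.symm
  letI : Algebra (K ⊗[k] MvPolynomial (Fin n) k) (K ⊗[k] L) :=
    (Algebra.TensorProduct.map (AlgHom.id k K)
      (IsScalarTower.toAlgHom k (MvPolynomial (Fin n) k) L)).toRingHom.toAlgebra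
  haveI : IsScalarTower K (K ⊗[k] MvPolynomial (Fin n) k) (K ⊗[k] L) :=
    IsScalarTower.of_algebraMap_eq (R := K) (S := K ⊗[k] MvPolynomial (Fin n) k) (A := K ⊗[k] L)
      fun p => by simp [RingHom.algebraMap_toAlgebra]
  haveI : IsLocalization (P.primeCompl.map (Algebra.TensorProduct.includeRight :
      _ →ₐ[k] K ⊗[k] MvPolynomial (Fin n) k)) (K ⊗[k] L) :=
    IsLocalization.tensorProduct_tensorProduct_right k K P.primeCompl L
      (RingHom.ext fun z => by simp [RingHom.algebraMap_toAlgebra])
  haveI : IsGorensteinRing (K ⊗[k] L) :=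
    haveI := H05EGA4.isRegularRing_of_isLocalization
      (P.primeCompl.map (Algebra.TensorProduct.includeRight : _ →ₐ[k] K ⊗[k] MvPolynomial (Fin n) k))
      (K ⊗[k] L)
    isGorensteinRing_of_isRegularRing _
  let Φ : K ⊗[k] L →ₐ[k] K ⊗[k] k' := Algebra.TensorProduct.map (AlgHom.id k K) gL
  have hΦ : Function.Surjective Φ := fun z => by
    obtain ⟨w, hw⟩ := LinearMap.lTensor_surjective K (g := gL.toLinearMap) hsurj z
    refine ⟨w, ?_⟩
    rw [← hw]
    exact LinearMap.congr_fun (show Φ.toLinearMap = gL.toLinearMap.lTensor K from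
      TensorProduct.ext' fun a b => by simp [Φ]) w
  have hΦker : RingHom.ker Φ.toRingHom = (maximalIdeal L).map Algebra.TensorProduct.includeRight := by
    rw [← hker]
    exact Algebra.TensorProduct.lTensor_ker gL hsurj
  refine isGorensteinRing_of_surjective Φ.toRingHom hΦ fun Q _ _ => ?_
  letI := (Algebra.TensorProduct.includeRight : L →ₐ[k] K ⊗[k] L).toRingHom.toAlgebra
  haveI : Module.Flat L (Localization.AtPrime Q) := by
    haveI : Module.Flat L (K ⊗[k] L) := by
      have h1 : Module.Flat L (L ⊗[k] K) := inferInstance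
      exact Module.Flat.of_linearEquiv
        (AlgEquiv.ofRingEquiv (R := L) (A₁ := K ⊗[k] L) (A₂ := L ⊗[k] K)
          (f := (Algebra.TensorProduct.comm k K L).toRingEquiv)
          (fun l => by simp [RingHom.algebraMap_toAlgebra])).toLinearEquiv
    exact Module.Flat.trans L (K ⊗[k] L) (Localization.AtPrime Q)
  refine ⟨_, hreg.of_flat (S := Localization.AtPrime Q), ?_⟩
  rw [← Ideal.map_ofList, hΦker, IsScalarTower.algebraMap_eq L (K ⊗[k] L) (Localization.AtPrime Q),
    ← Ideal.map_map]
  refine congrArg _ (congrArg _ ?_)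
  rw [← hx]
  exact congrArg Ideal.span (Set.ext fun y => by simp [List.mem_ofFn])

/-- Base change of a Gorenstein algebra along a finitely generated field extension. -/
theorem fibre_fieldExt (k k' R : Type u) [Field k] [Field k'] [CommRing R] [Algebra k R] [Algebra k k']
    (hfg : ∃ s : Finset k', IntermediateField.adjoin k (s : Set k') = ⊤) (p : Ideal R) [p.IsPrime] :
    IsGorensteinRing (p.Fiber (R ⊗[k] k')) :=
  isGorensteinRing_of_ringEquiv
    (Algebra.TensorProduct.cancelBaseChange k R R p.ResidueField k').toRingEquiv.symm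
    (isGorensteinRing_field_tensor k p.ResidueField k' hfg)

theorem essFiniteType_of_fg {k k' : Type u} [Field k] [Field k'] [Algebra k k']
    (hfg : ∃ s : Finset k', IntermediateField.adjoin k (s : Set k') = ⊤) :
    Algebra.EssFiniteType k k' := by
  obtain ⟨s, hs⟩ := hfg
  exact IntermediateField.fg_top_iff.mp ⟨s, hs⟩

theorem isGorensteinRing_lci {A B : Type u} [CommRing A] [CommRing B] [Algebra A B]
    [IsGorensteinRing A] (h : LCI.IsLCI A B) : IsGorensteinRing B := by
  classical
  obtain ⟨-, n, f, hf, hI⟩ := h
  haveI := isGorensteinRing_mvPolynomial A n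
  refine isGorensteinRing_of_surjective f.toRingHom hf fun P _ hP => ?_
  obtain ⟨g, hg, l, hl, hspan⟩ := hI ⟨P, inferInstance⟩ hP
  let L := Localization.AtPrime P
  have hu : ∀ y : Submonoid.powers g, IsUnit (algebraMap (MvPolynomial (Fin n) A) L y) := by
    rintro ⟨_, m, rfl⟩
    refine IsLocalization.map_units L (M := P.primeCompl) ⟨g ^ m, ?_⟩
    exact fun hm => hg (Ideal.IsPrime.mem_of_pow_mem inferInstance m hm)
  let ψ : Localization.Away g →+* L := IsLocalization.lift (g := algebraMap _ L) hu
  letI := ψ.toAlgebra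
  haveI : IsScalarTower (MvPolynomial (Fin n) A) (Localization.Away g) L :=
    IsScalarTower.of_algebraMap_eq fun x => (IsLocalization.lift_eq hu x).symm
  haveI : IsLocalization (P.primeCompl.map (algebraMap (MvPolynomial (Fin n) A) (Localization.Away g))) L :=
    IsLocalization.isLocalization_of_submonoid_le (Localization.Away g) L (Submonoid.powers g) P.primeCompl
      (by rintro _ ⟨m, rfl⟩; exact fun hm => hg (Ideal.IsPrime.mem_of_pow_mem inferInstance m hm))
  haveI : Module.Flat (Localization.Away g) L :=
    IsLocalization.flat L (P.primeCompl.map (algebraMap (MvPolynomial (Fin n) A) (Localization.Away g)))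
  have hL : LCI.IsKoszulRegularSeq L (l.map (algebraMap (Localization.Away g) L)) :=
    Groth.Agent.H17.KoszulBC.isKoszulRegularSeq_map L hl
  haveI : IsNoetherianRing L := IsLocalization.isNoetherianRing P.primeCompl L inferInstance
  have hmap : Ideal.ofList (l.map (algebraMap (Localization.Away g) L)) =
      (RingHom.ker f.toRingHom).map (algebraMap _ L) := by
    rw [← Ideal.map_ofList, Ideal.ofList, ← hspan, Ideal.map_map, ← IsScalarTower.algebraMap_eq]
  refine ⟨_, ?_, hmap⟩
  have hq := H29Slice.isQuasiRegular_of_isH1Regular (H29Slice.isH1Regular_of_isKoszulRegular hL)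
  have := H29Slice.isWeaklyRegular_of_isQuasiRegular L _ (fun i => ?_) hq
  · rwa [List.ofFn_get] at this
  · rw [IsLocalRing.jacobson_eq_maximalIdeal ⊥ bot_ne_top, ← Localization.AtPrime.map_eq_maximalIdeal]
    exact Ideal.map_mono hP (hmap ▸ Ideal.subset_span (List.get_mem _ i))

end Groth.Agent.H02CA.GorFlat
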