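import Groth.Agent.H02CA.GrFrac
import Groth.Agent.H02CA.CechSum
import Groth.Agent.H02CA.CechModH
import Mathlib.AlgebraicGeometry.Modules.Tilde
import Mathlib.AlgebraicGeometry.ProjectiveSpectrum.Basic

/-!
# Čech complexes of all twists on `Proj` against the one of `M~` on `Spec`
-/

set_option autoImplicit false
set_option linter.unusedSectionVars false

noncomputable section

namespace Groth.Agent.H02CA.GrCech

universe u

open CategoryTheory CategoryTheory.Limits AlgebraicGeometry TopologicalSpace Opposite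
open Groth.Agent.H15Site

variable {R A : Type u} [CommRing R] [CommRing A] [Algebra R A] (𝒜 : ℕ → Submodule R A) [GradedAlgebra 𝒜]
variable {M : Type u} [AddCommGroup M] [Module R M] [Module A M]
variable (ℳ : ℕ → Submodule R M) [DirectSum.Decomposition ℳ] [SetLike.GradedSMul 𝒜 ℳ]
variable {ι : Type u} (f : ι → A) (deg : ι → ℕ)

/-- `M~` on `Spec A`. -/
abbrev Mt : (Spec (CommRingCat.of A)).Modules :=
  AlgebraicGeometry.tilde (R := CommRingCat.of A) (ModuleCat.of A M)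

/-- The Proj cover. -/
abbrev UP : ι → (Proj 𝒜).Opens := fun i => Proj.basicOpen 𝒜 (f i)

/-- The Spec cover. -/
abbrev US : ι → (Spec (CommRingCat.of A)).Opens := fun i => PrimeSpectrum.basicOpen (f i)

/-- The product along a tuple. -/
abbrev G {q : ℕ} (a : Fin (q + 1) → ι) : A := ∏ k, f (a k)

theorem capP_eq : ∀ {q : ℕ} (a : Fin (q + 1) → ι),
    CechTop.cap (UP 𝒜 f) a = Proj.basicOpen 𝒜 (G f a) := fun {q} a => by
  classical
  have h : ∀ t : Finset (Fin (q + 1)), (t.inf fun k => (Proj.basicOpen 𝒜 (f (a k)) : (Proj 𝒜).Opens)) =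
      Proj.basicOpen 𝒜 (∏ k ∈ t, f (a k)) := fun t => by
    induction t using Finset.induction with
    | empty => rw [Finset.inf_empty, Finset.prod_empty]; exact (ProjectiveSpectrum.basicOpen_one 𝒜).symm
    | insert x t hx ih => rw [Finset.inf_insert, Finset.prod_insert hx, Proj.basicOpen_mul, ih]
  exact (Finset.inf_univ_eq_iInf _).symm.trans (h Finset.univ)

theorem capS_eq : ∀ {q : ℕ} (a : Fin (q + 1) → ι),
    CechTop.cap (US f) a = PrimeSpectrum.basicOpen (G f a) := fun {q} a => by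
  classical
  have h : ∀ t : Finset (Fin (q + 1)), (t.inf fun k =>
        (PrimeSpectrum.basicOpen (f (a k)) : (Spec (CommRingCat.of A)).Opens)) =
      PrimeSpectrum.basicOpen (∏ k ∈ t, f (a k)) := fun t => by
    induction t using Finset.induction with
    | empty => simp only [Finset.inf_empty, Finset.prod_empty, PrimeSpectrum.basicOpen_one]
    | insert x t hx ih => rw [Finset.inf_insert, Finset.prod_insert hx, PrimeSpectrum.basicOpen_mul, ih]
  exact (Finset.inf_univ_eq_iInf _).symm.trans (h Finset.univ)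

/-- `M → Γ(M~, D(g))`. -/
abbrev jS (g : A) :=
  (AlgebraicGeometry.tilde.toOpen (R := CommRingCat.of A) (ModuleCat.of A M) (PrimeSpectrum.basicOpen g)).hom

theorem away_gen (R' : CommRingCat.{u}) (N : ModuleCat.{u} R') (g : R') :
    IsLocalizedModule.Away g (AlgebraicGeometry.tilde.toOpen N (PrimeSpectrum.basicOpen g)).hom :=
  inferInstance

instance away_jS (g : A) : IsLocalizedModule.Away g (jS (M := M) g) :=
  away_gen (CommRingCat.of A) (ModuleCat.of A M) g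

variable {f deg} (hdeg : ∀ i, 0 < deg i) (hf : ∀ i, f i ∈ 𝒜 (deg i))

/-- The total degree. -/
abbrev D {q : ℕ} (deg : ι → ℕ) (a : Fin (q + 1) → ι) : ℕ := ∑ k, deg (a k)

include hdeg in
theorem D_pos {q : ℕ} (a : Fin (q + 1) → ι) : 0 < D deg a :=
  lt_of_lt_of_le (hdeg (a 0)) (Finset.single_le_sum (f := fun k => deg (a k)) (fun _ _ => Nat.zero_le _)
    (Finset.mem_univ 0))

include hf in
theorem G_mem {q : ℕ} (a : Fin (q + 1) → ι) : G f a ∈ 𝒜 (D deg a) :=
  SetLike.prod_mem_graded 𝒜 (fun k => deg (a k)) (fun k => f (a k)) (fun k _ => hf (a k))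

/-- Sections over a cap as sections over the standard open. -/
def toSec (n : ℤ) {q : ℕ} (a : Fin (q + 1) → ι) :
    (GrTilde.tilde 𝒜 ℳ n).presheaf.obj (op (CechTop.cap (UP 𝒜 f) a)) →+ GrFrac.Sec 𝒜 ℳ (G f a) n :=
  CechTop.res (GrTilde.tilde 𝒜 ℳ n).presheaf (capP_eq 𝒜 f a).ge

theorem toSec_bijective (n : ℤ) {q : ℕ} (a : Fin (q + 1) → ι) :
    Function.Bijective (toSec 𝒜 ℳ (f := f) n a) :=
  Function.bijective_iff_has_inverse.2
    ⟨fun s => CechTop.res (GrTilde.tilde 𝒜 ℳ n).presheaf (capP_eq 𝒜 f a).le s,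
      fun s => (CechTop.res_res (GrTilde.tilde 𝒜 ℳ n).presheaf (capP_eq 𝒜 f a).ge (capP_eq 𝒜 f a).le s).trans
        (CechTop.res_self (GrTilde.tilde 𝒜 ℳ n).presheaf le_rfl s),
      fun s => (CechTop.res_res (GrTilde.tilde 𝒜 ℳ n).presheaf (capP_eq 𝒜 f a).le (capP_eq 𝒜 f a).ge s).trans
        (CechTop.res_self (GrTilde.tilde 𝒜 ℳ n).presheaf le_rfl s)⟩

/-- The component at a tuple. -/
def θ (n : ℤ) {q : ℕ} (a : Fin (q + 1) → ι) :
    (GrTilde.tilde 𝒜 ℳ n).presheaf.obj (op (CechTop.cap (UP 𝒜 f) a)) →+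
      (Mt (M := M)).presheaf.obj (op (CechTop.cap (US f) a)) :=
  AddMonoidHom.mk' (fun s => CechTop.res (Mt (A := A) (M := M)).presheaf (capS_eq f a).le
      (GrFrac.psi 𝒜 ℳ (D_pos hdeg a) (G_mem 𝒜 hf a) (jS (M := M) (G f a)) n (toSec 𝒜 ℳ n a s)))
    fun s t => by
      rw [map_add, map_add]
      exact map_add _ _ _

theorem θ_apply (n : ℤ) {q : ℕ} (a : Fin (q + 1) → ι)
    (s : (GrTilde.tilde 𝒜 ℳ n).presheaf.obj (op (CechTop.cap (UP 𝒜 f) a))) :
    θ 𝒜 ℳ hdeg hf n a s = CechTop.res (Mt (A := A) (M := M)).presheaf (capS_eq f a).le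
      (GrFrac.psi 𝒜 ℳ (D_pos hdeg a) (G_mem 𝒜 hf a) (jS (M := M) (G f a)) n (toSec 𝒜 ℳ n a s)) := rfl

theorem θ_res (n : ℤ) {q : ℕ} (c : Fin (q + 2) → ι) (j : Fin (q + 2))
    (s : (GrTilde.tilde 𝒜 ℳ n).presheaf.obj (op (CechTop.cap (UP 𝒜 f) (c ∘ j.succAbove)))) :
    θ 𝒜 ℳ hdeg hf n c (CechTop.res _ (CechTop.cap_comp_le (UP 𝒜 f) c j.succAbove) s) =
      CechTop.res _ (CechTop.cap_comp_le (US f) c j.succAbove)
        (θ 𝒜 ℳ hdeg hf n (c ∘ j.succAbove) s) := by
  let b := c ∘ j.succAbove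
  have hG : G f c = G f b * f (c j) := by
    rw [G, G, Fin.prod_univ_succAbove _ j, mul_comm]
    rfl
  have hD : D deg b + deg (c j) = D deg c := by
    rw [D, D, Fin.sum_univ_succAbove _ j, add_comm]
    rfl
  have hiP : Proj.basicOpen 𝒜 (G f c) ≤ Proj.basicOpen 𝒜 (G f b) :=
    ((capP_eq 𝒜 f c).ge.trans (CechTop.cap_comp_le (UP 𝒜 f) c j.succAbove)).trans (capP_eq 𝒜 f b).le
  have hiS : (PrimeSpectrum.basicOpen (G f c) : (Spec (CommRingCat.of A)).Opens) ≤
      PrimeSpectrum.basicOpen (G f b) :=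
    ((capS_eq f c).ge.trans (CechTop.cap_comp_le (US f) c j.succAbove)).trans (capS_eq f b).le
  have hgen : ∀ (d' : ℕ) (h' : 0 < d') (hm : G f c ∈ 𝒜 d') (_ : d' = D deg b + deg (c j))
      (x : GrFrac.Sec 𝒜 ℳ (G f b) n),
      GrFrac.psi 𝒜 ℳ h' hm (jS (M := M) (G f c)) n (GrTilde.res 𝒜 ℳ n (homOfLE hiP).op x) =
        ((modulesSpecToSheaf.obj (Mt (A := A) (M := M))).presheaf.map (homOfLE hiS).op).hom
          (GrFrac.psi 𝒜 ℳ (D_pos hdeg b) (G_mem 𝒜 hf b) (jS (M := M) (G f b)) n x) := by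
    intro d' h' hm e x
    subst e
    exact GrFrac.psi_res 𝒜 ℳ (D_pos hdeg b) (G_mem 𝒜 hf b) (jS (M := M) (G f b)) (hf (c j)) hG h' hm
      (jS (M := M) (G f c))
      ((modulesSpecToSheaf.obj (Mt (A := A) (M := M))).presheaf.map (homOfLE hiS).op).hom
      (fun m => rfl) _ x
  have key := hgen (D deg c) (D_pos hdeg c) (G_mem 𝒜 hf c) hD.symm
    (CechTop.res (GrTilde.tilde 𝒜 ℳ n).presheaf (capP_eq 𝒜 f b).ge s)
  rw [θ_apply, θ_apply]
  refine (congrArg (fun z => CechTop.res (Mt (A := A) (M := M)).presheaf (capS_eq f c).le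
    (GrFrac.psi 𝒜 ℳ (D_pos hdeg c) (G_mem 𝒜 hf c) (jS (M := M) (G f c)) n z)) ?_).trans
      ((congrArg (CechTop.res (Mt (A := A) (M := M)).presheaf (capS_eq f c).le) key).trans ?_)
  · exact (CechTop.res_res (GrTilde.tilde 𝒜 ℳ n).presheaf (CechTop.cap_comp_le (UP 𝒜 f) c j.succAbove)
      (capP_eq 𝒜 f c).ge s).trans
      (CechTop.res_res (GrTilde.tilde 𝒜 ℳ n).presheaf (capP_eq 𝒜 f b).ge hiP s).symm
  · exact (CechTop.res_res (Mt (A := A) (M := M)).presheaf hiS (capS_eq f c).le _).trans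
      (CechTop.res_res (Mt (A := A) (M := M)).presheaf (capS_eq f b).le
        (CechTop.cap_comp_le (US f) c j.succAbove) _).symm

/-- The map of Čech complexes. -/
def φ (n : ℤ) (q : ℕ) :
    CechTop.C (UP 𝒜 f) (GrTilde.tilde 𝒜 ℳ n).presheaf q →+
      CechTop.C (US f) (Mt (A := A) (M := M)).presheaf q :=
  AddMonoidHom.mk' (fun x => (CechTop.exists_proj_eq (US f) (Mt (A := A) (M := M)).presheaf fun a =>
      θ 𝒜 ℳ hdeg hf n a ((CechTop.proj (UP 𝒜 f) (GrTilde.tilde 𝒜 ℳ n).presheaf a).hom x)).choose)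
    fun x y => CechTop.hom_ext _ _ fun a => by
      rw [map_add, (CechTop.exists_proj_eq _ _ _).choose_spec a, (CechTop.exists_proj_eq _ _ _).choose_spec a,
        (CechTop.exists_proj_eq _ _ _).choose_spec a, map_add, map_add]

theorem proj_φ (n : ℤ) {q : ℕ} (x : CechTop.C (UP 𝒜 f) (GrTilde.tilde 𝒜 ℳ n).presheaf q)
    (a : Fin (q + 1) → ι) :
    (CechTop.proj (US f) (Mt (A := A) (M := M)).presheaf a).hom (φ 𝒜 ℳ hdeg hf n q x) =
      θ 𝒜 ℳ hdeg hf n a ((CechTop.proj (UP 𝒜 f) (GrTilde.tilde 𝒜 ℳ n).presheaf a).hom x) :=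
  (CechTop.exists_proj_eq (US f) (Mt (A := A) (M := M)).presheaf _).choose_spec a

theorem φ_d (n : ℤ) (q : ℕ) (x : CechTop.C (UP 𝒜 f) (GrTilde.tilde 𝒜 ℳ n).presheaf q) :
    φ 𝒜 ℳ hdeg hf n (q + 1) ((CechTop.d (UP 𝒜 f) (GrTilde.tilde 𝒜 ℳ n).presheaf q).hom x) =
      (CechTop.d (US f) (Mt (A := A) (M := M)).presheaf q).hom (φ 𝒜 ℳ hdeg hf n q x) := by
  refine CechTop.hom_ext _ _ fun c => ?_
  rw [proj_φ, CechTop.proj_d, CechTop.proj_d, map_sum]
  refine Finset.sum_congr rfl fun j _ => ?_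
  rw [map_zsmul, θ_res, proj_φ]

theorem bijective_θ {q : ℕ} (a : Fin (q + 1) → ι) :
    Function.Bijective (DirectSum.toAddMonoid (fun n => θ 𝒜 ℳ hdeg hf n a)) := by
  classical
  let rP : ∀ n, (GrTilde.tilde 𝒜 ℳ n).presheaf.obj (op (CechTop.cap (UP 𝒜 f) a)) →+
      GrFrac.Sec 𝒜 ℳ (G f a) n := fun n => toSec 𝒜 ℳ n a
  have hrP : ∀ n, Function.Bijective (rP n) := fun n => toSec_bijective 𝒜 ℳ n a
  have hrS : Function.Bijective (CechTop.res (Mt (A := A) (M := M)).presheaf (capS_eq f a).le) :=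
    Function.bijective_iff_has_inverse.2
      ⟨CechTop.res (Mt (A := A) (M := M)).presheaf (capS_eq f a).ge,
        fun s => (CechTop.res_res _ _ _ s).trans (CechTop.res_self _ _ s),
        fun s => (CechTop.res_res _ _ _ s).trans (CechTop.res_self _ _ s)⟩
  let tot : DirectSum ℤ (fun n => GrFrac.Sec 𝒜 ℳ (G f a) n) →+
      (Mt (A := A) (M := M)).presheaf.obj (op (PrimeSpectrum.basicOpen (G f a))) :=
    (GrFrac.total 𝒜 ℳ (D_pos hdeg a) (G_mem 𝒜 hf a) (jS (M := M) (G f a)) :)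
  let rS : (Mt (A := A) (M := M)).presheaf.obj (op (PrimeSpectrum.basicOpen (G f a))) →+
      (Mt (A := A) (M := M)).presheaf.obj (op (CechTop.cap (US f) a)) :=
    CechTop.res (Mt (A := A) (M := M)).presheaf (capS_eq f a).le
  have e : DirectSum.toAddMonoid (fun n => θ 𝒜 ℳ hdeg hf n a) = rS.comp (tot.comp (DirectSum.map rP)) :=
    DirectSum.addHom_ext fun n x => by
      refine (DirectSum.toAddMonoid_of (fun n => θ 𝒜 ℳ hdeg hf n a) n x).trans ?_
      exact (congrArg rS ((congrArg tot (DirectSum.map_of rP n x)).trans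
        (GrFrac.total_of 𝒜 ℳ (D_pos hdeg a) (G_mem 𝒜 hf a) (jS (M := M) (G f a)) n (rP n x)))).symm
  rw [e, AddMonoidHom.coe_comp, AddMonoidHom.coe_comp]
  refine hrS.comp (Function.Bijective.comp
    ⟨GrFrac.total_injective 𝒜 ℳ (D_pos hdeg a) (G_mem 𝒜 hf a) (jS (M := M) (G f a)),
      GrFrac.total_surjective 𝒜 ℳ (D_pos hdeg a) (G_mem 𝒜 hf a) (jS (M := M) (G f a))⟩ ?_)
  exact ⟨(DirectSum.map_injective rP).2 fun n => (hrP n).1,
    (DirectSum.map_surjective rP).2 fun n => (hrP n).2⟩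

variable [Finite ι]

theorem bijective_φ (q : ℕ) : Function.Bijective (DirectSum.toAddMonoid (fun n => φ 𝒜 ℳ hdeg hf n q)) := by
  classical
  have := Fintype.ofFinite ι
  let t := DirectSum.toAddMonoid (fun n => φ 𝒜 ℳ hdeg hf n q)
  let pr : ∀ a : Fin (q + 1) → ι,
      DirectSum ℤ (fun n => (CechTop.C (UP 𝒜 f) (GrTilde.tilde 𝒜 ℳ n).presheaf q : Type u)) →+
        DirectSum ℤ (fun n => ((GrTilde.tilde 𝒜 ℳ n).presheaf.obj (op (CechTop.cap (UP 𝒜 f) a)) : Type u)) :=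
    fun a => DirectSum.map fun n => (CechTop.proj (UP 𝒜 f) (GrTilde.tilde 𝒜 ℳ n).presheaf a).hom
  have hpr : ∀ a x, (CechTop.proj (US f) (Mt (A := A) (M := M)).presheaf a).hom (t x) =
      DirectSum.toAddMonoid (fun n => θ 𝒜 ℳ hdeg hf n a) (pr a x) := fun a x => by
    induction x using DirectSum.induction_on with
    | zero => simp only [map_zero]
    | of n x => rw [DirectSum.toAddMonoid_of, DirectSum.map_of, DirectSum.toAddMonoid_of, proj_φ]
    | add x y hx hy => simp only [map_add, hx, hy]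
  refine ⟨(injective_iff_map_eq_zero t).2 fun x hx => DFinsupp.ext fun n => ?_, fun y => ?_⟩
  · refine CechTop.hom_ext _ _ fun a => ?_
    have h0 : pr a x = 0 := (bijective_θ 𝒜 ℳ hdeg hf a).1 (by rw [← hpr, hx, map_zero, map_zero])
    have h1 := congrArg (fun z : DirectSum ℤ _ => z n) h0
    simp only [pr, DirectSum.map_apply] at h1
    exact h1.trans (map_zero _).symm
  · choose z hz using fun a => (bijective_θ 𝒜 ℳ hdeg hf a).2
      ((CechTop.proj (US f) (Mt (A := A) (M := M)).presheaf a).hom y)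
    let S : Finset ℤ := Finset.univ.biUnion fun a => DFinsupp.support
      (β := fun n => ((GrTilde.tilde 𝒜 ℳ n).presheaf.obj (op (CechTop.cap (UP 𝒜 f) a)) : Type u)) (z a)
    choose w hw using fun n => CechTop.exists_proj_eq (UP 𝒜 f) (GrTilde.tilde 𝒜 ℳ n).presheaf
      (fun a => z a n)
    let x : DirectSum ℤ (fun n => (CechTop.C (UP 𝒜 f) (GrTilde.tilde 𝒜 ℳ n).presheaf q : Type u)) :=
      DirectSum.mk _ S fun n => w n.1
    refine ⟨x, CechTop.hom_ext _ _ fun a => ?_⟩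
    rw [hpr, ← hz a]
    refine congrArg _ (DFinsupp.ext fun n => ?_)
    simp only [pr, DirectSum.map_apply, x]
    by_cases hn : n ∈ S
    · rw [DirectSum.mk_apply_of_mem hn]
      exact hw n a
    · rw [DirectSum.mk_apply_of_notMem hn, map_zero]
      refine Eq.symm ?_
      by_contra hne
      exact hn (Finset.mem_biUnion.2 ⟨a, Finset.mem_univ _, DFinsupp.mem_support_iff.2 hne⟩)

end Groth.Agent.H02CA.GrCech
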