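import Groth.Agent.H11Tilde.Frac
import Groth.Prelude.Def_GrMod2
import Mathlib.Algebra.DirectSum.Module
import Mathlib.Algebra.Module.LocalizedModule.Away

/-!
# Sections of all twists of `M~` over `D₊(g)` form `M_g`
-/

set_option autoImplicit false
set_option linter.unusedSectionVars false

noncomputable section

namespace Groth.Agent.H02CA.GrFrac

universe u

open AlgebraicGeometry TopologicalSpace Opposite
open Groth.Agent.H11Tilde (fracAt fracAt_eq_of exists_of_fracAt_eq pow_notMem)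

variable {R A : Type u} [CommRing R] [CommRing A] [Algebra R A] (𝒜 : ℕ → Submodule R A) [GradedAlgebra 𝒜]
variable {M : Type u} [AddCommGroup M] [Module R M] [Module A M]
variable (ℳ : ℕ → Submodule R M) [DirectSum.Decomposition ℳ] [SetLike.GradedSMul 𝒜 ℳ]

/-- Sections of `M(n)~` over `D₊(g)`. -/
abbrev Sec (g : A) (n : ℤ) : Type u :=
  GrTilde.sect 𝒜 ℳ n (op (ProjectiveSpectrum.basicOpen 𝒜 g))

theorem pow_notMem_basicOpen {g : A} (x : ProjectiveSpectrum.basicOpen 𝒜 g) (k : ℕ) :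
    g ^ k ∉ x.1.asHomogeneousIdeal :=
  pow_notMem 𝒜 ((ProjectiveSpectrum.mem_basicOpen 𝒜 g x.1).1 x.2) k

/-- The section is the fraction `m / g ^ k`. -/
def IsRep (g : A) (d : ℕ) (n : ℤ) (s : Sec 𝒜 ℳ g n) (k i : ℕ) (m : M) : Prop :=
  m ∈ ℳ i ∧ (i : ℤ) = k * d + n ∧
    ∀ x : ProjectiveSpectrum.basicOpen 𝒜 g,
      ((s.1 x : GrTilde.tildeAt 𝒜 ℳ n x.1) : GrTilde.LocMod 𝒜 (M := M) x.1) =
        fracAt 𝒜 x.1 m (g ^ k) (pow_notMem_basicOpen 𝒜 x k)

variable {g : A} {d : ℕ} (hd : 0 < d) (hg : g ∈ 𝒜 d)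

include hd hg in
theorem exists_rep {n : ℤ} (s : Sec 𝒜 ℳ g n) : ∃ k i m, IsRep 𝒜 ℳ g d n s k i m := by
  obtain ⟨k, i, m, hm, hi, h⟩ := H11Tilde.exists_eq_fracAt 𝒜 ℳ hd hg s
  exact ⟨k, i, m, hm, hi, fun x => h x _⟩

theorem rep_raise {n : ℤ} {s : Sec 𝒜 ℳ g n} (hg : g ∈ 𝒜 d) {k i : ℕ} {m : M}
    (h : IsRep 𝒜 ℳ g d n s k i m) (l : ℕ) :
    IsRep 𝒜 ℳ g d n s (k + l) (l * d + i) (g ^ l • m) := by
  obtain ⟨hm, hi, hs⟩ := h
  refine ⟨SetLike.GradedSMul.smul_mem (SetLike.pow_mem_graded l hg) hm, by push_cast; linarith, fun x => ?_⟩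
  refine (hs x).trans ?_
  refine fracAt_eq_of 𝒜 x.1 _ _ ?_
  rw [smul_smul, ← pow_add]

variable {N : Type u} [AddCommGroup N] [Module A N] (j : M →ₗ[A] N) [IsLocalizedModule.Away g j]

omit [GradedAlgebra 𝒜] [DirectSum.Decomposition ℳ] in
theorem bijective_pow_smul (g : A) (j : M →ₗ[A] N) [IsLocalizedModule.Away g j] (k : ℕ) :
    Function.Bijective fun z : N => g ^ k • z :=
  (Module.End.isUnit_iff _).1 (IsLocalizedModule.map_units j (⟨g ^ k, k, rfl⟩ : Submonoid.powers g))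

/-- The value in `N` of a section. -/
def Val (g : A) (d : ℕ) (n : ℤ) (j : M →ₗ[A] N) (s : Sec 𝒜 ℳ g n) (z : N) : Prop :=
  ∃ k i m, IsRep 𝒜 ℳ g d n s k i m ∧ g ^ k • z = j m

include hd hg in
theorem exists_val {n : ℤ} (s : Sec 𝒜 ℳ g n) : ∃ z, Val 𝒜 ℳ g d n j s z := by
  obtain ⟨k, i, m, h⟩ := exists_rep 𝒜 ℳ hd hg s
  obtain ⟨z, hz⟩ := (bijective_pow_smul g j k).2 (j m)
  exact ⟨z, k, i, m, h, hz⟩

include hd hg in
theorem val_unique {n : ℤ} {s : Sec 𝒜 ℳ g n} {z z' : N} (h : Val 𝒜 ℳ g d n j s z)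
    (h' : Val 𝒜 ℳ g d n j s z') : z = z' := by
  obtain ⟨k, i, m, hr, hz⟩ := h
  obtain ⟨k', i', m', hr', hz'⟩ := h'
  obtain ⟨a, ha, hsa⟩ := rep_raise 𝒜 ℳ hg hr k'
  obtain ⟨b, hb, hsb⟩ := rep_raise 𝒜 ℳ hg hr' k
  have hmem : g ^ k' • m - g ^ k • m' ∈ ℳ (k' * d + i) := by
    refine sub_mem a ?_
    have e : k' * d + i = k * d + i' := by
      have := hr.2.1; have := hr'.2.1
      zify; linarith
    rw [e]; exact b
  obtain ⟨L, hL⟩ := H11Tilde.exists_pow_smul_eq_zero 𝒜 ℳ hd hg hmem fun x hx => by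
    let y : ProjectiveSpectrum.basicOpen 𝒜 g := ⟨x, (ProjectiveSpectrum.mem_basicOpen 𝒜 g x).2 hx⟩
    obtain ⟨t, ht, h0⟩ := exists_of_fracAt_eq 𝒜 x _ _ ((hr.2.2 y).symm.trans (hr'.2.2 y))
    exact ⟨t, ht, h0⟩
  refine (bijective_pow_smul g j (L + (k' + k))).1 ?_
  have e := congrArg j hL
  rw [map_smul, map_zero, map_sub, map_smul, map_smul, ← hz, ← hz', smul_sub, sub_eq_zero,
    smul_smul, smul_smul, smul_smul, smul_smul, ← pow_add, ← pow_add, ← pow_add, ← pow_add] at e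
  change g ^ (L + (k' + k)) • z = g ^ (L + (k' + k)) • z'
  rw [← add_assoc]
  refine e.trans ?_
  congr 2
  ring

/-- The map sections of `M(n)~` on `D₊(g)` → `M_g`. -/
def psi (n : ℤ) : Sec 𝒜 ℳ g n →+ N :=
  AddMonoidHom.mk' (fun s => (exists_val 𝒜 ℳ hd hg j s).choose) fun s t => by
    refine val_unique 𝒜 ℳ hd hg j (exists_val 𝒜 ℳ hd hg j (s + t)).choose_spec ?_
    obtain ⟨k, i, m, hr, hz⟩ := (exists_val 𝒜 ℳ hd hg j s).choose_spec
    obtain ⟨k', i', m', hr', hz'⟩ := (exists_val 𝒜 ℳ hd hg j t).choose_spec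
    have h1 := rep_raise 𝒜 ℳ hg hr k'
    have h2 := rep_raise 𝒜 ℳ hg hr' k
    refine ⟨k + k', k' * d + i, g ^ k' • m + g ^ k • m', ⟨add_mem h1.1 ?_, h1.2.1, fun x => ?_⟩, ?_⟩
    · have e : k' * d + i = k * d + i' := by
        have := hr.2.1; have := hr'.2.1
        zify; linarith
      rw [e]; exact h2.1
    · have e1 := h1.2.2 x
      have e2 := h2.2.2 x
      change ((s.1 x : GrTilde.tildeAt 𝒜 ℳ n x.1) : GrTilde.LocMod 𝒜 (M := M) x.1) +
        ((t.1 x : GrTilde.tildeAt 𝒜 ℳ n x.1) : GrTilde.LocMod 𝒜 (M := M) x.1) = _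
      rw [e1, e2]
      refine (LocalizedModule.mk_add_mk).trans ?_
      refine fracAt_eq_of 𝒜 x.1 _ _ ?_
      simp only [Submonoid.smul_def, Submonoid.coe_mul, smul_add, smul_smul, ← pow_add]
      congr 3 <;> ring
    · rw [smul_add, map_add, map_smul, map_smul, ← hz, ← hz', smul_smul, smul_smul, ← pow_add,
        ← pow_add, add_comm k k']

theorem val_psi (n : ℤ) (s : Sec 𝒜 ℳ g n) : Val 𝒜 ℳ g d n j s (psi 𝒜 ℳ hd hg j n s) :=
  (exists_val 𝒜 ℳ hd hg j s).choose_spec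

theorem psi_eq {n : ℤ} {s : Sec 𝒜 ℳ g n} {z : N} (h : Val 𝒜 ℳ g d n j s z) :
    psi 𝒜 ℳ hd hg j n s = z :=
  val_unique 𝒜 ℳ hd hg j (val_psi 𝒜 ℳ hd hg j n s) h

/-- All twists together. -/
def total : DirectSum ℤ (fun n => Sec 𝒜 ℳ g n) →+ N := DirectSum.toAddMonoid (psi 𝒜 ℳ hd hg j)

theorem total_of (n : ℤ) (s : Sec 𝒜 ℳ g n) :
    total 𝒜 ℳ hd hg j (DirectSum.of _ n s) = psi 𝒜 ℳ hd hg j n s :=
  DirectSum.toAddMonoid_of _ _ _

theorem total_surjective : Function.Surjective (total 𝒜 ℳ hd hg j) := by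
  classical
  intro z
  obtain ⟨⟨m, ⟨_, k, rfl⟩⟩, hz⟩ := IsLocalizedModule.surj (Submonoid.powers g) j z
  simp only [Submonoid.smul_def] at hz
  let nn : ℕ → ℤ := fun i => (i : ℤ) - k * d
  let s : ∀ i, Sec 𝒜 ℳ g (nn i) := fun i =>
    H11Tilde.secOf 𝒜 ℳ (DirectSum.decompose ℳ m i).2 (SetLike.pow_mem_graded k hg)
      (fun x hx => pow_notMem 𝒜 ((ProjectiveSpectrum.mem_basicOpen 𝒜 g x).1 hx) k)
      (by simp only [nn, smul_eq_mul, Nat.cast_mul]; ring)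
  refine ⟨∑ i ∈ (DirectSum.decompose ℳ m).support, DirectSum.of _ (nn i) (s i), ?_⟩
  refine (bijective_pow_smul g j k).1 ?_
  change g ^ k • _ = g ^ k • z
  rw [map_sum, Finset.smul_sum, hz]
  conv_rhs => rw [← DirectSum.sum_support_decompose ℳ m, map_sum]
  refine Finset.sum_congr rfl fun i _ => ?_
  rw [total_of]
  obtain ⟨z', hz'⟩ := (bijective_pow_smul g j k).2 (j (DirectSum.decompose ℳ m i : M))
  rw [psi_eq 𝒜 ℳ hd hg j (s := s i) (z := z')
    ⟨k, i, _, ⟨(DirectSum.decompose ℳ m i).2, by simp only [nn]; ring, fun _ => rfl⟩, hz'⟩]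
  exact hz'

theorem total_injective : Function.Injective (total 𝒜 ℳ hd hg j) := by
  classical
  letI : ∀ n, AddCommGroup (Sec 𝒜 ℳ g n) := fun n =>
    (inferInstance : AddCommGroup (GrTilde.sect 𝒜 ℳ n (op (ProjectiveSpectrum.basicOpen 𝒜 g))))
  rw [injective_iff_map_eq_zero]
  intro x hx
  choose k i m hr hz using fun n => val_psi 𝒜 ℳ hd hg j n (x n)
  let K := x.support.sup k
  let I : ℤ → ℕ := fun n => (K - k n) * d + i n
  let μ : ℤ → M := fun n => g ^ (K - k n) • m n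
  have hI : ∀ n ∈ x.support, (I n : ℤ) = K * d + n := fun n hn => by
    have h1 := (hr n).2.1
    have h2 : k n ≤ K := Finset.le_sup (f := k) hn
    simp only [I]
    push_cast [h2]
    linarith
  have hμ : ∀ n, μ n ∈ ℳ (I n) := fun n => (rep_raise 𝒜 ℳ hg (hr n) (K - k n)).1
  have hsum : j (∑ n ∈ x.support, μ n) = 0 := by
    have e : g ^ K • total 𝒜 ℳ hd hg j x = 0 := by rw [hx, smul_zero]
    rw [← DirectSum.sum_support_of x, map_sum, Finset.smul_sum] at e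
    rw [map_sum, ← e]
    refine Finset.sum_congr rfl fun n hn => ?_
    rw [total_of, map_smul, ← hz n, smul_smul, ← pow_add,
      Nat.sub_add_cancel (Finset.le_sup (f := k) hn)]
  obtain ⟨⟨_, L, rfl⟩, hL⟩ := (IsLocalizedModule.eq_zero_iff (Submonoid.powers g) j).1 hsum
  simp only [Submonoid.smul_def] at hL
  refine DFinsupp.ext fun n => ?_
  by_contra hn
  have hn' : n ∈ x.support := DFinsupp.mem_support_iff.2 hn
  have hzero : g ^ L • μ n = 0 := by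
    have hmem : ∀ n', g ^ L • μ n' ∈ ℳ (L * d + I n') := fun n' =>
      SetLike.GradedSMul.smul_mem (SetLike.pow_mem_graded L hg) (hμ n')
    let φ : M →+ M := AddMonoidHom.mk' (fun y => (DirectSum.decompose ℳ y (L * d + I n) : M))
      fun y y' => by simp [DirectSum.decompose_add]
    have e := congrArg φ hL
    rw [Finset.smul_sum, map_sum, map_zero] at e
    simp only [φ, AddMonoidHom.mk'_apply] at e
    rw [Finset.sum_eq_single n, DirectSum.decompose_of_mem_same ℳ (hmem n)] at e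
    · exact e
    · intro n' hn'' hne
      refine DirectSum.decompose_of_mem_ne ℳ (hmem n') (j := L * d + I n) ?_
      intro heq
      have h1 := hI n hn'
      have h2 := hI n' hn''
      have h3 : I n' = I n := by omega
      exact hne (by rw [h3] at h2; linarith)
    · exact fun h => absurd hn' h
  apply hn
  refine H11Tilde.sect_ext 𝒜 ℳ fun y => ?_
  refine ((rep_raise 𝒜 ℳ hg (rep_raise 𝒜 ℳ hg (hr n) (K - k n)) L).2.2 y).trans ?_
  change fracAt 𝒜 y.1 (g ^ L • μ n) _ _ = 0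
  exact ((H11Tilde.fracAt_congr 𝒜 y.1 _ _ hzero rfl)).trans (H11Tilde.fracAt_zero 𝒜 y.1 _
    (pow_notMem_basicOpen 𝒜 y _))

/-- Compatibility with restriction. -/
theorem psi_res {h : A} {e : ℕ} (he : h ∈ 𝒜 e) {g' : A} (hg'eq : g' = g * h) (hd' : 0 < d + e)
    (hg' : g' ∈ 𝒜 (d + e)) {N' : Type u} [AddCommGroup N'] [Module A N'] (j' : M →ₗ[A] N')
    [IsLocalizedModule.Away g' j'] (r : N →ₗ[A] N') (hrj : ∀ m, r (j m) = j' m) {n : ℤ}
    (i : op (ProjectiveSpectrum.basicOpen 𝒜 g) ⟶ op (ProjectiveSpectrum.basicOpen 𝒜 g'))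
    (s : Sec 𝒜 ℳ g n) :
    psi 𝒜 ℳ hd' hg' j' n (GrTilde.res 𝒜 ℳ n i s) = r (psi 𝒜 ℳ hd hg j n s) := by
  obtain ⟨k, l, m, ⟨hm, hl, hs⟩, hz⟩ := val_psi 𝒜 ℳ hd hg j n s
  refine psi_eq 𝒜 ℳ hd' hg' j' ⟨k, k * e + l, h ^ k • m,
    ⟨SetLike.GradedSMul.smul_mem (SetLike.pow_mem_graded k he) hm, by push_cast; linarith, fun x => ?_⟩, ?_⟩
  · refine (hs ⟨x.1, CategoryTheory.leOfHom i.unop x.2⟩).trans ?_
    refine fracAt_eq_of 𝒜 x.1 _ _ ?_
    subst hg'eq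
    rw [mul_pow, smul_smul]
  · subst hg'eq
    rw [mul_pow, mul_comm (g ^ k), mul_smul, ← map_smul, ← map_smul, map_smul, hz, hrj, map_smul]

end Groth.Agent.H02CA.GrFrac
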