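import Mathlib.RingTheory.GradedAlgebra.Homogeneous.Ideal
import Mathlib.Algebra.GradedMulAction
import Mathlib.Algebra.DirectSum.Decomposition
import Mathlib.RingTheory.Finiteness.Defs

/-!
Homogeneous components in graded modules over `ℕ`-graded algebras.
-/

namespace Groth.Agent.H02CA

universe u v
open DirectSum

variable {R S : Type u} [CommRing R] [CommRing S] [Algebra R S] (𝒜 : ℕ → Submodule R S)
  {M : Type v} [AddCommGroup M] [Module R M] [Module S M]
  (ℳ : ℕ → Submodule R M) [DirectSum.Decomposition ℳ] [SetLike.GradedSMul 𝒜 ℳ]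

/-- Components of `a • y` for homogeneous `a`. -/
lemma coe_decompose_smul_of_mem {i : ℕ} {a : S} (ha : a ∈ 𝒜 i) (y : M) (n : ℕ) :
    (decompose ℳ (a • y) n : M) = if i ≤ n then a • (decompose ℳ y (n - i) : M) else 0 := by
  classical
  induction y using DirectSum.Decomposition.inductionOn ℳ with
  | zero => simp
  | @homogeneous j y =>
    have hay : a • (y : M) ∈ ℳ (i + j) := SetLike.GradedSMul.smul_mem ha y.2
    by_cases hn : n = i + j
    · subst hn
      rw [decompose_of_mem_same ℳ hay, if_pos (Nat.le_add_right i j), Nat.add_sub_cancel_left,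
        decompose_of_mem_same ℳ y.2]
    · rw [decompose_of_mem_ne ℳ hay (Ne.symm hn)]
      split_ifs with h
      · rw [decompose_of_mem_ne ℳ y.2 (by omega), smul_zero]
      · rfl
  | add y z h1 h2 =>
    simp only [smul_add, decompose_add, add_apply, Submodule.coe_add, h1, h2]
    split_ifs <;> simp

/-- The components of a span of homogeneous elements stay inside it. -/
lemma decompose_mem_span_homogeneous [GradedAlgebra 𝒜] {X : Set M}
    (hX : ∀ x ∈ X, SetLike.IsHomogeneousElem ℳ x) {y : M} (hy : y ∈ Submodule.span S X) (n : ℕ) :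
    (decompose ℳ y n : M) ∈ Submodule.span S X := by
  classical
  suffices H : ∀ (y : M), y ∈ Submodule.span S X → ∀ n, (decompose ℳ y n : M) ∈ Submodule.span S X from
    H y hy n
  intro y hy
  induction hy using Submodule.span_induction with
  | mem x hx =>
    intro n
    obtain ⟨j, hj⟩ := hX x hx
    by_cases hn : n = j
    · subst hn; rw [decompose_of_mem_same ℳ hj]; exact Submodule.subset_span hx
    · rw [decompose_of_mem_ne ℳ hj (Ne.symm hn)]; exact zero_mem _
  | zero => intro n; simp
  | add y z _ _ h1 h2 =>
    intro n; simp only [decompose_add, add_apply, Submodule.coe_add]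
    exact add_mem (h1 n) (h2 n)
  | smul s y _ h1 =>
    intro n
    induction s using DirectSum.Decomposition.inductionOn 𝒜 with
    | zero => simp
    | @homogeneous i a =>
      rw [coe_decompose_smul_of_mem 𝒜 ℳ a.2]
      split_ifs
      · exact Submodule.smul_mem _ _ (h1 _)
      · exact zero_mem _
    | add a b h h' =>
      simp only [add_smul, decompose_add, add_apply, Submodule.coe_add]
      exact add_mem h h'

/-- Graded Nakayama: homogeneous elements generating modulo the irrelevant ideal generate. -/
lemma span_eq_top_of_irrelevant [GradedAlgebra 𝒜] {X : Set M}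
    (hX : ∀ x ∈ X, SetLike.IsHomogeneousElem ℳ x)
    (h : Submodule.span S X ⊔ (HomogeneousIdeal.irrelevant 𝒜).toIdeal • (⊤ : Submodule S M) = ⊤) :
    Submodule.span S X = ⊤ := by
  classical
  set N := Submodule.span S X
  suffices H : ∀ n, ∀ y : M, (decompose ℳ y n : M) ∈ N by
    refine eq_top_iff.mpr fun y _ => ?_
    rw [← DirectSum.sum_support_decompose ℳ y]
    exact Submodule.sum_mem _ fun n _ => H n y
  intro n
  induction n using Nat.strong_induction_on with
  | _ n ih =>
    intro y
    have hy : y ∈ N ⊔ (HomogeneousIdeal.irrelevant 𝒜).toIdeal • (⊤ : Submodule S M) := by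
      rw [h]; exact Submodule.mem_top
    obtain ⟨a, ha, b, hb, rfl⟩ := Submodule.mem_sup.mp hy
    simp only [decompose_add, add_apply, Submodule.coe_add]
    refine add_mem (decompose_mem_span_homogeneous 𝒜 ℳ hX ha n) ?_
    revert n
    induction hb using Submodule.smul_induction_on' with
    | smul s hs z _ =>
      intro n ih
      have hs0 : GradedRing.proj 𝒜 0 s = 0 := (HomogeneousIdeal.mem_irrelevant_iff 𝒜 s).mp hs
      rw [GradedRing.proj_apply] at hs0
      rw [← DirectSum.sum_support_decompose 𝒜 s, Finset.sum_smul, decompose_sum,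
        DFinsupp.finsetSum_apply, Submodule.coe_sum]
      refine Submodule.sum_mem _ fun i _ => ?_
      rw [coe_decompose_smul_of_mem 𝒜 ℳ (SetLike.coe_mem _)]
      split_ifs with hin
      · rcases Nat.eq_zero_or_pos i with rfl | hi
        · rw [hs0, zero_smul]; exact zero_mem _
        · exact Submodule.smul_mem _ _ (ih _ (by omega) z)
      · exact zero_mem _
    | add x hx x' hx' h1 h2 =>
      intro n ih
      simp only [decompose_add, add_apply, Submodule.coe_add]
      exact add_mem (h1 (Submodule.mem_sup.mpr ⟨a, ha, x, hx, rfl⟩) n ih)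
        (h2 (Submodule.mem_sup.mpr ⟨a, ha, x', hx', rfl⟩) n ih)

end Groth.Agent.H02CA
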