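import Groth.Agent.H15Site.ModExtH
import Groth.Agent.H10Coh.ModGroth
import Groth.Prelude.Def_CohCx
import Groth.Prelude.Def_ModSite
import Mathlib.GroupTheory.FreeAbelianGroup

/-!
# Totally acyclic modules are acyclic for global sections
-/

set_option autoImplicit false
set_option linter.style.haveILetI false
set_option linter.unusedSectionVars false

universe u

open CategoryTheory CategoryTheory.Limits Opposite CategoryTheory.Abelian

namespace Groth.Agent.H02CA.ModUnitAcyclic

open Groth.Agent.H15Site

attribute [local instance 10000] SiteInst.hasSheafifySite SiteInst.hasWeakSheafifySite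
  SiteInst.hasExtSite SiteInst.enoughInjSite

variable {C : Type u} [SmallCategory C] {J : GrothendieckTopology C}

/-- The terminal sheaf of sets. -/
noncomputable def pt (J : GrothendieckTopology C) : Sheaf J (Type u) :=
  ⟨(Functor.const Cᵒᵖ).obj PUnit.{u + 1}, (isSheaf_iff_isSheaf_of_type _ _).2
    fun _ _ _ _ _ => ⟨PUnit.unit, fun _ _ _ => rfl, fun _ _ => rfl⟩⟩

/-- The constant sheaf `ℤ` is free on the terminal sheaf of sets. -/
noncomputable def constIso (J : GrothendieckTopology C) :
    (constantSheaf J AddCommGrpCat.{u}).obj (AddCommGrpCat.of (ULift.{u} ℤ)) ≅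
      (presheafToSheaf J AddCommGrpCat.{u}).obj ((pt J).obj ⋙ AddCommGrpCat.free.{u}) :=
  (presheafToSheaf J AddCommGrpCat.{u}).mapIso (NatIso.ofComponents
    (fun _ => (AddEquiv.ulift.trans
      (FreeAbelianGroup.uniqueEquiv PUnit.{u + 1}).symm).toAddCommGrpIso) (fun _ => by
      refine (Category.id_comp _).trans (Eq.trans ?_ (congrArg _ (AddCommGrpCat.free.map_id _)).symm)
      exact (Category.comp_id _).symm))

/-- A totally acyclic sheaf has no higher cohomology. -/
theorem subsingleton_H {F : Sheaf J AddCommGrpCat.{u}} (hF : CohCx.IsTotallyAcyclic F) (j : ℕ) :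
    Subsingleton (Sheaf.H.{u} F (j + 1)) := by
  have h := hF (pt J) j
  exact ⟨fun x y => by
    have key : ∀ z : Ext ((constantSheaf J AddCommGrpCat.{u}).obj (AddCommGrpCat.of (ULift.{u} ℤ)))
        F (j + 1), z = (Ext.mk₀ (constIso J).hom).comp ((Ext.mk₀ (constIso J).inv).comp z (zero_add _))
          (zero_add _) := fun z => by
      rw [Ext.mk₀_comp_mk₀_assoc, Iso.hom_inv_id, Ext.mk₀_id_comp]
    refine (key x).trans (Eq.trans ?_ (key y).symm)
    exact congrArg (fun t => (Ext.mk₀ (constIso J).hom).comp t (zero_add _)) (Subsingleton.elim _ _)⟩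

/-- Totally acyclic modules have no higher `Ext` out of the structure sheaf. -/
theorem subsingleton_ext_unit (O : Sheaf J CommRingCat.{u}) [HasExt.{u} (ModSite.Mod O)]
    {X : ModSite.Mod O} (hX : CohCx.IsTotallyAcyclic (ModSite.toAb X)) (j : ℕ) :
    Subsingleton (Ext.{u} (ModSite.unit O) X (j + 1)) := by
  have := H10Coh.isGrothendieckAbelian_sheafOfModules (ModSite.ringSh O)
  have : EnoughInjectives (ModSite.Mod O) := IsGrothendieckAbelian.enoughInjectives.{u}
  obtain ⟨e⟩ := ModExtH.nonempty_ext_unit_addEquiv (ModSite.ringSh O) X (j + 1)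
  have := subsingleton_H hX j
  exact e.toEquiv.subsingleton

end Groth.Agent.H02CA.ModUnitAcyclic
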