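import Groth.Agent.H02CA.ModNull
import Groth.Agent.H02CA.ModUnitAcyclic
import Groth.Agent.H15Site.ModInjAcyclic
import Groth.Agent.H15Site.TorsionFree
import Groth.Agent.H10Coh.ExtMap
import Groth.Agent.H10Coh.ToSheaf
import Groth.Agent.H10Coh.ModGroth
import Groth.Prelude.Def_CohCx
import Groth.Prelude.Def_ToposFin2
import Mathlib.CategoryTheory.Sites.Adjunction
import Mathlib.Algebra.Category.Grp.Adjunctions

/-!
# Cohomology with supports is `Ext` out of `quotOn O`
-/

set_option autoImplicit false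
set_option linter.style.haveILetI false
set_option linter.unusedSectionVars false
set_option backward.isDefEq.respectTransparency false

universe u

open CategoryTheory CategoryTheory.Limits Opposite CategoryTheory.Abelian

namespace Groth.Agent.H02CA.HZExt

open Groth.Agent.H15Site Groth.Agent.H02CA.ModUnitAcyclic

attribute [local instance 10000] SiteInst.hasSheafifySite SiteInst.hasWeakSheafifySite
  SiteInst.hasExtSite SiteInst.enoughInjSite

variable {C : Type u} [SmallCategory C] {J : GrothendieckTopology C}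

/-- `ℤ[-] ⊣` the underlying sheaf of sets. -/
noncomputable def fadj (J : GrothendieckTopology C) :
    ToposFin.freeAb J ⊣ sheafCompose J (forget AddCommGrpCat.{u}) :=
  Sheaf.adjunction J AddCommGrpCat.adj.{u}

/-- `ℤ[K]/ℤ[L]`. -/
noncomputable abbrev relQuot {L K : ToposFin.Sh J} (i : L ⟶ K) : Sheaf J AddCommGrpCat.{u} :=
  cokernel ((ToposFin.freeAb J).map i)

/-- `ℤ[K]/ℤ[L]` is a retract of a free abelian sheaf. -/
theorem exists_retract {L K : ToposFin.Sh J} (i : L ⟶ K) :
    ∃ (P : ToposFin.Sh J) (s : relQuot i ⟶ (ToposFin.freeAb J).obj P)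
      (p : (ToposFin.freeAb J).obj P ⟶ relQuot i), s ≫ p = 𝟙 _ := by
  let π : (ToposFin.freeAb J).obj K ⟶ relQuot i := cokernel.π _
  have h1 : (ToposFin.freeAb J).map i ≫ π = (ToposFin.freeAb J).map i ≫ 0 := by
    rw [comp_zero]; exact cokernel.condition _
  have h2 : i ≫ (fadj J).homEquiv _ _ π = i ≫ (fadj J).homEquiv _ _ 0 := by
    rw [← Adjunction.homEquiv_naturality_left, ← Adjunction.homEquiv_naturality_left, h1]
  let p := ((fadj J).homEquiv (pushout i i) (relQuot i)).symm
    (pushout.desc ((fadj J).homEquiv _ _ π) ((fadj J).homEquiv _ _ 0) h2)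
  have hl : (ToposFin.freeAb J).map (pushout.inl i i) ≫ p = π := by
    rw [← Adjunction.homEquiv_naturality_left_symm, pushout.inl_desc, Equiv.symm_apply_apply]
  have hr : (ToposFin.freeAb J).map (pushout.inr i i) ≫ p = 0 := by
    rw [← Adjunction.homEquiv_naturality_left_symm, pushout.inr_desc, Equiv.symm_apply_apply]
  refine ⟨pushout i i, cokernel.desc _ ((ToposFin.freeAb J).map (pushout.inl i i) -
    (ToposFin.freeAb J).map (pushout.inr i i)) ?_, p, ?_⟩
  · rw [Preadditive.comp_sub, ← Functor.map_comp, ← Functor.map_comp, pushout.condition, sub_self]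
  · apply coequalizer.hom_ext
    change cokernel.π _ ≫ _ ≫ p = cokernel.π _ ≫ 𝟙 _
    rw [cokernel.π_desc_assoc, Preadditive.sub_comp, hl, hr, sub_zero, Category.comp_id]

theorem tf_relQuot {L K : ToposFin.Sh J} (i : L ⟶ K) : TorsionFree.TF (relQuot i) := by
  obtain ⟨P, s, p, h⟩ := exists_retract i
  have : IsSplitMono s := ⟨⟨⟨p, h⟩⟩⟩
  exact (TorsionFree.tf_sheafify_free P.obj).of_mono s

/-- Totally acyclic sheaves have no higher relative cohomology. -/
theorem subsingleton_ext_relQuot {L K : ToposFin.Sh J} (i : L ⟶ K)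
    {F : Sheaf J AddCommGrpCat.{u}} (hF : CohCx.IsTotallyAcyclic F) (j : ℕ) :
    Subsingleton (Ext.{u} (relQuot i) F (j + 1)) := by
  obtain ⟨P, s, p, h⟩ := exists_retract i
  refine ⟨fun x y => ?_⟩
  have key : ∀ z : Ext.{u} (relQuot i) F (j + 1),
      z = (Ext.mk₀ s).comp ((Ext.mk₀ p).comp z (zero_add _)) (zero_add _) := fun z => by
    rw [Ext.mk₀_comp_mk₀_assoc, h, Ext.mk₀_id_comp]
  refine (key x).trans (Eq.trans ?_ (key y).symm)
  exact congrArg (fun t => (Ext.mk₀ s).comp t (zero_add _)) (@Subsingleton.elim _ (hF P j) _ _)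

theorem tf_quotZ (K : ToposFin.Sh J) : TorsionFree.TF (ToposFin.quotZ K) :=
  tf_relQuot (terminal.from K)

/-- Totally acyclic sheaves have no higher cohomology with supports. -/
theorem subsingleton_ext_quotZ (K : ToposFin.Sh J) {F : Sheaf J AddCommGrpCat.{u}}
    (hF : CohCx.IsTotallyAcyclic F) (j : ℕ) :
    Subsingleton (Ext.{u} (ToposFin.quotZ K) F (j + 1)) :=
  subsingleton_ext_relQuot (terminal.from K) hF j

variable {O : Sheaf J CommRingCat.{u}}

/-- The section `1`. -/
noncomputable def one (O : Sheaf J CommRingCat.{u}) :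
    pt J ⟶ (sheafCompose J (forget AddCommGrpCat.{u})).obj (ModSite.toAb (ModSite.unit O)) :=
  ⟨{ app := fun X => TypeCat.ofHom fun _ => (1 : O.obj.obj X)
     naturality := fun X Y f => by
      ext
      exact (map_one (O.obj.map f).hom).symm }⟩

/-- The map from the terminal sheaf to the section `1`. -/
noncomputable def topOne (O : Sheaf J CommRingCat.{u}) :
    ⊤_ (ToposFin.Sh J) ⟶ (sheafCompose J (forget AddCommGrpCat.{u})).obj (ModSite.toAb (ModSite.unit O)) :=
  (show ⊤_ (ToposFin.Sh J) ⟶ pt J from ⟨{ app := fun _ => TypeCat.ofHom fun _ => PUnit.unit }⟩) ≫ one O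

/-- Maps out of the structure sheaf as sections. -/
noncomputable def ev {F : ModSite.Mod O} (φ : ModSite.unit O ⟶ F) :
    ⊤_ (ToposFin.Sh J) ⟶ (sheafCompose J (forget AddCommGrpCat.{u})).obj (ModSite.toAb F) :=
  topOne O ≫ (sheafCompose J (forget AddCommGrpCat.{u})).map
    ((SheafOfModules.toSheaf (ModSite.ringSh O)).map φ)

theorem ev_apply {F : ModSite.Mod O} (φ : ModSite.unit O ⟶ F) (X : Cᵒᵖ)
    (t : (⊤_ (ToposFin.Sh J)).obj.obj X) :
    (ev φ).hom.app X t = (φ.val.app X).hom (1 : O.obj.obj X) := rfl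

theorem ev_bijective (F : ModSite.Mod O) : Function.Bijective (ev (F := F)) := by
  let e : pt J ⟶ ⊤_ (ToposFin.Sh J) := terminal.from _
  refine ⟨fun φ ψ h => F.unitHomEquiv.injective (Subtype.ext (funext fun X => ?_)), fun g => ?_⟩
  · have := ConcreteCategory.congr_hom
      (congrArg (fun a : ⊤_ (ToposFin.Sh J) ⟶ _ => a.hom.app X) h) (e.hom.app X PUnit.unit)
    exact this
  · let x : ∀ X : Cᵒᵖ, F.val.obj X := fun X => g.hom.app X (e.hom.app X PUnit.unit)
    let s : F.sections := PresheafOfModules.sectionsMk x fun {X Y} f => by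
      refine ((ConcreteCategory.congr_hom (g.hom.naturality f) (e.hom.app X PUnit.unit)).symm).trans ?_
      exact congrArg (g.hom.app Y)
        (ConcreteCategory.congr_hom (e.hom.naturality f) PUnit.unit).symm
    refine ⟨F.unitHomEquiv.symm s, Sheaf.hom_ext (NatTrans.ext (funext fun X => ?_))⟩
    ext t
    have hsub : Subsingleton ((⊤_ (ToposFin.Sh J)).obj.obj X) := by
      refine ⟨fun a b => ?_⟩
      let i : ⊤_ (ToposFin.Sh J) ⟶ pt J := ⟨{ app := fun _ => TypeCat.ofHom fun _ => PUnit.unit }⟩
      have h : i ≫ e = 𝟙 _ := Subsingleton.elim _ _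
      have hh : ∀ a, e.hom.app X (i.hom.app X a) = a := fun a =>
        ConcreteCategory.congr_hom (congrArg (fun q : ⊤_ (ToposFin.Sh J) ⟶ _ => q.hom.app X) h) a
      exact (hh a).symm.trans (hh b)
    refine (ev_apply _ X t).trans ?_
    refine (congrFun (congrArg Subtype.val (F.unitHomEquiv.apply_symm_apply s)) X).trans ?_
    exact congrArg (g.hom.app X) (Subsingleton.elim _ _)

/-- A map out of the structure sheaf is zero on `U` iff its section vanishes on `U`. -/
theorem restr_map_eq_zero_iff (U : C) {F : ModSite.Mod O} (φ : ModSite.unit O ⟶ F) :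
    (ModSite.restr O U).map φ = 0 ↔ (φ.val.app (op U)).hom (1 : O.obj.obj (op U)) = 0 := by
  constructor
  · intro h
    exact congrArg (fun ψ : (ModSite.restr O U).obj (ModSite.unit O) ⟶ (ModSite.restr O U).obj F =>
      (ψ.val.app (op (Over.mk (𝟙 U)))).hom (1 : O.obj.obj (op U))) h
  · intro h
    apply (SheafOfModules.toSheaf _).map_injective
    ext Y m
    show (φ.val.app (op (unop Y).left)).hom m = 0
    let g := (unop Y).hom
    let r : O.obj.obj (op (unop Y).left) := m
    have h1 : (φ.val.app (op (unop Y).left)).hom (1 : O.obj.obj (op (unop Y).left)) = 0 := by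
      have := PresheafOfModules.naturality_apply φ.val g.op (1 : O.obj.obj (op U))
      refine Eq.trans ?_ (this.trans ((congrArg (F.val.map g.op) h).trans (map_zero _)))
      exact congrArg (φ.val.app (op (unop Y).left)).hom (map_one (O.obj.map g.op).hom).symm
    have h2 : m = r • (1 : O.obj.obj (op (unop Y).left)) := (mul_one r).symm
    refine (congrArg (φ.val.app (op (unop Y).left)).hom h2).trans ?_
    exact ((φ.val.app (op (unop Y).left)).hom.map_smul r _).trans
      ((congrArg (r • ·) h1).trans (smul_zero _))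

/-- Maps out of the sheaf attached to `U` are determined by their value at the universal section. -/
theorem eps_hom_ext (U : C) {G : ToposFin.Sh J} {a b : ToposFin.eps J U ⟶ G}
    (h : a.hom.app (op U) ((toSheafify J (yoneda.obj U)).app (op U) (𝟙 U)) =
      b.hom.app (op U) ((toSheafify J (yoneda.obj U)).app (op U) (𝟙 U))) : a = b := by
  apply ((sheafificationAdjunction J (Type u)).homEquiv (yoneda.obj U) G).injective
  apply yonedaEquiv.injective
  exact h

variable (U : C)

theorem restr_map_eq_zero_iff_comp (F : ModSite.Mod O) (φ : ModSite.unit O ⟶ F) :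
    (ModSite.restr O U).map φ = 0 ↔ (ToposFin.freeAb J).map (terminal.from (ToposFin.eps J U)) ≫
      ((fadj J).homEquiv _ _).symm (ev φ) = 0 := by
  rw [restr_map_eq_zero_iff, ← Adjunction.homEquiv_naturality_left_symm, Equiv.symm_apply_eq]
  have h0 : (fadj J).homEquiv (ToposFin.eps J U) (ModSite.toAb F) 0 =
      terminal.from (ToposFin.eps J U) ≫ ev 0 := by
    have hz : ((fadj J).homEquiv _ _).symm (ev (0 : ModSite.unit O ⟶ F)) = 0 := by
      rw [ev, Adjunction.homEquiv_naturality_right_symm, Functor.map_zero, comp_zero]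
    refine ((Equiv.symm_apply_eq _).1 ?_).symm
    rw [Adjunction.homEquiv_naturality_left_symm, hz, comp_zero]
  rw [h0]
  constructor
  · intro h
    refine eps_hom_ext U ?_
    exact (ev_apply φ (op U) _).trans (h.trans (ev_apply (0 : ModSite.unit O ⟶ F) (op U) _).symm)
  · intro h
    have := ConcreteCategory.congr_hom (congrArg (fun a : ToposFin.eps J U ⟶ _ => a.hom.app (op U)) h)
      ((toSheafify J (yoneda.obj U)).app (op U) (𝟙 U))
    exact this

variable [ModSite.HasPushOver O U]

/-- `ℤ/ℤ_U ⟶ quotOn O`. -/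
noncomputable def quotZHom (O : Sheaf J CommRingCat.{u}) (U : C) [ModSite.HasPushOver O U] :
    ToposFin.quotZ (ToposFin.eps J U) ⟶ ModSite.toAb ((ModSite.quotOn O U).obj (ModSite.unit O)) :=
  cokernel.desc _ (((fadj J).homEquiv _ _).symm (ev ((ModSite.quotOnπ O U).app (ModSite.unit O))))
    ((restr_map_eq_zero_iff_comp U _ _).1
      (ModNull.restr_map_eq_zero_of_null_tgt (ExtSupp.isNullOn_quotOn O U _) _))

theorem quotZHom_comp {F : ModSite.Mod O} (ψ : (ModSite.quotOn O U).obj (ModSite.unit O) ⟶ F) :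
    cokernel.π _ ≫ quotZHom O U ≫ (SheafOfModules.toSheaf (ModSite.ringSh O)).map ψ =
      ((fadj J).homEquiv _ _).symm (ev ((ModSite.quotOnπ O U).app (ModSite.unit O) ≫ ψ)) := by
  rw [quotZHom, cokernel.π_desc_assoc, ← Adjunction.homEquiv_naturality_right_symm]
  refine congrArg _ ?_
  rw [ev, ev, Category.assoc, ← Functor.map_comp, ← Functor.map_comp]

theorem quotZHom_bijective (F : ModSite.Mod O) :
    Function.Bijective fun ψ : (ModSite.quotOn O U).obj (ModSite.unit O) ⟶ F =>
      quotZHom O U ≫ (SheafOfModules.toSheaf (ModSite.ringSh O)).map ψ := by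
  have := ModNull.epi_quotOnπ (U := U) (ModSite.unit O)
  constructor
  · intro a b h
    have h' := congrArg (fun t => cokernel.π _ ≫ t) h
    simp only [quotZHom_comp, EmbeddingLike.apply_eq_iff_eq] at h'
    exact (cancel_epi _).1 ((ev_bijective F).1 h')
  · intro g
    obtain ⟨φ, hφ⟩ := (ev_bijective F).2 ((fadj J).homEquiv _ _ (cokernel.π _ ≫ g))
    have hφ' : ((fadj J).homEquiv _ _).symm (ev φ) = cokernel.π _ ≫ g := by
      rw [hφ, Equiv.symm_apply_apply]
    have hr : (ModSite.restr O U).map φ = 0 := (restr_map_eq_zero_iff_comp U F φ).2 (by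
      rw [hφ', cokernel.condition_assoc, zero_comp])
    obtain ⟨ψ, rfl⟩ := (ModNull.isQuot_quotOnπ (U := U) (ModSite.unit O)).exists_fac F φ hr
    refine ⟨ψ, coequalizer.hom_ext ?_⟩
    exact (quotZHom_comp U ψ).trans hφ'

/-- `Ext^n_O(quotOn O, F) = H^n_Z(F)`. -/
theorem nonempty_ext_addEquiv_HZ [HasExt.{u} (ModSite.Mod O)] (F : ModSite.Mod O) (n : ℕ) :
    Nonempty (Ext.{u} ((ModSite.quotOn O U).obj (ModSite.unit O)) F n ≃+ ModSite.HZ U F n) := by
  have := H10Coh.isGrothendieckAbelian_sheafOfModules (ModSite.ringSh O)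
  have : EnoughInjectives (ModSite.Mod O) := IsGrothendieckAbelian.enoughInjectives.{u}
  have := H10Coh.preservesFiniteColimits_toSheaf (ModSite.ringSh O)
  exact ⟨H10Coh.extMapEquiv (SheafOfModules.toSheaf (ModSite.ringSh O)) (quotZHom O U)
    (fun G => quotZHom_bijective U G)
    (fun I _ m => subsingleton_ext_quotZ _ (ModExtH.isTotallyAcyclic_toSheaf _ I) m) n F⟩

end Groth.Agent.H02CA.HZExt
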