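import Groth.Agent.H02CA.ModNull
import Groth.Agent.H10Coh.ModGroth

/-!
# Global sections with supports of the internal hom
-/

set_option autoImplicit false
set_option linter.style.haveILetI false
set_option linter.unusedSectionVars false

universe u

open CategoryTheory CategoryTheory.Limits Opposite

namespace Groth.Agent.H02CA.ModNull

open Groth.Agent.H15Site Groth.Agent.H15Site.ModTensor

attribute [local instance 10000] SiteInst.hasSheafifySite SiteInst.hasWeakSheafifySite

variable {C : Type u} [SmallCategory C] {J : GrothendieckTopology C} {O : Sheaf J CommRingCat.{u}}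
  {U : C}

lemma enoughInjectives_mod (O : Sheaf J CommRingCat.{u}) : EnoughInjectives (ModSite.Mod O) :=
  have := H10Coh.isGrothendieckAbelian_sheafOfModules (ModSite.ringSh O)
  IsGrothendieckAbelian.enoughInjectives.{u}

variable [ModSite.HasPushOver O U]

variable (O U) in
/-- `Hom(quotOn O, ℋom(M, Y)) = Hom(quotOn M, Y)`. -/
lemma exists_quotUnit_hom_addEquiv (M : ModSite.Mod O) [ModSite.HasSheafHom M] :
    ∃ θ : ∀ Y : ModSite.Mod O,
        ((ModSite.quotOn O U).obj (ModSite.unit O) ⟶ (ModSite.sheafHom M).obj Y) ≃+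
          ((ModSite.quotOn O U).obj M ⟶ Y),
      ∀ (Y Y' : ModSite.Mod O) (h : Y ⟶ Y') f,
        θ Y' (f ≫ (ModSite.sheafHom M).map h) = θ Y f ≫ h := by
  obtain ⟨e⟩ := nonempty_quotOn_unit_tensor_iso O U M
  have := additive_tR M
  have := (ModSite.sheafHomAdj M).right_adjoint_additive
  refine ⟨fun Y => ((ModSite.sheafHomAdj M).homAddEquiv _ Y).symm.trans
    ((preadditiveYoneda.obj Y).mapIso e.symm.op).addCommGroupIsoToAddEquiv, fun Y Y' h f => ?_⟩
  show e.inv ≫ ((ModSite.sheafHomAdj M).homEquiv _ _).symm (f ≫ (ModSite.sheafHom M).map h) =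
    (e.inv ≫ ((ModSite.sheafHomAdj M).homEquiv _ _).symm f) ≫ h
  rw [Adjunction.homEquiv_naturality_right_symm, Category.assoc]

variable (O U) in
/-- `Hom(O, Γ_Z ℋom(M, Y)) = Hom(quotOn M, Y)`. -/
lemma exists_unit_hom_addEquiv (M : ModSite.Mod O) [ModSite.HasSheafHom M] :
    ∃ θ : ∀ Y : ModSite.Mod O,
        (ModSite.unit O ⟶ (ModSite.sheafHom M ⋙ ModSite.sectOn O U).obj Y) ≃+
          ((ModSite.quotOn O U).obj M ⟶ Y),
      ∀ (Y Y' : ModSite.Mod O) (h : Y ⟶ Y') f,
        θ Y' (f ≫ (ModSite.sheafHom M ⋙ ModSite.sectOn O U).map h) = θ Y f ≫ h := by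
  obtain ⟨θ, hθ⟩ := exists_quotUnit_hom_addEquiv O U M
  have := additive_quotOn (O := O) (U := U)
  refine ⟨fun Y => ((adjZ O U).homAddEquiv (ModSite.unit O) ((ModSite.sheafHom M).obj Y)).symm.trans
    (θ Y), fun Y Y' h f => ?_⟩
  show θ Y' (((adjZ O U).homEquiv _ _).symm (f ≫ (ModSite.sectOn O U).map _)) =
    θ Y (((adjZ O U).homEquiv _ _).symm f) ≫ h
  rw [Adjunction.homEquiv_naturality_right_symm]
  exact hθ _ _ h _

end Groth.Agent.H02CA.ModNull
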