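import Groth.Agent.H02CA.HZExt
import Groth.Agent.H02CA.ModNullHom
import Groth.Agent.H15Site.SiteGenInst
import Groth.Agent.H16Derived.AcyclicLES
import Mathlib.CategoryTheory.Abelian.Injective.Ext

/-!
# Totally acyclic modules have no higher local cohomology sheaves
-/

set_option autoImplicit false
set_option linter.style.haveILetI false
set_option linter.unusedSectionVars false
set_option backward.isDefEq.respectTransparency false

universe u

open CategoryTheory CategoryTheory.Limits Opposite CategoryTheory.Abelian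

namespace Groth.Agent.H02CA.HZExt

open Groth.Agent.H15Site Groth.Agent.H15Site.ModTensor Groth.Agent.H15Site.SiteGenInst

attribute [local instance 10000] SiteInst.hasSheafifySite SiteInst.hasWeakSheafifySite
  SiteInst.hasExtSite SiteInst.enoughInjSite

variable {C : Type u} [SmallCategory C] {J : GrothendieckTopology C} {O : Sheaf J CommRingCat.{u}}
  (U V : C)

/-- The product of two representable presheaves. -/
def prodPre : Cᵒᵖ ⥤ Type u where
  obj W := (W.unop ⟶ U) × (W.unop ⟶ V)
  map f := TypeCat.ofHom fun p => (f.unop ≫ p.1, f.unop ≫ p.2)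
  map_id W := by ext p <;> simp
  map_comp f g := by ext p <;> simp

/-- The second projection. -/
def sndPre : prodPre U V ⟶ yoneda.obj V where
  app _ := TypeCat.ofHom fun p => p.2

/-- The open generated by `U` inside `V`. -/
noncomputable def interIncl (J : GrothendieckTopology C) :
    (presheafToSheaf J (Type u)).obj (prodPre U V) ⟶ ToposFin.eps J V :=
  (presheafToSheaf J (Type u)).map (sndPre U V)

/-- Maps out of the free module on `V`, as maps of sheaves of sets. -/
noncomputable def evV {F : ModSite.Mod O} (φ : (freeModFunctor O).obj V ⟶ F) :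
    ToposFin.eps J V ⟶ (sheafCompose J (forget AddCommGrpCat.{u})).obj (ModSite.toAb F) :=
  ((sheafificationAdjunction J (Type u)).homEquiv _ _).symm (yonedaEquiv.symm (eMod O V F φ))

theorem evV_bijective (F : ModSite.Mod O) : Function.Bijective (evV V (F := F)) :=
  ((sheafificationAdjunction J (Type u)).homEquiv _ _).symm.bijective.comp
    (yonedaEquiv.symm.bijective.comp (eMod O V F).bijective)

theorem evV_comp {F G : ModSite.Mod O} (φ : (freeModFunctor O).obj V ⟶ F) (f : F ⟶ G) :
    evV V (φ ≫ f) = evV V φ ≫ (sheafCompose J (forget AddCommGrpCat.{u})).map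
      ((SheafOfModules.toSheaf (ModSite.ringSh O)).map f) := by
  rw [evV, evV, ← Adjunction.homEquiv_naturality_right_symm]
  refine congrArg _ (yonedaEquiv.injective ?_)
  rw [Equiv.apply_symm_apply, eMod_naturality_right]
  conv_rhs => rw [yonedaEquiv_comp, Equiv.apply_symm_apply]
  rfl

/-- A map out of the free module on `V` is zero on `U` iff its section is. -/
theorem restr_map_eq_zero_iff_sect {F : ModSite.Mod O} (φ : (freeModFunctor O).obj V ⟶ F) :
    (ModSite.restr O U).map φ = 0 ↔
      ∀ (W : C) (_ : W ⟶ U) (g : W ⟶ V),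
        ((ModSite.toAb F).obj.map g.op).hom (eMod O V F φ) = 0 := by
  constructor
  · intro h W a g
    rw [← eMod_naturality_left]
    exact congrArg (fun ψ : (ModSite.restr O U).obj ((freeModFunctor O).obj V) ⟶
      (ModSite.restr O U).obj F => (ψ.val.app (op (Over.mk a))).hom
        (eMod O W _ ((freeModFunctor O).map g))) h |> fun t => by
      rw [eMod_naturality_right]
      exact t
  · intro h
    apply (SheafOfModules.toSheaf _).map_injective
    ext Y m
    show (φ.val.app (op (unop Y).left)).hom m = 0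
    let P := (PresheafOfModules.free (ModSite.ringSh O).obj).obj (yoneda.obj V)
    obtain ⟨-, hs⟩ := (isIso_aSh_map_iff _).1 (isIso_aSh_map_unit (O := O) P)
    refine separated_forg F _ (Presheaf.imageSieve_mem J
      ((PresheafOfModules.toPresheaf _).map ((adj O).unit.app P)) (U := op (unop Y).left) m) _ _
      fun W g ⟨t, ht⟩ => ?_
    show rs ((forg O).obj F) g.op ((φ.val.app _).hom m) = rs ((forg O).obj F) g.op 0
    have e0 : rs ((forg O).obj F) g.op (0 : ((forg O).obj F).obj _) = 0 :=
      map_zero (((forg O).obj F).presheaf.map g.op).hom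
    rw [e0]
    refine ((rs_app ((forg O).map φ) g.op m).symm).trans ?_
    refine (congrArg ((((forg O).map φ).app (op W))).hom ht.symm).trans ?_
    have hz : ((adj O).homEquiv _ _ φ).app (op W) = 0 := by
      refine ModuleCat.free_hom_ext fun (k : W ⟶ V) => ?_
      let Ψ : yoneda.obj V ⟶ _ := (freeModAdj O).homEquiv (yoneda.obj V) F φ
      have e : Ψ.app (op W) k =
          ((ModSite.toAb F).obj.map k.op).hom (eMod O V F φ) := by
        have := ConcreteCategory.congr_hom (Ψ.naturality k.op) (𝟙 V)
        refine Eq.trans ?_ this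
        exact congrArg (Ψ.app (op W)) (Category.comp_id k).symm
      exact e.trans (h W (g ≫ (unop Y).hom) k)
    exact congrArg (fun q : P.obj (op W) ⟶ _ => q.hom t) hz

theorem restr_map_eq_zero_iff_evV {F : ModSite.Mod O} (φ : (freeModFunctor O).obj V ⟶ F) :
    (ModSite.restr O U).map φ = 0 ↔ (ToposFin.freeAb J).map (interIncl U V J) ≫
      ((fadj J).homEquiv _ _).symm (evV V φ) = 0 := by
  rw [restr_map_eq_zero_iff_sect, ← Adjunction.homEquiv_naturality_left_symm, Equiv.symm_apply_eq]
  have h0 : (fadj J).homEquiv ((presheafToSheaf J (Type u)).obj (prodPre U V)) (ModSite.toAb F) 0 =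
      interIncl U V J ≫ evV V 0 := by
    have hz : ((fadj J).homEquiv _ _).symm (evV V (0 : (freeModFunctor O).obj V ⟶ F)) = 0 := by
      rw [show (0 : (freeModFunctor O).obj V ⟶ F) = 𝟙 _ ≫ 0 from comp_zero.symm, evV_comp,
        Adjunction.homEquiv_naturality_right_symm, Functor.map_zero, comp_zero]
    refine ((Equiv.symm_apply_eq _).1 ?_).symm
    rw [Adjunction.homEquiv_naturality_left_symm, hz, comp_zero]
  rw [h0, interIncl, evV, evV, ← Adjunction.homEquiv_naturality_left_symm,
    ← Adjunction.homEquiv_naturality_left_symm, EmbeddingLike.apply_eq_iff_eq]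
  have hzero : eMod O V F 0 = 0 := by
    have := eMod_naturality_right O (0 : (freeModFunctor O).obj V ⟶ F) (0 : F ⟶ F)
    rw [zero_comp, Functor.map_zero] at this
    exact this
  rw [hzero]
  constructor
  · intro h
    ext ⟨W⟩ p
    exact (h W p.1 p.2).trans (map_zero ((ModSite.toAb F).obj.map p.2.op).hom).symm
  · intro h W a g
    have e := congrArg (fun q : prodPre U V ⟶ _ =>
      q.app (op W) (show (prodPre U V).obj (op W) from (a, g))) h
    exact e.trans (map_zero ((ModSite.toAb F).obj.map g.op).hom)

variable [ModSite.HasPushOver O U]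

/-- `ℤ[V]/ℤ[U × V] ⟶ quotOn` of the free module on `V`. -/
noncomputable def relHom (O : Sheaf J CommRingCat.{u}) [ModSite.HasPushOver O U] :
    relQuot (interIncl U V J) ⟶
      ModSite.toAb ((ModSite.quotOn O U).obj ((freeModFunctor O).obj V)) :=
  cokernel.desc _ (((fadj J).homEquiv _ _).symm
      (evV V ((ModSite.quotOnπ O U).app ((freeModFunctor O).obj V))))
    ((restr_map_eq_zero_iff_evV U V _).1
      (ModNull.restr_map_eq_zero_of_null_tgt (ExtSupp.isNullOn_quotOn O U _) _))

theorem relHom_comp {F : ModSite.Mod O}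
    (ψ : (ModSite.quotOn O U).obj ((freeModFunctor O).obj V) ⟶ F) :
    cokernel.π _ ≫ relHom U V O ≫ (SheafOfModules.toSheaf (ModSite.ringSh O)).map ψ =
      ((fadj J).homEquiv _ _).symm (evV V ((ModSite.quotOnπ O U).app _ ≫ ψ)) := by
  rw [relHom, cokernel.π_desc_assoc, ← Adjunction.homEquiv_naturality_right_symm]
  exact congrArg _ (evV_comp V _ ψ).symm

theorem relHom_bijective (F : ModSite.Mod O) :
    Function.Bijective fun ψ : (ModSite.quotOn O U).obj ((freeModFunctor O).obj V) ⟶ F =>
      relHom U V O ≫ (SheafOfModules.toSheaf (ModSite.ringSh O)).map ψ := by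
  have := ModNull.epi_quotOnπ (U := U) ((freeModFunctor O).obj V)
  constructor
  · intro a b h
    have h' := congrArg (fun t => cokernel.π _ ≫ t) h
    simp only [relHom_comp, EmbeddingLike.apply_eq_iff_eq] at h'
    exact this.left_cancellation _ _ ((evV_bijective V F).1 h')
  · intro g
    obtain ⟨φ, hφ⟩ := (evV_bijective V F).2 ((fadj J).homEquiv _ _ (cokernel.π _ ≫ g))
    have hφ' : ((fadj J).homEquiv _ _).symm (evV V φ) = cokernel.π _ ≫ g := by
      rw [hφ, Equiv.symm_apply_apply]
    have hr : (ModSite.restr O U).map φ = 0 := (restr_map_eq_zero_iff_evV U V φ).2 (by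
      rw [hφ', cokernel.condition_assoc, zero_comp])
    obtain ⟨ψ, rfl⟩ := (ModNull.isQuot_quotOnπ (U := U) _).exists_fac F φ hr
    refine ⟨ψ, coequalizer.hom_ext ?_⟩
    exact (relHom_comp U V ψ).trans hφ'

theorem subsingleton_ext_quotOn_free [HasExt.{u} (ModSite.Mod O)] {M : ModSite.Mod O}
    (hM : CohCx.IsTotallyAcyclic (ModSite.toAb M)) (j : ℕ) :
    Subsingleton (Ext.{u} ((ModSite.quotOn O U).obj ((freeModFunctor O).obj V)) M (j + 1)) := by
  have := H10Coh.isGrothendieckAbelian_sheafOfModules (ModSite.ringSh O)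
  have : EnoughInjectives (ModSite.Mod O) := IsGrothendieckAbelian.enoughInjectives.{u}
  have := H10Coh.preservesFiniteColimits_toSheaf (ModSite.ringSh O)
  exact @Equiv.subsingleton _ _
    (H10Coh.extMapEquiv (SheafOfModules.toSheaf (ModSite.ringSh O)) (relHom U V O)
      (fun G => relHom_bijective U V G)
      (fun I _ m => subsingleton_ext_relQuot _ (ModExtH.isTotallyAcyclic_toSheaf _ I) m)
      (j + 1) M).toEquiv (subsingleton_ext_relQuot _ hM j)

/-- `ℋ^q_Z` of a totally acyclic module vanishes for `q > 0`. -/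
theorem isZero_HZsh [HasExt.{u} (ModSite.Mod O)] [HasInjectiveResolutions (ModSite.Mod O)]
    {M : ModSite.Mod O} (hM : CohCx.IsTotallyAcyclic (ModSite.toAb M)) (j : ℕ) :
    IsZero ((ModSite.HZsh O U (j + 1)).obj M) := by
  let R := injectiveResolution M
  let X := ((ModSite.sectOn O U).mapHomologicalComplex (ComplexShape.up ℕ)).obj R.cocomplex
  refine IsZero.of_iso ?_ (R.isoRightDerivedObj (ModSite.sectOn O U) (j + 1))
  show IsZero (X.homology (j + 1))
  rw [← HomologicalComplex.exactAt_iff_isZero_homology,
    HomologicalComplex.exactAt_iff' X j (j + 1) (j + 1 + 1) (by simp) (by simp),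
    ShortComplex.exact_iff_epi_toCycles]
  refine ⟨fun {Z} a b hab => ?_⟩
  refine sub_eq_zero.1 ((genMod O).gen (a - b) fun V t => ?_)
  rw [Preadditive.comp_sub, sub_eq_zero]
  obtain ⟨w, hw⟩ : ∃ w : (freeModFunctor O).obj V ⟶ X.X j,
      w ≫ (X.sc' j (j + 1) (j + 1 + 1)).toCycles = t := by
    let adjZ := ModNull.adjZ O U
    have := ModNull.additive_quotOn (O := O) (U := U)
    let x : (freeModFunctor O).obj V ⟶ X.X (j + 1) := t ≫ (X.sc' j (j + 1) (j + 1 + 1)).iCycles
    let f := (adjZ.homEquiv _ _).symm x
    have hf : f ≫ R.cocomplex.d (j + 1) (j + 1 + 1) = 0 := by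
      apply (adjZ.homEquiv _ _).injective
      rw [adjZ.homEquiv_naturality_right, Equiv.apply_symm_apply]
      refine Eq.trans ?_ (map_zero (adjZ.homAddEquiv _ _)).symm
      show (t ≫ (X.sc' j (j + 1) (j + 1 + 1)).iCycles) ≫
        (X.sc' j (j + 1) (j + 1 + 1)).g = 0
      rw [Category.assoc, ShortComplex.iCycles_g, comp_zero]
    have := subsingleton_ext_quotOn_free U V hM j
    obtain ⟨g, hg⟩ := (R.extMk_eq_zero_iff f (j + 1 + 1) rfl hf j rfl).1 (Subsingleton.elim _ _)
    refine ⟨adjZ.homEquiv _ _ g, ?_⟩
    rw [← cancel_mono (X.sc' j (j + 1) (j + 1 + 1)).iCycles, Category.assoc,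
      ShortComplex.toCycles_i]
    exact ((adjZ.homEquiv_naturality_right g _).symm.trans (congrArg _ hg)).trans
      (Equiv.apply_symm_apply _ x)
  rw [← hw, Category.assoc, Category.assoc, hab]

end Groth.Agent.H02CA.HZExt
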