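import Groth.Prelude.Def_KZero
import Mathlib.Algebra.Homology.ShortComplex.ModuleCat
import Mathlib.RingTheory.GradedAlgebra.Homogeneous.Ideal
import Mathlib.RingTheory.Noetherian.Basic
import Mathlib.Algebra.Module.GradedModule
import Mathlib.Data.Nat.Choose.Basic
import Mathlib.RingTheory.Finiteness.Basic
import Mathlib.RingTheory.Adjoin.Basic
import Mathlib.Tactic.Abel

/-!
# Hilbert functions with values in `K₀`
-/

set_option autoImplicit false
set_option linter.style.haveILetI false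

universe u

open CategoryTheory

namespace Groth.Agent.H02CA.HilbertK0

section K0

variable {A : Type u} [CommRing A]


/-- The class of a module. -/
noncomputable abbrev cls (X : Type u) [AddCommGroup X] [Module A X] :
    KZero.K0sub (fun X : ModuleCat.{u} A => Module.Finite A X) :=
  KZero.clSub (fun X : ModuleCat.{u} A => Module.Finite A X) (ModuleCat.of A X)

theorem cls_add {X Y Z : Type u} [AddCommGroup X] [Module A X] [AddCommGroup Y] [Module A Y] [AddCommGroup Z]
    [Module A Z] [hX : Module.Finite A X] [hY : Module.Finite A Y] [hZ : Module.Finite A Z] (f : X →ₗ[A] Y)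
    (g : Y →ₗ[A] Z) (hf : Function.Injective f) (hg : Function.Surjective g) (h : Function.Exact f g) :
    (cls Y : KZero.K0sub (fun X : ModuleCat.{u} A => Module.Finite A X)) = cls X + cls Z := by
  let S : ShortComplex (ModuleCat.{u} A) := ShortComplex.mk (ModuleCat.ofHom f) (ModuleCat.ofHom g)
    (ModuleCat.hom_ext (LinearMap.ext fun x => h.apply_apply_eq_zero x))
  haveI : Mono S.f := (ModuleCat.mono_iff_injective _).mpr hf
  haveI : Epi S.g := (ModuleCat.epi_iff_surjective _).mpr hg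
  have hS : S.ShortExact :=
    { exact := (ShortComplex.ShortExact.moduleCat_exact_iff_function_exact S).mpr h }
  unfold cls KZero.clSub
  rw [dif_pos (show (fun X : ModuleCat.{u} A => Module.Finite A X) (ModuleCat.of A X) from hX), dif_pos (show (fun X : ModuleCat.{u} A => Module.Finite A X) (ModuleCat.of A Y) from hY),
    dif_pos (show (fun X : ModuleCat.{u} A => Module.Finite A X) (ModuleCat.of A Z) from hZ), ← QuotientAddGroup.mk_add, eq_comm, QuotientAddGroup.eq]
  refine AddSubgroup.subset_closure ⟨S, hX, hY, hZ, hS, ?_⟩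
  simp only [S]
  abel

theorem cls_eq_zero (X : Type u) [AddCommGroup X] [Module A X] [Subsingleton X] :
    (cls X : KZero.K0sub (fun X : ModuleCat.{u} A => Module.Finite A X)) = 0 := by
  haveI : Module.Finite A X := ⟨⟨∅, Subsingleton.elim _ _⟩⟩
  have := cls_add (A := A) (X := X) (Y := X) (Z := X) LinearMap.id LinearMap.id Function.injective_id
    Function.surjective_id fun x => ⟨fun _ => ⟨0, Subsingleton.elim _ _⟩, fun _ => Subsingleton.elim _ _⟩
  exact (left_eq_add.mp this)

end K0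

/-- Numerical polynomials in a group. -/
def IsNumPoly {G : Type*} [AddCommGroup G] (c : ℕ → G) : Prop :=
  ∃ (r : ℕ) (a : Fin r → G) (N : ℕ), ∀ n, N ≤ n → c n = ∑ i : Fin r, ((n.choose (i : ℕ) : ℕ) : ℤ) • a i

theorem isNumPoly_of_eventually_zero {G : Type*} [AddCommGroup G] {c : ℕ → G} (N : ℕ) (h : ∀ n, N ≤ n → c n = 0) :
    IsNumPoly c :=
  ⟨0, Fin.elim0, N, fun n hn => by rw [h n hn]; rfl⟩

theorem IsNumPoly.to_range {G : Type*} [AddCommGroup G] {c : ℕ → G} (h : IsNumPoly c) :
    ∃ (r : ℕ) (a : ℕ → G) (N : ℕ), (∀ i, r ≤ i → a i = 0) ∧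
      ∀ n, N ≤ n → ∀ R, r ≤ R → c n = ∑ i ∈ Finset.range R, ((n.choose i : ℕ) : ℤ) • a i := by
  obtain ⟨r, a, N, ha⟩ := h
  refine ⟨r, fun i => if hi : i < r then a ⟨i, hi⟩ else 0, N, fun i hi => dif_neg (not_lt.mpr hi), fun n hn R hR => ?_⟩
  rw [ha n hn, ← Finset.sum_subset (Finset.range_subset_range.mpr hR) (fun i _ hi => by
    dsimp only; rw [dif_neg (by simpa using hi), smul_zero]), Finset.sum_range]
  exact Finset.sum_congr rfl fun i _ => by dsimp only; rw [dif_pos i.2]

theorem IsNumPoly.of_sub {G : Type*} [AddCommGroup G] {c c₁ c₂ : ℕ → G} (h₁ : IsNumPoly c₁) (h₂ : IsNumPoly c₂)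
    (h : ∀ n, c (n + 1) - c n = c₂ (n + 1) - c₁ n) : IsNumPoly c := by
  obtain ⟨r₁, a₁, N₁, -, h₁⟩ := h₁.to_range
  obtain ⟨r₂, a₂, N₂, hz₂, h₂⟩ := h₂.to_range
  let R := r₁ + r₂
  let N := max N₁ N₂
  -- coefficients of the difference
  let d : ℕ → G := fun i => a₂ i + a₂ (i + 1) - a₁ i
  have hd : ∀ n, N ≤ n → c (n + 1) - c n = ∑ i ∈ Finset.range R, ((n.choose i : ℕ) : ℤ) • d i := by
    intro n hn
    rw [h n, h₁ n (le_of_max_le_left hn) R (Nat.le_add_right _ _), h₂ (n + 1) ((le_of_max_le_right hn).trans n.le_succ) (R + 1) (by omega),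
      Finset.sum_range_succ']
    simp only [d, smul_sub, smul_add, Finset.sum_sub_distrib, Finset.sum_add_distrib, Nat.choose_succ_succ',
      Nat.cast_add, add_smul, Nat.choose_zero_right]
    have e : ∑ i ∈ Finset.range (R + 1), ((n.choose i : ℕ) : ℤ) • a₂ i = ∑ i ∈ Finset.range R, ((n.choose i : ℕ) : ℤ) • a₂ i := by
      rw [Finset.sum_range_succ, hz₂ R (Nat.le_add_left _ _), smul_zero, add_zero]
    rw [← e, Finset.sum_range_succ' _ R]
    simp only [Nat.choose_zero_right]
    abel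
  let K := c N - ∑ i ∈ Finset.range R, ((N.choose (i + 1) : ℕ) : ℤ) • d i
  refine ⟨R + 1, Fin.cons K fun i : Fin R => d i, N, fun n hn => ?_⟩
  rw [Fin.sum_univ_succ]
  simp only [Fin.val_zero, Nat.choose_zero_right, Nat.cast_one, one_smul, Fin.cons_zero, Fin.cons_succ, Fin.val_succ]
  rw [← Finset.sum_range (fun i => ((n.choose (i + 1) : ℕ) : ℤ) • d i)]
  induction n, hn using Nat.le_induction with
  | base => simp [K]
  | succ n hn ih =>
    have e := hd n hn
    rw [sub_eq_iff_eq_add] at e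
    rw [e, ih]
    simp only [Nat.choose_succ_succ', Nat.cast_add, add_smul, Finset.sum_add_distrib]
    abel

section Graded

variable {A S : Type u} [CommRing A] [CommRing S] [Algebra A S] (𝒜 : ℕ → Submodule A S) [GradedAlgebra 𝒜]
  (M : Type u) [AddCommGroup M] [Module A M] [Module S M] [IsScalarTower A S M]
  (ℳ : ℕ → Submodule A M) [DirectSum.Decomposition ℳ] [SetLike.GradedSMul 𝒜 ℳ]

variable {M} in
/-- Homogeneous submodules. -/
def IsHom (N : Submodule S M) : Prop := ∀ m ∈ N, ∀ n, (DirectSum.decompose ℳ m n : M) ∈ N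

variable {M} in
theorem decompose_smul_one {x : S} (hx : x ∈ 𝒜 1) (m : M) :
    (∀ n, (DirectSum.decompose ℳ (x • m) (n + 1) : M) = x • (DirectSum.decompose ℳ m n : M)) ∧
      (DirectSum.decompose ℳ (x • m) 0 : M) = 0 := by
  classical
  induction m using DirectSum.Decomposition.inductionOn ℳ with
  | zero => simp
  | @homogeneous j y =>
    have hy : x • (y : M) ∈ ℳ (j + 1) := by
      have := SetLike.GradedSMul.smul_mem (A := 𝒜) (B := ℳ) hx y.2
      simpa [vadd_eq_add, add_comm] using this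
    refine ⟨fun n => ?_, DirectSum.decompose_of_mem_ne ℳ hy (Nat.succ_ne_zero j)⟩
    rcases eq_or_ne j n with rfl | hne
    · rw [DirectSum.decompose_of_mem_same ℳ hy, DirectSum.decompose_of_mem_same ℳ y.2]
    · rw [DirectSum.decompose_of_mem_ne ℳ hy (by omega), DirectSum.decompose_of_mem_ne ℳ y.2 hne, smul_zero]
  | add a b ha hb =>
    refine ⟨fun n => ?_, ?_⟩
    · simp [DirectSum.decompose_add, smul_add, ha.1 n, hb.1 n]
    · simp [DirectSum.decompose_add, smul_add, ha.2, hb.2]

theorem mem_adjoin {r : ℕ} (x : Fin r → S) (hx1 : ∀ i, x i ∈ 𝒜 1) (h0 : ∀ s ∈ 𝒜 0, s ∈ Set.range (algebraMap A S))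
    (hx : (HomogeneousIdeal.irrelevant 𝒜).toIdeal = Ideal.span (Set.range x)) (s : S) :
    s ∈ Algebra.adjoin A (Set.range x) := by
  classical
  have key : ∀ d, ∀ s ∈ 𝒜 d, s ∈ Algebra.adjoin A (Set.range x) := by
    intro d
    induction d with
    | zero => intro s hs; obtain ⟨a, rfl⟩ := h0 s hs; exact Subalgebra.algebraMap_mem _ a
    | succ d ih =>
      intro s hs
      have hmem : s ∈ Ideal.span (Set.range x) := by
        rw [← hx]
        show s ∈ HomogeneousIdeal.irrelevant 𝒜
        rw [HomogeneousIdeal.mem_irrelevant_iff, GradedRing.proj_apply]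
        exact DirectSum.decompose_of_mem_ne 𝒜 hs (Nat.succ_ne_zero d)
      obtain ⟨c, hc⟩ := (Submodule.mem_span_range_iff_exists_fun S).mp hmem
      rw [← DirectSum.decompose_of_mem_same 𝒜 hs, ← hc, DirectSum.decompose_sum]
      rw [show ∀ (f : Fin r → DirectSum ℕ fun i => 𝒜 i) (m : ℕ), (((∑ i, f i) m : 𝒜 m) : S) = ∑ i, ((f i m : 𝒜 m) : S) from
        fun f m => (congrArg Subtype.val (map_sum (DFinsupp.evalAddMonoidHom m) f Finset.univ)).trans (map_sum (𝒜 m).subtype _ _)]
      refine Subalgebra.sum_mem _ fun i _ => ?_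
      rw [smul_eq_mul, mul_comm, show d + 1 = 1 + d by omega, DirectSum.coe_decompose_mul_add_of_left_mem 𝒜 (hx1 i)]
      exact Subalgebra.mul_mem _ (Algebra.subset_adjoin ⟨i, rfl⟩) (ih _ (SetLike.coe_mem _))
  rw [← DirectSum.sum_support_decompose 𝒜 s]
  exact Subalgebra.sum_mem _ fun i _ => key i _ (SetLike.coe_mem _)

variable {M}

/-- The degree `n` piece of a submodule. -/
def pc (N : Submodule S M) (n : ℕ) : Submodule A M := ℳ n ⊓ N.restrictScalars A

/-- The degree `n` piece of a subquotient. -/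
abbrev Q (N N' : Submodule S M) (n : ℕ) : Type u := (pc ℳ N n) ⧸ (N'.restrictScalars A).comap (pc ℳ N n).subtype

variable {r : ℕ} (x : Fin r → S) (hx1 : ∀ i, x i ∈ 𝒜 1) (hadj : ∀ s, s ∈ Algebra.adjoin A (Set.range x))

include hx1 hadj in
theorem component_mem [IsNoetherian S M] {N : Submodule S M} (hN : IsHom ℳ N) :
    ∃ g : ℕ → Submodule A M, (∀ n, (g n).FG ∧ g n ≤ pc ℳ N n) ∧ (∃ D, ∀ n, D ≤ n → g n = ⊥) ∧
      g 0 = pc ℳ N 0 ∧ ∀ n, pc ℳ N (n + 1) = g (n + 1) ⊔ ⨆ i, (pc ℳ N n).map (DistribSMul.toLinearMap A M (x i)) := by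
  classical
  obtain ⟨t, ht⟩ := IsNoetherian.noetherian N
  let g : ℕ → Submodule A M := fun n => Submodule.span A (t.image fun m => (DirectSum.decompose ℳ m n : M) : Finset M)
  have hgle : ∀ n, g n ≤ pc ℳ N n := fun n => Submodule.span_le.mpr fun y hy => by
    obtain ⟨m, hm, rfl⟩ := Finset.mem_image.mp hy
    exact ⟨SetLike.coe_mem _, hN m (ht ▸ Submodule.subset_span hm) n⟩
  let G : ℕ → Submodule A M := fun n => match n with
    | 0 => g 0
    | k + 1 => g (k + 1) ⊔ ⨆ i, (pc ℳ N k).map (DistribSMul.toLinearMap A M (x i))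
  let T : Submodule A M :=
    { carrier := {m | m ∈ N ∧ ∀ n, (DirectSum.decompose ℳ m n : M) ∈ G n}
      add_mem' := fun ha hb => ⟨add_mem ha.1 hb.1, fun n => by
        rw [DirectSum.decompose_add, DirectSum.add_apply, Submodule.coe_add]
        exact add_mem (ha.2 n) (hb.2 n)⟩
      zero_mem' := ⟨zero_mem _, fun n => by simp⟩
      smul_mem' := fun a m hm => ⟨N.smul_of_tower_mem a hm.1, fun n => by
        rw [DirectSum.decompose_smul, DFinsupp.smul_apply, Submodule.coe_smul]
        exact Submodule.smul_mem _ a (hm.2 n)⟩ }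
  have hTx : ∀ i, ∀ m ∈ T, x i • m ∈ T := fun i m hm => ⟨N.smul_mem _ hm.1, fun n => by
    cases n with
    | zero => rw [(decompose_smul_one 𝒜 ℳ (hx1 i) m).2]; exact zero_mem _
    | succ k =>
      rw [(decompose_smul_one 𝒜 ℳ (hx1 i) m).1 k]
      exact Submodule.mem_sup_right (Submodule.mem_iSup_of_mem i
        ⟨_, ⟨SetLike.coe_mem _, hN m hm.1 k⟩, rfl⟩)⟩
  have hTS : ∀ s : S, ∀ m ∈ T, s • m ∈ T := by
    intro s
    induction hadj s using Algebra.adjoin_induction with
    | mem y hy => obtain ⟨i, rfl⟩ := hy; exact hTx i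
    | algebraMap a => intro m hm; rw [algebraMap_smul]; exact T.smul_mem a hm
    | add a b _ _ ha hb => intro m hm; rw [add_smul]; exact add_mem (ha m hm) (hb m hm)
    | mul a b _ _ ha hb => intro m hm; rw [mul_smul]; exact ha _ (hb m hm)
  have hgT : ∀ m ∈ t, m ∈ T := fun m hm => ⟨ht ▸ Submodule.subset_span hm, fun n => by
    have : (DirectSum.decompose ℳ m n : M) ∈ g n := Submodule.subset_span (Finset.mem_image_of_mem _ hm)
    cases n with
    | zero => exact this
    | succ k => exact Submodule.mem_sup_left this⟩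
  have hall : ∀ m ∈ N, m ∈ T := fun m hm => by
    rw [← ht] at hm
    induction hm using Submodule.span_induction with
    | mem y hy => exact hgT y hy
    | zero => exact zero_mem _
    | add a b _ _ ha hb => exact add_mem ha hb
    | smul s y _ hy => exact hTS s y hy
  have hle : ∀ n, pc ℳ N n ≤ G n := fun n m hm => by
    have := (hall m hm.2).2 n
    rwa [DirectSum.decompose_of_mem_same ℳ hm.1] at this
  refine ⟨g, fun n => ⟨Submodule.fg_span (Finset.finite_toSet _), hgle n⟩, ?_, le_antisymm (hgle 0) (hle 0), fun n => ?_⟩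
  · refine ⟨(t.sup fun m => (DirectSum.decompose ℳ m).support.sup id) + 1, fun n hn => ?_⟩
    refine eq_bot_iff.mpr (Submodule.span_le.mpr fun y hy => ?_)
    obtain ⟨m, hm, rfl⟩ := Finset.mem_image.mp hy
    have : n ∉ (DirectSum.decompose ℳ m).support := fun h => by
      have h1 : n ≤ (DirectSum.decompose ℳ m).support.sup id := Finset.le_sup (f := id) h
      have h2 : (DirectSum.decompose ℳ m).support.sup id ≤ t.sup fun m => (DirectSum.decompose ℳ m).support.sup id :=
        Finset.le_sup (f := fun m => (DirectSum.decompose ℳ m).support.sup id) hm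
      omega
    rw [DFinsupp.notMem_support_iff.mp this]
    simp
  · refine le_antisymm (hle (n + 1)) (sup_le (hgle _) (iSup_le fun i => ?_))
    rintro _ ⟨m, hm, rfl⟩
    refine ⟨?_, N.smul_mem _ hm.2⟩
    have := SetLike.GradedSMul.smul_mem (A := 𝒜) (B := ℳ) (hx1 i) hm.1
    simpa [vadd_eq_add, add_comm] using this

include hx1 hadj in
theorem pc_fg [IsNoetherian S M] {N : Submodule S M} (hN : IsHom ℳ N) (n : ℕ) : (pc ℳ N n).FG := by
  obtain ⟨g, hg, -, h0, hs⟩ := component_mem 𝒜 ℳ x hx1 hadj hN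
  induction n with
  | zero => rw [← h0]; exact (hg 0).1
  | succ n ih => rw [hs]; exact (hg _).1.sup (Submodule.fg_iSup _ fun i => ih.map _)

include hx1 hadj in
theorem isNumPoly_subquotient [IsNoetherian S M] (k : ℕ) : ∀ N N' : Submodule S M, IsHom ℳ N → IsHom ℳ N' → N' ≤ N →
    (∀ i : Fin r, k ≤ i → ∀ m ∈ N, x i • m ∈ N') →
    IsNumPoly (fun n => (cls (Q ℳ N N' n) : KZero.K0sub fun X : ModuleCat.{u} A => Module.Finite A X)) := by
  classical
  have hfin : ∀ N N' : Submodule S M, IsHom ℳ N → ∀ n, Module.Finite A (Q ℳ N N' n) := fun N N' hN n => by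
    haveI : Module.Finite A (pc ℳ N n) := Module.Finite.iff_fg.mpr (pc_fg 𝒜 ℳ x hx1 hadj hN n)
    infer_instance
  induction k with
  | zero =>
    intro N N' hN _ _ hk
    obtain ⟨g, -, ⟨D, hD⟩, -, hs⟩ := component_mem 𝒜 ℳ x hx1 hadj hN
    refine isNumPoly_of_eventually_zero (D + 1) fun n hn => ?_
    obtain ⟨n, rfl⟩ := Nat.exists_eq_succ_of_ne_zero (show n ≠ 0 by omega)
    haveI : Subsingleton (Q ℳ N N' (n + 1)) := by
      refine Submodule.Quotient.subsingleton_iff.mpr (eq_top_iff.mpr fun m _ => ?_)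
      show (m : M) ∈ N'.restrictScalars A
      have hm : (m : M) ∈ g (n + 1) ⊔ ⨆ i, (pc ℳ N n).map (DistribSMul.toLinearMap A M (x i)) := hs n ▸ m.2
      rw [hD (n + 1) (by omega), bot_sup_eq] at hm
      refine (iSup_le fun i => ?_ : _ ≤ N'.restrictScalars A) hm
      rintro _ ⟨y, hy, rfl⟩
      exact hk i (Nat.zero_le _) y hy.2
    exact cls_eq_zero _
  | succ k ih =>
    intro N N' hN hN' hle hk
    by_cases hkr : k < r
    swap
    · exact ih N N' hN hN' hle fun i hi => absurd (lt_of_le_of_lt hi i.2) hkr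
    let x₀ := x ⟨k, hkr⟩
    let μ : M →ₗ[S] M := LinearMap.lsmul S M x₀
    let N1 : Submodule S M := N ⊓ N'.comap μ
    let N2 : Submodule S M := N' ⊔ N.map μ
    have hN1 : IsHom ℳ N1 := fun m hm n => ⟨hN m hm.1 n, by
      show x₀ • _ ∈ N'
      rw [← (decompose_smul_one 𝒜 ℳ (hx1 _) m).1 n]
      exact hN' _ hm.2 _⟩
    have hN2 : IsHom ℳ N2 := fun m hm n => by
      obtain ⟨a, ha, _, ⟨b, hb, rfl⟩, rfl⟩ := Submodule.mem_sup.mp hm
      rw [DirectSum.decompose_add, DirectSum.add_apply, Submodule.coe_add]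
      refine add_mem (Submodule.mem_sup_left (hN' a ha n)) (Submodule.mem_sup_right ?_)
      cases n with
      | zero => rw [show μ b = x₀ • b from rfl, (decompose_smul_one 𝒜 ℳ (hx1 _) b).2]; exact zero_mem _
      | succ j => rw [show μ b = x₀ • b from rfl, (decompose_smul_one 𝒜 ℳ (hx1 _) b).1 j]; exact ⟨_, hN b hb j, rfl⟩
    have hN2N : N2 ≤ N := sup_le hle (Submodule.map_le_iff_le_comap.mpr fun m hm => N.smul_mem _ hm)
    have hk' : ∀ i : Fin r, k ≤ i → i = (⟨k, hkr⟩ : Fin r) ∨ k + 1 ≤ (i : ℕ) := fun i hi => by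
      rcases eq_or_lt_of_le hi with h | h
      · exact Or.inl (Fin.ext h.symm)
      · exact Or.inr h
    have h1 := ih N1 N' hN1 hN' (le_inf hle fun m hm => N'.smul_mem _ hm) fun i hi m hm => by
      rcases hk' i hi with rfl | h
      · exact hm.2
      · exact hk i h m hm.1
    have h2 := ih N N2 hN hN2 hN2N fun i hi m hm => by
      rcases hk' i hi with rfl | h
      · exact Submodule.mem_sup_right ⟨m, hm, rfl⟩
      · exact Submodule.mem_sup_left (hk i h m hm)
    refine IsNumPoly.of_sub h1 h2 fun n => ?_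
    -- the four term sequence
    have hmap : pc ℳ N n ≤ (pc ℳ N (n + 1)).comap (DistribSMul.toLinearMap A M x₀) := fun m hm => by
      refine ⟨?_, N.smul_mem _ hm.2⟩
      have := SetLike.GradedSMul.smul_mem (A := 𝒜) (B := ℳ) (hx1 ⟨k, hkr⟩) hm.1
      simpa [vadd_eq_add, add_comm] using this
    let φ : Q ℳ N N' n →ₗ[A] Q ℳ N N' (n + 1) :=
      Submodule.mapQ _ _ ((DistribSMul.toLinearMap A M x₀).restrict hmap) fun m hm => N'.smul_mem _ hm
    let ι : Q ℳ N1 N' n →ₗ[A] Q ℳ N N' n :=
      Submodule.mapQ _ _ (Submodule.inclusion (inf_le_inf_left _ fun m hm => hm.1)) fun m hm => hm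
    let π : Q ℳ N N' (n + 1) →ₗ[A] Q ℳ N N2 (n + 1) :=
      Submodule.mapQ _ _ LinearMap.id fun m hm => Submodule.mem_sup_left (show (m : M) ∈ N' from hm)
    haveI := hfin N N' hN n
    haveI := hfin N N' hN (n + 1)
    haveI := hfin N1 N' hN1 n
    haveI := hfin N N2 hN (n + 1)
    have e1 := cls_add (A := A) ι φ.rangeRestrict (by
        rw [injective_iff_map_eq_zero]
        rintro ⟨m⟩ hm
        exact (Submodule.Quotient.mk_eq_zero _).mpr ((Submodule.Quotient.mk_eq_zero _).mp hm :))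
      φ.surjective_rangeRestrict (by
        rintro ⟨m⟩
        constructor
        · intro h
          have h0 : (Submodule.Quotient.mk (⟨x₀ • (m : M), hmap m.2⟩ : pc ℳ N (n + 1)) : Q ℳ N N' (n + 1)) = 0 :=
            congrArg Subtype.val h
          have h' : x₀ • (m : M) ∈ N' :=
            (Submodule.Quotient.mk_eq_zero ((N'.restrictScalars A).comap (pc ℳ N (n + 1)).subtype)).mp h0
          exact ⟨Submodule.Quotient.mk ⟨(m : M), m.2.1, m.2.2, h'⟩, rfl⟩
        · rintro ⟨⟨y⟩, hy⟩
          rw [← hy]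
          exact Subtype.ext ((Submodule.Quotient.mk_eq_zero _).mpr (show x₀ • (y : M) ∈ N' from y.2.2.2)))
    have e2 := cls_add (A := A) (LinearMap.range φ).subtype π Subtype.val_injective (by
        rintro ⟨m⟩
        exact ⟨Submodule.Quotient.mk m, rfl⟩) (by
        rintro ⟨m⟩
        constructor
        · intro h
          have h' : (m : M) ∈ N2 :=
            (Submodule.Quotient.mk_eq_zero ((N2.restrictScalars A).comap (pc ℳ N (n + 1)).subtype) (x := m)).mp h
          obtain ⟨a, ha, _, ⟨b, hb, rfl⟩, hab⟩ := Submodule.mem_sup.mp h'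
          have hdec := congrArg (fun y => (DirectSum.decompose ℳ y (n + 1) : M)) hab
          simp only [DirectSum.decompose_add, DirectSum.add_apply, Submodule.coe_add] at hdec
          rw [show μ b = x₀ • b from rfl, (decompose_smul_one 𝒜 ℳ (hx1 _) b).1 n,
            DirectSum.decompose_of_mem_same ℳ m.2.1] at hdec
          refine ⟨⟨_, ⟨Submodule.Quotient.mk ⟨_, SetLike.coe_mem _, hN b hb n⟩, rfl⟩⟩, ?_⟩
          refine (Submodule.Quotient.eq _).mpr ?_
          show x₀ • (DirectSum.decompose ℳ b n : M) - (m : M) ∈ N'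
          rw [← hdec]
          rw [sub_add_cancel_right]
          exact N'.neg_mem (hN' a ha (n + 1))
        · rintro ⟨⟨_, ⟨y⟩, rfl⟩, hy⟩
          rw [← hy]
          exact (Submodule.Quotient.mk_eq_zero _).mpr (Submodule.mem_sup_right ⟨(y : M), y.2.2, rfl⟩))
    rw [e1, e2]
    abel

end Graded

end Groth.Agent.H02CA.HilbertK0
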