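import Mathlib.RingTheory.AdicCompletion.Functoriality
import Mathlib.RingTheory.Filtration
import Mathlib.RingTheory.OrzechProperty
import Mathlib.RingTheory.Noetherian.Basic
import Mathlib.RingTheory.Finiteness.Cardinality
import Mathlib.LinearAlgebra.Quotient.Basic

/-!
Lifting homomorphisms between the quotients `M/I^n M`, `N/I^n N` (Artin–Rees), with the consequences
for Mittag-Leffler and for isomorphisms of adic completions.
-/

set_option autoImplicit false

universe v

namespace Groth.Agent.H02CA.HomQuot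

variable {A : Type*} [CommRing A] (I : Ideal A)
variable {M N : Type v} [AddCommGroup M] [Module A M] [AddCommGroup N] [Module A N]

theorem mem_smul_top_pi {ι : Type*} [Finite ι] (J : Ideal A) {x : ι → N} :
    x ∈ (J • ⊤ : Submodule A (ι → N)) ↔ ∀ i, x i ∈ (J • ⊤ : Submodule A N) := by
  classical
  cases nonempty_fintype ι
  constructor
  · intro hx i
    have h := Submodule.mem_map_of_mem (f := (LinearMap.proj i : (ι → N) →ₗ[A] N)) hx
    rw [Submodule.map_smul''] at h
    exact (smul_mono_right J le_top : J • _ ≤ J • (⊤ : Submodule A _)) h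
  · intro hx
    rw [← Finset.univ_sum_single x]
    refine Submodule.sum_mem _ fun i _ => ?_
    have h := Submodule.mem_map_of_mem (f := LinearMap.single A (fun _ : ι => N) i) (hx i)
    rw [Submodule.map_smul''] at h
    exact (smul_mono_right J le_top : J • _ ≤ J • (⊤ : Submodule A _)) h

variable [IsNoetherianRing A]

/-- Artin–Rees for a linear map: an element whose image lies in `I^(n+c)` differs from one of the
kernel by an element of `I^n`. -/
theorem exists_mem_ker_sub_mem {P Q : Type*} [AddCommGroup P] [Module A P] [AddCommGroup Q]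
    [Module A Q] [Module.Finite A Q] (Φ : P →ₗ[A] Q) :
    ∃ c : ℕ, ∀ (n : ℕ) (x : P), Φ x ∈ (I ^ (n + c) • ⊤ : Submodule A Q) →
      ∃ y ∈ LinearMap.ker Φ, x - y ∈ (I ^ n • ⊤ : Submodule A P) := by
  obtain ⟨k, hk⟩ := Ideal.exists_pow_inf_eq_pow_smul I (LinearMap.range Φ)
  refine ⟨k, fun n x hx => ?_⟩
  have h : Φ x ∈ I ^ (n + k) • ⊤ ⊓ LinearMap.range Φ := ⟨hx, ⟨x, rfl⟩⟩
  rw [hk (n + k) (Nat.le_add_left k n), Nat.add_sub_cancel] at h
  have h' : Φ x ∈ Submodule.map Φ (I ^ n • ⊤ : Submodule A P) := by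
    rw [Submodule.map_smul'', Submodule.map_top]
    exact (smul_mono_right (I ^ n) inf_le_right : I ^ n • (I ^ k • ⊤ ⊓ LinearMap.range Φ) ≤ _) h
  obtain ⟨z, hz, hzx⟩ := h'
  exact ⟨x - z, by rw [LinearMap.mem_ker, map_sub, hzx, sub_self],
    by rw [sub_sub_cancel]; exact hz⟩

/-- Artin–Rees for a submodule given by an injective map. -/
theorem exists_mem_pow_of_map_mem {P Q : Type*} [AddCommGroup P] [Module A P] [AddCommGroup Q]
    [Module A Q] [Module.Finite A Q] (E : P →ₗ[A] Q) (hE : Function.Injective E) :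
    ∃ c : ℕ, ∀ (n : ℕ) (p : P), E p ∈ (I ^ (n + c) • ⊤ : Submodule A Q) →
      p ∈ (I ^ n • ⊤ : Submodule A P) := by
  obtain ⟨c, hc⟩ := exists_mem_ker_sub_mem I E
  refine ⟨c, fun n p hp => ?_⟩
  obtain ⟨y, hy, hyp⟩ := hc n p hp
  have : y = 0 := hE (by rw [LinearMap.mem_ker.mp hy, map_zero])
  rwa [this, sub_zero] at hyp

variable [Module.Finite A M] [Module.Finite A N]

/-- There is `c` such that every map `M → N/I^(n+c)N` agrees modulo `I^n` with a map `M → N`,
and the two Artin–Rees consequences for `Hom(M, N) → Hom(M, N/I^n N)`. -/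
theorem exists_lift :
    ∃ c : ℕ,
      (∀ (n : ℕ) (ψ : M →ₗ[A] N ⧸ (I ^ (n + c) • ⊤ : Submodule A N)), ∃ φ : M →ₗ[A] N,
        ∀ (v : M) (w : N), ψ v = Submodule.Quotient.mk w →
          φ v - w ∈ (I ^ n • ⊤ : Submodule A N)) ∧
      (∀ (n : ℕ) (φ : M →ₗ[A] N), (∀ v, φ v ∈ (I ^ n • ⊤ : Submodule A N)) →
        ∀ a ∈ I ^ c, a • φ ∈ (I ^ n • ⊤ : Submodule A (M →ₗ[A] N))) ∧
      ∀ (n : ℕ) (ψ : M →ₗ[A] N ⧸ (I ^ n • ⊤ : Submodule A N)), ∀ a ∈ I ^ c, ∃ φ : M →ₗ[A] N,
        ∀ v, Submodule.Quotient.mk (φ v) = a • ψ v := by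
  classical
  obtain ⟨t, π, hπ⟩ := Module.Finite.exists_fin' A M
  obtain ⟨r, rel, hrel⟩ := Submodule.fg_iff_exists_fin_generating_family.mp
    (IsNoetherian.noetherian (LinearMap.ker π))
  let g : Fin t → M := fun i => π (Pi.single i 1)
  have hgen : ∀ v : M, ∃ a : Fin t → A, v = ∑ i, a i • g i := by
    intro v
    obtain ⟨a, rfl⟩ := hπ v
    refine ⟨a, ?_⟩
    conv_lhs => rw [← Finset.univ_sum_single a, map_sum]
    refine Finset.sum_congr rfl fun i _ => ?_
    rw [← map_smul]
    congr 1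
    rw [← Pi.single_smul', smul_eq_mul, mul_one]
  let Φ : (Fin t → N) →ₗ[A] (Fin r → N) :=
    LinearMap.pi fun j => ∑ i, rel j i • (LinearMap.proj i : (Fin t → N) →ₗ[A] N)
  have hΦ : ∀ x j, Φ x j = ∑ i, rel j i • x i := fun x j => by
    simp [Φ, LinearMap.sum_apply]
  -- a kernel element of `Φ` gives a map out of `M`
  have hmap : ∀ y ∈ LinearMap.ker Φ, ∃ φ : M →ₗ[A] N, ∀ i, φ (g i) = y i := by
    intro y hy
    have hker : LinearMap.ker π ≤ LinearMap.ker (Fintype.linearCombination A y) := by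
      rw [← hrel, Submodule.span_le]
      rintro _ ⟨j, rfl⟩
      rw [SetLike.mem_coe, LinearMap.mem_ker, Fintype.linearCombination_apply]
      have := congrFun (LinearMap.mem_ker.mp hy) j
      rwa [hΦ] at this
    refine ⟨(LinearMap.ker π).liftQ (Fintype.linearCombination A y) hker ∘ₗ
      (π.quotKerEquivOfSurjective hπ).symm.toLinearMap, fun i => ?_⟩
    have : (π.quotKerEquivOfSurjective hπ).symm (g i) =
        Submodule.Quotient.mk (Pi.single i 1) := by
      rw [LinearEquiv.symm_apply_eq]; rfl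
    simp [this, Fintype.linearCombination_apply_single]
  obtain ⟨c₁, hc₁⟩ := exists_mem_ker_sub_mem I Φ
  let E : (M →ₗ[A] N) →ₗ[A] (Fin t → N) := LinearMap.pi fun i => LinearMap.applyₗ (g i)
  have hE : Function.Injective E := fun φ φ' h => LinearMap.ext fun v => by
    obtain ⟨a, rfl⟩ := hgen v
    simp only [map_sum, map_smul]
    exact Finset.sum_congr rfl fun i _ => by rw [show φ (g i) = φ' (g i) from congrFun h i]
  obtain ⟨c₂, hc₂⟩ := exists_mem_pow_of_map_mem I E hE
  -- the image under `Φ` of lifts of the values of a map to `N/I^n N`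
  have hΦmem : ∀ (n : ℕ) (ψ : M →ₗ[A] N ⧸ (I ^ n • ⊤ : Submodule A N)) (x : Fin t → N),
      (∀ i, ψ (g i) = Submodule.Quotient.mk (x i)) →
      Φ x ∈ (I ^ n • ⊤ : Submodule A (Fin r → N)) := by
    intro n ψ x hx
    rw [mem_smul_top_pi]
    intro j
    rw [← Submodule.Quotient.mk_eq_zero, hΦ, ← Submodule.mkQ_apply, map_sum]
    simp only [map_smul, Submodule.mkQ_apply, ← hx]
    simp only [← map_smul, ← map_sum]
    have : π (rel j) = 0 := by
      rw [← LinearMap.mem_ker, ← hrel]; exact Submodule.subset_span ⟨j, rfl⟩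
    have h2 : ∑ i, rel j i • g i = π (rel j) := by
      conv_rhs => rw [← Finset.univ_sum_single (rel j), map_sum]
      refine Finset.sum_congr rfl fun i _ => ?_
      rw [← map_smul]
      congr 1
      rw [← Pi.single_smul', smul_eq_mul, mul_one]
    rw [h2, this, map_zero]
  have hlifts : ∀ (n : ℕ) (ψ : M →ₗ[A] N ⧸ (I ^ n • ⊤ : Submodule A N)),
      ∃ x : Fin t → N, ∀ i, ψ (g i) = Submodule.Quotient.mk (x i) := fun n ψ =>
    ⟨fun i => (Submodule.mkQ_surjective _ (ψ (g i))).choose,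
      fun i => (Submodule.mkQ_surjective _ (ψ (g i))).choose_spec.symm⟩
  refine ⟨max c₁ c₂, ?_, ?_, ?_⟩
  · intro n ψ
    obtain ⟨x, hx⟩ := hlifts _ ψ
    obtain ⟨y, hy, hxy⟩ := hc₁ (n + (max c₁ c₂ - c₁)) x (by
      rw [show n + (max c₁ c₂ - c₁) + c₁ = n + max c₁ c₂ by omega]
      exact hΦmem _ ψ x hx)
    obtain ⟨φ, hφ⟩ := hmap y hy
    refine ⟨φ, fun v w hw => ?_⟩
    obtain ⟨a, rfl⟩ := hgen v
    have hle : (I ^ (n + max c₁ c₂) • ⊤ : Submodule A N) ≤ I ^ n • ⊤ :=
      Submodule.smul_mono_left (Ideal.pow_le_pow_right (Nat.le_add_right _ _))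
    have h1 : ∑ i, a i • x i - w ∈ (I ^ (n + max c₁ c₂) • ⊤ : Submodule A N) := by
      rw [← Submodule.Quotient.mk_eq_zero, Submodule.Quotient.mk_sub, ← hw, sub_eq_zero,
        ← Submodule.mkQ_apply, map_sum, map_sum]
      simp only [map_smul, Submodule.mkQ_apply, hx]
    have h2 : ∀ i, x i - y i ∈ (I ^ n • ⊤ : Submodule A N) := fun i =>
      Submodule.smul_mono_left (Ideal.pow_le_pow_right (Nat.le_add_right _ _))
        ((mem_smul_top_pi _).mp hxy i)
    have h3 : φ (∑ i, a i • g i) - w = (∑ i, a i • x i - w) - ∑ i, a i • (x i - y i) := by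
      simp only [map_sum, map_smul, hφ, smul_sub, Finset.sum_sub_distrib]
      abel
    rw [h3]
    exact sub_mem (hle h1) (Submodule.sum_mem _ fun i _ => Submodule.smul_mem _ _ (h2 i))
  · intro n φ hφ a ha
    have hEmem : E φ ∈ (I ^ n • ⊤ : Submodule A (Fin t → N)) :=
      (mem_smul_top_pi _).mpr fun i => hφ (g i)
    rcases le_or_gt n (max c₁ c₂) with hn | hn
    · exact Submodule.smul_mem_smul (Ideal.pow_le_pow_right hn ha) Submodule.mem_top
    · have h1 := hc₂ (n - max c₁ c₂) φ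
        (Submodule.smul_mono_left (Ideal.pow_le_pow_right (by omega)) hEmem)
      have h2 := Submodule.smul_mem_smul ha h1
      rw [← Submodule.smul_assoc, smul_eq_mul, ← pow_add] at h2
      exact Submodule.smul_mono_left (Ideal.pow_le_pow_right (by omega)) h2
  · intro n ψ a ha
    obtain ⟨x, hx⟩ := hlifts _ ψ
    have h1 : a • Φ x ∈ (I ^ (n + c₁) • ⊤ : Submodule A (Fin r → N)) := by
      have := Submodule.smul_mem_smul ha (hΦmem _ ψ x hx)
      rw [← Submodule.smul_assoc, smul_eq_mul, ← pow_add] at this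
      exact Submodule.smul_mono_left (Ideal.pow_le_pow_right (by omega)) this
    rw [← map_smul] at h1
    obtain ⟨y, hy, hxy⟩ := hc₁ n (a • x) h1
    obtain ⟨φ, hφ⟩ := hmap y hy
    refine ⟨φ, fun v => ?_⟩
    obtain ⟨b, rfl⟩ := hgen v
    simp only [← Submodule.mkQ_apply, map_sum, map_smul, hφ, Finset.smul_sum]
    refine Finset.sum_congr rfl fun i _ => ?_
    rw [hx i, smul_comm a (b i), Submodule.mkQ_apply, ← Submodule.Quotient.mk_smul _ a (x i)]
    congr 1
    rw [Submodule.Quotient.eq]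
    have := (mem_smul_top_pi _).mp hxy i
    rw [← neg_sub] at this
    exact neg_mem_iff.mp this

omit [Module.Finite A N] [IsNoetherianRing A] [Module.Finite A M] in
theorem range_sup_pow (f : M →ₗ[A] N) (h : LinearMap.range f ⊔ I • ⊤ = ⊤) (n : ℕ) :
    LinearMap.range f ⊔ I ^ n • ⊤ = ⊤ := by
  induction n with
  | zero => simp
  | succ n ih =>
    refine eq_top_iff.mpr ?_
    calc (⊤ : Submodule A N) = LinearMap.range f ⊔ I • ⊤ := h.symm
      _ = LinearMap.range f ⊔ I • (LinearMap.range f ⊔ I ^ n • ⊤) := by rw [ih]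
      _ ≤ LinearMap.range f ⊔ I ^ (n + 1) • ⊤ := by
        rw [Submodule.smul_sup, pow_succ', ← smul_eq_mul, Submodule.smul_assoc, ← sup_assoc]
        exact sup_le_sup_right (sup_le le_rfl Submodule.smul_le_right) _

/-- If `M/I^n M ≅ N/I^n N` for all `n`, then a linear map `M → N` induces an isomorphism of
completions. -/
theorem exists_completion_equiv
    (h : ∀ n : ℕ, Nonempty ((M ⧸ (I ^ n • ⊤ : Submodule A M)) ≃ₗ[A]
      (N ⧸ (I ^ n • ⊤ : Submodule A N)))) :
    Nonempty (AdicCompletion I M ≃ₗ[AdicCompletion I A] AdicCompletion I N) := by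
  have key : ∀ {P Q : Type v} [AddCommGroup P] [Module A P] [Module.Finite A P] [AddCommGroup Q]
      [Module A Q] [Module.Finite A Q],
      (∀ n : ℕ, Nonempty ((P ⧸ (I ^ n • ⊤ : Submodule A P)) ≃ₗ[A]
        (Q ⧸ (I ^ n • ⊤ : Submodule A Q)))) →
      ∃ f : P →ₗ[A] Q, LinearMap.range f ⊔ I • ⊤ = ⊤ := by
    intro P Q _ _ _ _ _ _ hPQ
    obtain ⟨c, hc, -, -⟩ := exists_lift (M := P) (N := Q) I
    obtain ⟨e⟩ := hPQ (1 + c)
    obtain ⟨f, hf⟩ := hc 1 (e.toLinearMap ∘ₗ Submodule.mkQ _)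
    refine ⟨f, eq_top_iff.mpr fun w _ => ?_⟩
    obtain ⟨v, hv⟩ := Submodule.mkQ_surjective _ (e.symm (Submodule.Quotient.mk w))
    have := hf v w (by simp only [LinearMap.comp_apply, LinearEquiv.coe_coe, hv,
      LinearEquiv.apply_symm_apply])
    rw [pow_one] at this
    rw [show w = f v + -(f v - w) by abel]
    exact add_mem (Submodule.mem_sup_left ⟨v, rfl⟩) (Submodule.mem_sup_right (neg_mem this))
  obtain ⟨f, hf⟩ := key (P := M) (Q := N) h
  obtain ⟨g, hg⟩ := key (P := N) (Q := M) fun n => (h n).map LinearEquiv.symm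
  have hbij : ∀ n, Function.Bijective (f.reduceModIdeal (I ^ n)) := by
    intro n
    have sf : Function.Surjective (f.reduceModIdeal (I ^ n)) := by
      intro q
      obtain ⟨w, rfl⟩ := Submodule.Quotient.mk_surjective _ q
      have hw : w ∈ LinearMap.range f ⊔ I ^ n • ⊤ := by rw [range_sup_pow I f hf n]; trivial
      obtain ⟨_, ⟨v, rfl⟩, z, hz, rfl⟩ := Submodule.mem_sup.mp hw
      exact ⟨Submodule.Quotient.mk v, by
        rw [LinearMap.reduceModIdeal_apply, Submodule.Quotient.eq, sub_add_cancel_left]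
        exact neg_mem hz⟩
    have sg : Function.Surjective (g.reduceModIdeal (I ^ n)) := by
      intro q
      obtain ⟨w, rfl⟩ := Submodule.Quotient.mk_surjective _ q
      have hw : w ∈ LinearMap.range g ⊔ I ^ n • ⊤ := by rw [range_sup_pow I g hg n]; trivial
      obtain ⟨_, ⟨v, rfl⟩, z, hz, rfl⟩ := Submodule.mem_sup.mp hw
      exact ⟨Submodule.Quotient.mk v, by
        rw [LinearMap.reduceModIdeal_apply, Submodule.Quotient.eq, sub_add_cancel_left]
        exact neg_mem hz⟩
    let u : (M ⧸ (I ^ n • ⊤ : Submodule A M)) →ₗ[A] (M ⧸ (I ^ n • ⊤ : Submodule A M)) :=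
      (g.reduceModIdeal (I ^ n)).restrictScalars A ∘ₗ
        (f.reduceModIdeal (I ^ n)).restrictScalars A
    have hu : Function.Injective u :=
      OrzechProperty.injective_of_surjective_endomorphism u (sg.comp sf)
    exact ⟨fun x y hxy => hu (by simp [u, hxy]), sf⟩
  refine ⟨LinearEquiv.ofBijective (AdicCompletion.map I f) ⟨?_, ?_⟩⟩
  · intro x y hxy
    refine AdicCompletion.ext fun n => (hbij n).1 ?_
    rw [← AdicCompletion.map_val_apply, ← AdicCompletion.map_val_apply, hxy]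
  · intro y
    let s : (n : ℕ) → M ⧸ (I ^ n • ⊤ : Submodule A M) :=
      fun n => Function.surjInv (hbij n).2 (y.val n)
    have hs : ∀ n, f.reduceModIdeal (I ^ n) (s n) = y.val n :=
      fun n => Function.surjInv_eq (hbij n).2 _
    refine ⟨⟨s, fun {m n} hmn => (hbij m).1 ?_⟩, AdicCompletion.ext hs⟩
    have := LinearMap.congr_fun (AdicCompletion.transitionMap_comp_reduceModIdeal I f hmn) (s n)
    simp only [LinearMap.comp_apply, LinearMap.coe_restrictScalars, hs] at this
    rw [← this, hs]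
    exact y.property hmn

end Groth.Agent.H02CA.HomQuot
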