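import Mathlib.RingTheory.Spectrum.Prime.Topology
import Mathlib.Topology.Connected.Clopen
import Mathlib.Tactic.LinearCombination

/-!
Connected components of a prime spectrum are cut out by idempotents.
-/

namespace Groth.Agent.H02CA

universe u
variable {R : Type u} [CommRing R]

lemma idem_dichotomy (p : PrimeSpectrum R) {e : R} (he : IsIdempotentElem e) :
    e ∈ Ideal.span {e : R | IsIdempotentElem e ∧ e ∈ p.asIdeal} ∨
      1 - e ∈ Ideal.span {e : R | IsIdempotentElem e ∧ e ∈ p.asIdeal} := by
  have h0 : e * (1 - e) ∈ p.asIdeal := by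
    rw [mul_sub, mul_one, he.eq, sub_self]; exact p.asIdeal.zero_mem
  rcases p.isPrime.mem_or_mem h0 with h | h
  · exact Or.inl (Ideal.subset_span ⟨he, h⟩)
  · exact Or.inr (Ideal.subset_span ⟨he.one_sub, h⟩)

lemma exists_idem_dvd (p : PrimeSpectrum R) {x : R}
    (hx : x ∈ Ideal.span {e : R | IsIdempotentElem e ∧ e ∈ p.asIdeal}) :
    ∃ f : R, IsIdempotentElem f ∧ f ∈ p.asIdeal ∧ f * x = x := by
  induction hx using Submodule.span_induction with
  | mem e he => exact ⟨e, he.1, he.2, he.1.eq⟩
  | zero => exact ⟨0, IsIdempotentElem.zero, p.asIdeal.zero_mem, mul_zero 0⟩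
  | add a b _ _ h1 h2 =>
    obtain ⟨f, hf, hfp, hfa⟩ := h1
    obtain ⟨g, hg, hgp, hgb⟩ := h2
    refine ⟨f + g - f * g, hf.add_sub_mul hg,
      sub_mem (add_mem hfp hgp) (p.asIdeal.mul_mem_right g hfp), ?_⟩
    linear_combination (1 - g) * hfa + (1 - f) * hgb
  | smul c a _ h1 =>
    obtain ⟨f, hf, hfp, hfa⟩ := h1
    exact ⟨f, hf, hfp, by rw [smul_eq_mul]; linear_combination c * hfa⟩

lemma isClopen_zeroLocus_idem {e : R} (he : IsIdempotentElem e) :
    IsClopen (PrimeSpectrum.zeroLocus ({e} : Set R)) :=
  PrimeSpectrum.isClopen_iff_mul_add_zeroLocus.mpr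
    ⟨e, 1 - e, by rw [mul_sub, mul_one, he.eq, sub_self], by ring, rfl⟩

theorem connectedComponent_eq_zeroLocus (p : PrimeSpectrum R) :
    connectedComponent p = PrimeSpectrum.zeroLocus {e : R | IsIdempotentElem e ∧ e ∈ p.asIdeal} := by
  set E : Set R := {e : R | IsIdempotentElem e ∧ e ∈ p.asIdeal} with hE
  refine Set.Subset.antisymm ?_ ?_
  · intro q hq e he
    have hsub := (isClopen_zeroLocus_idem he.1).connectedComponent_subset (x := p)
      ((PrimeSpectrum.mem_zeroLocus _ _).mpr (Set.singleton_subset_iff.mpr he.2))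
    exact Set.singleton_subset_iff.mp (hsub hq)
  · have hp : p ∈ PrimeSpectrum.zeroLocus E := fun e he => he.2
    refine IsPreconnected.subset_connectedComponent ?_ hp
    set J := Ideal.span E with hJ
    have hrange : PrimeSpectrum.zeroLocus E = Set.range (PrimeSpectrum.comap (Ideal.Quotient.mk J)) := by
      rw [range_comap_of_surjective _ _ Ideal.Quotient.mk_surjective, Ideal.mk_ker,
        hJ, PrimeSpectrum.zeroLocus_span]
    rw [hrange]
    haveI : PreconnectedSpace (PrimeSpectrum (R ⧸ J)) := by
      refine preconnectedSpace_iff_clopen.mpr fun s hs => ?_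
      obtain ⟨e', he', rfl⟩ := PrimeSpectrum.exists_idempotent_basicOpen_eq_of_isClopen hs
      obtain ⟨e, rfl⟩ := Ideal.Quotient.mk_surjective e'
      have hee : e * e - e ∈ J := by
        rw [← Ideal.Quotient.eq, map_mul]; exact he'.eq
      obtain ⟨f, hf, hfp, hfe⟩ := exists_idem_dvd p hee
      have hg : IsIdempotentElem ((1 - f) * e) := by
        show (1 - f) * e * ((1 - f) * e) = (1 - f) * e
        linear_combination (e * e) * hf.eq - hfe
      rcases idem_dichotomy p hg with h | h
      · left
        have : e ∈ J := by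
          rw [show e = (1 - f) * e + e * f by ring]
          exact J.add_mem h (J.mul_mem_left e (Ideal.subset_span ⟨hf, hfp⟩))
        rw [Ideal.Quotient.eq_zero_iff_mem.mpr this, PrimeSpectrum.basicOpen_zero]
        rfl
      · right
        have : 1 - e ∈ J := by
          rw [show 1 - e = (1 - (1 - f) * e) - e * f by ring]
          exact J.sub_mem h (J.mul_mem_left e (Ideal.subset_span ⟨hf, hfp⟩))
        have h1 : Ideal.Quotient.mk J e = 1 := by
          rw [← map_one (Ideal.Quotient.mk J)]
          exact (Ideal.Quotient.eq.mpr this).symm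
        rw [h1, PrimeSpectrum.basicOpen_one]
        rfl
    exact isPreconnected_range (PrimeSpectrum.continuous_comap _)

end Groth.Agent.H02CA
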