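import Mathlib.RingTheory.DedekindDomain.AdicValuation
import Mathlib.RingTheory.DiscreteValuationRing.Basic
import Mathlib.RingTheory.Valuation.ValuationSubring
import Mathlib.Topology.Algebra.Order.Field

/-!
Independence of distinct discrete valuations on an arbitrary field. The separation and approximation
arguments are those of helper23's `Groth.Agent.H23FunFld.Approx`, without the constant field.
-/

set_option autoImplicit false

universe u

namespace Groth.Agent.H02CA.Indep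

open WithZero

variable {K : Type*} [Field K]

/-- A normalized discrete valuation. -/
def Pl (K : Type*) [Field K] : Type _ :=
  {v : Valuation K (WithZero (Multiplicative ℤ)) // Function.Surjective v}

/-- The order. -/
def Pl.ord (P : Pl K) (x : K) : ℤ := -WithZero.log (P.1 x)

theorem val_ne_zero (P : Pl K) {x : K} (hx : x ≠ 0) : P.1 x ≠ 0 :=
  (map_ne_zero P.1).mpr hx

theorem val_eq_exp (P : Pl K) {x : K} (hx : x ≠ 0) : P.1 x = exp (-P.ord x) := by
  rw [Pl.ord, neg_neg, exp_log (val_ne_zero P hx)]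

theorem exists_val_eq (P : Pl K) (n : ℤ) : ∃ x : K, x ≠ 0 ∧ P.1 x = exp n := by
  obtain ⟨x, hx⟩ := P.2 (exp n)
  exact ⟨x, fun h => by rw [h, map_zero] at hx; exact exp_ne_zero hx.symm, hx⟩

theorem val_le_one_iff (P : Pl K) {x : K} (hx : x ≠ 0) : P.1 x ≤ 1 ↔ 0 ≤ P.ord x := by
  rw [val_eq_exp P hx, ← exp_zero, exp_le_exp]
  omega

theorem place_eq_of_le {P Q : Pl K} (h : ∀ x : K, P.1 x ≤ 1 → Q.1 x ≤ 1) :
    P = Q := by
  have hunit : ∀ u : K, P.1 u = 1 → Q.1 u = 1 := by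
    intro u hu
    refine le_antisymm (h u hu.le) ?_
    have hu0 : u ≠ 0 := by rintro rfl; simp at hu
    have := h u⁻¹ (by simp [map_inv₀, hu])
    rw [map_inv₀] at this
    exact (inv_le_one₀ (zero_lt_iff.2 (val_ne_zero Q hu0))).1 this
  obtain ⟨t, ht0, ht⟩ := exists_val_eq P (-1)
  have key : ∀ x : K, x ≠ 0 → Q.ord x = P.ord x * Q.ord t := by
    intro x hx
    have hu : P.1 (x / t ^ P.ord x) = 1 := by
      rw [map_div₀, map_zpow₀, ht, val_eq_exp P hx, ← exp_zsmul, smul_eq_mul, mul_neg, mul_one,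
        div_self (exp_ne_zero)]
    have h1 := hunit _ hu
    rw [map_div₀, map_zpow₀, val_eq_exp Q hx, val_eq_exp Q ht0, ← exp_zsmul, ← exp_sub,
      smul_eq_mul, ← exp_zero, exp_inj] at h1
    linarith
  have h1 : 0 ≤ Q.ord t := (val_le_one_iff Q ht0).1 (h t (by
    rw [ht]; exact (exp_le_exp (a := (-1 : ℤ)) (b := 0)).2 (by omega)))
  obtain ⟨s, hs0, hs⟩ := exists_val_eq Q (-1)
  have h2 : Q.ord s = 1 := by simp [Pl.ord, hs]
  rw [key s hs0] at h2
  have h3 : Q.ord t = 1 := by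
    rcases Int.eq_one_or_neg_one_of_mul_eq_one' h2 with ⟨_, h4⟩ | ⟨_, h4⟩ <;> omega
  apply Subtype.ext
  ext x
  rcases eq_or_ne x 0 with rfl | hx
  · simp
  · rw [val_eq_exp P hx, val_eq_exp Q hx, key x hx, h3, mul_one]

theorem exists_separating_pair {P Q : Pl K} (hne : P ≠ Q) :
    ∃ x : K, 1 < P.1 x ∧ Q.1 x < 1 := by
  obtain ⟨a, ha, ha'⟩ : ∃ a, P.1 a ≤ 1 ∧ 1 < Q.1 a := by
    by_contra h
    simp only [not_exists, not_and, not_lt] at h
    exact hne (place_eq_of_le h)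
  obtain ⟨b, hb, hb'⟩ : ∃ b, Q.1 b ≤ 1 ∧ 1 < P.1 b := by
    by_contra h
    simp only [not_exists, not_and, not_lt] at h
    exact hne (place_eq_of_le h).symm
  have hapos : 0 < Q.1 a := zero_lt_one.trans ha'
  have ha0 : a ≠ 0 := by rintro rfl; simp at hapos
  refine ⟨b / a, ?_, ?_⟩
  · rw [map_div₀, one_lt_div₀ (zero_lt_iff.2 (val_ne_zero P ha0))]
    exact ha.trans_lt hb'
  · rw [map_div₀, div_lt_one₀ hapos]
    exact hb.trans_lt ha'

theorem exists_exp_neg_nat_bound (m : ℤ) : ∃ n : ℕ, ∀ r : ℕ, n ≤ r →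
    (exp (-(r : ℤ)) : WithZero (Multiplicative ℤ)) ≤ exp m :=
  ⟨(-m).toNat, fun r hr => exp_le_exp.2 (by omega)⟩

theorem pow_le_exp_of_lt_one {a : WithZero (Multiplicative ℤ)} (ha : a < 1) (r : ℕ) :
    a ^ r ≤ exp (-(r : ℤ)) := by
  rcases eq_or_ne a 0 with rfl | h0
  · rcases r with _ | r <;> simp
  · rw [← exp_log h0, ← exp_zero, exp_lt_exp] at ha
    rw [← exp_log h0, ← exp_nsmul, exp_le_exp, nsmul_eq_mul]
    nlinarith

theorem exists_pow_mul_lt_one {a b : WithZero (Multiplicative ℤ)} (ha : a < 1) :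
    ∃ n : ℕ, ∀ r : ℕ, n ≤ r → a ^ r * b < 1 := by
  rcases eq_or_ne b 0 with rfl | hb
  · exact ⟨0, fun r _ => by simp⟩
  · refine ⟨(log b + 1).toNat, fun r hr => ?_⟩
    calc a ^ r * b ≤ exp (-(r : ℤ)) * exp (log b) :=
          mul_le_mul' (pow_le_exp_of_lt_one ha r) (exp_log hb).ge
      _ < 1 := by rw [← exp_add, ← exp_zero, exp_lt_exp]; omega

theorem exists_separating (P : Pl K) (S : Finset (Pl K)) (hP : P ∉ S) :
    ∃ x : K, 1 < P.1 x ∧ ∀ Q ∈ S, Q.1 x < 1 := by
  classical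
  induction S using Finset.induction_on with
  | empty =>
    obtain ⟨x, _, hx⟩ := exists_val_eq P 1
    exact ⟨x, by rw [hx, ← exp_zero, exp_lt_exp]; omega, by simp⟩
  | insert R S hR ih =>
    rw [Finset.mem_insert, not_or] at hP
    obtain ⟨x, hxP, hxS⟩ := ih hP.2
    obtain ⟨z, hzP, hzR⟩ := exists_separating_pair (P := P) (Q := R) hP.1
    have hex : ∀ Q ∈ S, ∃ n : ℕ, ∀ r : ℕ, n ≤ r → Q.1 x ^ r * Q.1 z < 1 :=
      fun Q hQ => exists_pow_mul_lt_one (hxS Q hQ)
    choose n hn using hex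
    set r := (S.attach.sup fun Q => n Q.1 Q.2) + 1
    have hnr : ∀ Q (hQ : Q ∈ S), n Q hQ ≤ r := fun Q hQ =>
      le_add_right (Finset.le_sup (f := fun Q : {x // x ∈ S} => n Q.1 Q.2)
        (Finset.mem_attach S ⟨Q, hQ⟩))
    rcases le_or_gt (R.1 x) 1 with hRx | hRx
    · refine ⟨x ^ r * z, ?_, ?_⟩
      · rw [map_mul, map_pow]
        exact hzP.trans_le (le_mul_of_one_le_left zero_le (one_le_pow₀ hxP.le))
      · intro Q hQ
        rw [map_mul, map_pow]
        rcases Finset.mem_insert.1 hQ with rfl | hQ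
        · exact (mul_le_of_le_one_left zero_le (pow_le_one₀ zero_le hRx)).trans_lt hzR
        · exact hn Q hQ r (hnr Q hQ)
    · have big : ∀ Q : Pl K, 1 < Q.1 x → Q.1 (x ^ r / (1 + x ^ r)) = 1 := by
        intro Q hQ
        have h1 : 1 < Q.1 (x ^ r) := by rw [map_pow]; exact one_lt_pow₀ hQ (by omega)
        have h2 : Q.1 (1 + x ^ r) = Q.1 (x ^ r) :=
          Q.1.map_add_eq_of_lt_right (by rw [map_one]; exact h1)
        rw [map_div₀, h2, div_self (zero_lt_one.trans h1).ne']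
      refine ⟨x ^ r / (1 + x ^ r) * z, ?_, ?_⟩
      · rw [map_mul, big P hxP, one_mul]; exact hzP
      · intro Q hQ
        rcases Finset.mem_insert.1 hQ with rfl | hQ
        · rw [map_mul, big Q hRx, one_mul]; exact hzR
        · have h1 : Q.1 (x ^ r) < 1 := by
            rw [map_pow]; exact pow_lt_one₀ zero_le (hxS Q hQ) (by omega)
          have h2 : Q.1 (1 + x ^ r) = 1 := by
            rw [Q.1.map_add_eq_of_lt_left (by rw [map_one]; exact h1), map_one]
          rw [map_mul, map_div₀, h2, div_one, map_pow]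
          exact hn Q hQ r (hnr Q hQ)

/-- The approximation theorem. -/
theorem approximation (S : Finset (Pl K)) (a : Pl K → K)
    (m : Pl K → ℤ) : ∃ x : K, ∀ P ∈ S, P.1 (x - a P) ≤ exp (m P) := by
  classical
  have hsep : ∀ P : Pl K, ∃ x : K, 1 < P.1 x ∧ ∀ Q ∈ S.erase P, Q.1 x < 1 :=
    fun P => exists_separating P _ (Finset.notMem_erase P S)
  choose e he he' using hsep
  have hex : ∀ P Q : Pl K, ∃ n : ℕ, ∀ r : ℕ, n ≤ r →
      exp (-(r : ℤ)) * Q.1 (a P) ≤ exp (m Q) := by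
    intro P Q
    rcases eq_or_ne (Q.1 (a P)) 0 with h | h
    · exact ⟨0, fun r _ => by simp [h]⟩
    · obtain ⟨n, hn⟩ := exists_exp_neg_nat_bound (m Q - log (Q.1 (a P)))
      refine ⟨n, fun r hr => ?_⟩
      calc exp (-(r : ℤ)) * Q.1 (a P) ≤ exp (m Q - log (Q.1 (a P))) * exp (log (Q.1 (a P))) :=
            mul_le_mul' (hn r hr) (exp_log h).ge
        _ = exp (m Q) := by rw [← exp_add, sub_add_cancel]
  choose n hn using hex
  set r := (S ×ˢ S).sup (fun p => n p.1 p.2) + 1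
  refine ⟨∑ P ∈ S, e P ^ r / (1 + e P ^ r) * a P, fun Q hQ => ?_⟩
  rw [← Finset.add_sum_erase S _ hQ]
  have hnr : ∀ P ∈ S, n P Q ≤ r := fun P hP =>
    le_add_right (Finset.le_sup (f := fun p : _ × _ => n p.1 p.2)
      (b := (P, Q)) (Finset.mem_product.2 ⟨hP, hQ⟩))
  have h1 : 1 < Q.1 (e Q ^ r) := by rw [map_pow]; exact one_lt_pow₀ (he Q) (by omega)
  have h2 : Q.1 (1 + e Q ^ r) = Q.1 (e Q ^ r) :=
    Q.1.map_add_eq_of_lt_right (by rw [map_one]; exact h1)
  have h3 : e Q ^ r / (1 + e Q ^ r) - 1 = -(1 + e Q ^ r)⁻¹ := by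
    have : (1 + e Q ^ r) ≠ 0 := by
      intro h; rw [h, map_zero] at h2; rw [← h2] at h1; simp at h1
    field_simp
    ring
  rw [show ∀ u v : K, u * a Q + v - a Q = (u - 1) * a Q + v from fun u v => by ring]
  refine (Q.1.map_add _ _).trans (max_le ?_ ?_)
  · rw [h3, map_mul, Valuation.map_neg, map_inv₀, h2]
    refine le_trans (mul_le_mul' ?_ le_rfl) (hn Q Q r (hnr Q hQ))
    rw [map_pow, ← inv_pow]
    exact pow_le_exp_of_lt_one (inv_lt_one_of_one_lt₀ (he Q)) r
  · refine Q.1.map_sum_le fun P hP => ?_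
    obtain ⟨hPQ, hPS⟩ := Finset.mem_erase.1 hP
    have hQP : Q.1 (e P) < 1 := he' P Q (Finset.mem_erase.2 ⟨hPQ.symm, hQ⟩)
    have h4 : Q.1 (e P ^ r) < 1 := by rw [map_pow]; exact pow_lt_one₀ zero_le hQP (by omega)
    have h5 : Q.1 (1 + e P ^ r) = 1 := by
      rw [Q.1.map_add_eq_of_lt_left (by rw [map_one]; exact h4), map_one]
    rw [map_mul, map_div₀, h5, div_one, map_pow]
    exact le_trans (mul_le_mul' (pow_le_exp_of_lt_one hQP r) le_rfl) (hn P Q r (hnr P hPS))

/-- A discrete valuation subring comes from a normalized valuation. -/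
theorem exists_pl {K : Type u} [Field K] (O : ValuationSubring K) [IsDiscreteValuationRing O] :
    ∃ P : Pl K, ∀ x : K, x ∈ O ↔ P.1 x ≤ 1 := by
  let v : IsDedekindDomain.HeightOneSpectrum O :=
    ⟨IsLocalRing.maximalIdeal O, (IsLocalRing.maximalIdeal.isMaximal O).isPrime,
      IsDiscreteValuationRing.not_a_field O⟩
  refine ⟨⟨v.valuation K, v.valuation_surjective K⟩, fun x => ?_⟩
  refine ⟨fun hx => v.valuation_le_one ⟨x, hx⟩, fun hx => ?_⟩
  obtain ⟨n, d, hnd⟩ := v.exists_primeCompl_mul_eq_of_integer x hx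
  have hu : IsUnit (d : O) := by
    by_contra hc
    exact d.2 hc
  obtain ⟨u, hu⟩ := hu
  have h1 : x = ((n * ↑u⁻¹ : O) : K) := by
    have h2 : ((d : O) : K) * ((↑u⁻¹ : O) : K) = 1 := by
      rw [← hu]
      exact congrArg (fun t : O => (t : K)) u.mul_inv
    have h3 : x * ((d : O) : K) = (n : K) := hnd
    push_cast
    rw [← h3, mul_assoc, h2, mul_one]
  rw [h1]
  exact Subtype.coe_prop _

/-- Approximation with exact valuations by pairwise distinct discrete valuation rings. -/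
theorem exists_sub_eq_unit_mul_zpow {K : Type u} [Field K] {ι : Type*} [Finite ι]
    (O : ι → ValuationSubring K) (hO : ∀ i, IsDiscreteValuationRing (O i))
    (hinj : Function.Injective O) (fs : ι → K) (n : ι → ℤ) :
    ∃ f : K, ∀ i, ∃ (ϖ : O i) (_ : Irreducible ϖ) (w : (O i)ˣ),
      f - fs i = ((w : O i) : K) * ((ϖ : K) ^ (n i)) := by
  classical
  cases nonempty_fintype ι
  choose P hP using fun i => haveI := hO i; exists_pl (O i)
  have hPinj : Function.Injective P := fun i j h => hinj (SetLike.ext fun x => by rw [hP, hP, h])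
  choose g hg0 hg using fun i => exists_val_eq (P i) (-n i)
  let a : Pl K → K := Function.extend P (fun i => fs i + g i) 0
  let m : Pl K → ℤ := Function.extend P (fun i => -n i - 1) 0
  obtain ⟨f, hf⟩ := approximation (Finset.univ.image P) a m
  refine ⟨f, fun i => ?_⟩
  have h1 := hf (P i) (Finset.mem_image_of_mem P (Finset.mem_univ i))
  simp only [a, m, hPinj.extend_apply] at h1
  have h2 : (P i).1 (f - fs i) = exp (-n i) := by
    rw [show f - fs i = (f - (fs i + g i)) + g i by ring,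
      (P i).1.map_add_eq_of_lt_right (h1.trans_lt (by rw [hg, exp_lt_exp]; omega)), hg]
  haveI := hO i
  obtain ⟨ϖ, hϖ⟩ := IsDiscreteValuationRing.exists_irreducible (O i)
  have hϖ0 : (ϖ : K) ≠ 0 := fun h => hϖ.ne_zero (Subtype.ext h)
  have hϖv : (P i).1 (ϖ : K) = exp (-1) := by
    obtain ⟨x, hx0, hx⟩ := exists_val_eq (P i) (-1)
    have hxO : x ∈ O i := (hP i x).mpr (by rw [hx, ← exp_zero, exp_le_exp]; omega)
    have hne : (⟨x, hxO⟩ : O i) ≠ 0 := fun h => hx0 (congrArg Subtype.val h)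
    obtain ⟨k, u, hu⟩ := IsDiscreteValuationRing.eq_unit_mul_pow_irreducible hne hϖ
    have hu1 : (P i).1 ((u : O i) : K) = 1 := by
      refine le_antisymm ((hP i _).mp (Subtype.coe_prop _)) ?_
      have h3 : (P i).1 ((u : O i) : K) * (P i).1 ((↑u⁻¹ : O i) : K) = 1 := by
        rw [← map_mul, ← map_one (P i).1]
        exact congrArg (fun t : O i => (P i).1 (t : K)) u.mul_inv
      calc (1 : WithZero (Multiplicative ℤ)) = _ * _ := h3.symm
        _ ≤ _ * 1 := mul_le_mul' le_rfl ((hP i _).mp (Subtype.coe_prop _))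
        _ = _ := mul_one _
    have h4 := congrArg (fun t : O i => (P i).1 (t : K)) hu
    simp only [MulMemClass.coe_mul, SubmonoidClass.coe_pow, map_mul, map_pow, hu1, one_mul, hx] at h4
    have hle := (hP i (ϖ : K)).mp ϖ.2
    rw [val_eq_exp (P i) hϖ0, ← exp_nsmul, exp_inj] at h4
    rw [val_eq_exp (P i) hϖ0, ← exp_zero, exp_le_exp] at hle
    rw [val_eq_exp (P i) hϖ0, exp_inj]
    rw [nsmul_eq_mul] at h4
    have hk : (k : ℤ) * (P i).ord (ϖ : K) = 1 := by linarith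
    rcases Int.eq_one_or_neg_one_of_mul_eq_one' hk with ⟨_, h5⟩ | ⟨_, h5⟩ <;> omega
  set w0 : K := (f - fs i) / (ϖ : K) ^ n i with hw0
  have hw : (P i).1 w0 = 1 := by
    rw [hw0, map_div₀, map_zpow₀, h2, hϖv, ← exp_zsmul, smul_eq_mul, mul_neg, mul_one,
      div_self exp_ne_zero]
  have hwne : w0 ≠ 0 := fun h => by rw [h, map_zero] at hw; exact zero_ne_one hw
  have hwO : w0 ∈ O i := (hP i _).mpr hw.le
  have hwO' : w0⁻¹ ∈ O i := (hP i _).mpr (by rw [map_inv₀, hw, inv_one])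
  refine ⟨ϖ, hϖ, ⟨⟨w0, hwO⟩, ⟨w0⁻¹, hwO'⟩, Subtype.ext (mul_inv_cancel₀ hwne),
    Subtype.ext (inv_mul_cancel₀ hwne)⟩, ?_⟩
  change f - fs i = w0 * (ϖ : K) ^ n i
  rw [hw0, div_mul_cancel₀ _ (zpow_ne_zero _ hϖ0)]

end Groth.Agent.H02CA.Indep
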