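import Groth.Agent.H4Inj.Decompose
import Mathlib.RingTheory.HopkinsLevitzki
import Mathlib.RingTheory.Artinian.Ring
import Mathlib.Algebra.Category.ModuleCat.Limits
import Mathlib.RingTheory.Localization.AtPrime.Basic
import Mathlib.Algebra.Module.LocalizedModule.Basic
import Mathlib.RingTheory.Ideal.MinimalPrime.Noetherian
import Mathlib.RingTheory.Ideal.AssociatedPrime.Localization

/-!
# Injective modules over Noetherian rings as unions of modules finite over Artinian algebras
-/

set_option autoImplicit false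
set_option linter.style.haveILetI false

universe u

open InjHull Groth.Agent.H4Inj CategoryTheory CategoryTheory.Limits

namespace Groth.Agent.H02CA.InjFiltered

variable {A : Type u} [CommRing A] [IsNoetherianRing A]

/-- `A`-modules finite over an Artinian algebra. -/
def FinArt (A : Type u) [CommRing A] (D : Type u) [AddCommGroup D] [Module A D] : Prop :=
  ∃ (B : Type u) (_ : CommRing B) (_ : Algebra A B) (_ : IsArtinianRing B)
    (_ : Module B D) (_ : IsScalarTower A B D), Module.Finite B D

theorem FinArt.of_equiv {D D' : Type u} [AddCommGroup D] [Module A D] [AddCommGroup D'] [Module A D']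
    (e : D ≃ₗ[A] D') (h : FinArt A D') : FinArt A D := by
  obtain ⟨B, _, _, hB, _, _, hfin⟩ := h
  letI : SMul B D := ⟨fun b x => e.symm (b • e x)⟩
  letI : Module B D := Function.Injective.module B e.toLinearMap.toAddMonoidHom e.injective
    fun b x => e.apply_symm_apply _
  haveI : IsScalarTower A B D := ⟨fun a b x => show e.symm ((a • b) • e x) = a • e.symm (b • e x) by
    rw [smul_assoc, map_smul]⟩
  let e' : D' ≃ₗ[B] D :=
    { e.symm.toAddEquiv with
      map_smul' := fun b x => show e.symm (b • x) = e.symm (b • e (e.symm x)) by rw [e.apply_symm_apply] }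
  exact ⟨B, inferInstance, inferInstance, hB, inferInstance, inferInstance, Module.Finite.equiv e'⟩

theorem FinArt.pi {ι : Type u} [Finite ι] {D : ι → Type u} [∀ i, AddCommGroup (D i)] [∀ i, Module A (D i)]
    (h : ∀ i, FinArt A (D i)) : FinArt A (Π i, D i) := by
  classical
  choose B _ _ hB _ _ hfin using h
  haveI : IsScalarTower A (Π i, B i) (Π i, D i) := ⟨fun a b x => funext fun i => smul_assoc a (b i) (x i)⟩
  refine ⟨Π i, B i, inferInstance, inferInstance, inferInstance, inferInstance, inferInstance, ?_⟩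
  cases nonempty_fintype ι
  choose n s hs using fun i => Module.Finite.exists_fin (R := B i) (M := D i)
  refine Module.Finite.of_surjective
    (LinearMap.lsum (Π i, B i) (fun j : (Σ i, Fin (n i)) => Π i, B i) (Π i, B i)
      fun j => LinearMap.toSpanSingleton (Π i, B i) (Π i, D i) (Pi.single j.1 (s j.1 j.2))) fun x => ?_
  choose c hc using fun i => (Submodule.mem_span_range_iff_exists_fun (B i)).mp
    ((hs i).symm ▸ Submodule.mem_top : x i ∈ Submodule.span (B i) (Set.range (s i)))
  refine ⟨fun j => Pi.single j.1 (c j.1 j.2), ?_⟩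
  funext i
  simp only [LinearMap.lsum_apply, LinearMap.coe_sum, LinearMap.coe_comp, LinearMap.coe_proj,
    LinearMap.toSpanSingleton_apply, Function.comp_apply, Finset.sum_apply, Pi.smul_apply', Function.eval,
    Fintype.sum_sigma]
  rw [Finset.sum_eq_single i]
  · simpa using hc i
  · exact fun j _ hj => Finset.sum_eq_zero fun l _ => by simp [Pi.single_eq_of_ne' hj]
  · simp

/-- Finite generation after inverting elements outside `p`. -/
def FinOutside (p : Ideal A) (M : Type u) [AddCommGroup M] [Module A M] : Prop :=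
  ∃ N : Submodule A M, N.FG ∧ ∀ x, ∃ c, c ∉ p ∧ c • x ∈ N

theorem finOutside_of_exact {p : Ideal A} [p.IsPrime] {M M'' : Type u} [AddCommGroup M] [Module A M]
    [AddCommGroup M''] [Module A M''] (φ : M →ₗ[A] M'') (hk : FinOutside p (LinearMap.ker φ))
    (h : FinOutside p M'') : FinOutside p M := by
  classical
  obtain ⟨N₀, hN₀, hN₀'⟩ := hk
  obtain ⟨N'', hN'', hN'''⟩ := h
  haveI : IsNoetherian A N'' := isNoetherian_of_fg_of_noetherian N'' hN''
  obtain ⟨t, ht⟩ : (LinearMap.range φ ⊓ N'').FG := isNoetherian_submodule.mp inferInstance _ inf_le_right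
  have hpre : ∀ y ∈ t, ∃ x, φ x = y := fun y hy =>
    (show y ∈ LinearMap.range φ ⊓ N'' from ht ▸ Submodule.subset_span hy).1
  choose g hg using hpre
  let T : Submodule A M := Submodule.span A (t.attach.image fun y => g y.1 y.2 : Finset M)
  have hT : Submodule.map φ T = LinearMap.range φ ⊓ N'' := by
    rw [Submodule.map_span, ← ht]
    congr 1
    ext y
    simp only [Finset.coe_image, Finset.coe_attach, Set.mem_image, Set.image_univ, Set.mem_range,
      Subtype.exists, Finset.mem_coe]
    constructor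
    · rintro ⟨_, ⟨a, ha, rfl⟩, rfl⟩; rwa [hg a ha]
    · exact fun hy => ⟨_, ⟨y, hy, rfl⟩, hg y hy⟩
  refine ⟨N₀.map (LinearMap.ker φ).subtype ⊔ T, (hN₀.map _).sup (Submodule.fg_span (Finset.finite_toSet _)),
    fun x => ?_⟩
  obtain ⟨c, hc, hcx⟩ := hN''' (φ x)
  have : φ (c • x) ∈ Submodule.map φ T := by
    rw [hT]; exact ⟨⟨_, rfl⟩, by rwa [map_smul]⟩
  obtain ⟨y, hy, hyx⟩ := this
  obtain ⟨d, hd, hdx⟩ := hN₀' ⟨c • x - y, by simp [hyx]⟩
  refine ⟨d * c, fun h => ((‹p.IsPrime›.mem_or_mem h).elim hd hc), ?_⟩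
  rw [mul_smul, show d • c • x = d • (c • x - y) + d • y by rw [← smul_add, sub_add_cancel]]
  exact Submodule.add_mem_sup ⟨_, hdx, rfl⟩ (T.smul_mem d hy)

theorem finOutside_pi {p : Ideal A} [p.IsPrime] {n : ℕ} {M : Type u} [AddCommGroup M] [Module A M]
    (h : FinOutside p M) : FinOutside p (Fin n → M) := by
  classical
  obtain ⟨N, hN, hN'⟩ := h
  choose c hc hcx using hN'
  refine ⟨Submodule.pi Set.univ fun _ => N, Submodule.fg_pi fun _ => hN,
    fun x => ⟨∏ i, c (x i), fun h => ?_, fun i _ => ?_⟩⟩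
  · obtain ⟨i, -, hi⟩ := (Ideal.IsPrime.prod_mem_iff).mp h
    exact hc _ hi
  · rw [Pi.smul_apply, ← Finset.prod_erase_mul _ _ (Finset.mem_univ i), mul_smul]
    exact N.smul_mem _ (hcx _)

/-- Elements killed by a power of `p`. -/
def tors (p : Ideal A) (E : Type u) [AddCommGroup E] [Module A E] (n : ℕ) : Submodule A E :=
  Submodule.torsionBySet A E ((p ^ n : Ideal A) : Set A)

omit [IsNoetherianRing A] in
theorem mem_tors {p : Ideal A} {E : Type u} [AddCommGroup E] [Module A E] {n : ℕ} {x : E} :
    x ∈ tors p E n ↔ ∀ a ∈ p ^ n, a • x = 0 :=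
  ⟨fun h a ha => (Submodule.mem_torsionBySet_iff _ _).mp h ⟨a, ha⟩,
    fun h => (Submodule.mem_torsionBySet_iff _ _).mpr fun a => h a a.2⟩

omit [IsNoetherianRing A] in
theorem tors_mono (p : Ideal A) (E : Type u) [AddCommGroup E] [Module A E] {n m : ℕ} (h : n ≤ m) :
    tors p E n ≤ tors p E m :=
  fun _ hx => mem_tors.mpr fun a ha => mem_tors.mp hx a (Ideal.pow_le_pow_right h ha)

section Hull

variable {p : Ideal A} [p.IsPrime] {E : Type u} [AddCommGroup E] [Module A E]
  (g : p.ResidueField →ₗ[A] E) (hg : IsInjectiveHull g) (hE : IsIndecomposable A E)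

include hg in
theorem smul_injective {s : A} (hs : s ∉ p) {x : E} (hx : s • x = 0) : x = 0 := by
  by_contra h0
  obtain ⟨r, ⟨z, hz⟩, hr⟩ := exists_smul_mem_range hg.toIsEssentialInj h0
  have : g (s • z) = 0 := by rw [map_smul, hz, smul_comm, hx, smul_zero]
  rw [map_eq_zero_iff g hg.injective, Algebra.smul_def, mul_eq_zero, Ideal.algebraMap_residueField_eq_zero] at this
  exact this.elim hs fun h => hr (by rw [← hz, h, map_zero])

include hg hE in
theorem smul_surjective {s : A} (hs : s ∉ p) : Function.Surjective (fun x : E => s • x) := by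
  let φ : E →ₗ[A] E := LinearMap.lsmul A E s
  have hφ : Function.Injective φ := (injective_iff_map_eq_zero φ).mpr fun x hx => smul_injective g hg hs hx
  obtain ⟨r, hr⟩ := Module.Injective.extension_property (inj := hg.isInjective) A E E E φ hφ LinearMap.id
  have hc : IsCompl (LinearMap.range φ) (LinearMap.ker r) := by
    refine IsCompl.of_eq ?_ ?_
    · refine (Submodule.eq_bot_iff _).mpr ?_
      rintro _ ⟨⟨x, rfl⟩, hx⟩
      have : r (φ x) = x := LinearMap.congr_fun hr x
      rw [← this, LinearMap.mem_ker.mp hx, map_zero]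
    · refine eq_top_iff.mpr fun x _ => Submodule.mem_sup.mpr
        ⟨φ (r x), ⟨_, rfl⟩, x - φ (r x), ?_, add_sub_cancel _ _⟩
      rw [LinearMap.mem_ker, map_sub, show r (φ (r x)) = r x from LinearMap.congr_fun hr (r x), sub_self]
  haveI := hE.1
  rcases hE.2 _ _ hc with h | h
  · obtain ⟨x, hx⟩ := exists_ne (0 : E)
    exact absurd (hφ (by rw [map_zero]; exact LinearMap.range_eq_bot.mp h ▸ rfl)) hx
  · intro x
    refine ⟨r x, ?_⟩
    have : x - φ (r x) ∈ LinearMap.ker r := by
      rw [LinearMap.mem_ker, map_sub, show r (φ (r x)) = r x from LinearMap.congr_fun hr (r x), sub_self]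
    rw [h, Submodule.mem_bot, sub_eq_zero] at this
    exact this.symm

include hg in
theorem exists_mem_tors (x : E) : ∃ n, x ∈ tors p E n := by
  by_cases hx : x = 0
  · exact ⟨0, by rw [hx]; exact zero_mem _⟩
  let I : Ideal A := LinearMap.ker (LinearMap.toSpanSingleton A E x)
  have hI : ∀ a, a ∈ I ↔ a • x = 0 := fun a => LinearMap.mem_ker
  suffices h : p ≤ I.radical by
    obtain ⟨n, hn⟩ := Ideal.exists_pow_le_of_le_radical_of_fg h (IsNoetherian.noetherian p)
    exact ⟨n, mem_tors.mpr fun a ha => (hI a).mp (hn ha)⟩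
  rw [← Ideal.sInf_minimalPrimes]
  refine le_sInf fun q hq => ?_
  -- minimal primes of the annihilator are associated
  haveI : q.IsPrime := hq.1.1
  have hq' : q ∈ associatedPrimes A (A ⧸ I) := by
    refine Module.associatedPrimes.minimalPrimes_annihilator_subset_associatedPrimes A (A ⧸ I) ?_
    rwa [Ideal.annihilator_quotient]
  obtain ⟨y, hy⟩ := ((isAssociatedPrime_iff_exists_injective_linearMap q (A ⧸ I)).mp hq').2
  let j : (A ⧸ I) →ₗ[A] E := I.liftQ (LinearMap.toSpanSingleton A E x) le_rfl
  have hj : Function.Injective j := LinearMap.ker_eq_bot.mp (Submodule.ker_liftQ_eq_bot _ _ _ le_rfl)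
  let w : E := j (y (Submodule.Quotient.mk (1 : A)))
  have hw : ∀ a, a • w = 0 ↔ a ∈ q := fun a => by
    rw [← map_smul, ← map_smul, map_eq_zero_iff j hj, map_eq_zero_iff y hy]
    show (Submodule.Quotient.mk (a • (1 : A)) : A ⧸ q) = 0 ↔ _
    rw [Submodule.Quotient.mk_eq_zero, smul_eq_mul, mul_one]
  have hw0 : w ≠ 0 := fun h => ‹q.IsPrime›.ne_top ((Ideal.eq_top_iff_one _).mpr ((hw 1).mp (by rw [h, smul_zero])))
  obtain ⟨r, ⟨z, hz⟩, hr⟩ := exists_smul_mem_range hg.toIsEssentialInj hw0
  intro a ha
  have hzero : a • z = 0 := by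
    rw [Algebra.smul_def, Ideal.algebraMap_residueField_eq_zero.mpr ha, zero_mul]
  have : (a * r) • w = 0 := by rw [mul_smul, ← hz, ← map_smul, hzero, map_zero]
  exact (‹q.IsPrime›.mem_or_mem ((hw _).mp this)).resolve_right fun h => hr ((hw r).mpr h)

include hg hE in
theorem finOutside_tors (n : ℕ) : FinOutside p (tors p E n) := by
  classical
  induction n with
  | zero =>
    refine ⟨⊥, Submodule.fg_bot, fun x => ⟨1, fun h => ‹p.IsPrime›.ne_top ((Ideal.eq_top_iff_one _).mpr h), ?_⟩⟩
    rw [Submodule.mem_bot]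
    exact Subtype.ext (mem_tors.mp x.2 1 (by simp))
  | succ n ih =>
    obtain ⟨m, v, hv⟩ := Submodule.fg_iff_exists_fin_generating_family.mp (IsNoetherian.noetherian p)
    let φ : tors p E (n + 1) →ₗ[A] (Fin m → tors p E n) := LinearMap.pi fun i =>
      ((LinearMap.lsmul A E (v i)) ∘ₗ (tors p E (n + 1)).subtype).codRestrict _ fun x => mem_tors.mpr fun a ha => by
        show a • v i • (x : E) = 0
        rw [smul_smul]
        exact mem_tors.mp x.2 _ (pow_succ p n ▸ Ideal.mul_mem_mul ha (hv ▸ Submodule.subset_span ⟨i, rfl⟩))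
    refine finOutside_of_exact φ ?_ (finOutside_pi ih)
    -- the kernel consists of elements killed by `p`, which lie in the image of the residue field
    have hk : ∀ x : tors p E (n + 1), φ x = 0 → ∃ z, g z = (x : E) := by
      intro x hx
      have hkill : ∀ a ∈ p, a • (x : E) = 0 := fun a ha => by
        refine Submodule.span_induction ?_ (zero_smul _ _) ?_ ?_ (hv.symm ▸ ha : a ∈ Submodule.span A (Set.range v))
        · rintro _ ⟨i, rfl⟩; exact congrArg Subtype.val (congrFun hx i)
        · intro a b _ _ h1 h2; rw [add_smul, h1, h2, add_zero]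
        · intro c a _ h1; rw [smul_assoc, h1, smul_zero]
      by_cases hx0 : (x : E) = 0
      · exact ⟨0, by rw [hx0, map_zero]⟩
      obtain ⟨r, ⟨z, hz⟩, hr⟩ := exists_smul_mem_range hg.toIsEssentialInj hx0
      have hrp : r ∉ p := fun h => hr (hkill r h)
      refine ⟨(algebraMap A p.ResidueField r)⁻¹ * z, sub_eq_zero.mp (smul_injective g hg hrp ?_)⟩
      rw [smul_sub, ← map_smul, Algebra.smul_def, ← mul_assoc, mul_inv_cancel₀, one_mul, hz, sub_self]
      exact fun h => hrp (Ideal.algebraMap_residueField_eq_zero.mp h)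
    have h1 : ∀ a ∈ p ^ (n + 1), a • g 1 = 0 := fun a ha => by
      rw [← map_smul, Algebra.smul_def, Ideal.algebraMap_residueField_eq_zero.mpr (Ideal.pow_le_self (Nat.succ_ne_zero n) ha),
        zero_mul, map_zero]
    let w : LinearMap.ker φ := ⟨⟨g 1, mem_tors.mpr h1⟩, LinearMap.mem_ker.mpr (funext fun i => Subtype.ext (by
      show v i • g 1 = 0
      rw [← map_smul, Algebra.smul_def, Ideal.algebraMap_residueField_eq_zero.mpr (hv ▸ Submodule.subset_span ⟨i, rfl⟩),
        zero_mul, map_zero]))⟩
    refine ⟨Submodule.span A {w}, Submodule.fg_span (Set.finite_singleton _), fun x => ?_⟩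
    obtain ⟨z, hz⟩ := hk x.1 (LinearMap.mem_ker.mp x.2)
    obtain ⟨a, c, hc, rfl⟩ : ∃ a c : A, c ∉ p ∧ algebraMap A p.ResidueField a / algebraMap A _ c = z := by
      obtain ⟨a, c, hc, h⟩ := IsFractionRing.div_surjective (A ⧸ p) z
      obtain ⟨a, rfl⟩ := Ideal.Quotient.mk_surjective a
      obtain ⟨c, rfl⟩ := Ideal.Quotient.mk_surjective c
      refine ⟨a, c, fun h' => nonZeroDivisors.ne_zero hc (Ideal.Quotient.eq_zero_iff_mem.mpr h'), ?_⟩
      rw [← h, IsScalarTower.algebraMap_apply A (A ⧸ p) p.ResidueField, IsScalarTower.algebraMap_apply A (A ⧸ p) p.ResidueField,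
        Ideal.Quotient.algebraMap_eq]
    refine ⟨c, hc, Submodule.mem_span_singleton.mpr ⟨a, Subtype.ext (Subtype.ext ?_)⟩⟩
    show a • g 1 = c • (x.1 : E)
    rw [← hz, ← map_smul, ← map_smul, Algebra.smul_def, Algebra.smul_def, mul_one, mul_div_cancel₀]
    exact fun h => hc (Ideal.algebraMap_residueField_eq_zero.mp h)

include hg hE in
theorem finArt_tors (n : ℕ) : FinArt A (tors p E n) := by
  classical
  let S := p.primeCompl
  let L := Localization.AtPrime p
  let M := tors p E n
  let W := LocalizedModule S M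
  let e : M →ₗ[A] W := LocalizedModule.mkLinearMap S M
  have hb : Function.Bijective e := by
    refine ⟨fun x y h => ?_, fun w => ?_⟩
    · obtain ⟨c, hc⟩ := (IsLocalizedModule.eq_iff_exists S e).mp h
      refine sub_eq_zero.mp (Subtype.ext (smul_injective g hg c.2 ?_))
      show ((((c : A) • (x - y)) : M) : E) = 0
      rw [smul_sub]
      exact congrArg Subtype.val (sub_eq_zero.mpr hc)
    · induction w using LocalizedModule.induction_on with
      | h x s =>
        obtain ⟨y, hy⟩ := smul_surjective g hg hE s.2 (x : E)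
        have hy' : y ∈ M := mem_tors.mpr fun a ha => smul_injective g hg s.2 (by
          rw [smul_comm, show (s : A) • y = (x : E) from hy]; exact mem_tors.mp x.2 a ha)
        refine ⟨⟨y, hy'⟩, ?_⟩
        rw [LocalizedModule.mkLinearMap_apply, LocalizedModule.mk_eq]
        refine ⟨1, Subtype.ext ?_⟩
        show (1 : S) • (s : A) • y = (1 : S) • (1 : A) • (x : E)
        rw [one_smul, one_smul, one_smul]
        exact hy
  have hkill : Module.IsTorsionBySet L W ((p ^ n).map (algebraMap A L) : Set L) := by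
    intro w a
    obtain ⟨x, rfl⟩ := hb.2 w
    have : (p ^ n).map (algebraMap A L) ≤ LinearMap.ker (LinearMap.toSpanSingleton L W (e x)) := by
      refine Ideal.map_le_iff_le_comap.mpr fun q hq => ?_
      show algebraMap A L q • e x = 0
      rw [algebraMap_smul, ← map_smul, show q • x = 0 from Subtype.ext (mem_tors.mp x.2 q hq), map_zero]
    exact this a.2
  letI := hkill.module
  let B := L ⧸ (p ^ n).map (algebraMap A L)
  haveI : IsScalarTower L B W := hkill.isScalarTower
  haveI : IsScalarTower A B W := ⟨fun a b w => by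
    obtain ⟨b, rfl⟩ := Ideal.Quotient.mk_surjective b
    show (Ideal.Quotient.mk _ (a • b)) • w = a • (Ideal.Quotient.mk _ b • w)
    exact smul_assoc a b w⟩
  haveI : IsNoetherianRing L := IsLocalization.isNoetherianRing S L inferInstance
  haveI : IsArtinianRing B := by
    rw [isArtinianRing_iff_krullDimLE_zero, Ring.krullDimLE_zero_iff]
    intro P hP
    have h1 : (p ^ n).map (algebraMap A L) ≤ P.comap (Ideal.Quotient.mk _) :=
      (Ideal.mk_ker.symm.le.trans (Ideal.ker_le_comap _))
    haveI : (P.comap (Ideal.Quotient.mk ((p ^ n).map (algebraMap A L)))).IsPrime := Ideal.IsPrime.comap _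
    have hmp : (p ^ n).map (algebraMap A L) = IsLocalRing.maximalIdeal L ^ n := by
      rw [Ideal.map_pow, Localization.AtPrime.map_eq_maximalIdeal]
    have h2 := Ideal.IsPrime.le_of_pow_le (hmp.symm.le.trans h1)
    have h3 : IsLocalRing.maximalIdeal L = P.comap (Ideal.Quotient.mk _) :=
      (IsLocalRing.maximalIdeal.isMaximal L).eq_of_le Ideal.IsPrime.ne_top' h2
    haveI : (P.comap (Ideal.Quotient.mk ((p ^ n).map (algebraMap A L)))).IsMaximal := h3 ▸ inferInstance
    have hs : Function.Surjective (Ideal.Quotient.mk ((p ^ n).map (algebraMap A L))) := Ideal.Quotient.mk_surjective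
    rw [← Ideal.map_comap_of_surjective _ hs P]
    refine (Ideal.map_eq_top_or_isMaximal_of_surjective _ hs this).resolve_left ?_
    rw [Ideal.map_comap_of_surjective _ hs]; exact hP.ne_top
  haveI : Module.Finite L W := by
    obtain ⟨N, ⟨t, ht⟩, hN⟩ := finOutside_tors g hg hE n
    refine ⟨⟨t.image e, eq_top_iff.mpr fun w _ => ?_⟩⟩
    obtain ⟨x, rfl⟩ := hb.2 w
    obtain ⟨c, hc, hcx⟩ := hN x
    have h2 : e (c • x) ∈ Submodule.span L (t.image e : Set W) := by
      have := Submodule.mem_map_of_mem (f := e) hcx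
      rw [← ht, Submodule.map_span] at this
      rw [Finset.coe_image]
      exact Submodule.span_le_restrictScalars A L _ this
    have := Submodule.smul_mem _ (IsLocalization.mk' L 1 (⟨c, hc⟩ : S)) h2
    rwa [map_smul, ← algebraMap_smul L c (e x), smul_smul, IsLocalization.mk'_spec, map_one, one_smul] at this
  exact FinArt.of_equiv (LinearEquiv.ofBijective e hb)
    ⟨B, inferInstance, inferInstance, inferInstance, inferInstance, inferInstance,
      Module.Finite.of_restrictScalars_finite L B W⟩

end Hull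

/-- An injective module is a directed union of submodules finite over Artinian algebras. -/
theorem exists_directed_family (J : Type u) [AddCommGroup J] [Module A J] [Module.Injective A J] :
    ∃ (ι : Type u) (_ : SemilatticeSup ι) (_ : Nonempty ι) (D : ι → Submodule A J),
      Monotone D ∧ (∀ x, ∃ i, x ∈ D i) ∧ ∀ i, FinArt A (D i) := by
  classical
  obtain ⟨κ, E, hint, hE⟩ := exists_decomposition (R := A) (I := J) inferInstance
  choose p hp g hg using fun i => exists_residueField_hull_of_indecomposable (hE i).1 (hE i).2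
  let T : Finset κ → ℕ → ∀ i, Submodule A J := fun _ n i => (tors (p i) (E i) n).map (E i).subtype
  refine ⟨Finset κ × ULift.{u} ℕ, inferInstance, ⟨(∅, ⟨0⟩)⟩,
    fun x => ⨆ i ∈ x.1, T x.1 x.2.down i, ?_, fun x => ?_, fun x => ?_⟩
  · intro a b hab
    refine iSup₂_le fun i hi => le_trans ?_ (le_iSup₂ i (hab.1 hi))
    exact Submodule.map_mono (tors_mono _ _ hab.2)
  · have hx : x ∈ ⨆ i, E i := by
      rw [DirectSum.IsInternal.submodule_iSup_eq_top hint]; exact Submodule.mem_top
    induction hx using Submodule.iSup_induction' with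
    | mem i y hy =>
      obtain ⟨n, hn⟩ := exists_mem_tors (g i) (hg i) ⟨y, hy⟩
      exact ⟨({i}, ⟨n⟩), Submodule.mem_iSup_of_mem i (Submodule.mem_iSup_of_mem (Finset.mem_singleton_self i)
        ⟨⟨y, hy⟩, hn, rfl⟩)⟩
    | zero => exact ⟨(∅, ⟨0⟩), zero_mem _⟩
    | add y z _ _ hy hz =>
      obtain ⟨⟨F, ⟨n⟩⟩, hy⟩ := hy
      obtain ⟨⟨F', ⟨n'⟩⟩, hz⟩ := hz
      refine ⟨(F ∪ F', ⟨max n n'⟩), add_mem ?_ ?_⟩
      · refine (iSup₂_le fun i hi => ?_ : (⨆ i ∈ F, T F n i) ≤ _) hy
        exact le_iSup₂_of_le i (Finset.mem_union_left _ hi) (Submodule.map_mono (tors_mono _ _ (le_max_left _ _)))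
      · refine (iSup₂_le fun i hi => ?_ : (⨆ i ∈ F', T F' n' i) ≤ _) hz
        exact le_iSup₂_of_le i (Finset.mem_union_right _ hi) (Submodule.map_mono (tors_mono _ _ (le_max_right _ _)))
  · obtain ⟨F, ⟨n⟩⟩ := x
    let φ : (Π i : F, tors (p i.1) (E i.1) n) →ₗ[A] J :=
      LinearMap.lsum A (fun i : F => tors (p i.1) (E i.1) n) A fun i => (E i.1).subtype ∘ₗ (tors (p i.1) (E i.1) n).subtype
    have happly : ∀ y, φ y = ∑ i : F, ((y i : E i.1) : J) := fun y => by simp [φ, LinearMap.lsum_apply]
    have hinj : Function.Injective φ := by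
      rw [injective_iff_map_eq_zero]
      intro y hy
      rw [happly] at hy
      have hind : iSupIndep fun i : F => E i.1 := hint.submodule_iSupIndep.comp Subtype.val_injective
      funext i
      have := (iSupIndep_iff_finsetSum_eq_zero_imp_eq_zero _).mp hind Finset.univ (fun i => ((y i : E i.1) : J))
        (fun i _ => (y i : E i.1).2) hy i (Finset.mem_univ i)
      exact Subtype.ext (Subtype.ext this)
    have hrange : LinearMap.range φ = ⨆ i ∈ F, T F n i := by
      refine le_antisymm ?_ (iSup₂_le fun i hi => ?_)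
      · rintro _ ⟨y, rfl⟩
        rw [happly]
        exact Submodule.sum_mem _ fun i _ => Submodule.mem_iSup_of_mem i.1
          (Submodule.mem_iSup_of_mem i.2 ⟨(y i : E i.1), (y i).2, rfl⟩)
      · rintro _ ⟨y, hy, rfl⟩
        refine ⟨Pi.single (⟨i, hi⟩ : F) ⟨y, hy⟩, ?_⟩
        rw [happly, Finset.sum_eq_single (⟨i, hi⟩ : F) (fun j _ hj => by simp [Pi.single_eq_of_ne hj]) (by simp)]
        simp
    show FinArt A ↥(⨆ i ∈ F, T F n i)
    exact FinArt.of_equiv ((LinearEquiv.ofEq _ _ hrange.symm).trans (LinearEquiv.ofInjective φ hinj).symm)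
      (FinArt.pi fun i => haveI := hp i.1; finArt_tors (g i.1) (hg i.1) (hE i.1).1 n)

end Groth.Agent.H02CA.InjFiltered
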