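import Mathlib.RingTheory.Invariant.Basic
import Mathlib.Algebra.Polynomial.Monic
import Mathlib.Algebra.MvPolynomial.Eval

/-!
The universal polynomial `∏ σ, (X - σ (∑ rᵢ Tᵢ))` lifts to the invariants.
-/

namespace Groth.Agent.H02CA

open Polynomial

universe u

lemma exists_universal_lift (A : Type*) {R G ι : Type*} [CommRing A] [CommRing R] [Algebra A R] [Group G]
    [Fintype G] [MulSemiringAction G R] [Algebra.IsInvariant A R G] [Fintype ι] (r : ι → R) :
    ∃ Q : Polynomial (MvPolynomial ι A), Q.Monic ∧ Q.natDegree ≤ Fintype.card G ∧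
      (∀ i < Fintype.card G, MvPolynomial.constantCoeff (Q.coeff i) = 0) ∧
      Q.map (MvPolynomial.map (algebraMap A R)) =
        ∏ σ : G, (X - C (∑ k, MvPolynomial.C (σ • r k) * MvPolynomial.X k)) := by
  classical
  set n := Fintype.card G
  set z : G → MvPolynomial ι R := fun σ => ∑ k, MvPolynomial.C (σ • r k) * MvPolynomial.X k
  set Φ : Polynomial (MvPolynomial ι R) := ∏ σ : G, (X - C (z σ))
  have hinv : ∀ (τ : G) (i : ℕ) (d : ι →₀ ℕ), τ • MvPolynomial.coeff d (Φ.coeff i) = MvPolynomial.coeff d (Φ.coeff i) := by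
    intro τ i d
    have hz : ∀ σ, MvPolynomial.map (MulSemiringAction.toRingHom G R τ) (z σ) = z (τ * σ) := fun σ => by
      simp [z, map_sum, mul_smul]
    have hΦ : Φ.map (MvPolynomial.map (MulSemiringAction.toRingHom G R τ)) = Φ := by
      simp only [Φ, Polynomial.map_prod, Polynomial.map_sub, map_X, map_C, hz]
      exact Fintype.prod_equiv (Equiv.mulLeft τ) _ _ fun σ => rfl
    conv_rhs => rw [← hΦ]
    rw [Polynomial.coeff_map, MvPolynomial.coeff_map]
    rfl
  have hmem : ∀ (i : ℕ) (d : ι →₀ ℕ), ∃ a : A, algebraMap A R a = MvPolynomial.coeff d (Φ.coeff i) := fun i d =>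
    Algebra.IsInvariant.isInvariant (G := G) _ fun τ => hinv τ i d
  choose l hl using hmem
  let lp : ℕ → MvPolynomial ι A := fun i => ∑ d ∈ (Φ.coeff i).support, MvPolynomial.monomial d (l i d)
  have hlp : ∀ i, MvPolynomial.map (algebraMap A R) (lp i) = Φ.coeff i := fun i => by
    simp only [lp, map_sum, MvPolynomial.map_monomial, hl]
    exact (Φ.coeff i).as_sum.symm
  have hdeg : (∑ i ∈ Finset.range n, C (lp i) * X ^ i).degree < (n : WithBot ℕ) :=
    (Polynomial.degree_sum_le _ _).trans_lt <| (Finset.sup_lt_iff (WithBot.bot_lt_coe n)).mpr fun i hi =>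
      (degree_C_mul_X_pow_le i _).trans_lt (WithBot.coe_lt_coe.mpr (Finset.mem_range.mp hi))
  set Q : Polynomial (MvPolynomial ι A) := X ^ n + ∑ i ∈ Finset.range n, C (lp i) * X ^ i
  have hcoeff : ∀ i < n, Q.coeff i = lp i := fun i hi => by
    simp [Q, Polynomial.coeff_X_pow, hi.ne, hi, Polynomial.finset_sum_coeff, Polynomial.coeff_C_mul]
  refine ⟨Q, monic_X_pow_add hdeg, ?_, fun i hi => ?_, ?_⟩
  · refine Polynomial.natDegree_le_iff_degree_le.mpr ((degree_add_le _ _).trans (max_le (degree_X_pow_le n) hdeg.le))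
  · rw [hcoeff i hi]
    have h0 : MvPolynomial.coeff 0 (Φ.coeff i) = 0 := by
      have h1 : Φ.map (MvPolynomial.constantCoeff) = X ^ n := by
        have hz0 : ∀ σ, MvPolynomial.constantCoeff (z σ) = 0 := fun σ => by simp [z, map_sum]
        simp only [Φ, Polynomial.map_prod, Polynomial.map_sub, Polynomial.map_X, Polynomial.map_C, hz0]
        simp [n]
      have := congr_arg (fun q => Polynomial.coeff q i) h1
      simpa [Polynomial.coeff_map, Polynomial.coeff_X_pow, hi.ne, MvPolynomial.constantCoeff_eq] using this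
    simp only [lp, map_sum]
    refine Finset.sum_eq_zero fun d hd => ?_
    have hd0 : d ≠ 0 := fun h => MvPolynomial.mem_support_iff.mp hd (h ▸ h0)
    rw [MvPolynomial.constantCoeff_monomial, if_neg hd0]
  · refine Polynomial.ext fun i => ?_
    rcases lt_trichotomy i n with hi | rfl | hi
    · rw [Polynomial.coeff_map, hcoeff i hi, hlp]
    all_goals
      have hΦm : Φ.Monic := monic_prod_of_monic _ _ fun σ _ => monic_X_sub_C _
      rcases subsingleton_or_nontrivial (MvPolynomial ι R) with hs | hs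
      · exact Subsingleton.elim _ _
      have hΦd : Φ.natDegree = n := by
        simp [Φ, Polynomial.natDegree_prod_of_monic _ _ fun σ _ => monic_X_sub_C (z σ), n]
    · have hsum : (∑ i ∈ Finset.range n, C (lp i) * X ^ i).coeff n = 0 := coeff_eq_zero_of_degree_lt hdeg
      have : Φ.coeff n = 1 := hΦd ▸ hΦm.coeff_natDegree
      rw [Polynomial.coeff_map, Polynomial.coeff_add, hsum, coeff_X_pow, if_pos rfl, add_zero, map_one]
      exact this.symm
    · have h1 : (∑ i ∈ Finset.range n, C (lp i) * X ^ i).coeff i = 0 :=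
        coeff_eq_zero_of_degree_lt (hdeg.trans (WithBot.coe_lt_coe.mpr hi))
      rw [Polynomial.coeff_map, Polynomial.coeff_add, h1, coeff_X_pow, if_neg hi.ne', add_zero, map_zero]
      exact (coeff_eq_zero_of_natDegree_lt (hΦd ▸ hi)).symm

lemma eval₂_mem_of_constantCoeff_eq_zero {ι A B : Type*} [CommRing A] [CommRing B] (g : A →+* B) (v : ι → B) (J : Ideal B)
    (hv : ∀ i, v i ∈ J) (p : MvPolynomial ι A) (hp : MvPolynomial.constantCoeff p = 0) :
    MvPolynomial.eval₂Hom g v p ∈ J := by
  classical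
  rw [MvPolynomial.as_sum p, map_sum]
  refine sum_mem fun d hd => ?_
  rw [MvPolynomial.eval₂Hom_monomial]
  refine J.mul_mem_left _ ?_
  have hd0 : d ≠ 0 := fun h => MvPolynomial.mem_support_iff.mp hd (h ▸ hp)
  obtain ⟨i, hi⟩ := Finsupp.support_nonempty_iff.mpr hd0
  exact J.prod_mem hi (J.pow_mem_of_mem (hv i) _ (Nat.pos_of_ne_zero (Finsupp.mem_support_iff.mp hi)))

end Groth.Agent.H02CA
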