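import Groth.Agent.H25SmVar.Basic
import Groth.Agent.H26Grass.DimLemma
import Mathlib.RingTheory.Kaehler.TensorProduct
import Mathlib.FieldTheory.IsAlgClosed.AlgebraicClosure

/-!
Generators of the differentials of a variety with hypersurface singularities.
-/

set_option autoImplicit false
set_option linter.style.haveILetI false

universe u

open TensorProduct IsLocalRing

namespace Groth.Agent.H02CA.KaehlerGen

attribute [local instance] Algebra.TensorProduct.rightAlgebra

variable {K : Type u} [Field K] {A : Type u} [CommRing A] [Algebra K A]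

theorem isIntegral_tensor (L : Type u) [Field L] [Algebra K L] [Algebra.IsIntegral K L] :
    Algebra.IsIntegral A (L ⊗[K] A) := by
  refine ⟨fun t => ?_⟩
  induction t using TensorProduct.induction_on with
  | zero => exact isIntegral_zero
  | tmul x a =>
    have h : x ⊗ₜ[K] a = algebraMap A (L ⊗[K] A) a * (x ⊗ₜ[K] (1 : A)) := by
      show _ = ((1 : L) ⊗ₜ[K] a) * _
      rw [Algebra.TensorProduct.tmul_mul_tmul, one_mul, mul_one]
    rw [h]
    exact isIntegral_algebraMap.mul
      (((Algebra.IsIntegral.isIntegral (R := K) x).map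
        (Algebra.TensorProduct.includeLeft : L →ₐ[K] L ⊗[K] A)).tower_top)
  | add a b ha hb => exact ha.add hb

variable [Algebra.FiniteType K A]

/-- The fibre of the differentials at a closed point is small. -/
theorem finrank_fibre_le (d : ℕ) (hd : ringKrullDim A = d)
    (hhyp : ∀ (q : Ideal (TensorProduct K (AlgebraicClosure K) A)) [q.IsPrime],
      (Module.finrank (ResidueField (Localization.AtPrime q))
          (CotangentSpace (Localization.AtPrime q)) : ℕ∞) ≤ q.height + 1)
    (m : Ideal A) [m.IsMaximal] :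
    Module.finrank (A ⧸ m) ((A ⧸ m) ⊗[A] Ω[A⁄K]) ≤ d + 1 := by
  let L := AlgebraicClosure K
  let A' := L ⊗[K] A
  haveI : Algebra.IsIntegral A A' := isIntegral_tensor L
  haveI : Algebra.FiniteType L A' := inferInstance
  haveI : IsNoetherianRing A' := Algebra.FiniteType.isNoetherianRing L A'
  have hinj : Function.Injective (algebraMap A A') :=
    Algebra.TensorProduct.includeRight_injective (algebraMap K L).injective
  obtain ⟨q, hqm, hq⟩ := Ideal.exists_ideal_over_maximal_of_isIntegral (S := A') m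
    (by rw [(RingHom.injective_iff_ker_eq_bot _).1 hinj]; exact bot_le)
  haveI := hqm
  letI := Ideal.Quotient.field m
  letI := Ideal.Quotient.field q
  letI : Algebra (A ⧸ m) (A' ⧸ q) := Ideal.Quotient.algebraQuotientOfLEComap hq.ge
  haveI : IsScalarTower A (A ⧸ m) (A' ⧸ q) := IsScalarTower.of_algebraMap_eq fun _ => rfl
  let e : ((A' ⧸ q) ⊗[A ⧸ m] ((A ⧸ m) ⊗[A] Ω[A⁄K])) ≃ₗ[A' ⧸ q] ((A' ⧸ q) ⊗[A'] Ω[A'⁄L]) :=
    ((AlgebraTensorModule.cancelBaseChange A (A ⧸ m) (A' ⧸ q) (A' ⧸ q) Ω[A⁄K]).trans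
      (AlgebraTensorModule.cancelBaseChange A A' (A' ⧸ q) (A' ⧸ q) Ω[A⁄K]).symm).trans
      (AlgebraTensorModule.congr (LinearEquiv.refl (A' ⧸ q) (A' ⧸ q))
        (KaehlerDifferential.tensorKaehlerEquiv K L A A'))
  have h1 : Module.finrank (A ⧸ m) ((A ⧸ m) ⊗[A] Ω[A⁄K]) =
      Module.finrank (A' ⧸ q) ((A' ⧸ q) ⊗[A'] Ω[A'⁄L]) := by
    rw [← e.finrank_eq]
    exact Module.finrank_baseChange.symm
  haveI : Algebra.FiniteType L (A' ⧸ q) :=
    (inferInstance : Algebra.FiniteType L A').of_surjective (Ideal.Quotient.mkₐ L q) Ideal.Quotient.mk_surjective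
  haveI : Module.Finite L (A' ⧸ q) := finite_of_finite_type_of_isJacobsonRing _ _
  haveI : Subsingleton Ω[(A' ⧸ q)⁄L] := KaehlerDifferential.subsingleton_of_surjective L _
    (IsAlgClosed.algebraMap_bijective_of_isIntegral (k := L) (K := A' ⧸ q)).2
  set g := KaehlerDifferential.kerCotangentToTensor L A' (A' ⧸ q)
  have hsurj : Function.Surjective g := fun y => by
    have hy : y ∈ LinearMap.range g := by
      rw [KaehlerDifferential.range_kerCotangentToTensor L A' (A' ⧸ q) Ideal.Quotient.mk_surjective,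
        Submodule.restrictScalars_mem]
      exact LinearMap.mem_ker.2 (Subsingleton.elim _ _)
    exact hy
  have hker : RingHom.ker (algebraMap A' (A' ⧸ q)) = q := Ideal.mk_ker
  let g' : q.Cotangent →ₗ[A'] (A' ⧸ q) ⊗[A'] Ω[A'⁄L] :=
    g ∘ₗ Ideal.mapCotangent q (RingHom.ker (algebraMap A' (A' ⧸ q))) (AlgHom.id A' A')
      (fun x hx => (hker.ge hx : x ∈ RingHom.ker (algebraMap A' (A' ⧸ q))))
  have hsurj' : Function.Surjective g' := fun y => by
    obtain ⟨c, rfl⟩ := hsurj y
    obtain ⟨⟨x, hx⟩, rfl⟩ := Ideal.toCotangent_surjective _ c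
    exact ⟨q.toCotangent ⟨x, hker.le hx⟩, rfl⟩
  let g'' : q.Cotangent →ₗ[A' ⧸ q] (A' ⧸ q) ⊗[A'] Ω[A'⁄L] :=
    { toFun := g'
      map_add' := map_add g'
      map_smul' := fun r x => by
        obtain ⟨r, rfl⟩ := Ideal.Quotient.mk_surjective r
        exact (map_smul g' r x).trans (IsScalarTower.algebraMap_smul (A' ⧸ q) r _).symm }
  haveI : Module.Finite A' q := Module.Finite.iff_fg.2 q.fg_of_isNoetherianRing
  haveI : Module.Finite A' q.Cotangent := Module.Finite.of_surjective q.toCotangent q.toCotangent_surjective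
  haveI : Module.Finite (A' ⧸ q) q.Cotangent := Module.Finite.of_restrictScalars_finite A' _ _
  have h2 := LinearMap.finrank_le_finrank_of_injective (f := (g''.quotKerEquivOfSurjective hsurj').symm.toLinearMap)
    (LinearEquiv.injective _)
  have h2' : Module.finrank (A' ⧸ q) ((A' ⧸ q) ⊗[A'] Ω[A'⁄L]) ≤ Module.finrank (A' ⧸ q) q.Cotangent :=
    h2.trans (Submodule.finrank_quotient_le _)
  have h3 : (Module.finrank (A' ⧸ q) q.Cotangent : ℕ∞) ≤ d + 1 := by
    rw [← H25SmVar.finrank_cotangentSpace_localization A' q]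
    refine (hhyp q).trans (add_le_add ?_ le_rfl)
    have hdim : (q.height : WithBot ℕ∞) ≤ (d : WithBot ℕ∞) :=
      (Ideal.height_le_ringKrullDim_of_ne_top hqm.ne_top).trans (hd ▸ H26Grass.ringKrullDim_le_of_integral)
    exact WithBot.coe_le_coe.1 hdim
  rw [h1]
  exact h2'.trans (by exact_mod_cast h3)

/-- Lifts of generators of the fibre generate up to a unit at the point. -/
theorem exists_generators (d : ℕ) (hd : ringKrullDim A = d)
    (hhyp : ∀ (q : Ideal (TensorProduct K (AlgebraicClosure K) A)) [q.IsPrime],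
      (Module.finrank (ResidueField (Localization.AtPrime q))
          (CotangentSpace (Localization.AtPrime q)) : ℕ∞) ≤ q.height + 1)
    (m : Ideal A) [m.IsMaximal] :
    ∃ f : Fin (d + 1) → Ω[A⁄K], ∃ r : A, r ∉ m ∧ ∀ w, r • w ∈ Submodule.span A (Set.range f) := by
  classical
  letI := Ideal.Quotient.field m
  have hle := finrank_fibre_le d hd hhyp m
  let b := Module.finBasis (A ⧸ m) ((A ⧸ m) ⊗[A] Ω[A⁄K])
  have hsurj : Function.Surjective (TensorProduct.mk A (A ⧸ m) Ω[A⁄K] 1) :=
    TensorProduct.mk_surjective A Ω[A⁄K] (A ⧸ m) Ideal.Quotient.mk_surjective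
  choose g hg using fun i => hsurj (b i)
  let f : Fin (d + 1) → Ω[A⁄K] := fun j => if h : (j : ℕ) < _ then g ⟨j, h⟩ else 0
  refine ⟨f, ?_⟩
  set N := Submodule.span A (Set.range f)
  have hfg : (⊤ : Submodule A (Ω[A⁄K] ⧸ N)).FG := Module.Finite.fg_top
  have hmtop : (⊤ : Submodule A (Ω[A⁄K] ⧸ N)) ≤ m • ⊤ := by
    intro z _
    obtain ⟨w, rfl⟩ := Submodule.Quotient.mk_surjective _ z
    have hmem : TensorProduct.mk A (A ⧸ m) Ω[A⁄K] 1 w ∈ N.map (TensorProduct.mk A (A ⧸ m) Ω[A⁄K] 1) := by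
      rw [Submodule.map_span]
      have hy : TensorProduct.mk A (A ⧸ m) Ω[A⁄K] 1 w ∈
          (Submodule.span (A ⧸ m) (Set.range b)).restrictScalars A := by
        rw [b.span_eq]; trivial
      rw [Submodule.restrictScalars_span A (A ⧸ m) Ideal.Quotient.mk_surjective] at hy
      refine Submodule.span_mono ?_ hy
      rintro _ ⟨i, rfl⟩
      refine ⟨_, ⟨⟨i, lt_of_lt_of_le i.2 hle⟩, rfl⟩, ?_⟩
      simp only [f, dif_pos i.2]
      exact hg i
    obtain ⟨n, hn, hnw⟩ := hmem
    have h0 : TensorProduct.quotTensorEquivQuotSMul Ω[A⁄K] m ((1 : A ⧸ m) ⊗ₜ[A] (w - n)) = 0 := by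
      rw [TensorProduct.tmul_sub]
      rw [show ((1 : A ⧸ m) ⊗ₜ[A] n) = (1 : A ⧸ m) ⊗ₜ[A] w from hnw, sub_self, map_zero]
    rw [show (1 : A ⧸ m) = Ideal.Quotient.mk m 1 from rfl, TensorProduct.quotTensorEquivQuotSMul_mk_tmul,
      one_smul, Submodule.Quotient.mk_eq_zero] at h0
    have h4 := Submodule.mem_map_of_mem (f := N.mkQ) h0
    rw [Submodule.map_smul'', Submodule.map_top, Submodule.range_mkQ, map_sub,
      show N.mkQ n = 0 from (Submodule.Quotient.mk_eq_zero N).2 hn, sub_zero] at h4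
    exact h4
  obtain ⟨r, hr, hr'⟩ := Submodule.exists_sub_one_mem_and_smul_eq_zero_of_fg_of_le_smul m ⊤ hfg hmtop
  refine ⟨r, fun h => ?_, fun w => ?_⟩
  · exact ‹m.IsMaximal›.ne_top ((Ideal.eq_top_iff_one m).2 (by simpa using sub_mem h hr))
  · rw [← Submodule.Quotient.mk_eq_zero, Submodule.Quotient.mk_smul]
    exact hr' _ trivial

theorem exists_finset (d : ℕ) (hd : ringKrullDim A = d)
    (hhyp : ∀ (q : Ideal (TensorProduct K (AlgebraicClosure K) A)) [q.IsPrime],
      (Module.finrank (ResidueField (Localization.AtPrime q))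
          (CotangentSpace (Localization.AtPrime q)) : ℕ∞) ≤ q.height + 1)
    (p : Ideal A) [p.IsPrime] :
    ∃ s : Finset (LocalizedModule p.primeCompl (KaehlerDifferential K A)),
      s.card ≤ d + 1 ∧ Submodule.span (Localization.AtPrime p)
        (s : Set (LocalizedModule p.primeCompl (KaehlerDifferential K A))) = ⊤ := by
  classical
  obtain ⟨m, hm, hpm⟩ := Ideal.exists_le_maximal p ‹p.IsPrime›.ne_top
  obtain ⟨f, r, hr, hf⟩ := exists_generators d hd hhyp m
  refine ⟨Finset.univ.image fun i => LocalizedModule.mkLinearMap p.primeCompl Ω[A⁄K] (f i),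
    Finset.card_image_le.trans_eq (Fintype.card_fin _), ?_⟩
  rw [Finset.coe_image, Finset.coe_univ, Set.image_univ, eq_top_iff]
  intro z _
  obtain ⟨⟨w, s⟩, rfl⟩ := IsLocalizedModule.mk'_surjective p.primeCompl
    (LocalizedModule.mkLinearMap p.primeCompl Ω[A⁄K]) z
  simp only [Function.uncurry_apply_pair]
  have hr' : r ∈ p.primeCompl := fun h => hr (hpm h)
  have h : LocalizedModule.mkLinearMap p.primeCompl Ω[A⁄K] (r • w) ∈ Submodule.span A
      (Set.range fun i => LocalizedModule.mkLinearMap p.primeCompl Ω[A⁄K] (f i)) := by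
    have := Submodule.mem_map_of_mem (f := LocalizedModule.mkLinearMap p.primeCompl Ω[A⁄K]) (hf w)
    rwa [Submodule.map_span, ← Set.range_comp] at this
  have h' := Submodule.span_le_restrictScalars A (Localization.AtPrime p) _ h
  rw [Submodule.restrictScalars_mem] at h'
  have he : IsLocalizedModule.mk' (LocalizedModule.mkLinearMap p.primeCompl Ω[A⁄K]) w s =
      IsLocalization.mk' (Localization.AtPrime p) (1 : A) (⟨r, hr'⟩ * s) •
        LocalizedModule.mkLinearMap p.primeCompl Ω[A⁄K] (r • w) := by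
    rw [← IsLocalizedModule.mk'_one p.primeCompl (LocalizedModule.mkLinearMap p.primeCompl Ω[A⁄K]) (r • w),
      IsLocalizedModule.mk'_smul_mk', mul_one, one_smul]
    exact (IsLocalizedModule.mk'_cancel_left _ w ⟨r, hr'⟩ s).symm
  rw [he]
  exact Submodule.smul_mem _ _ h'

end Groth.Agent.H02CA.KaehlerGen
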