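import Groth.Prelude.Def_ega3
import Groth.Agent.H4Depth.DepthLemmas
import Mathlib

/-!
The cohomological Koszul complex `CohIII.koszulCx`: functoriality and exactness in the module, top
and bottom cohomology, null homotopies, vanishing for weakly regular sequences, depth sensitivity.
-/

namespace Groth.Agent.H02CA.Kosz

universe u

open CategoryTheory CategoryTheory.Limits CochainComplex CochainComplex.HomComplex

variable {A : Type u} [CommRing A]

local notation "Kx" => CohIII.koszulCx

/-- Functoriality of the Koszul complex in the module. -/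
noncomputable def kmap {M N : ModuleCat.{u} A} (g : M ⟶ N) : ∀ fs : List A, Kx M fs ⟶ Kx N fs
  | [] => (HomologicalComplex.single (ModuleCat.{u} A) (ComplexShape.up ℤ) 0).map g
  | f :: fs => mappingCone.map (f • 𝟙 (Kx M fs)) (f • 𝟙 (Kx N fs)) (kmap g fs) (kmap g fs)
      (by simp only [Linear.smul_comp, Linear.comp_smul, Category.id_comp, Category.comp_id])

section Cone

variable {K L : CochainComplex (ModuleCat.{u} A) ℤ} (φ : K ⟶ L)

/-- First component of an element of a cone. -/
noncomputable abbrev pfst (i j : ℤ) (h : i + 1 = j) (x : (mappingCone φ).X i) : K.X j :=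
  (mappingCone.fst φ).1.v i j h x

/-- Second component of an element of a cone. -/
noncomputable abbrev psnd (i : ℤ) (x : (mappingCone φ).X i) : L.X i :=
  (mappingCone.snd φ).v i i (add_zero i) x

/-- The element of a cone with given components. -/
noncomputable def pmk (i j : ℤ) (h : i + 1 = j) (a : K.X j) (b : L.X i) : (mappingCone φ).X i :=
  (mappingCone.inl φ).v j i (by omega) a + (mappingCone.inr φ).f i b

theorem pfst_pmk (i j : ℤ) (h : i + 1 = j) (a : K.X j) (b : L.X i) :
    pfst φ i j h (pmk φ i j h a b) = a := by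
  have h1 := ConcreteCategory.congr_hom (mappingCone.inl_v_fst_v φ j i h) a
  have h2 := ConcreteCategory.congr_hom (mappingCone.inr_f_fst_v φ i j h) b
  simp only [ModuleCat.hom_comp, LinearMap.comp_apply, ConcreteCategory.comp_apply,
    ModuleCat.hom_id, LinearMap.id_apply, id_apply, ModuleCat.hom_zero, LinearMap.zero_apply] at h1 h2
  simp only [pfst, pmk, map_add]
  erw [h1, h2]
  simp

theorem psnd_pmk (i j : ℤ) (h : i + 1 = j) (a : K.X j) (b : L.X i) :
    psnd φ i (pmk φ i j h a b) = b := by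
  have h1 := ConcreteCategory.congr_hom (mappingCone.inl_v_snd_v φ j i (by omega)) a
  have h2 := ConcreteCategory.congr_hom (mappingCone.inr_f_snd_v φ i) b
  simp only [psnd, pmk, map_add]
  erw [h1, h2]
  simp

theorem pmk_eta (i j : ℤ) (h : i + 1 = j) (x : (mappingCone φ).X i) :
    pmk φ i j h (pfst φ i j h x) (psnd φ i x) = x := by
  have h1 := ConcreteCategory.congr_hom (mappingCone.id_X φ i j h) x
  simp only [pfst, psnd, pmk]
  exact h1

theorem pext {i j : ℤ} (h : i + 1 = j) {x y : (mappingCone φ).X i}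
    (h1 : pfst φ i j h x = pfst φ i j h y) (h2 : psnd φ i x = psnd φ i y) : x = y := by
  rw [← pmk_eta φ i j h x, ← pmk_eta φ i j h y, h1, h2]

theorem pfst_d (i j k : ℤ) (hij : i + 1 = j) (hjk : j + 1 = k) (x : (mappingCone φ).X i) :
    pfst φ j k hjk ((mappingCone φ).d i j x) = - K.d j k (pfst φ i j hij x) := by
  have h1 := ConcreteCategory.congr_hom (mappingCone.d_fst_v φ i j k hij hjk) x
  simp only [pfst]
  exact h1

theorem psnd_d (i j : ℤ) (hij : i + 1 = j) (x : (mappingCone φ).X i) :
    psnd φ j ((mappingCone φ).d i j x) = φ.f j (pfst φ i j hij x) + L.d i j (psnd φ i x) := by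
  have h1 := ConcreteCategory.congr_hom (mappingCone.d_snd_v φ i j hij) x
  simp only [pfst, psnd]
  exact h1

theorem pfst_zero (i j : ℤ) (h : i + 1 = j) : pfst φ i j h 0 = 0 := map_zero _

theorem psnd_zero (i : ℤ) : psnd φ i 0 = 0 := map_zero _

theorem pfst_smul (i j : ℤ) (h : i + 1 = j) (c : A) (x : (mappingCone φ).X i) :
    pfst φ i j h (c • x) = c • pfst φ i j h x := map_smul _ c x

theorem psnd_smul (i : ℤ) (c : A) (x : (mappingCone φ).X i) :
    psnd φ i (c • x) = c • psnd φ i x := map_smul _ c x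

theorem psnd_add (i : ℤ) (x y : (mappingCone φ).X i) :
    psnd φ i (x + y) = psnd φ i x + psnd φ i y := map_add _ x y

variable {K' L' : CochainComplex (ModuleCat.{u} A) ℤ} (φ' : K' ⟶ L') (a : K ⟶ K') (b : L ⟶ L')
  (comm : φ ≫ b = a ≫ φ')

theorem pfst_map (i j : ℤ) (h : i + 1 = j) (x : (mappingCone φ).X i) :
    pfst φ' i j h ((mappingCone.map φ φ' a b comm).f i x) = a.f j (pfst φ i j h x) := by
  have e : (mappingCone.map φ φ' a b comm).f i ≫ (mappingCone.fst φ').1.v i j h =
      (mappingCone.fst φ).1.v i j h ≫ a.f j := by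
    simp [mappingCone.ext_from_iff φ j i h, mappingCone.map]
  exact ConcreteCategory.congr_hom e x

theorem psnd_map (i : ℤ) (x : (mappingCone φ).X i) :
    psnd φ' i ((mappingCone.map φ φ' a b comm).f i x) = b.f i (psnd φ i x) := by
  have e : (mappingCone.map φ φ' a b comm).f i ≫ (mappingCone.snd φ').v i i (add_zero i) =
      (mappingCone.snd φ).v i i (add_zero i) ≫ b.f i := by
    simp [mappingCone.ext_from_iff φ (i + 1) i rfl, mappingCone.map]
  exact ConcreteCategory.congr_hom e x

end Cone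

theorem smul_id_f (K : CochainComplex (ModuleCat.{u} A) ℤ) (f : A) (n : ℤ) (x : K.X n) :
    (f • 𝟙 K : K ⟶ K).f n x = f • x := rfl

section KMap

variable {M N P : ModuleCat.{u} A} (g : M ⟶ N) (h : N ⟶ P)

theorem kmap_nil_f_zero (x : (Kx M []).X 0) :
    (kmap g []).f 0 x = (HomologicalComplex.singleObjXSelf (ComplexShape.up ℤ) 0 N).inv
      (g ((HomologicalComplex.singleObjXSelf (ComplexShape.up ℤ) 0 M).hom x)) :=
  ConcreteCategory.congr_hom (HomologicalComplex.single_map_f_self (c := ComplexShape.up ℤ) 0 g) x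

theorem subsingleton_of_isZero {X : ModuleCat.{u} A} (h : IsZero X) : Subsingleton X :=
  ModuleCat.subsingleton_of_isZero h

theorem isZero_X (M : ModuleCat.{u} A) : ∀ (fs : List A) (n : ℤ), (0 < n ∨ n < -(fs.length : ℤ)) →
    IsZero ((Kx M fs).X n)
  | [], n, hn => HomologicalComplex.isZero_single_obj_X _ _ _ _ (by simp at hn; omega)
  | f :: fs, n, hn => by
    simp only [List.length_cons, Nat.cast_add, Nat.cast_one] at hn
    have h1 := subsingleton_of_isZero (isZero_X M fs n (by omega))
    have h2 := subsingleton_of_isZero (isZero_X M fs (n + 1) (by omega))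
    haveI : Subsingleton ((Kx M (f :: fs)).X n) :=
      ⟨fun x y => pext (f • 𝟙 (Kx M fs)) rfl (Subsingleton.elim _ _) (Subsingleton.elim _ _)⟩
    exact ModuleCat.isZero_of_subsingleton _

theorem kmap_injective (hg : Function.Injective g) :
    ∀ (fs : List A) (n : ℤ), Function.Injective ((kmap g fs).f n)
  | [], n => by
    rcases eq_or_ne n 0 with rfl | hn
    · intro x y hxy
      rw [kmap_nil_f_zero, kmap_nil_f_zero] at hxy
      exact ((HomologicalComplex.singleObjXSelf (ComplexShape.up ℤ) 0 M).toLinearEquiv.injective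
        (hg ((HomologicalComplex.singleObjXSelf (ComplexShape.up ℤ) 0 N).symm.toLinearEquiv.injective hxy)))
    · have := subsingleton_of_isZero (isZero_X M [] n (by simp; omega))
      exact Function.injective_of_subsingleton _
  | f :: fs, n => fun x y hxy => by
    refine pext (f • 𝟙 (Kx M fs)) rfl (kmap_injective hg fs (n + 1) ?_) (kmap_injective hg fs n ?_)
    · have := congrArg (pfst (f • 𝟙 (Kx N fs)) n (n + 1) rfl) hxy
      simp only [kmap] at this; erw [pfst_map, pfst_map] at this; exact this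
    · have := congrArg (psnd (f • 𝟙 (Kx N fs)) n) hxy
      simp only [kmap] at this; erw [psnd_map, psnd_map] at this; exact this

theorem kmap_surjective (hg : Function.Surjective g) :
    ∀ (fs : List A) (n : ℤ), Function.Surjective ((kmap g fs).f n)
  | [], n => by
    rcases eq_or_ne n 0 with rfl | hn
    · intro y
      obtain ⟨x, hx⟩ := hg ((HomologicalComplex.singleObjXSelf (ComplexShape.up ℤ) 0 N).hom y)
      refine ⟨(HomologicalComplex.singleObjXSelf (ComplexShape.up ℤ) 0 M).inv x, ?_⟩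
      rw [kmap_nil_f_zero, Iso.inv_hom_id_apply, hx, Iso.hom_inv_id_apply]
    · have := subsingleton_of_isZero (isZero_X N [] n (by simp; omega))
      exact fun y => ⟨0, Subsingleton.elim _ _⟩
  | f :: fs, n => fun y => by
    obtain ⟨a, ha⟩ := kmap_surjective hg fs (n + 1) (pfst (f • 𝟙 (Kx N fs)) n (n + 1) rfl y)
    obtain ⟨b, hb⟩ := kmap_surjective hg fs n (psnd (f • 𝟙 (Kx N fs)) n y)
    refine ⟨pmk (f • 𝟙 (Kx M fs)) n (n + 1) rfl a b, pext (f • 𝟙 (Kx N fs)) rfl ?_ ?_⟩
    · simp only [kmap]; erw [pfst_map, pfst_pmk, ha]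
    · simp only [kmap]; erw [psnd_map, psnd_pmk, hb]

theorem kmap_exact (hgh : Function.Exact g h) :
    ∀ (fs : List A) (n : ℤ), Function.Exact ((kmap g fs).f n) ((kmap h fs).f n)
  | [], n => by
    rcases eq_or_ne n 0 with rfl | hn
    · intro y
      rw [kmap_nil_f_zero]
      constructor
      · intro hy
        have h0 : h ((HomologicalComplex.singleObjXSelf (ComplexShape.up ℤ) 0 N).hom y) = 0 := by
          apply (HomologicalComplex.singleObjXSelf (ComplexShape.up ℤ) 0 P).symm.toLinearEquiv.injective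
          exact hy.trans (map_zero _).symm
        obtain ⟨x, hx⟩ := (hgh _).mp h0
        refine ⟨(HomologicalComplex.singleObjXSelf (ComplexShape.up ℤ) 0 M).inv x, ?_⟩
        rw [kmap_nil_f_zero, Iso.inv_hom_id_apply, hx, Iso.hom_inv_id_apply]
      · rintro ⟨x, rfl⟩
        rw [kmap_nil_f_zero, Iso.inv_hom_id_apply, (hgh _).mpr ⟨_, rfl⟩, map_zero]
        rfl
    · have := subsingleton_of_isZero (isZero_X N [] n (by simp; omega))
      have := subsingleton_of_isZero (isZero_X P [] n (by simp; omega))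
      exact fun y => iff_of_true (Subsingleton.elim _ _) ⟨0, Subsingleton.elim _ _⟩
  | f :: fs, n => fun y => by
    have e1 := kmap_exact hgh fs (n + 1) (pfst (f • 𝟙 (Kx N fs)) n (n + 1) rfl y)
    have e2 := kmap_exact hgh fs n (psnd (f • 𝟙 (Kx N fs)) n y)
    constructor
    · intro hy
      have hy1 := congrArg (pfst (f • 𝟙 (Kx P fs)) n (n + 1) rfl) hy
      have hy2 := congrArg (psnd (f • 𝟙 (Kx P fs)) n) hy
      simp only [kmap] at hy1; erw [pfst_map, pfst_zero] at hy1
      simp only [kmap] at hy2; erw [psnd_map, psnd_zero] at hy2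
      obtain ⟨a, ha⟩ := e1.mp hy1
      obtain ⟨b, hb⟩ := e2.mp hy2
      refine ⟨pmk (f • 𝟙 (Kx M fs)) n (n + 1) rfl a b, pext (f • 𝟙 (Kx N fs)) rfl ?_ ?_⟩
      · simp only [kmap]; erw [pfst_map, pfst_pmk, ha]
      · simp only [kmap]; erw [psnd_map, psnd_pmk, hb]
    · rintro ⟨x, rfl⟩
      refine pext (f • 𝟙 (Kx P fs)) (i := n) (j := n + 1) rfl ?_ ?_
      · simp only [kmap]; erw [pfst_map, pfst_zero]
        exact e1.mpr ⟨_, (pfst_map (f • 𝟙 (Kx M fs)) _ _ _ _ n (n + 1) rfl x).symm⟩
      · simp only [kmap]; erw [psnd_map, psnd_zero]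
        exact e2.mpr ⟨_, (psnd_map (f • 𝟙 (Kx M fs)) _ _ _ _ n x).symm⟩

theorem kmap_smul_id (M : ModuleCat.{u} A) (c : A) :
    ∀ fs : List A, kmap (c • 𝟙 M) fs = c • 𝟙 (Kx M fs)
  | [] => by
    ext n : 1
    rcases eq_or_ne n 0 with rfl | hn
    · ext x
      rw [kmap_nil_f_zero, smul_id_f]
      change (HomologicalComplex.singleObjXSelf (ComplexShape.up ℤ) 0 M).inv
        (c • (HomologicalComplex.singleObjXSelf (ComplexShape.up ℤ) 0 M).hom x) = _
      rw [map_smul, Iso.hom_inv_id_apply]
      rfl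
    · exact (isZero_X M [] n (by simp; omega)).eq_of_src _ _
  | f :: fs => by
    ext n x
    refine pext (f • 𝟙 (Kx M fs)) (i := n) (j := n + 1) rfl ?_ ?_
    · simp only [kmap]; erw [pfst_map, kmap_smul_id M c fs, smul_id_f, smul_id_f]; exact (pfst_smul _ _ _ _ c x).symm
    · simp only [kmap]; erw [psnd_map, kmap_smul_id M c fs, smul_id_f, smul_id_f]; exact (psnd_smul _ _ c x).symm

theorem kmap_comp_zero (hgh : Function.Exact g h) (fs : List A) : kmap g fs ≫ kmap h fs = 0 := by
  ext n x
  exact (kmap_exact g h hgh fs n _).mpr ⟨x, rfl⟩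

/-- The short complex of Koszul complexes of an exact pair. -/
noncomputable def kSC (hgh : Function.Exact g h) (fs : List A) :
    ShortComplex (CochainComplex (ModuleCat.{u} A) ℤ) :=
  ShortComplex.mk (kmap g fs) (kmap h fs) (kmap_comp_zero g h hgh fs)

theorem kSC_shortExact (hgh : Function.Exact g h) (hg : Function.Injective g)
    (hh : Function.Surjective h) (fs : List A) : (kSC g h hgh fs).ShortExact := by
  refine HomologicalComplex.shortExact_of_degreewise_shortExact _ fun n =>
    ShortComplex.ShortExact.mk' ?_ ?_ ?_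
  · rw [ShortComplex.moduleCat_exact_iff]
    exact fun x hx => (kmap_exact g h hgh fs n x).mp hx
  · exact (ModuleCat.mono_iff_injective _).mpr (kmap_injective g hg fs n)
  · exact (ModuleCat.epi_iff_surjective _).mpr (kmap_surjective h hh fs n)

end KMap

section Quot

variable (M : Type u) [AddCommGroup M] [Module A M] (x : A)

/-- The quotient map `M ⟶ M/xM`. -/
noncomputable abbrev quotMap : ModuleCat.of A M ⟶ ModuleCat.of A (QuotSMulTop x M) :=
  ModuleCat.ofHom (Submodule.mkQ _)

theorem exact_quotMap : Function.Exact (x • 𝟙 (ModuleCat.of A M) : _ ⟶ _) (quotMap M x) :=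
  LinearMap.exact_lsmul_mkQ_smul_top M x

/-- The short exact sequence of Koszul complexes attached to a regular element. -/
noncomputable abbrev quotSC (fs : List A) : ShortComplex (CochainComplex (ModuleCat.{u} A) ℤ) :=
  kSC _ _ (exact_quotMap M x) fs

theorem quotSC_shortExact (hx : IsSMulRegular M x) (fs : List A) : (quotSC M x fs).ShortExact :=
  kSC_shortExact _ _ (exact_quotMap M x) hx (Submodule.mkQ_surjective _) fs

theorem isZero_homology_cons (hx : IsSMulRegular M x) (fs : List A) (n : ℤ)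
    (h : IsZero ((Kx (ModuleCat.of A (QuotSMulTop x M)) fs).homology n)) :
    IsZero ((Kx (ModuleCat.of A M) (x :: fs)).homology n) := by
  haveI := mappingCone.quasiIso_descShortComplex (quotSC_shortExact M x hx fs)
  have e := asIso (HomologicalComplex.homologyMap
    (mappingCone.descShortComplex (quotSC M x fs)) n)
  refine IsZero.of_iso h (Iso.trans (eqToIso ?_) e)
  change (mappingCone (x • 𝟙 (Kx (ModuleCat.of A M) fs))).homology n =
    (mappingCone (kmap (x • 𝟙 (ModuleCat.of A M)) fs)).homology n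
  rw [kmap_smul_id]

end Quot

/-- Vanishing of Koszul cohomology for weakly regular sequences. -/
theorem isZero_homology_of_weaklyRegular : ∀ (fs : List A) (M : Type u) [AddCommGroup M] [Module A M],
    RingTheory.Sequence.IsWeaklyRegular M fs → ∀ n : ℤ, n ≠ 0 →
      IsZero ((Kx (ModuleCat.of A M) fs).homology n)
  | [], M, _, _, _, n, hn =>
    (HomologicalComplex.exactAt_iff_isZero_homology _ _).mp
      (HomologicalComplex.ExactAt.of_isZero (isZero_X _ [] n (by simp; omega)))
  | f :: fs, M, _, _, h, n, hn => by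
    rw [RingTheory.Sequence.isWeaklyRegular_cons_iff] at h
    exact isZero_homology_cons M f h.1 fs n (isZero_homology_of_weaklyRegular fs _ h.2 n hn)

theorem ofHom_smul_id (K : CochainComplex (ModuleCat.{u} A) ℤ) (a : A) :
    Cochain.ofHom (a • 𝟙 K) = a • Cochain.ofHom (𝟙 K) := by
  ext p; simp

theorem ofHom_smul' {K L : CochainComplex (ModuleCat.{u} A) ℤ} (a : A) (g : K ⟶ L) :
    Cochain.ofHom (a • g) = a • Cochain.ofHom g := by
  ext p; simp

/-- `a • 𝟙` is null-homotopic. -/
def Null (K : CochainComplex (ModuleCat.{u} A) ℤ) (a : A) : Prop :=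
  ∃ z : Cochain K K (-1), δ (-1) 0 z = a • Cochain.ofHom (𝟙 K)

theorem null_zero (K : CochainComplex (ModuleCat.{u} A) ℤ) : Null K 0 := ⟨0, by simp⟩

theorem Null.add {K : CochainComplex (ModuleCat.{u} A) ℤ} {a b : A} :
    Null K a → Null K b → Null K (a + b) := by
  rintro ⟨z, hz⟩ ⟨w, hw⟩
  exact ⟨z + w, by rw [δ_add, hz, hw, add_smul]⟩

theorem Null.mul {K : CochainComplex (ModuleCat.{u} A) ℤ} {a : A} (c : A) :
    Null K a → Null K (c * a) := by
  rintro ⟨z, hz⟩
  exact ⟨c • z, by rw [δ_smul, hz, mul_smul]⟩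

section NullCone

variable (K : CochainComplex (ModuleCat.{u} A) ℤ) (f : A)

theorem null_cone_self : Null (mappingCone (f • 𝟙 K)) f := by
  refine ⟨(mappingCone.snd (f • 𝟙 K)).comp (mappingCone.inl (f • 𝟙 K)) (zero_add (-1)), ?_⟩
  rw [δ_zero_cochain_comp _ _ 0 (neg_add_cancel 1), mappingCone.δ_inl, mappingCone.δ_snd,
    ← mappingCone.id]
  simp [ofHom_smul', Cochain.smul_comp, Cochain.comp_smul, smul_add]
  abel

theorem null_cone {g : A} (h : Null K g) : Null (mappingCone (f • 𝟙 K)) g := by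
  obtain ⟨z, hz⟩ := h
  refine ⟨-((mappingCone.fst (f • 𝟙 K)).1.comp (z.comp (mappingCone.inl (f • 𝟙 K))
      (show (-1) + (-1) = (-2 : ℤ) by norm_num)) (show (1 : ℤ) + (-2) = -1 by norm_num)) +
    (mappingCone.snd (f • 𝟙 K)).comp (z.comp (Cochain.ofHom (mappingCone.inr (f • 𝟙 K)))
      (add_zero (-1))) (zero_add (-1)), ?_⟩
  rw [δ_add, δ_neg, δ_comp _ _ _ 2 (-1) 0 (neg_add_cancel 1) (by norm_num) (by norm_num),
    Cocycle.δ_eq_zero, δ_comp _ _ _ 0 0 (-1) (by norm_num) (by norm_num) (by norm_num),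
    mappingCone.δ_inl, hz, δ_zero_cochain_comp _ _ 0 (neg_add_cancel 1), mappingCone.δ_snd,
    δ_comp_ofHom, hz, ← mappingCone.id]
  simp [ofHom_smul', Cochain.smul_comp, Cochain.comp_smul, Cochain.neg_comp,
    Cochain.comp_neg, smul_add, Cochain.comp_add, Cochain.add_comp,
    Cochain.comp_assoc_of_second_is_zero_cochain]
  abel

end NullCone

theorem null_of_mem_span (M : ModuleCat.{u} A) :
    ∀ (fs : List A) {a : A}, a ∈ Ideal.span {x | x ∈ fs} → Null (Kx M fs) a := by
  have hmem : ∀ (fs : List A), ∀ x ∈ fs, Null (Kx M fs) x := by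
    intro fs
    induction fs with
    | nil => simp
    | cons f fs ih =>
      intro x hx
      rcases List.mem_cons.mp hx with rfl | hx
      · exact null_cone_self _ _
      · exact null_cone _ _ (ih x hx)
  intro fs a ha
  induction ha using Submodule.span_induction with
  | mem x hx => exact hmem fs x hx
  | zero => exact null_zero _
  | add x y _ _ hx hy => exact hx.add hy
  | smul c x _ hx => exact hx.mul c

theorem nonempty_homotopy (M : ModuleCat.{u} A) {fs : List A} {a : A}
    (ha : a ∈ Ideal.span {x | x ∈ fs}) : Nonempty (Homotopy (a • 𝟙 (Kx M fs)) 0) := by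
  obtain ⟨z, hz⟩ := null_of_mem_span M fs ha
  exact ⟨(Cochain.equivHomotopy _ _).symm ⟨z, by simp [hz, ofHom_smul']⟩⟩

theorem homologyMap_smul_eq_zero (M : ModuleCat.{u} A) {fs : List A} {a : A}
    (ha : a ∈ Ideal.span {x | x ∈ fs}) (n : ℤ) :
    HomologicalComplex.homologyMap (a • 𝟙 (Kx M fs)) n = 0 := by
  obtain ⟨h⟩ := nonempty_homotopy M ha
  rw [h.homologyMap_eq, HomologicalComplex.homologyMap_zero]

theorem isZero_homology_of_span_eq_top (M : ModuleCat.{u} A) {fs : List A}
    (h : Ideal.span {x | x ∈ fs} = ⊤) (n : ℤ) : IsZero ((Kx M fs).homology n) := by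
  have := homologyMap_smul_eq_zero M (a := (1 : A)) (fs := fs) (h ▸ Submodule.mem_top) n
  rw [one_smul, HomologicalComplex.homologyMap_id] at this
  exact (IsZero.iff_id_eq_zero _).mpr this

/-- The top term of the Koszul complex is the module, the image of the differential is `IM`. -/
theorem exists_top (M : ModuleCat.{u} A) : ∀ fs : List A, ∃ ι : M ≃ₗ[A] (Kx M fs).X 0,
    ∀ m : M, ι m ∈ LinearMap.range ((Kx M fs).d (-1) 0).hom ↔
      m ∈ Ideal.ofList fs • (⊤ : Submodule A M)
  | [] => by
    refine ⟨(HomologicalComplex.singleObjXSelf (ComplexShape.up ℤ) 0 M).symm.toLinearEquiv, fun m => ?_⟩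
    have := subsingleton_of_isZero (isZero_X M [] (-1) (by simp))
    rw [Ideal.ofList_nil, Submodule.bot_smul, Submodule.mem_bot]
    constructor
    · rintro ⟨y, hy⟩
      rw [Subsingleton.elim y 0, map_zero] at hy
      exact (LinearEquiv.map_eq_zero_iff _).mp hy.symm
    · rintro rfl
      simp
  | f :: fs => by
    obtain ⟨ι, hι⟩ := exists_top M fs
    have h1 := subsingleton_of_isZero (isZero_X M fs 1 (by simp))
    let e : (Kx M fs).X 0 ≃ₗ[A] (Kx M (f :: fs)).X 0 :=
      { toFun := fun b => pmk (f • 𝟙 (Kx M fs)) 0 1 rfl 0 b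
        map_add' := fun b c => pext (f • 𝟙 (Kx M fs)) (j := 1) rfl (Subsingleton.elim _ _)
          (by erw [psnd_pmk, psnd_add, psnd_pmk, psnd_pmk])
        map_smul' := fun c b => pext (f • 𝟙 (Kx M fs)) (j := 1) rfl (Subsingleton.elim _ _)
          (by rw [RingHom.id_apply]; erw [psnd_pmk, psnd_smul, psnd_pmk])
        invFun := psnd (f • 𝟙 (Kx M fs)) 0
        left_inv := fun b => psnd_pmk _ _ _ _ _ _
        right_inv := fun x => pext (f • 𝟙 (Kx M fs)) (j := 1) rfl (Subsingleton.elim _ _)
          (psnd_pmk _ _ _ _ _ _) }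
    refine ⟨ι.trans e, fun m => ?_⟩
    rw [Ideal.ofList_cons, Submodule.sup_smul, Submodule.ideal_span_singleton_smul,
      Submodule.mem_sup]
    constructor
    · rintro ⟨x, hx⟩
      have hx' : psnd (f • 𝟙 (Kx M fs)) 0 ((Kx M (f :: fs)).d (-1) 0 x) = ι m := by
        erw [hx]; exact e.left_inv _
      erw [psnd_d _ (-1) 0 (neg_add_cancel 1)] at hx'
      obtain ⟨m', hm'⟩ := ι.surjective (pfst (f • 𝟙 (Kx M fs)) (-1) 0 (neg_add_cancel 1) x)
      refine ⟨f • m', Submodule.smul_mem_pointwise_smul _ _ _ Submodule.mem_top, m - f • m',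
        (hι _).mp ?_, add_sub_cancel _ _⟩
      refine ⟨psnd (f • 𝟙 (Kx M fs)) (-1) x, ?_⟩
      rw [map_sub, map_smul, hm', ← hx', smul_id_f, add_sub_cancel_left]
    · rintro ⟨y, hy, z, hz, rfl⟩
      obtain ⟨m', -, rfl⟩ := (Submodule.mem_smul_pointwise_iff_exists _ _ _).mp hy
      obtain ⟨w, hw⟩ := (hι z).mpr hz
      refine ⟨pmk (f • 𝟙 (Kx M fs)) (-1) 0 (neg_add_cancel 1) (ι m') w, ?_⟩
      apply e.symm.injective
      refine (psnd_d (f • 𝟙 (Kx M fs)) (-1) 0 (neg_add_cancel 1) _).trans ?_
      rw [pfst_pmk, psnd_pmk, smul_id_f]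
      refine Eq.trans ?_ (e.symm_apply_apply _).symm
      rw [map_add, map_smul]
      exact congrArg (f • ι m' + ·) hw

theorem nonempty_homology_top (M : ModuleCat.{u} A) (fs : List A) :
    Nonempty ((Kx M fs).homology (0 : ℤ) ≃ₗ[A] (M ⧸ (Ideal.ofList fs • (⊤ : Submodule A M)))) := by
  obtain ⟨ι, hι⟩ := exists_top M fs
  have h1 := subsingleton_of_isZero (isZero_X M fs 1 (by simp))
  let S := (Kx M fs).sc' (-1) 0 1
  have e1 := ((Kx M fs).homologyIsoSc' (-1) 0 1 (by simp) (by simp)).trans S.moduleCatHomologyIso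
  have hker : LinearMap.ker S.g.hom = ⊤ := eq_top_iff.mpr fun x _ => Subsingleton.elim (α := (Kx M fs).X 1) _ _
  let e2 : LinearMap.ker S.g.hom ≃ₗ[A] M :=
    ((LinearEquiv.ofEq _ _ hker).trans Submodule.topEquiv).trans ι.symm
  refine ⟨e1.toLinearEquiv.trans (Submodule.Quotient.equiv _ _ e2 ?_)⟩
  ext m
  rw [← hι m]
  constructor
  · rintro ⟨_, ⟨y, rfl⟩, rfl⟩
    exact ⟨y, (ι.apply_symm_apply _).symm⟩
  · rintro ⟨y, hy⟩
    refine ⟨_, ⟨y, rfl⟩, ?_⟩
    exact (congrArg ι.symm hy).trans (ι.symm_apply_apply m)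

/-- The bottom term: an element killed by all the `fs` gives a cycle. -/
theorem exists_bottom_cycle (M : ModuleCat.{u} A) (m : M) (hm0 : m ≠ 0) :
    ∀ fs : List A, (∀ f ∈ fs, f • m = 0) → ∀ n : ℤ, n = -(fs.length : ℤ) →
      ∃ c : (Kx M fs).X n, c ≠ 0 ∧ (Kx M fs).d n (n + 1) c = 0 ∧ (∀ f : A, f • m = 0 → f • c = 0)
  | [], _, n, hn => by
    obtain rfl : n = 0 := by simpa using hn
    refine ⟨(HomologicalComplex.singleObjXSelf (ComplexShape.up ℤ) 0 M).inv m, ?_, ?_, ?_⟩
    · intro h
      exact hm0 ((HomologicalComplex.singleObjXSelf (ComplexShape.up ℤ) 0 M).symm.toLinearEquiv.injective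
        (h.trans (map_zero _).symm))
    · have := subsingleton_of_isZero (isZero_X M [] (0 + 1) (by simp))
      exact Subsingleton.elim _ _
    · intro f hf
      refine (map_smul (HomologicalComplex.singleObjXSelf (ComplexShape.up ℤ) 0 M).inv.hom f m).symm.trans ?_
      rw [hf]
      exact map_zero _
  | f :: fs, h, n, hn => by
    obtain ⟨c, hc0, hdc, hc⟩ := exists_bottom_cycle M m hm0 fs
      (fun g hg => h g (List.mem_cons_of_mem _ hg)) (n + 1) (by simp at hn; omega)
    refine ⟨pmk (f • 𝟙 (Kx M fs)) n (n + 1) rfl c 0, ?_, ?_, ?_⟩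
    · intro h0
      apply hc0
      have := congrArg (pfst (f • 𝟙 (Kx M fs)) n (n + 1) rfl) h0
      rw [pfst_pmk] at this
      exact this.trans (pfst_zero _ _ _ _)
    · refine pext (f • 𝟙 (Kx M fs)) (j := n + 1 + 1) rfl ?_ ?_
      · refine (pfst_d (f • 𝟙 (Kx M fs)) n (n + 1) (n + 1 + 1) rfl rfl _).trans ?_
        rw [pfst_pmk, hdc, neg_zero]
        exact (pfst_zero _ _ _ _).symm
      · refine (psnd_d (f • 𝟙 (Kx M fs)) n (n + 1) rfl _).trans ?_
        rw [pfst_pmk, psnd_pmk, map_zero, add_zero, smul_id_f, hc f (h f (List.mem_cons_self ..))]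
        exact (psnd_zero _ _).symm
    · intro g hg
      refine pext (f • 𝟙 (Kx M fs)) (i := n) (j := n + 1) rfl ?_ ?_
      · refine (pfst_smul _ _ _ _ g _).trans ?_
        rw [pfst_pmk, hc g hg]
        exact (pfst_zero _ _ _ _).symm
      · refine (psnd_smul _ _ g _).trans ?_
        rw [psnd_pmk, smul_zero]
        exact (psnd_zero _ _).symm

theorem not_isZero_homology_bottom (M : ModuleCat.{u} A) {m : M} (hm0 : m ≠ 0) (fs : List A)
    (h : ∀ f ∈ fs, f • m = 0) : ¬ IsZero ((Kx M fs).homology (-(fs.length : ℤ))) := by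
  intro hz
  obtain ⟨c, hc0, hdc, -⟩ := exists_bottom_cycle M m hm0 fs h _ rfl
  have hex := (HomologicalComplex.exactAt_iff_isZero_homology _ _).mpr hz
  rw [HomologicalComplex.exactAt_iff' _ (-(fs.length : ℤ) - 1) _ (-(fs.length : ℤ) + 1) (by simp)
    (by simp), ShortComplex.moduleCat_exact_iff] at hex
  obtain ⟨y, hy⟩ := hex c hdc
  have := subsingleton_of_isZero (isZero_X M fs (-(fs.length : ℤ) - 1) (by omega))
  apply hc0
  rw [← hy, Subsingleton.elim (α := (Kx M fs).X (-(fs.length : ℤ) - 1)) y 0]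
  exact map_zero _

/-- Vanishing below a weakly regular sequence contained in the ideal. -/
theorem isZero_homology_of_lt (fs : List A) :
    ∀ (rs : List A) (M : Type u) [AddCommGroup M] [Module A M],
      RingTheory.Sequence.IsWeaklyRegular M rs → (∀ r ∈ rs, r ∈ Ideal.span {x | x ∈ fs}) →
      ∀ n : ℤ, n < (rs.length : ℤ) - fs.length → IsZero ((Kx (ModuleCat.of A M) fs).homology n)
  | [], M, _, _, _, _, n, hn =>
    (HomologicalComplex.exactAt_iff_isZero_homology _ _).mp
      (HomologicalComplex.ExactAt.of_isZero (isZero_X _ fs n (by simp at hn; omega)))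
  | x :: rs, M, _, _, h, hmem, n, hn => by
    rw [RingTheory.Sequence.isWeaklyRegular_cons_iff] at h
    have hS := quotSC_shortExact M x h.1 fs
    have hQ : IsZero ((quotSC M x fs).X₃.homology (n - 1)) :=
      isZero_homology_of_lt fs rs _ h.2 (fun r hr => hmem r (List.mem_cons_of_mem _ hr)) (n - 1)
        (by simp only [List.length_cons, Nat.cast_add, Nat.cast_one] at hn; omega)
    have hf : HomologicalComplex.homologyMap (quotSC M x fs).f n = 0 := by
      change HomologicalComplex.homologyMap (kmap (x • 𝟙 (ModuleCat.of A M)) fs) n = 0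
      rw [kmap_smul_id]
      exact homologyMap_smul_eq_zero _ (hmem x (List.mem_cons_self ..)) n
    have hex := hS.homology_exact₁ (n - 1) n (by simp)
    have hepi : Epi (hS.δ (n - 1) n (by simp)) := hex.epi_f hf
    exact @IsZero.of_epi _ _ _ _ _ (hS.δ (n - 1) n (by simp)) hepi hQ

theorem homology_quot_injective (M : Type u) [AddCommGroup M] [Module A M] {x : A}
    (hx : IsSMulRegular M x) {fs : List A} (hmem : x ∈ Ideal.span {a | a ∈ fs}) (n : ℤ)
    (hM : IsZero ((Kx (ModuleCat.of A M) fs).homology n))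
    (h : IsZero ((Kx (ModuleCat.of A M) fs).homology (n + 1))) :
    IsZero ((Kx (ModuleCat.of A (QuotSMulTop x M)) fs).homology n) := by
  have hS := quotSC_shortExact M x hx fs
  exact ShortComplex.Exact.isZero_of_both_zeros (hS.homology_exact₃ n (n + 1) (by simp))
    (hM.eq_of_src _ _) (h.eq_of_tgt _ _)

/-- Nonvanishing at the depth. -/
theorem not_isZero_homology_idealDepth [IsNoetherianRing A] (fs : List A) :
    ∀ (r : ℕ) (M : Type u) [AddCommGroup M] [Module A M] [Module.Finite A M],
      Ideal.span {x | x ∈ fs} • (⊤ : Submodule A M) ≠ ⊤ →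
      LocCoh.idealDepth (Ideal.span {x | x ∈ fs}) M = r →
      ¬ IsZero ((Kx (ModuleCat.of A M) fs).homology ((r : ℤ) - fs.length))
  | 0, M, _, _, _, hIM, hd => by
    obtain ⟨p, hp, hle⟩ :=
      (Groth.Agent.H4Depth.idealDepth_eq_zero_iff_exists_associatedPrime hIM).mp hd
    obtain ⟨hprime, m, hm⟩ := isAssociatedPrime_iff.mp hp
    have hm0 : m ≠ 0 := by
      rintro rfl
      exact hprime.ne_top (by rw [hm, eq_top_iff]; intro a _; simp [Submodule.mem_colon_singleton])
    have h := not_isZero_homology_bottom (ModuleCat.of A M) hm0 fs fun f hf => by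
      have := hle (Ideal.subset_span hf)
      rw [hm, Submodule.mem_colon_singleton, Submodule.mem_bot] at this
      exact this
    simpa using h
  | r + 1, M, _, _, _, hIM, hd => by
    obtain ⟨rs, hlen, hmem, hreg⟩ :=
      (Groth.Agent.H4Depth.le_idealDepth_iff_exists hIM).mp hd.ge
    obtain ⟨x, rs, rfl⟩ := List.exists_cons_of_ne_nil
      (fun h => by simp [h] at hlen : rs ≠ [])
    rw [RingTheory.Sequence.isWeaklyRegular_cons_iff] at hreg
    have hx := hmem x (List.mem_cons_self ..)
    have hdQ : LocCoh.idealDepth (Ideal.span {a | a ∈ fs}) (QuotSMulTop x M) = r := by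
      have := Groth.Agent.H4Depth.idealDepth_quotSMulTop_add_one hx hreg.1
      rw [hd, Nat.cast_add, Nat.cast_one] at this
      exact WithTop.add_right_cancel ENat.one_ne_top this
    have hQ : Ideal.span {a | a ∈ fs} • (⊤ : Submodule A (QuotSMulTop x M)) ≠ ⊤ := by
      intro h
      rw [Groth.Agent.H4Depth.idealDepth_eq_top h] at hdQ
      exact ENat.top_ne_natCast r hdQ
    have hz := not_isZero_homology_idealDepth fs r (QuotSMulTop x M) hQ hdQ
    intro hzero
    refine hz (homology_quot_injective M hreg.1 hx _ ?_ (by convert hzero using 2; push_cast; ring))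
    refine isZero_homology_of_lt fs (x :: rs) M
      ((RingTheory.Sequence.isWeaklyRegular_cons_iff M x rs).mpr hreg) hmem _ ?_
    rw [hlen]; push_cast; omega

theorem idealDepth_le_length [IsNoetherianRing A] [IsLocalRing A] (M : Type u) [AddCommGroup M]
    [Module A M] [Module.Finite A M] [Nontrivial M] {fs : List A}
    (hfs : ∀ x ∈ fs, x ∈ IsLocalRing.maximalIdeal A) :
    Ideal.span {x | x ∈ fs} • (⊤ : Submodule A M) ≠ ⊤ ∧
      LocCoh.idealDepth (Ideal.span {x | x ∈ fs}) M ≤ fs.length := by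
  have hIM : Ideal.span {x | x ∈ fs} • (⊤ : Submodule A M) ≠ ⊤ := by
    intro h
    have h2 := Submodule.eq_bot_of_le_smul_of_le_jacobson_bot (Ideal.span {x | x ∈ fs})
      (⊤ : Submodule A M) Module.Finite.fg_top h.ge
      ((Ideal.span_le.mpr fun x hx => hfs x hx).trans (IsLocalRing.maximalIdeal_le_jacobson ⊥))
    exact top_ne_bot h2
  refine ⟨hIM, ?_⟩
  by_contra hcon
  rw [not_le, ← ENat.add_one_le_iff (ENat.natCast_ne_top _)] at hcon
  obtain ⟨rs, hlen, hmem, hreg⟩ := (Groth.Agent.H4Depth.le_idealDepth_iff_exists hIM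
    (n := fs.length + 1)).mp (by exact_mod_cast hcon)
  have h0 := isZero_homology_of_lt fs rs M hreg hmem 0 (by rw [hlen]; push_cast; omega)
  obtain ⟨e⟩ := nonempty_homology_top (ModuleCat.of A M) fs
  haveI := subsingleton_of_isZero h0
  haveI := e.symm.toEquiv.subsingleton
  refine hIM ?_
  have := Submodule.Quotient.subsingleton_iff.mp ‹Subsingleton (M ⧸ Ideal.ofList fs • (⊤ : Submodule A M))›
  exact this

end Groth.Agent.H02CA.Kosz
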