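import Groth.Agent.H02CA.Kosz
import Groth.Agent.H4Cech.Map
import Groth.Agent.H22Alg.HomologyElt
import Mathlib.Algebra.Colimit.Module

/-!
# The colimit of Koszul cohomology of powers is extended Čech cohomology

`toCech fs n : K(fs^n; M) → extCech M fs` in degrees `p - r → p`; it commutes with the differentials
up to sign, with the transition maps on the nose, is eventually surjective and eventually injective.
-/

set_option autoImplicit false

namespace Groth.Agent.H02CA.KEC

universe u

open CategoryTheory CategoryTheory.Limits CochainComplex Kosz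
open Groth.Agent.H4Cech (fC sC C_ext lmap lmap_mk kl exists_lmk)

variable {A : Type u} [CommRing A] (M : ModuleCat.{u} A)

local notation "Kx" => CohIII.koszulCx
local notation "Ec" => DerCA.extCech

/-- `f ^ n` as an element of `powers f`. -/
abbrev pw (f : A) (n : ℕ) : Submonoid.powers f := ⟨f ^ n, n, rfl⟩

theorem len_fst {f : A} {fs : List A} {i j p : ℤ} (h : i + (f :: fs).length = p) (hj : i + 1 = j) :
    j + fs.length = p := by simp only [List.length_cons, Nat.cast_add, Nat.cast_one] at h; omega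

theorem len_snd {f : A} {fs : List A} {i p q : ℤ} (h : i + (f :: fs).length = p) (hq : q + 1 = p) :
    i + fs.length = q := by simp only [List.length_cons, Nat.cast_add, Nat.cast_one] at h; omega

/-- `x ↦ x / f ^ n`. -/
noncomputable def divPow (f : A) (n : ℕ) (N : Type u) [AddCommGroup N] [Module A N] :
    N →ₗ[A] LocalizedModule (Submonoid.powers f) N where
  toFun x := LocalizedModule.mk x (pw f n)
  map_add' x y := by
    rw [LocalizedModule.mk_add_mk, LocalizedModule.mk_eq]
    exact ⟨1, by simp only [Submonoid.smul_def, smul_add, smul_smul, Submonoid.coe_mul, Submonoid.coe_one, one_mul]⟩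
  map_smul' c x := by rw [RingHom.id_apply, LocalizedModule.smul'_mk]

theorem divPow_apply (f : A) (n : ℕ) {N : Type u} [AddCommGroup N] [Module A N] (x : N) :
    divPow f n N x = LocalizedModule.mk x (pw f n) := rfl

theorem mk_pow_smul (f : A) (n m : ℕ) (h : n ≤ m) {N : Type u} [AddCommGroup N] [Module A N]
    (x : N) :
    LocalizedModule.mk (f ^ (m - n) • x) (pw f m) =
      LocalizedModule.mk x (pw f n) := by
  rw [LocalizedModule.mk_eq]
  exact ⟨1, by simp only [Submonoid.smul_def, Submonoid.coe_one, one_smul, smul_smul, ← pow_add,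
    Nat.add_sub_cancel' h]⟩

/-- The cone the Koszul complex of powers of `f :: fs` is. -/
noncomputable abbrev φn (f : A) (fs : List A) (n : ℕ) :
    Kx M (fs.map (· ^ n)) ⟶ Kx M (fs.map (· ^ n)) := f ^ n • 𝟙 (Kx M (fs.map (· ^ n)))

/-- An element of the Koszul complex of `f :: fs` with given components. -/
noncomputable def kmk (f : A) (fs : List A) (n : ℕ) (i j : ℤ) (hij : i + 1 = j)
    (a : (Kx M (fs.map (· ^ n))).X j) (b : (Kx M (fs.map (· ^ n))).X i) :
    (Kx M ((f :: fs).map (· ^ n))).X i :=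
  pmk (φn M f fs n) i j hij a b

theorem pfst_kmk (f : A) (fs : List A) (n : ℕ) (i j : ℤ) (hij : i + 1 = j)
    (a : (Kx M (fs.map (· ^ n))).X j) (b : (Kx M (fs.map (· ^ n))).X i) :
    pfst (φn M f fs n) i j hij (kmk M f fs n i j hij a b) = a := pfst_pmk _ i j hij a b

theorem psnd_kmk (f : A) (fs : List A) (n : ℕ) (i j : ℤ) (hij : i + 1 = j)
    (a : (Kx M (fs.map (· ^ n))).X j) (b : (Kx M (fs.map (· ^ n))).X i) :
    psnd (φn M f fs n) i (kmk M f fs n i j hij a b) = b := psnd_pmk _ i j hij a b

/-- `K(fs^n; M)^i → extCech^p` for `i + r = p`. -/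
noncomputable def toCech : ∀ (fs : List A) (n : ℕ) (i p : ℤ), i + fs.length = p →
    ((Kx M (fs.map (· ^ n))).X i →ₗ[A] (Ec M fs).X p)
  | [], _, i, p, h =>
    (((HomologicalComplex.single (ModuleCat.{u} A) (ComplexShape.up ℤ) 0).obj M).XIsoOfEq
      (show i = p by simpa using h)).hom.hom
  | f :: fs, n, i, p, h =>
    (kl (DerCA.locCxUnit (Submonoid.powers f) (Ec M fs)) (p - 1) p (by omega)).symm.toLinearMap ∘ₗ
      (((toCech fs n (i + 1) p (len_fst h rfl)) ∘ₗ
          ((mappingCone.fst (φn M f fs n)).1.v i (i + 1) rfl).hom).prod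
        ((-1 : A) ^ fs.length • (divPow f n _ ∘ₗ toCech fs n i (p - 1) (len_snd h (by omega)) ∘ₗ
          ((mappingCone.snd (φn M f fs n)).v i i (add_zero i)).hom)))

theorem toCech_fC (f : A) (fs : List A) (n : ℕ) (i p : ℤ) (h : i + (f :: fs).length = p)
    (x : (Kx M ((f :: fs).map (· ^ n))).X i) (j : ℤ) (hj : i + 1 = j) :
    fC M f fs p (toCech M (f :: fs) n i p h x) =
      toCech M fs n j p (len_fst h hj) (pfst (φn M f fs n) i j hj x) := by
  subst hj
  exact congrArg Prod.fst
    ((kl (DerCA.locCxUnit (Submonoid.powers f) (Ec M fs)) (p - 1) p (by omega)).apply_symm_apply _)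

theorem toCech_sC (f : A) (fs : List A) (n : ℕ) (i p : ℤ) (h : i + (f :: fs).length = p)
    (x : (Kx M ((f :: fs).map (· ^ n))).X i) (q : ℤ) (hq : q + 1 = p) :
    sC M f fs q p hq (toCech M (f :: fs) n i p h x) =
      (-1 : A) ^ fs.length • LocalizedModule.mk
        (toCech M fs n i q (len_snd h hq) (psnd (φn M f fs n) i x)) (pw f n) := by
  obtain rfl : q = p - 1 := by omega
  exact congrArg Prod.snd
    ((kl (DerCA.locCxUnit (Submonoid.powers f) (Ec M fs)) (p - 1) p (by omega)).apply_symm_apply _)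

theorem toCech_d : ∀ (fs : List A) (n : ℕ) (i j p p' : ℤ), i + 1 = j → p + 1 = p' →
    ∀ (h : i + fs.length = p) (h' : j + fs.length = p') (x : (Kx M (fs.map (· ^ n))).X i),
    toCech M fs n j p' h' ((Kx M (fs.map (· ^ n))).d i j x) =
      (-1 : A) ^ fs.length • (Ec M fs).d p p' (toCech M fs n i p h x)
  | [], n, i, j, p, p', hij, hpp, h, h', x => by
    have e1 : ((Kx M (([] : List A).map (· ^ n))).d i j) = 0 := HomologicalComplex.single_obj_d (ComplexShape.up ℤ) 0 M i j
    have e2 : ((Ec M ([] : List A)).d p p') = 0 := HomologicalComplex.single_obj_d (ComplexShape.up ℤ) 0 M p p'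
    rw [e1, e2]
    simp
  | f :: fs, n, i, j, p, p', hij, hpp, h, h', x => by
    have hd1 := toCech_d fs n j (j + 1) p p' rfl hpp (len_fst h hij) (len_fst h' rfl)
      (pfst (φn M f fs n) i j hij x)
    have hd2 := toCech_d fs n i j (p - 1) p hij (by omega) (len_snd h (by omega)) (len_snd h' hpp)
      (psnd (φn M f fs n) i x)
    refine C_ext M f fs hpp ?_ ?_
    · rw [map_smul, H4Cech.fC_d, toCech_fC M f fs n j p' h' _ (j + 1) rfl,
        toCech_fC M f fs n i p h x j hij]
      erw [pfst_d (φn M f fs n) i j (j + 1) hij rfl x]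
      rw [map_neg]
      erw [hd1]
      rw [← neg_smul]
      congr 1
      simp [pow_succ]
    · rw [map_smul, H4Cech.sC_d M f fs (q := p - 1) (by omega) hpp,
        toCech_fC M f fs n i p h x j hij, toCech_sC M f fs n i p h x (p - 1) (by omega),
        toCech_sC M f fs n j p' h' _ p hpp]
      erw [psnd_d (φn M f fs n) i j hij x]
      rw [map_add]
      erw [hd2, smul_id_f, map_smul]
      rw [← divPow_apply f n, map_add, map_smul, map_smul, divPow_apply, divPow_apply,
        map_smul, lmap_mk]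
      have e : f ^ n • LocalizedModule.mk (toCech M fs n j p (len_fst h hij)
          (pfst (φn M f fs n) i j hij x)) (pw f n) =
          LocalizedModule.mk (toCech M fs n j p (len_fst h hij)
          (pfst (φn M f fs n) i j hij x)) 1 := by
        rw [LocalizedModule.smul'_mk, LocalizedModule.mk_eq]
        exact ⟨1, by simp [Submonoid.smul_def]⟩
      erw [e]
      simp only [List.length_cons, pow_succ, mul_neg_one, neg_smul, smul_add, smul_sub, smul_neg,
        smul_smul]
      module

theorem pfst_trans (f : A) (fs : List A) (n m : ℕ) (h : n ≤ m) (i j : ℤ) (hij : i + 1 = j)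
    (x : (Kx M ((f :: fs).map (· ^ n))).X i) :
    pfst (φn M f fs m) i j hij ((CohIII.koszulTrans M n m h (f :: fs)).f i x) =
      (CohIII.koszulTrans M n m h fs).f j (pfst (φn M f fs n) i j hij x) :=
  pfst_map _ _ _ _ _ i j hij x

theorem psnd_trans (f : A) (fs : List A) (n m : ℕ) (h : n ≤ m) (i : ℤ)
    (x : (Kx M ((f :: fs).map (· ^ n))).X i) :
    psnd (φn M f fs m) i ((CohIII.koszulTrans M n m h (f :: fs)).f i x) =
      f ^ (m - n) • (CohIII.koszulTrans M n m h fs).f i (psnd (φn M f fs n) i x) :=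
  psnd_map _ _ _ _ _ i x

theorem trans_self : ∀ (fs : List A) (n : ℕ) (i : ℤ) (x : (Kx M (fs.map (· ^ n))).X i),
    (CohIII.koszulTrans M n n le_rfl fs).f i x = x
  | [], _, _, _ => rfl
  | f :: fs, n, i, x => by
    refine pext (φn M f fs n) (j := i + 1) rfl ?_ ?_
    · erw [pfst_trans M f fs n n le_rfl i (i + 1) rfl x, trans_self fs n]
    · erw [psnd_trans M f fs n n le_rfl i x, trans_self fs n]
      rw [Nat.sub_self, pow_zero, one_smul]

theorem trans_trans : ∀ (fs : List A) (n m l : ℕ) (h : n ≤ m) (h' : m ≤ l) (i : ℤ)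
    (x : (Kx M (fs.map (· ^ n))).X i),
    (CohIII.koszulTrans M m l h' fs).f i ((CohIII.koszulTrans M n m h fs).f i x) =
      (CohIII.koszulTrans M n l (h.trans h') fs).f i x
  | [], _, _, _, _, _, _, _ => rfl
  | f :: fs, n, m, l, h, h', i, x => by
    refine pext (φn M f fs l) (j := i + 1) rfl ?_ ?_
    · erw [pfst_trans M f fs m l h' i (i + 1) rfl, pfst_trans M f fs n m h i (i + 1) rfl,
        pfst_trans M f fs n l (h.trans h') i (i + 1) rfl, trans_trans fs n m l h h']
    · erw [psnd_trans M f fs m l h' i, psnd_trans M f fs n m h i,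
        psnd_trans M f fs n l (h.trans h') i]
      rw [map_smul, smul_smul, ← pow_add, show l - m + (m - n) = l - n by omega]
      exact congrArg _ (trans_trans fs n m l h h' i _)

theorem toCech_trans : ∀ (fs : List A) (n m : ℕ) (h : n ≤ m) (i p : ℤ) (hi : i + fs.length = p)
    (x : (Kx M (fs.map (· ^ n))).X i),
    toCech M fs m i p hi ((CohIII.koszulTrans M n m h fs).f i x) = toCech M fs n i p hi x
  | [], _, _, _, _, _, _, _ => rfl
  | f :: fs, n, m, h, i, p, hi, x => by
    refine C_ext M f fs (q := p - 1) (by omega) ?_ ?_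
    · rw [toCech_fC M f fs m i p hi _ (i + 1) rfl, toCech_fC M f fs n i p hi x (i + 1) rfl]
      erw [pfst_trans M f fs n m h i (i + 1) rfl x, toCech_trans fs n m h]
    · rw [toCech_sC M f fs m i p hi _ (p - 1) (by omega),
        toCech_sC M f fs n i p hi x (p - 1) (by omega)]
      erw [psnd_trans M f fs n m h i x]
      rw [map_smul, toCech_trans fs n m h, mk_pow_smul f n m h]

theorem exists_toCech : ∀ (fs : List A) (i p : ℤ) (hi : i + fs.length = p) (y : (Ec M fs).X p),
    ∃ n x, toCech M fs n i p hi x = y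
  | [], i, p, hi, y => by
    obtain rfl : i = p := by simpa using hi
    exact ⟨0, y, rfl⟩
  | f :: fs, i, p, hi, y => by
    obtain ⟨n₁, a, ha⟩ := exists_toCech fs (i + 1) p (len_fst hi rfl) (fC M f fs p y)
    obtain ⟨b', ⟨_, k, rfl⟩, hb'⟩ := exists_lmk f (sC M f fs (p - 1) p (by omega) y)
    obtain ⟨n₂, b, hb⟩ := exists_toCech fs i (p - 1) (len_snd hi (by omega)) b'
    let m := n₁ + n₂ + k
    let a' := (CohIII.koszulTrans M n₁ m (by omega) fs).f (i + 1) a
    let b'' := (-1 : A) ^ fs.length • f ^ (m - k) •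
      (CohIII.koszulTrans M n₂ m (by omega) fs).f i b
    refine ⟨m, kmk M f fs m i (i + 1) rfl a' b'', C_ext M f fs (q := p - 1) (by omega) ?_ ?_⟩
    · rw [toCech_fC M f fs m i p hi _ (i + 1) rfl]
      rw [pfst_kmk]
      rw [toCech_trans, ha]
    · rw [toCech_sC M f fs m i p hi _ (p - 1) (by omega)]
      rw [psnd_kmk]
      rw [map_smul, map_smul, toCech_trans, hb, ← divPow_apply, map_smul, smul_smul, ← mul_pow,
        neg_mul_neg, one_mul, one_pow, one_smul, divPow_apply, mk_pow_smul f k m (by omega)]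
      exact hb'

theorem exists_trans_eq_zero : ∀ (fs : List A) (n : ℕ) (i p : ℤ) (hi : i + fs.length = p)
    (x : (Kx M (fs.map (· ^ n))).X i), toCech M fs n i p hi x = 0 →
      ∃ m, ∃ h : n ≤ m, (CohIII.koszulTrans M n m h fs).f i x = 0
  | [], n, i, p, hi, x, hx => by
    obtain rfl : i = p := by simpa using hi
    exact ⟨n, le_rfl, hx⟩
  | f :: fs, n, i, p, hi, x, hx => by
    have h1 := congrArg (fC M f fs p) hx
    rw [toCech_fC M f fs n i p hi x (i + 1) rfl, map_zero] at h1
    have h2 := congrArg (sC M f fs (p - 1) p (by omega)) hx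
    rw [toCech_sC M f fs n i p hi x (p - 1) (by omega), map_zero] at h2
    have h2' := congrArg (fun z => (-1 : A) ^ fs.length • z) h2
    simp only [smul_smul, ← mul_pow, neg_mul_neg, one_mul, one_pow, one_smul, smul_zero] at h2'
    obtain ⟨⟨_, k, rfl⟩, hk⟩ := LocalizedModule.mk_eq.1 (h2'.trans (LocalizedModule.zero_mk 1).symm)
    simp only [Submonoid.smul_def, Submonoid.coe_one, one_smul, smul_zero] at hk
    rw [← map_smul] at hk
    obtain ⟨m₁, hm₁, e₁⟩ := exists_trans_eq_zero fs n (i + 1) p _ _ h1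
    obtain ⟨m₂, hm₂, e₂⟩ := exists_trans_eq_zero fs n i (p - 1) _ _ hk
    refine ⟨m₁ + m₂ + k + n, by omega, pext (φn M f fs (m₁ + m₂ + k + n)) (i := i) (j := i + 1) rfl ?_ ?_⟩
    · erw [pfst_trans M f fs n (m₁ + m₂ + k + n) (by omega) i (i + 1) rfl x, pfst_zero]
      rw [← trans_trans M fs n m₁ (m₁ + m₂ + k + n) hm₁ (by omega), e₁, map_zero]
    · erw [psnd_trans M f fs n (m₁ + m₂ + k + n) (by omega) i x, psnd_zero]
      rw [show m₁ + m₂ + k + n - n = m₁ + m₂ + k by omega, pow_add, mul_smul, ← map_smul,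
        ← trans_trans M fs n m₂ (m₁ + m₂ + k + n) hm₂ (by omega), e₂, map_zero, smul_zero]

end Groth.Agent.H02CA.KEC
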