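import Groth.Agent.H02CA.KoszExtCechH

/-!
# The top Koszul cohomology of powers and its transition maps
-/

set_option autoImplicit false

namespace Groth.Agent.H02CA.KTop

universe u

open CategoryTheory CategoryTheory.Limits CochainComplex Kosz

variable {A : Type u} [CommRing A] (M : ModuleCat.{u} A)

local notation "Kx" => CohIII.koszulCx

/-- The inclusion of `M` as the top term. -/
noncomputable def topI : ∀ fs : List A, M →ₗ[A] (Kx M fs).X 0
  | [] => (HomologicalComplex.singleObjXSelf (ComplexShape.up ℤ) 0 M).inv.hom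
  | f :: fs => ((mappingCone.inr (f • 𝟙 (Kx M fs))).f 0).hom ∘ₗ topI fs

theorem pfst_topI (f : A) (fs : List A) (m : M) :
    pfst (f • 𝟙 (Kx M fs)) 0 1 rfl (topI M (f :: fs) m) = 0 :=
  ConcreteCategory.congr_hom (mappingCone.inr_f_fst_v (f • 𝟙 (Kx M fs)) 0 1 rfl) (topI M fs m)

theorem psnd_topI (f : A) (fs : List A) (m : M) :
    psnd (f • 𝟙 (Kx M fs)) 0 (topI M (f :: fs) m) = topI M fs m :=
  ConcreteCategory.congr_hom (mappingCone.inr_f_snd_v (f • 𝟙 (Kx M fs)) 0) (topI M fs m)

theorem topI_bijective : ∀ fs : List A, Function.Bijective (topI M fs)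
  | [] => (HomologicalComplex.singleObjXSelf (ComplexShape.up ℤ) 0 M).symm.toLinearEquiv.bijective
  | f :: fs => by
    have h1 := subsingleton_of_isZero (isZero_X M fs 1 (by simp))
    refine ⟨fun x y h => (topI_bijective fs).1 ?_, fun y => ?_⟩
    · rw [← psnd_topI M f fs x, ← psnd_topI M f fs y, h]
    · obtain ⟨x, hx⟩ := (topI_bijective fs).2 (psnd (f • 𝟙 (Kx M fs)) 0 y)
      exact ⟨x, pext (f • 𝟙 (Kx M fs)) (j := 1) rfl (Subsingleton.elim _ _)
        ((psnd_topI M f fs x).trans hx)⟩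

theorem topI_mem_range : ∀ (fs : List A) (m : M),
    topI M fs m ∈ LinearMap.range ((Kx M fs).d (-1) 0).hom ↔
      m ∈ Ideal.ofList fs • (⊤ : Submodule A M)
  | [], m => by
    have := subsingleton_of_isZero (isZero_X M [] (-1) (by simp))
    rw [Ideal.ofList_nil, Submodule.bot_smul, Submodule.mem_bot]
    constructor
    · rintro ⟨y, hy⟩
      rw [Subsingleton.elim y 0, map_zero] at hy
      exact (topI_bijective M []).1 (hy.symm.trans (map_zero _).symm)
    · rintro rfl
      simp
  | f :: fs, m => by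
    have h1 := subsingleton_of_isZero (isZero_X M fs 1 (by simp))
    rw [Ideal.ofList_cons, Submodule.sup_smul, Submodule.ideal_span_singleton_smul,
      Submodule.mem_sup]
    constructor
    · rintro ⟨x, hx⟩
      have hx' : psnd (f • 𝟙 (Kx M fs)) 0 ((Kx M (f :: fs)).d (-1) 0 x) = topI M fs m :=
        (congrArg (psnd (f • 𝟙 (Kx M fs)) 0) hx).trans (psnd_topI M f fs m)
      erw [psnd_d _ (-1) 0 (neg_add_cancel 1)] at hx'
      obtain ⟨m', hm'⟩ := (topI_bijective M fs).2 (pfst (f • 𝟙 (Kx M fs)) (-1) 0 (neg_add_cancel 1) x)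
      refine ⟨f • m', Submodule.smul_mem_pointwise_smul _ _ _ Submodule.mem_top, m - f • m',
        (topI_mem_range fs _).mp ?_, add_sub_cancel _ _⟩
      refine ⟨psnd (f • 𝟙 (Kx M fs)) (-1) x, ?_⟩
      rw [map_sub, map_smul, hm', ← hx', smul_id_f, add_sub_cancel_left]
    · rintro ⟨y, hy, z, hz, rfl⟩
      obtain ⟨m', -, rfl⟩ := (Submodule.mem_smul_pointwise_iff_exists _ _ _).mp hy
      obtain ⟨w, hw⟩ := (topI_mem_range fs z).mpr hz
      refine ⟨pmk (f • 𝟙 (Kx M fs)) (-1) 0 (neg_add_cancel 1) (topI M fs m') w,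
        pext (f • 𝟙 (Kx M fs)) (j := 1) rfl (Subsingleton.elim _ _) ?_⟩
      refine Eq.trans ?_ (psnd_topI M f fs _).symm
      refine (psnd_d (f • 𝟙 (Kx M fs)) (-1) 0 (neg_add_cancel 1) _).trans ?_
      rw [pfst_pmk, psnd_pmk, smul_id_f, map_add, map_smul]
      exact congrArg (f • topI M fs m' + ·) hw

theorem trans_topI : ∀ (fs : List A) (n m : ℕ) (h : n ≤ m) (x : M),
    (CohIII.koszulTrans M n m h fs).f 0 (topI M (fs.map (· ^ n)) x) =
      topI M (fs.map (· ^ m)) (fs.prod ^ (m - n) • x)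
  | [], n, m, h, x => by
    rw [List.prod_nil, one_pow, one_smul]
    rfl
  | f :: fs, n, m, h, x => by
    have h1 := subsingleton_of_isZero (isZero_X M (fs.map (· ^ m)) 1 (by simp))
    refine pext (KEC.φn M f fs m) (i := 0) (j := 1) rfl (Subsingleton.elim _ _) ?_
    refine (KEC.psnd_trans M f fs n m h 0 _).trans ?_
    refine Eq.trans ?_ (psnd_topI M (f ^ m) (fs.map (· ^ m)) _).symm
    rw [List.prod_cons, mul_pow, mul_smul, map_smul]
    refine congrArg _ ?_
    exact (congrArg _ (psnd_topI M (f ^ n) (fs.map (· ^ n)) x)).trans (trans_topI fs n m h x)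

/-- Top classes. -/
noncomputable def topCls (fs : List A) : M →ₗ[A] (Kx M fs).homology 0 :=
  KEC.cls (Kx M fs) 0 1 rfl ∘ₗ (topI M fs).codRestrict _ fun _ =>
    @Subsingleton.elim _ (subsingleton_of_isZero (isZero_X M fs 1 (by simp))) _ _

theorem topCls_surjective (fs : List A) : Function.Surjective (topCls M fs) := fun y => by
  obtain ⟨z, rfl⟩ := KEC.cls_surjective (Kx M fs) 0 1 rfl y
  obtain ⟨x, hx⟩ := (topI_bijective M fs).2 z.1
  exact ⟨x, congrArg (KEC.cls (Kx M fs) 0 1 rfl) (Subtype.ext hx)⟩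

theorem topCls_eq_zero_iff (fs : List A) (x : M) :
    topCls M fs x = 0 ↔ x ∈ Ideal.ofList fs • (⊤ : Submodule A M) :=
  (KEC.cls_eq_zero_iff (Kx M fs) (-1) 0 1 (neg_add_cancel 1) rfl _).trans (topI_mem_range M fs x)

theorem map_topCls (fs : List A) (n m : ℕ) (h : n ≤ m) (x : M) :
    HomologicalComplex.homologyMap (CohIII.koszulTrans M n m h fs) 0 (topCls M (fs.map (· ^ n)) x) =
      topCls M (fs.map (· ^ m)) (fs.prod ^ (m - n) • x) :=
  KEC.map_cls _ 0 1 rfl _ _ (trans_topI M fs n m h x)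

theorem directedSystem (fs : List A) (i : ℤ) :
    DirectedSystem (fun n : ℕ => ((Kx M (fs.map (· ^ n))).homology i : Type u))
      (fun n m h => (HomologicalComplex.homologyMap (CohIII.koszulTrans M n m h fs) i).hom) where
  map_self n x := by
    rw [show CohIII.koszulTrans M n n le_rfl fs = 𝟙 _ from by
      ext q y; exact KEC.trans_self M fs n q y, HomologicalComplex.homologyMap_id]
    rfl
  map_map {l m n} h h' x := by
    rw [show CohIII.koszulTrans M n l (h.trans h') fs =
      CohIII.koszulTrans M n m h fs ≫ CohIII.koszulTrans M m l h' fs from by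
      ext q y; exact (KEC.trans_trans M fs n m l h h' q y).symm, HomologicalComplex.homologyMap_comp]
    rfl

end Groth.Agent.H02CA.KTop
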