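import Mathlib.RingTheory.FinitePresentation
import Mathlib.RingTheory.Flat.Basic
import Mathlib.LinearAlgebra.TensorProduct.RightExactness
import Mathlib.RingTheory.Nakayama
import Mathlib.RingTheory.Nilpotent.Lemmas
import Mathlib.RingTheory.Nilpotent.Basic
import Mathlib.RingTheory.Finiteness.Ideal

/-! Bijectivity can be checked modulo a locally nilpotent ideal (flat, finitely presented target). -/

set_option autoImplicit false

universe u

open TensorProduct

namespace Groth.Agent.H02CA.LocNilpBijective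

variable {R S S' : Type u} [CommRing R] [CommRing S] [CommRing S'] [Algebra R S] [Algebra R S']
  (I : Ideal R)

theorem surjective [Algebra.FiniteType R S'] (hI : ∀ x ∈ I, IsNilpotent x) (f : S →ₐ[R] S')
    (hsurj : Function.Surjective ((Ideal.Quotient.mk (I.map (algebraMap R S'))).comp f.toRingHom)) :
    Function.Surjective f := by
  classical
  obtain ⟨s, hs⟩ := (Algebra.FiniteType.out : (⊤ : Subalgebra R S').FG)
  have hdec : ∀ y : S', ∃ I₀ : Ideal R, I₀.FG ∧ I₀ ≤ I ∧
      ∃ z : S, y - f z ∈ I₀ • (⊤ : Submodule R S') := by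
    intro y
    obtain ⟨z, hz⟩ := hsurj (Ideal.Quotient.mk _ y)
    have h : y - f z ∈ I • (⊤ : Submodule R S') := by
      rw [Ideal.smul_top_eq_map]; exact Ideal.Quotient.eq.mp hz.symm
    suffices ∀ v ∈ I • (⊤ : Submodule R S'), ∃ I₀ : Ideal R, I₀.FG ∧ I₀ ≤ I ∧
        v ∈ I₀ • (⊤ : Submodule R S') by
      obtain ⟨I₀, h1, h2, h3⟩ := this _ h
      exact ⟨I₀, h1, h2, z, h3⟩
    intro v hv
    refine Submodule.smul_induction_on hv (fun a ha w _ => ⟨Ideal.span {a},
      ⟨{a}, by simp⟩, by simpa using ha,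
      Submodule.smul_mem_smul (Ideal.mem_span_singleton_self a) trivial⟩) ?_
    rintro p q ⟨I₁, h1, h1', hp⟩ ⟨I₂, h2, h2', hq⟩
    exact ⟨I₁ ⊔ I₂, Submodule.FG.sup h1 h2, sup_le h1' h2',
      add_mem (Submodule.smul_mono_left le_sup_left hp) (Submodule.smul_mono_left le_sup_right hq)⟩
  choose J hJfg hJle z hz using hdec
  let I₀ : Ideal R := s.sup J
  have hfg : I₀.FG := Submodule.fg_finset_sup s J fun y _ => hJfg y
  have hle : I₀ ≤ I := Finset.sup_le fun y _ => hJle y
  obtain ⟨N, hN⟩ := Ideal.exists_pow_le_of_le_radical_of_fg (I := I₀) (J := ⊥)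
    (fun x hx => by
      obtain ⟨n, hn⟩ := hI x (hle hx)
      exact ⟨n, by rw [hn]; exact zero_mem _⟩) hfg
  let T : Submodule R S' := LinearMap.range f.toLinearMap
  let M := T ⊔ I₀ • (⊤ : Submodule R S')
  have hmem : ∀ y : S', y ∈ M := by
    intro y
    have : y ∈ Algebra.adjoin R (s : Set S') := hs ▸ Algebra.mem_top
    induction this using Algebra.adjoin_induction with
    | mem y hy =>
      rw [show y = f (z y) + (y - f (z y)) by abel]
      exact add_mem (Submodule.mem_sup_left ⟨_, rfl⟩) (Submodule.mem_sup_right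
        (Submodule.smul_mono_left (Finset.le_sup (f := J) hy) (hz y)))
    | algebraMap r =>
      exact Submodule.mem_sup_left ⟨algebraMap R S r, f.commutes r⟩
    | add a b _ _ ha hb => exact add_mem ha hb
    | mul a b _ _ ha hb =>
      obtain ⟨_, ⟨p, rfl⟩, a', ha', rfl⟩ := Submodule.mem_sup.mp ha
      obtain ⟨_, ⟨q, rfl⟩, b', hb', rfl⟩ := Submodule.mem_sup.mp hb
      have hmul : ∀ (c : S') (v : S'), v ∈ I₀ • (⊤ : Submodule R S') →
          c * v ∈ I₀ • (⊤ : Submodule R S') := fun c v hv => by
        rw [Ideal.smul_top_eq_map] at hv ⊢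
        exact Ideal.mul_mem_left _ c hv
      simp only [AlgHom.toLinearMap_apply]
      rw [show (f p + a') * (f q + b') = f (p * q) + ((f p + a') * b' + f q * a') by
        rw [map_mul]; ring]
      exact add_mem (Submodule.mem_sup_left ⟨p * q, rfl⟩)
        (Submodule.mem_sup_right (add_mem (hmul _ _ hb') (hmul _ _ ha')))
  have hpow : ∀ k, T ⊔ I₀ ^ k • (⊤ : Submodule R S') = ⊤ := by
    intro k
    induction k with
    | zero => rw [pow_zero, Ideal.one_eq_top, Submodule.top_smul, sup_top_eq]
    | succ k ih =>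
      refine eq_top_iff.mpr ?_
      calc (⊤ : Submodule R S') ≤ T ⊔ I₀ • ⊤ := fun y _ => hmem y
        _ = T ⊔ I₀ • (T ⊔ I₀ ^ k • ⊤) := by rw [ih]
        _ ≤ T ⊔ I₀ ^ (k + 1) • ⊤ := by
          rw [Submodule.smul_sup, pow_succ', ← smul_eq_mul, Submodule.smul_assoc, ← sup_assoc]
          exact sup_le_sup_right (sup_le le_rfl Submodule.smul_le_right) _
  have h := hpow N
  rw [le_bot_iff.mp hN, Submodule.bot_smul, sup_bot_eq] at h
  intro y
  obtain ⟨x, hx⟩ : y ∈ T := h ▸ Submodule.mem_top
  exact ⟨x, hx⟩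

theorem injective [Algebra.FiniteType R S] [Algebra.FinitePresentation R S'] [Module.Flat R S']
    (hI : ∀ x ∈ I, IsNilpotent x) (f : S →ₐ[R] S') (hf : Function.Surjective f)
    (hker : ∀ s : S, f s ∈ I.map (algebraMap R S') → s ∈ I.map (algebraMap R S)) :
    Function.Injective f := by
  let N : Ideal S := RingHom.ker f
  have hfg : N.FG := by
    obtain ⟨n, π, hπ⟩ := Algebra.FiniteType.iff_quotient_mvPolynomial''.mp ‹Algebra.FiniteType R S›
    have h := Algebra.FinitePresentation.ker_fG_of_surjective (f.comp π) (hf.comp hπ)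
    have : N = (RingHom.ker (f.comp π).toRingHom).map π.toRingHom := by
      refine le_antisymm (fun x hx => ?_) (Ideal.map_le_iff_le_comap.mpr fun v hv => hv)
      obtain ⟨v, rfl⟩ := hπ x
      exact Ideal.mem_map_of_mem π.toRingHom hx
    rw [this]
    exact Ideal.FG.map h _
  have hle : N ≤ I.map (algebraMap R S) • N := by
    intro x hx
    have hxI : x ∈ I • (⊤ : Submodule R S) := by
      rw [Ideal.smul_top_eq_map]
      exact hker x (by rw [RingHom.mem_ker.mp hx]; exact zero_mem _)
    let μ : S ⊗[R] I →ₗ[R] S := (TensorProduct.rid R S).toLinearMap ∘ₗ I.subtype.lTensor S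
    obtain ⟨w, rfl⟩ : ∃ w, μ w = x := by
      refine Submodule.smul_induction_on (p := fun x => ∃ w, μ w = x) hxI
        (fun a ha c _ => ⟨c ⊗ₜ ⟨a, ha⟩, by simp [μ]⟩) ?_
      rintro p q ⟨w, rfl⟩ ⟨w', rfl⟩
      exact ⟨w + w', map_add _ _ _⟩
    have h1 : f.toLinearMap.rTensor I w = 0 := by
      refine Module.Flat.lTensor_preserves_injective_linearMap (M := S') I.subtype
        I.injective_subtype ((TensorProduct.rid R S').injective ?_)
      rw [map_zero, map_zero]
      refine Eq.trans ?_ (RingHom.mem_ker.mp hx)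
      clear hx hxI
      induction w using TensorProduct.induction_on with
      | zero => simp
      | tmul c a => simp [μ]
      | add p q hp hq => simp only [map_add, hp, hq]
    obtain ⟨v, rfl⟩ := (rTensor_exact I (LinearMap.exact_subtype_ker_map f.toLinearMap) hf w).mp h1
    clear hx hxI h1
    induction v using TensorProduct.induction_on with
    | zero => simp
    | tmul c a =>
      have : μ ((Submodule.subtype _).rTensor I (c ⊗ₜ a)) = algebraMap R S a * (c : S) := by
        simp [μ, Algebra.smul_def]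
      exact this ▸ Submodule.smul_mem_smul (Ideal.mem_map_of_mem _ a.2) c.2
    | add p q hp hq => simp only [map_add]; exact add_mem hp hq
  have hjac : I.map (algebraMap R S) ≤ Ideal.jacobson ⊥ := by
    rw [Ideal.map_le_iff_le_comap]
    intro a ha
    exact Ideal.mem_comap.mpr (Ideal.mem_jacobson_bot.mpr fun y =>
      IsNilpotent.isUnit_add_one ((Commute.all _ y).isNilpotent_mul_right ((hI a ha).map (algebraMap R S))))
  have hN : N = ⊥ := Submodule.eq_bot_of_le_smul_of_le_jacobson_bot _ N hfg hle hjac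
  exact (RingHom.injective_iff_ker_eq_bot f.toRingHom).mpr hN

end Groth.Agent.H02CA.LocNilpBijective
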