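import Mathlib.Algebra.Module.FinitePresentation
import Mathlib.Algebra.Module.LocalizedModule.Exact
import Mathlib.RingTheory.Localization.Module
import Mathlib.RingTheory.TensorProduct.Finite
import Mathlib.RingTheory.Localization.Finiteness

/-!
Presentations of modules with finitely presented localization.
-/

set_option autoImplicit false

universe u

namespace Groth.Agent.H02CA

/-- A module with finitely presented localization is presented by finitely many generators and
relations up to the submonoid. -/
theorem exists_local_presentation {A : Type u} [CommRing A] (T : Submonoid A) {M : Type u}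
    [AddCommGroup M] [Module A M]
    [Module.FinitePresentation (Localization T) (LocalizedModule T M)] :
    ∃ (n : ℕ) (g : (Fin n → A) →ₗ[A] M) (G : Finset (Fin n → A)),
      (∀ v ∈ G, g v = 0) ∧ (∀ m : M, ∃ t ∈ T, t • m ∈ LinearMap.range g) ∧
      ∀ x, g x = 0 → ∃ t ∈ T, t • x ∈ Submodule.span A (G : Set (Fin n → A)) := by
  classical
  -- generators
  obtain ⟨s, hs⟩ := (Module.Finite.fg_top (R := Localization T) (M := LocalizedModule T M))
  have hrep : ∀ z : LocalizedModule T M, ∃ m : M, ∃ t : T, LocalizedModule.mk m t = z := by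
    intro z
    induction z using LocalizedModule.induction_on with
    | h m t => exact ⟨m, t, rfl⟩
  choose num den hnd using hrep
  let e := s.equivFin.symm
  let g : (Fin s.card → A) →ₗ[A] M := Fintype.linearCombination A fun i => num (e i)
  have hg : ∀ m : M, ∃ t ∈ T, t • m ∈ LinearMap.range g := by
    intro m
    have hspan : ∀ z ∈ Submodule.span (Localization T) (s : Set (LocalizedModule T M)),
        ∃ w ∈ LinearMap.range g, ∃ t : T, z = LocalizedModule.mk w t := by
      intro z hz
      induction hz using Submodule.span_induction with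
      | mem x hx =>
        refine ⟨num x, ⟨Pi.single (s.equivFin ⟨x, hx⟩) 1, ?_⟩, den x, (hnd x).symm⟩
        simp [g, e, Fintype.linearCombination_apply, Pi.single_apply, ite_smul]
      | zero => exact ⟨0, zero_mem _, 1, (LocalizedModule.zero_mk _).symm⟩
      | add x y _ _ hx hy =>
        obtain ⟨a, ha, p, rfl⟩ := hx
        obtain ⟨b, hb, q, rfl⟩ := hy
        exact ⟨_, add_mem ((LinearMap.range g).smul_mem _ ha) ((LinearMap.range g).smul_mem _ hb),
          p * q, LocalizedModule.mk_add_mk⟩
      | smul c x _ hx =>
        obtain ⟨a, ha, p, rfl⟩ := hx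
        induction c using Localization.induction_on with
        | _ y =>
          obtain ⟨r, q⟩ := y
          exact ⟨r • a, (LinearMap.range g).smul_mem _ ha, q * p, LocalizedModule.mk_smul_mk r a q p⟩
    obtain ⟨w, hw, t, hwt⟩ := hspan (LocalizedModule.mk m 1) (hs ▸ trivial)
    obtain ⟨u, hu⟩ := LocalizedModule.mk_eq.mp hwt
    refine ⟨(u * t : T), (u * t).2, ?_⟩
    rw [Submonoid.coe_mul, mul_smul]
    have h1 : (u : A) • (t : A) • m = (u : A) • w := by simpa [Submonoid.smul_def] using hu
    rw [h1]
    exact (LinearMap.range g).smul_mem _ hw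
  -- relations
  let g' := LocalizedModule.map T g
  have hsurj : Function.Surjective g' := by
    intro z
    induction z using LocalizedModule.induction_on with
    | h m q =>
      obtain ⟨t, ht, x, hx⟩ := hg m
      refine ⟨LocalizedModule.mk x (⟨t, ht⟩ * q), ?_⟩
      simp only [g', LocalizedModule.map_mk, hx]
      exact LocalizedModule.mk_eq.mpr ⟨1, by simp [Submonoid.smul_def, smul_smul, mul_comm]⟩
  haveI : Module.Finite (Localization T) (LocalizedModule T (Fin s.card → A)) :=
    Module.Finite.of_isLocalizedModule T (LocalizedModule.mkLinearMap T (Fin s.card → A))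
  obtain ⟨G', hG'⟩ := Module.FinitePresentation.fg_ker g' hsurj
  have hlift : ∀ z ∈ G', ∃ v : Fin s.card → A, g v = 0 ∧ ∃ t : T, z = LocalizedModule.mk v t := by
    intro z hz
    have h0 : g' z = 0 := LinearMap.mem_ker.mp (hG' ▸ Submodule.subset_span hz)
    revert h0
    induction z using LocalizedModule.induction_on with
    | h v t =>
      intro h0
      rw [LocalizedModule.map_mk, ← LocalizedModule.zero_mk t, LocalizedModule.mk_eq] at h0
      obtain ⟨u, hu⟩ := h0
      refine ⟨(u * t : T) • v, ?_, (u * t) * t, LocalizedModule.mk_eq.mpr ⟨1, ?_⟩⟩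
      · simpa [Submonoid.smul_def, smul_smul] using hu
      · simp [Submonoid.smul_def, smul_smul, mul_comm, mul_left_comm]
  choose rel hrel den' hden' using hlift
  refine ⟨s.card, g, G'.attach.image (fun z => rel z.1 z.2), fun v hv => ?_, hg, fun x hx => ?_⟩
  · obtain ⟨z, -, rfl⟩ := Finset.mem_image.mp hv
    exact hrel _ _
  · have hker : LocalizedModule.mk x 1 ∈ LinearMap.ker g' := by
      rw [LinearMap.mem_ker, LocalizedModule.map_mk, hx, LocalizedModule.zero_mk]
    rw [← hG'] at hker
    have hspan : ∀ z ∈ Submodule.span (Localization T) (G' : Set (LocalizedModule T (Fin s.card → A))),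
        ∃ w ∈ Submodule.span A (↑(G'.attach.image fun z => rel z.1 z.2) : Set (Fin s.card → A)),
          ∃ t : T, z = LocalizedModule.mk w t := by
      intro z hz
      induction hz using Submodule.span_induction with
      | mem z hz =>
        exact ⟨rel z hz, Submodule.subset_span
          (Finset.mem_image.mpr ⟨⟨z, hz⟩, Finset.mem_attach _ _, rfl⟩), den' z hz, hden' z hz⟩
      | zero => exact ⟨0, zero_mem _, 1, (LocalizedModule.zero_mk _).symm⟩
      | add x y _ _ hx hy =>
        obtain ⟨a, ha, p, rfl⟩ := hx
        obtain ⟨b, hb, q, rfl⟩ := hy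
        exact ⟨_, add_mem (Submodule.smul_mem _ _ ha) (Submodule.smul_mem _ _ hb),
          p * q, LocalizedModule.mk_add_mk⟩
      | smul c x _ hx =>
        obtain ⟨a, ha, p, rfl⟩ := hx
        induction c using Localization.induction_on with
        | _ y =>
          obtain ⟨r, q⟩ := y
          exact ⟨r • a, Submodule.smul_mem _ _ ha, q * p, LocalizedModule.mk_smul_mk r a q p⟩
    obtain ⟨w, hw, t, hwt⟩ := hspan _ hker
    obtain ⟨u, hu⟩ := LocalizedModule.mk_eq.mp hwt
    refine ⟨(u * t : T), (u * t).2, ?_⟩
    rw [Submonoid.coe_mul, mul_smul]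
    have h1 : (u : A) • (t : A) • x = (u : A) • w := by simpa [Submonoid.smul_def] using hu
    rw [h1]
    exact Submodule.smul_mem _ _ hw

end Groth.Agent.H02CA
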