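import Groth.Agent.H02CA.ModNull
import Groth.Agent.H02CA.ModRestrExact
import Mathlib.CategoryTheory.Limits.Shapes.BinaryProducts
import Mathlib.CategoryTheory.Adjunction.FullyFaithful

/-!
# Excision for modules supported outside an object
-/

set_option autoImplicit false
set_option linter.style.haveILetI false
set_option linter.unusedSectionVars false

universe u

open CategoryTheory CategoryTheory.Limits Opposite

namespace Groth.Agent.H02CA.ModExcision

open Groth.Agent.H15Site Groth.Agent.H15Site.ModTensor Groth.Agent.H15Site.OverPre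

attribute [local instance 10000] SiteInst.hasSheafifySite SiteInst.hasWeakSheafifySite

variable {C : Type u} [SmallCategory C] {J : GrothendieckTopology C} (O : Sheaf J CommRingCat.{u})
  {V : C} (hV : ∀ X : C, Subsingleton (X ⟶ V))

include hV in
theorem hasBinaryProducts_over [HasBinaryProducts C] : HasBinaryProducts (Over V) := by
  have : ∀ X Y : Over V, HasLimit (pair X Y) := fun X Y => by
    refine HasLimit.mk ⟨BinaryFan.mk
      (P := Over.mk (prod.fst ≫ X.hom : X.left ⨯ Y.left ⟶ V))
      (Over.homMk prod.fst rfl) (Over.homMk prod.snd (@Subsingleton.elim _ (hV _) _ _)),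
      BinaryFan.isLimitMk (fun s => Over.homMk (prod.lift s.fst.left s.snd.left)
        (@Subsingleton.elim _ (hV _) _ _))
        (fun s => Over.OverMorphism.ext (prod.lift_fst _ _))
        (fun s => Over.OverMorphism.ext (prod.lift_snd _ _)) (fun s m h₁ h₂ => ?_)⟩
    apply Over.OverMorphism.ext
    apply prod.hom_ext
    · exact (congrArg CommaMorphism.left h₁).trans (prod.lift_fst _ _).symm
    · exact (congrArg CommaMorphism.left h₂).trans (prod.lift_snd _ _).symm
  exact hasBinaryProducts_of_hasLimit_pair _

include hV in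
theorem isIso_jpAdj_unit : IsIso (ModOver.jpAdj O V).unit := by
  have : ∀ M, IsIso ((ModOver.jpAdj O V).unit.app M) := fun M => by
    refine (isIso_iff_of_reflects_iso _ (PresheafOfModules.toPresheaf _)).1 ?_
    have : ∀ Y, IsIso (((PresheafOfModules.toPresheaf _).map
        ((ModOver.jpAdj O V).unit.app M)).app Y) := fun Y => by
      rw [ConcreteCategory.isIso_iff_bijective]
      refine Function.bijective_iff_has_inverse.2
        ⟨fun t => (proj (R := O.obj) M (X := op Y.unop.left) Y.unop.hom).hom t, fun m => ?_, fun t => ?_⟩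
      · exact proj_inc_self (R := O.obj) M (X := op Y.unop.left) Y.unop.hom m
      · refine proj_ext (R := O.obj) M (X := op Y.unop.left) fun φ => ?_
        obtain rfl : φ = Y.unop.hom := @Subsingleton.elim _ (hV _) _ _
        exact proj_inc_self (R := O.obj) M (X := op Y.unop.left) Y.unop.hom _
    exact NatIso.isIso_of_isIso_app _
  exact NatIso.isIso_of_isIso_app _

include hV in
theorem isIso_extZero_unit : IsIso (ModSite.extZeroAdj O V).unit := by
  have := isIso_jpAdj_unit O hV
  have := ModOver.counit_isIso (O.over V)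
  exact (ModSite.extZeroAdj O V).isIso_unit_of_iso
    (Functor.isoWhiskerRight (ModOver.jIso O V) (ModSite.restr O V) ≪≫
      Functor.isoWhiskerLeft (forg (O.over V) ⋙ ModOver.jp O V) (ModOver.restrASh O V) ≪≫
      Functor.isoWhiskerLeft (forg (O.over V)) (Functor.isoWhiskerRight
        (asIso (ModOver.jpAdj O V).unit).symm (aSh (O.over V))) ≪≫
      asIso (adj (O.over V)).counit)

variable {O} {U : C}

/-- A module null on both members of a covering is zero. -/
theorem isZero_of_null (hUV : J.CoversTop (fun b : Bool => cond b U V)) (K : ModSite.Mod O)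
    (hU : ModSite.IsNullOn O U K) (hV' : ModSite.IsNullOn O V K) : IsZero K := by
  rw [IsZero.iff_id_eq_zero]
  have : (forg O).Faithful := (SheafOfModules.fullyFaithfulForget (ModSite.ringSh O)).faithful
  refine (forg O).map_injective (Eq.trans (b := 0) ?_ rfl)
  refine PresheafOfModules.hom_ext fun ⟨W⟩ => ModuleCat.hom_ext (LinearMap.ext fun s => ?_)
  refine separated_forg K _ (hUV W) _ _ fun W' g hg => ?_
  obtain ⟨b, ⟨a⟩⟩ := hg
  cases b
  · exact ((ExtSupp.isNullOn_iff O V K).1 hV' a _).trans ((ExtSupp.isNullOn_iff O V K).1 hV' a _).symm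
  · exact ((ExtSupp.isNullOn_iff O U K).1 hU a _).trans ((ExtSupp.isNullOn_iff O U K).1 hU a _).symm

theorem isNullOn_openMod {U : C} {Q : ModSite.Mod O} (hQ : ModSite.IsNullOn O U Q)
    (hi : Mono ((ModSite.restr O V).map ((ModSite.extZeroAdj O V).counit.app Q))) :
    ModSite.IsNullOn O U (ExtSupp.openMod V Q) := by
  refine (ExtSupp.isNullOn_iff O U _).2 fun W a x => ?_
  obtain ⟨S, hS, hs⟩ := ModNull.gen_openMod (U := V) Q W x
  refine separated_forg _ S hS _ _ fun W' g hg => ?_
  refine Eq.trans ?_ (map_zero (((forg O).obj _).presheaf.map g.op).hom).symm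
  rcases hs g hg with h | f
  · exact h
  · have hinj := ModNull.injective_app ((ModSite.restr O V).map
      ((ModSite.extZeroAdj O V).counit.app Q)) (Over.mk f.some)
    refine hinj ((?_ : _ = (0 : ((forg (O.over V)).obj ((ModSite.restr O V).obj Q)).obj
      (op (Over.mk f.some)))).trans (map_zero _).symm)
    exact (ExtSupp.isNullOn_iff O U Q).1 hQ (g ≫ a) _

include hV in
/-- Excision: a module null on `U` is extended by zero from `V`. -/
theorem isIso_counit (hUV : J.CoversTop (fun b : Bool => cond b U V)) {Q : ModSite.Mod O}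
    (hQ : ModSite.IsNullOn O U Q) : IsIso ((ModSite.extZeroAdj O V).counit.app Q) := by
  have := isIso_extZero_unit O hV
  let ε := (ModSite.extZeroAdj O V).counit.app Q
  have : IsIso ((ModSite.extZeroAdj O V).unit.app ((ModSite.restr O V).obj Q) ≫
      (ModSite.restr O V).map ε) := by
    rw [(ModSite.extZeroAdj O V).right_triangle_components]; infer_instance
  have hi : IsIso ((ModSite.restr O V).map ε) :=
    IsIso.of_isIso_comp_left ((ModSite.extZeroAdj O V).unit.app ((ModSite.restr O V).obj Q))
      ((ModSite.restr O V).map ε)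
  have := ModRestrExact.preservesFiniteLimits_restr O V
  have := ModRestrExact.preservesFiniteColimits_restr O V
  have := ModRestrExact.preservesFiniteColimits_restr O U
  have hk : IsZero (kernel ε) := isZero_of_null hUV _
    (ModNull.isNullOn_of_mono O U (kernel.ι ε) (isNullOn_openMod hQ inferInstance))
    (IsZero.of_iso (isZero_kernel_of_mono ((ModSite.restr O V).map ε))
      (PreservesKernel.iso (ModSite.restr O V) ε))
  have hc : IsZero (cokernel ε) := isZero_of_null hUV _
    (IsZero.of_epi ((ModSite.restr O U).map (cokernel.π ε)) hQ)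
    (IsZero.of_iso (isZero_cokernel_of_epi ((ModSite.restr O V).map ε))
      (PreservesCokernel.iso (ModSite.restr O V) ε))
  have : Mono ε := Preadditive.mono_of_kernel_zero (hk.eq_of_src _ _)
  have : Epi ε := Preadditive.epi_of_cokernel_zero (hc.eq_of_tgt _ _)
  exact isIso_of_mono_of_epi ε

theorem gen_restr [HasBinaryProducts C] {P : ModSite.Mod O} (hP : ModNull.Gen U P) :
    ModNull.Gen (Over.mk (prod.snd : U ⨯ V ⟶ V)) ((ModSite.restr O V).obj P) := by
  intro Y s
  obtain ⟨S, hS, h⟩ := hP Y.left s
  refine ⟨(Sieve.overEquiv Y).symm S, J.overEquiv_symm_mem_over _ _ hS, fun W g hg => ?_⟩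
  refine (h g.left ((Sieve.overEquiv_symm_iff _ g).1 hg)).imp (fun e => e) ?_
  rintro ⟨a⟩
  exact ⟨Over.homMk (prod.lift a W.hom) (prod.lift_snd _ _)⟩

theorem isNullOn_restr [HasBinaryProducts C] {P : ModSite.Mod O} (hP : ModSite.IsNullOn O U P) :
    ModSite.IsNullOn (O.over V) (Over.mk (prod.snd : U ⨯ V ⟶ V)) ((ModSite.restr O V).obj P) :=
  (ExtSupp.isNullOn_iff _ _ _).2 fun Y g x =>
    (ExtSupp.isNullOn_iff O U P).1 hP (g.left ≫ prod.fst) x

include hV in
theorem nonempty_restr_quotOn_iso [HasBinaryProducts C] (M : ModSite.Mod O) :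
    Nonempty ((ModSite.restr O V).obj ((ModSite.quotOn O U).obj M) ≅
      (ModSite.quotOn (O.over V) (Over.mk (prod.snd : U ⨯ V ⟶ V))).obj ((ModSite.restr O V).obj M)) := by
  have := hasBinaryProducts_over hV
  have : ModSite.HasPushOver (O.over V) (Over.mk (prod.snd : U ⨯ V ⟶ V)) :=
    ModSite.hasPushOver_of_hasBinaryProducts _ _
  have := ModRestrExact.preservesFiniteLimits_restr O V
  have := ModRestrExact.preservesFiniteColimits_restr O V
  obtain ⟨hex, hepi⟩ := ExtSupp.openSeq_exact U M
  have : Epi ((ModSite.quotOnπ O U).app M) := hepi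
  have hex' := hex.map (ModSite.restr O V)
  have hq : ModNull.IsQuot (U := Over.mk (prod.snd : U ⨯ V ⟶ V))
      ((ModSite.restr O V).map ((ModSite.quotOnπ O U).app M)) := by
    refine ModNull.isQuot_of_gen ((ModSite.restr O V).map ((ModSite.extZeroAdj O U).counit.app M)) _
      (gen_restr (ModNull.gen_openMod M)) (isNullOn_restr (ExtSupp.isNullOn_quotOn O U M))
      fun Y φ hφ => ?_
    have : Epi ((ExtSupp.openSeq U M).map (ModSite.restr O V)).g :=
      inferInstanceAs (Epi ((ModSite.restr O V).map _))
    exact ⟨hex'.desc φ hφ, hex'.g_desc φ hφ⟩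
  obtain ⟨e, -⟩ := hq.exists_iso (ModNull.isQuot_quotOnπ _)
  exact ⟨e⟩

end Groth.Agent.H02CA.ModExcision
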