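import Groth.Agent.H15Site.ModOver
import Groth.Agent.H15Site.ModFlat
import Groth.Agent.S6154
import Groth.Prelude.Def_ExtSupp
import Mathlib.CategoryTheory.Abelian.Refinements
import Mathlib.CategoryTheory.Adjunction.Additive

/-!
# Modules null on an object of the site, and modules generated by it
-/

set_option autoImplicit false
set_option linter.style.haveILetI false
set_option linter.unusedSectionVars false

universe u

open CategoryTheory CategoryTheory.Limits Opposite MonoidalCategory

namespace Groth.Agent.H02CA.ModNull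

open Groth.Agent.H15Site Groth.Agent.H15Site.ModTensor Groth.Agent.H15Site.OverPre

attribute [local instance 10000] SiteInst.hasSheafifySite SiteInst.hasWeakSheafifySite

variable {C : Type u} [SmallCategory C] {J : GrothendieckTopology C} {O : Sheaf J CommRingCat.{u}}
  {U : C}

/-- Every section is locally zero or lives over an object mapping to `U`. -/
def Gen (U : C) (P : ModSite.Mod O) : Prop :=
  ∀ (V : C) (s : ((forg O).obj P).obj (op V)), ∃ S : Sieve V, S ∈ J V ∧
    ∀ ⦃W : C⦄ (g : W ⟶ V), S g → rs ((forg O).obj P) g.op s = 0 ∨ Nonempty (W ⟶ U)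

lemma injective_app {P Q : ModSite.Mod O} (i : P ⟶ Q) [Mono i] (V : C) :
    Function.Injective (((forg O).map i).app (op V)).hom := by
  have := ModOver.preservesMonomorphisms_forg O
  exact PresheafOfModules.injective_of_mono ((forg O).map i) (op V)

lemma Gen.of_mono {P Q : ModSite.Mod O} (i : P ⟶ Q) [Mono i] (h : Gen U Q) : Gen U P := by
  intro V s
  obtain ⟨S, hS, hs⟩ := h V ((((forg O).map i).app (op V)).hom s)
  refine ⟨S, hS, fun W g hg => (hs g hg).imp (fun h0 => ?_) id⟩
  apply injective_app i W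
  exact (rs_app ((forg O).map i) g.op s).trans (h0.trans (map_zero _).symm)

lemma Gen.of_iso {P Q : ModSite.Mod O} (e : P ≅ Q) (h : Gen U Q) : Gen U P := h.of_mono e.hom

/-- The extension by zero is generated by `U`. -/
lemma gen_extZero (P : ModSite.Mod (O.over U)) : Gen U ((ModSite.extZero O U).obj P) := by
  refine Gen.of_iso ((ModOver.jIso O U).app P) (fun V s => ?_)
  let Q := (ModOver.jp O U).obj ((forg (O.over U)).obj P)
  obtain ⟨-, hs⟩ := (isIso_aSh_map_iff _).1 (isIso_aSh_map_unit (O := O) Q)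
  refine ⟨_, Presheaf.imageSieve_mem J ((PresheafOfModules.toPresheaf _).map ((adj O).unit.app Q))
    (U := op V) s, fun W g hg => ?_⟩
  by_cases h : Nonempty (W ⟶ U)
  · exact Or.inr h
  · left
    obtain ⟨t, ht⟩ := hg
    have h0 : t = 0 := by
      refine proj_ext (R := O.obj) ((forg (O.over U)).obj P) (X := op W) fun φ => ?_
      exact (h ⟨φ⟩).elim
    subst h0
    exact ht.symm.trans (map_zero _)

lemma gen_openMod (M : ModSite.Mod O) : Gen U (ExtSupp.openMod U M) := gen_extZero _

/-- There are no maps from a generated module to a null one. -/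
lemma Gen.eq_zero {P N : ModSite.Mod O} (hP : Gen U P) (hN : ModSite.IsNullOn O U N) (φ : P ⟶ N) :
    φ = 0 := by
  have : (forg O).Faithful := (SheafOfModules.fullyFaithfulForget (ModSite.ringSh O)).faithful
  refine (forg O).map_injective (Eq.trans (b := 0) ?_ rfl)
  refine PresheafOfModules.hom_ext fun X => ?_
  obtain ⟨V⟩ := X
  refine ModuleCat.hom_ext (LinearMap.ext fun s => ?_)
  obtain ⟨S, hS, hs⟩ := hP V s
  refine separated_forg N S hS _ _ fun W g hg => ?_
  show rs _ g.op ((((forg O).map φ).app (op V)).hom s) = rs _ g.op 0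
  rw [← rs_app]
  have e0 : rs ((forg O).obj N) g.op 0 = 0 := map_zero (((forg O).obj N).presheaf.map g.op).hom
  rw [e0]
  rcases hs g hg with h | a
  · rw [h]; exact map_zero _
  · exact (ExtSupp.isNullOn_iff O U N).1 hN a.some _

variable (O U)

instance preservesZero_restr : (ModSite.restr O U).PreservesZeroMorphisms where
  map_zero _ _ := rfl

lemma isNullOn_iso {P Q : ModSite.Mod O} (e : P ≅ Q) (h : ModSite.IsNullOn O U Q) :
    ModSite.IsNullOn O U P :=
  IsZero.of_iso h ((ModSite.restr O U).mapIso e)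

lemma isNullOn_of_mono {P Q : ModSite.Mod O} (i : P ⟶ Q) [Mono i] (h : ModSite.IsNullOn O U Q) :
    ModSite.IsNullOn O U P := by
  refine (ExtSupp.isNullOn_iff O U P).2 fun V g x => injective_app i V ?_
  exact ((ExtSupp.isNullOn_iff O U Q).1 h g _).trans (map_zero _).symm

variable {O U}

lemma restr_map_eq_zero_of_null_tgt {P Q : ModSite.Mod O} (hQ : ModSite.IsNullOn O U Q)
    (φ : P ⟶ Q) : (ModSite.restr O U).map φ = 0 := IsZero.eq_of_tgt hQ _ _

lemma restr_map_comp_eq_zero {P Q R : ModSite.Mod O} (hQ : ModSite.IsNullOn O U Q)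
    (φ : P ⟶ Q) (ψ : Q ⟶ R) : (ModSite.restr O U).map (φ ≫ ψ) = 0 := by
  rw [Functor.map_comp, restr_map_eq_zero_of_null_tgt hQ φ, zero_comp]

variable [ModSite.HasPushOver O U]

/-- `π : A ⟶ B` is the projection onto the part supported outside `U`. -/
structure IsQuot {A B : ModSite.Mod O} (p : A ⟶ B) : Prop where
  epi : Epi p
  null : ModSite.IsNullOn O U B
  exists_fac : ∀ (Y : ModSite.Mod O) (φ : A ⟶ Y), (ModSite.restr O U).map φ = 0 → ∃ ψ, p ≫ ψ = φ

lemma counit_comp_quotOnπ (M : ModSite.Mod O) :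
    (ModSite.extZeroAdj O U).counit.app M ≫ (ModSite.quotOnπ O U).app M = 0 := cokernel.condition _

lemma epi_quotOnπ (M : ModSite.Mod O) : Epi ((ModSite.quotOnπ O U).app M) := by
  change Epi (coequalizer.π _ _); infer_instance

lemma isQuot_quotOnπ (M : ModSite.Mod O) : IsQuot (U := U) ((ModSite.quotOnπ O U).app M) where
  epi := epi_quotOnπ M
  null := ExtSupp.isNullOn_quotOn O U M
  exists_fac Y φ h := ⟨cokernel.desc _ φ ((ExtSupp.mem_homZ_iff U φ).1 h), cokernel.π_desc _ _ _⟩

/-- Two such projections have isomorphic targets. -/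
lemma IsQuot.exists_iso {A B B' : ModSite.Mod O} {p : A ⟶ B} {p' : A ⟶ B'}
    (h : IsQuot (U := U) p) (h' : IsQuot (U := U) p') : ∃ e : B ≅ B', p ≫ e.hom = p' := by
  obtain ⟨f, hf⟩ := h.exists_fac B' p' (restr_map_eq_zero_of_null_tgt h'.null p')
  obtain ⟨g, hg⟩ := h'.exists_fac B p (restr_map_eq_zero_of_null_tgt h.null p)
  have := h.epi
  have := h'.epi
  refine ⟨⟨f, g, ?_, ?_⟩, hf⟩
  · rw [← cancel_epi p, reassoc_of% hf, hg, Category.comp_id]
  · rw [← cancel_epi p', reassoc_of% hg, hf, Category.comp_id]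

/-- A cokernel of a map from a generated module, with null target, is such a projection. -/
lemma isQuot_of_gen {K A B : ModSite.Mod O} (k : K ⟶ A) (p : A ⟶ B) [Epi p] (hK : Gen U K)
    (hB : ModSite.IsNullOn O U B) (h : ∀ (Y : ModSite.Mod O) (φ : A ⟶ Y), k ≫ φ = 0 → ∃ ψ, p ≫ ψ = φ) :
    IsQuot (U := U) p where
  epi := inferInstance
  null := hB
  exists_fac Y φ hφ := by
    obtain ⟨ψ, hψ⟩ := (isQuot_quotOnπ (U := U) A).exists_fac Y φ hφ
    refine h Y φ ?_
    rw [← hψ, ← Category.assoc, hK.eq_zero (ExtSupp.isNullOn_quotOn O U A) (k ≫ _), zero_comp]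

/-- `quotOn` preserves monomorphisms. -/
lemma mono_quotOn_map {A B : ModSite.Mod O} (f : A ⟶ B) [Mono f] :
    Mono ((ModSite.quotOn O U).map f) := by
  refine Preadditive.mono_of_cancel_zero _ fun {T} g hg => ?_
  have := epi_quotOnπ (U := U) A
  obtain ⟨T', p, hp, a, ha⟩ := surjective_up_to_refinements_of_epi ((ModSite.quotOnπ O U).app A) g
  have h2 : (a ≫ f) ≫ (ModSite.quotOnπ O U).app B = 0 := by
    have := (ModSite.quotOnπ O U).naturality f
    simp only [Functor.id_map] at this
    rw [Category.assoc, this, ← Category.assoc, ← ha, Category.assoc, hg, comp_zero]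
  obtain ⟨T'', q, hq, t, ht⟩ :=
    (ExtSupp.openSeq_exact U B).1.exact_up_to_refinements (a ≫ f) h2
  let ε := (ModSite.extZeroAdj O U).counit.app B
  have hP : Gen U (pullback f ε) := (gen_openMod B).of_mono (pullback.snd f ε)
  let l : T'' ⟶ pullback f ε := pullback.lift (q ≫ a) t (by rw [Category.assoc]; exact ht)
  have h3 : (q ≫ a) ≫ (ModSite.quotOnπ O U).app A = 0 := by
    rw [show q ≫ a = l ≫ pullback.fst f ε from (pullback.lift_fst _ _ _).symm, Category.assoc,
      hP.eq_zero (ExtSupp.isNullOn_quotOn O U A) (pullback.fst f ε ≫ _), comp_zero]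
  rw [Category.assoc, ← ha, ← Category.assoc] at h3
  exact zero_of_epi_comp _ h3

lemma preservesMonomorphisms_quotOn : (ModSite.quotOn O U).PreservesMonomorphisms :=
  ⟨fun f _ => mono_quotOn_map f⟩

/-! ### The adjunction between `quotOn` and `sectOn` -/

lemma comp_unit_eq_zero_iff {Y X : ModSite.Mod O} (φ : Y ⟶ X) :
    φ ≫ (ModSite.restrPushOverAdj O U).unit.app X = 0 ↔ (ModSite.restr O U).map φ = 0 := by
  let adj := ModSite.restrPushOverAdj O U
  constructor
  · intro h
    have h1 : (ModSite.restr O U).map φ ≫ (ModSite.restr O U).map (adj.unit.app X) = 0 := by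
      rw [← Functor.map_comp, h, Functor.map_zero]
    have h2 := congrArg (fun k => k ≫ adj.counit.app ((ModSite.restr O U).obj X)) h1
    simpa [adj.left_triangle_components] using h2
  · intro h
    have h1 := adj.unit.naturality φ
    simp only [Functor.id_map, Functor.comp_map] at h1
    rw [h1, h, Functor.map_zero, comp_zero]

lemma sectOnι_comp_unit (X : ModSite.Mod O) :
    (ModSite.sectOnι O U).app X ≫ (ModSite.restrPushOverAdj O U).unit.app X = 0 := kernel.condition _

lemma mono_sectOnι (X : ModSite.Mod O) : Mono ((ModSite.sectOnι O U).app X) := by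
  change Mono (equalizer.ι _ _); infer_instance

variable (O U) in
/-- Maps out of `quotOn Y` and into `sectOn X` are both maps which vanish on `U`. -/
noncomputable def homEquivZ (Y X : ModSite.Mod O) :
    ((ModSite.quotOn O U).obj Y ⟶ X) ≃ (Y ⟶ (ModSite.sectOn O U).obj X) where
  toFun g := kernel.lift _ ((ModSite.quotOnπ O U).app Y ≫ g)
    ((comp_unit_eq_zero_iff _).2 (restr_map_comp_eq_zero (ExtSupp.isNullOn_quotOn O U Y) _ g))
  invFun s := cokernel.desc _ (s ≫ (ModSite.sectOnι O U).app X)
    ((ExtSupp.mem_homZ_iff U _).1 ((comp_unit_eq_zero_iff _).1 (by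
      rw [Category.assoc, sectOnι_comp_unit, comp_zero])))
  left_inv g := by
    have := epi_quotOnπ (U := U) Y
    refine (cancel_epi ((ModSite.quotOnπ O U).app Y)).1 ((cokernel.π_desc _ _ _).trans ?_)
    exact kernel.lift_ι _ _ _
  right_inv s := by
    have := mono_sectOnι (U := U) X
    refine (cancel_mono ((ModSite.sectOnι O U).app X)).1 ((kernel.lift_ι _ _ _).trans ?_)
    exact cokernel.π_desc _ _ _

lemma homEquivZ_spec {Y X : ModSite.Mod O} (g : (ModSite.quotOn O U).obj Y ⟶ X) :
    homEquivZ O U Y X g ≫ (ModSite.sectOnι O U).app X = (ModSite.quotOnπ O U).app Y ≫ g :=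
  kernel.lift_ι _ _ _

variable (O U) in
/-- `quotOn ⊣ sectOn`. -/
noncomputable def adjZ : ModSite.quotOn O U ⊣ ModSite.sectOn O U :=
  Adjunction.mkOfHomEquiv
    { homEquiv := homEquivZ O U
      homEquiv_naturality_left_symm := fun {Y' Y X} f g => by
        obtain ⟨g, rfl⟩ := (homEquivZ O U Y X).surjective g
        rw [Equiv.symm_apply_apply, Equiv.symm_apply_eq]
        have := mono_sectOnι (U := U) X
        refine (cancel_mono ((ModSite.sectOnι O U).app X)).1 ?_
        rw [Category.assoc, homEquivZ_spec, homEquivZ_spec, ← Category.assoc, ← Category.assoc]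
        exact congrArg (· ≫ g) ((ModSite.quotOnπ O U).naturality f)
      homEquiv_naturality_right := fun {Y X X'} g f => by
        have := mono_sectOnι (U := U) X'
        refine (cancel_mono ((ModSite.sectOnι O U).app X')).1 ?_
        rw [Category.assoc, homEquivZ_spec, ← Category.assoc, ← homEquivZ_spec, Category.assoc]
        exact congrArg (homEquivZ O U Y X g ≫ ·) ((ModSite.sectOnι O U).naturality f).symm }

lemma additive_quotOn : (ModSite.quotOn O U).Additive := (adjZ O U).left_adjoint_additive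

variable (U) in
/-- `sectOn` preserves injectives. -/
lemma injective_sectOn (I : ModSite.Mod O) [Injective I] : Injective ((ModSite.sectOn O U).obj I) :=
  have := preservesMonomorphisms_quotOn (O := O) (U := U)
  Injective.injective_of_adjoint (adjZ O U) I

/-! ### Tensor products -/

variable (U) in
lemma isNullOn_tensor_left (F G : ModSite.Mod O) (h : ModSite.IsNullOn O U F) :
    ModSite.IsNullOn O U ((tR G).obj F) := by
  obtain ⟨e⟩ := S6154.result O U F G
  have := additive_tR ((ModSite.restr O U).obj G)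
  exact IsZero.of_iso ((tR ((ModSite.restr O U).obj G)).map_isZero h) e

variable (U) in
lemma isNullOn_tensor_right (F G : ModSite.Mod O) (h : ModSite.IsNullOn O U G) :
    ModSite.IsNullOn O U (((ModSite.tensorBi O).obj F).obj G) :=
  isNullOn_iso O U ((tLIso F).app G) (isNullOn_tensor_left U G F h)

/-- A right exact functor preserving null and generated modules preserves the projections. -/
lemma isQuot_map (G : ModSite.Mod O ⥤ ModSite.Mod O) [G.Additive] [PreservesFiniteColimits G]
    (hnull : ∀ F, ModSite.IsNullOn O U F → ModSite.IsNullOn O U (G.obj F))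
    (hgen : ∀ P, Gen U (G.obj ((ModSite.extZero O U).obj P))) (M : ModSite.Mod O) :
    IsQuot (U := U) (G.map ((ModSite.quotOnπ O U).app M)) := by
  obtain ⟨hex, hepi⟩ := ExtSupp.openSeq_exact U M
  have : Epi ((ModSite.quotOnπ O U).app M) := hepi
  have hex' : ((ExtSupp.openSeq U M).map G).Exact :=
    hex.map_of_epi_of_preservesCokernel G hepi inferInstance
  refine isQuot_of_gen (G.map ((ModSite.extZeroAdj O U).counit.app M)) _ (hgen _)
    (hnull _ (ExtSupp.isNullOn_quotOn O U M)) fun Y φ hφ => ?_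
  have : Epi ((ExtSupp.openSeq U M).map G).g := inferInstanceAs (Epi (G.map _))
  exact ⟨hex'.desc φ hφ, hex'.g_desc φ hφ⟩

lemma isQuot_tR_map (N M : ModSite.Mod O) :
    IsQuot (U := U) ((tR N).map ((ModSite.quotOnπ O U).app M)) :=
  have := additive_tR N
  have := preservesFiniteColimits_tR N
  isQuot_map (tR N) (fun F h => isNullOn_tensor_left U F N h)
    (fun P => (gen_extZero _).of_iso (ModOver.extProj O U P N).symm) M

lemma isQuot_tL_map (T M : ModSite.Mod O) :
    IsQuot (U := U) (((ModSite.tensorBi O).obj T).map ((ModSite.quotOnπ O U).app M)) := by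
  have := preservesColimits_tL T
  have : PreservesFiniteColimits ((ModSite.tensorBi O).obj T) :=
    PreservesColimitsOfSize.preservesFiniteColimits _
  have := additive_of_preservesFiniteColimits ((ModSite.tensorBi O).obj T)
  exact isQuot_map _ (fun F h => isNullOn_tensor_right U T F h)
    (fun P => ((gen_extZero _).of_iso (ModOver.extProj O U P T).symm).of_iso
      ((tLIso T).app ((ModSite.extZero O U).obj P))) M

lemma nonempty_iso_of_isQuot {H F₁ F₂ : ModSite.Mod O ⥤ ModSite.Mod O} (p₁ : H ⟶ F₁) (p₂ : H ⟶ F₂)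
    (h₁ : ∀ T, IsQuot (U := U) (p₁.app T)) (h₂ : ∀ T, IsQuot (U := U) (p₂.app T)) :
    Nonempty (F₁ ≅ F₂) := by
  choose e he using fun T => (h₁ T).exists_iso (h₂ T)
  refine ⟨NatIso.ofComponents e fun {A B} f => ?_⟩
  have := (h₁ A).epi
  rw [← cancel_epi (p₁.app A), ← Category.assoc, ← p₁.naturality, Category.assoc, he,
    p₂.naturality, reassoc_of% he A]

variable (O U) in
/-- `(quotOn -) ⊗ M = - ⊗ quotOn M`. -/
lemma nonempty_quotOn_tR_iso (M : ModSite.Mod O) :
    Nonempty (ModSite.quotOn O U ⋙ tR M ≅ tR ((ModSite.quotOn O U).obj M)) :=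
  nonempty_iso_of_isQuot (H := tR M)
    ((tR M).leftUnitor.inv ≫ Functor.whiskerRight (ModSite.quotOnπ O U) (tR M))
    ((ModSite.tensorBi O).flip.map ((ModSite.quotOnπ O U).app M))
    (fun T => by simpa using isQuot_tR_map M T) (fun T => isQuot_tL_map T M)

variable (O U) in
/-- `(quotOn -) ⊗ M = quotOn (- ⊗ M)`. -/
lemma nonempty_quotOn_tR_comm (M : ModSite.Mod O) :
    Nonempty (ModSite.quotOn O U ⋙ tR M ≅ tR M ⋙ ModSite.quotOn O U) :=
  nonempty_iso_of_isQuot (H := tR M)
    ((tR M).leftUnitor.inv ≫ Functor.whiskerRight (ModSite.quotOnπ O U) (tR M))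
    ((tR M).rightUnitor.inv ≫ Functor.whiskerLeft (tR M) (ModSite.quotOnπ O U))
    (fun T => by simpa using isQuot_tR_map M T)
    (fun T => by simpa using isQuot_quotOnπ (U := U) ((tR M).obj T))

variable (O U) in
/-- `Γ_Z ∘ ℋom(M, -) = ℋom(quotOn M, -)`. -/
lemma nonempty_sheafHom_sectOn_iso (M : ModSite.Mod O) [ModSite.HasSheafHom M]
    [ModSite.HasSheafHom ((ModSite.quotOn O U).obj M)] :
    Nonempty (ModSite.sheafHom M ⋙ ModSite.sectOn O U ≅
      ModSite.sheafHom ((ModSite.quotOn O U).obj M)) := by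
  obtain ⟨e⟩ := nonempty_quotOn_tR_iso O U M
  exact ⟨(((adjZ O U).comp (ModSite.sheafHomAdj M)).ofNatIsoLeft e).rightAdjointUniq
    (ModSite.sheafHomAdj ((ModSite.quotOn O U).obj M))⟩

variable (O U) in
/-- `Γ_Z ∘ ℋom(M, -) = ℋom(M, Γ_Z -)`. -/
lemma nonempty_sheafHom_sectOn_comm (M : ModSite.Mod O) [ModSite.HasSheafHom M] :
    Nonempty (ModSite.sheafHom M ⋙ ModSite.sectOn O U ≅
      ModSite.sectOn O U ⋙ ModSite.sheafHom M) := by
  obtain ⟨e⟩ := nonempty_quotOn_tR_comm O U M
  exact ⟨(((adjZ O U).comp (ModSite.sheafHomAdj M)).ofNatIsoLeft e).rightAdjointUniq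
    ((ModSite.sheafHomAdj M).comp (adjZ O U))⟩

variable (O U) in
/-- `(quotOn O) ⊗ M = quotOn M`. -/
lemma nonempty_quotOn_unit_tensor_iso (M : ModSite.Mod O) :
    Nonempty ((tR M).obj ((ModSite.quotOn O U).obj (ModSite.unit O)) ≅ (ModSite.quotOn O U).obj M) := by
  obtain ⟨e⟩ := nonempty_quotOn_tR_comm O U M
  exact ⟨e.app (ModSite.unit O) ≪≫
    (ModSite.quotOn O U).mapIso ((ModOver.tensorUnitIso O).app M)⟩

end Groth.Agent.H02CA.ModNull
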