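import Groth.Agent.H29Slice.TransReg
import Mathlib

/-!
# Flatness of quotients by lifts of quasi-regular sequences over thickenings
-/

set_option autoImplicit false
set_option linter.style.haveILetI false
universe u

open scoped TensorProduct
open RingTheory.Sequence

namespace Groth.Agent.H02CA.NilLift

variable {A : Type u} [CommRing A] (I : Ideal A)

/-- Relations modulo `K` come from relations in `A ⧸ I`. -/
def RelFlat {L : Type u} [CommRing L] [Algebra A L] (K : Ideal L) : Prop :=
  ∀ (n : ℕ) (p : Fin n → A) (y : Fin n → L), ∑ i, p i • y i ∈ K →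
    ∃ (k : ℕ) (a : Fin n → Fin k → A) (z : Fin k → L),
      (∀ i, y i - ∑ j, a i j • z j ∈ K) ∧ ∀ j, ∑ i, p i * a i j ∈ I

theorem relFlat_of_surjective {L M : Type u} [CommRing L] [Algebra A L] [CommRing M] [Algebra A M] [Algebra (A ⧸ I) M]
    [IsScalarTower A (A ⧸ I) M] [Module.Flat (A ⧸ I) M] (π : L →ₐ[A] M) (hπ : Function.Surjective π) {K : Ideal L}
    (hK : RingHom.ker π = K) : RelFlat I K := by
  subst hK
  intro n p y hy
  have h : ∑ i, Ideal.Quotient.mk I (p i) • π (y i) = 0 := by
    rw [← RingHom.mem_ker.mp hy, map_sum]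
    exact Finset.sum_congr rfl fun i _ => by rw [map_smul]; exact algebraMap_smul (A ⧸ I) (p i) (π (y i))
  obtain ⟨k, a, z, hz, ha⟩ := Module.Flat.isTrivialRelation_of_sum_smul_eq_zero (R := A ⧸ I) (M := M) h
  choose z' hz' using fun j => hπ (z j)
  choose a' ha' using fun i j => Ideal.Quotient.mk_surjective (a i j)
  refine ⟨k, a', z', fun i => ?_, fun j => ?_⟩
  · rw [RingHom.mem_ker, map_sub, map_sum, show π (y i) = _ from hz i, sub_eq_zero]
    exact Finset.sum_congr rfl fun j _ => by
      rw [map_smul, hz', ← ha']; exact algebraMap_smul (A ⧸ I) _ _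
  · rw [← Ideal.Quotient.eq_zero_iff_mem, map_sum]
    refine Eq.trans ?_ (ha j)
    exact Finset.sum_congr rfl fun i _ => by rw [map_mul, ha']

theorem flat_of_locally {D : Type u} [CommRing D] [Algebra A D]
    (h : ∀ P : Ideal D, P.IsMaximal → ∃ b, b ∉ P ∧ Module.Flat A (Localization.Away b)) : Module.Flat A D := by
  let s : Set D := {b | Module.Flat A (Localization.Away b)}
  have hs : Ideal.span s = ⊤ := by
    by_contra hne
    obtain ⟨P, hP, hle⟩ := Ideal.exists_le_maximal _ hne
    obtain ⟨b, hb, hfl⟩ := h P hP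
    exact hb (hle (Ideal.subset_span hfl))
  exact Module.flat_of_isLocalized_span (R := A) D D s hs (fun r => Localization.Away r.1)
    (fun r => Algebra.linearMap D (Localization.Away r.1)) fun r => r.2

/-- Cutting by one element which is regular on the thickened fibre. -/
theorem flat_step {L : Type u} [CommRing L] [Algebra A L] [Algebra.FinitePresentation A L] (hI : I ≤ nilradical A)
    (J : Ideal L) (hJ : J.FG) [Module.Flat A (L ⧸ J)] (h : L)
    (hreg : ∀ x, h * x ∈ J ⊔ I.map (algebraMap A L) → x ∈ J ⊔ I.map (algebraMap A L))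
    (hrel : RelFlat I (J ⊔ Ideal.span {h} ⊔ I.map (algebraMap A L))) :
    Module.Flat A (L ⧸ (J ⊔ Ideal.span {h})) := by
  let C := L ⧸ J
  haveI : Algebra.FinitePresentation A C := Algebra.FinitePresentation.quotient hJ
  let hb : C := Ideal.Quotient.mk J h
  have key : ∀ q : PrimeSpectrum C, hb ∈ q.asIdeal → ∀ c t : C, t ∉ q.asIdeal →
      t * (hb * c) ∈ (q.asIdeal.comap (algebraMap A C)).map (algebraMap A C) →
      ∃ t' ∉ q.asIdeal, t' * c ∈ (q.asIdeal.comap (algebraMap A C)).map (algebraMap A C) := by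
    intro q _ c t ht hmem
    refine ⟨t, ht, ?_⟩
    obtain ⟨c, rfl⟩ := Ideal.Quotient.mk_surjective c
    obtain ⟨t, rfl⟩ := Ideal.Quotient.mk_surjective t
    let p := q.asIdeal.comap (algebraMap A C)
    have hpC : ∀ z : L, Ideal.Quotient.mk J z ∈ p.map (algebraMap A C) ↔ z ∈ p.map (algebraMap A L) ⊔ J := fun z => by
      rw [show algebraMap A C = (Ideal.Quotient.mk J).comp (algebraMap A L) from rfl, ← Ideal.map_map,
        ← Ideal.mem_comap, Ideal.comap_map_of_surjective _ Ideal.Quotient.mk_surjective, ← RingHom.ker_eq_comap_bot,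
        Ideal.mk_ker]
    have hIp : I.map (algebraMap A L) ≤ p.map (algebraMap A L) :=
      Ideal.map_mono (hI.trans (nilradical_le_prime p))
    have hbm : t * (h * c) ∈ p.map (algebraMap A L) ⊔ J := (hpC _).mp (by simpa [hb] using hmem)
    show Ideal.Quotient.mk J (t * c) ∈ _
    refine (hpC _).mpr ?_
    obtain ⟨u, hu, j, hj, huj⟩ := Submodule.mem_sup.mp hbm
    obtain ⟨n, y, p', hp', rfl⟩ : ∃ (n : ℕ) (y : Fin n → L) (p' : Fin n → A), (∀ i, p' i ∈ p) ∧ ∑ i, p' i • y i = u := by
      clear huj
      induction hu using Submodule.span_induction with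
      | mem z hz =>
        obtain ⟨a, ha, rfl⟩ := hz
        exact ⟨1, fun _ => 1, fun _ => a, fun _ => ha, by simp [Algebra.smul_def]⟩
      | zero => exact ⟨0, Fin.elim0, Fin.elim0, fun i => i.elim0, by simp⟩
      | add z w _ _ hz hw =>
        obtain ⟨n, y, p₁, h1, rfl⟩ := hz
        obtain ⟨m, y', p₂, h2, rfl⟩ := hw
        refine ⟨n + m, Fin.append y y', Fin.append p₁ p₂, fun i => ?_, ?_⟩
        · induction i using Fin.addCases with
          | left i => simpa using h1 i
          | right i => simpa using h2 i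
        · simp [Fin.sum_univ_add]
      | smul r z _ hz =>
        obtain ⟨n, y, p₁, h1, rfl⟩ := hz
        exact ⟨n, fun i => r • y i, p₁, h1, by rw [Finset.smul_sum]; exact Finset.sum_congr rfl fun i _ => smul_comm _ _ _⟩
    have hK : ∑ i, p' i • y i ∈ J ⊔ Ideal.span {h} ⊔ I.map (algebraMap A L) := by
      rw [show ∑ i, p' i • y i = t * c * h - j by rw [eq_sub_iff_add_eq, huj]; ring]
      exact sub_mem (Submodule.mem_sup_left (Submodule.mem_sup_right (Ideal.mul_mem_left _ _ (Ideal.mem_span_singleton_self h))))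
        (Submodule.mem_sup_left (Submodule.mem_sup_left hj))
    obtain ⟨k, a, z, hz, ha⟩ := hrel n p' y hK
    have hw : ∀ i, ∃ w, y i - ∑ l, a i l • z l - h * w ∈ J ⊔ I.map (algebraMap A L) := fun i => by
      have := hz i
      rw [sup_right_comm] at this
      obtain ⟨e, he, f, hf, hef⟩ := Submodule.mem_sup.mp this
      obtain ⟨w, rfl⟩ := Ideal.mem_span_singleton'.mp hf
      exact ⟨w, by rw [← hef, mul_comm w, add_sub_cancel_right]; exact he⟩
    choose w hw using hw
    have hsum : h * (t * c - ∑ i, p' i • w i) ∈ J ⊔ I.map (algebraMap A L) := by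
      have e : h * (t * c - ∑ i, p' i • w i) =
          (j + ∑ i, p' i • (y i - ∑ l, a i l • z l - h * w i)) + ∑ l, (∑ i, p' i * a i l) • z l := by
        simp only [smul_sub, Finset.sum_sub_distrib, Finset.smul_sum, smul_smul, Finset.sum_smul]
        rw [Finset.sum_comm (f := fun i l => (p' i * a i l) • z l), mul_sub, Finset.mul_sum]
        simp only [mul_smul_comm]
        linear_combination -huj
      rw [e]
      refine add_mem (add_mem (Submodule.mem_sup_left hj) (Submodule.sum_mem _ fun i _ => ?_))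
        (Submodule.mem_sup_right (Submodule.sum_mem _ fun l _ => ?_))
      · rw [Algebra.smul_def]; exact Ideal.mul_mem_left _ _ (hw i)
      · rw [Algebra.smul_def]; exact Ideal.mul_mem_right _ _ (Ideal.mem_map_of_mem _ (ha l))
    have h2 := hreg _ hsum
    rw [show t * c = (t * c - ∑ i, p' i • w i) + ∑ i, p' i • w i by ring]
    refine add_mem ?_ (Submodule.mem_sup_left (Submodule.sum_mem _ fun i _ => ?_))
    · rw [sup_comm] at h2
      exact sup_le_sup_right hIp J h2
    · rw [Algebra.smul_def]; exact Ideal.mul_mem_right _ _ (Ideal.mem_map_of_mem _ (hp' i))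
  haveI : Module.Flat A (C ⧸ Ideal.span {hb}) := by
    refine flat_of_locally fun P hP => ?_
    let q : PrimeSpectrum C := ⟨P.comap (Ideal.Quotient.mk _), Ideal.IsPrime.comap (hK := hP.isPrime) _⟩
    have hq : hb ∈ q.asIdeal := by
      show Ideal.Quotient.mk (Ideal.span {hb}) hb ∈ P
      rw [Ideal.Quotient.eq_zero_iff_mem.mpr (Ideal.mem_span_singleton_self hb)]
      exact zero_mem _
    obtain ⟨b, hbq, hs⟩ := Groth.Agent.H29Slice.exists_slice (A := A) hb q hq (key q hq)
    let Cb := Localization.Away b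
    obtain ⟨-, hfl⟩ := hs Cb
    refine ⟨Ideal.Quotient.mk _ b, hbq, ?_⟩
    let D := C ⧸ Ideal.span {hb}
    let Db := Cb ⧸ (Ideal.span {hb}).map (algebraMap C Cb)
    haveI : IsScalarTower A D Db := IsScalarTower.of_algebraMap_eq (R := A) (S := D) (A := Db) fun a =>
      congrArg (Ideal.Quotient.mk _) (IsScalarTower.algebraMap_apply A C Cb a)
    haveI : IsLocalization.Away (Ideal.Quotient.mk (Ideal.span {hb}) b) Db := by
      show IsLocalization (Submonoid.powers _) Db
      rw [← show Algebra.algebraMapSubmonoid D (Submonoid.powers b) = Submonoid.powers (Ideal.Quotient.mk (Ideal.span {hb}) b) from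
        Submonoid.map_powers _ b]
      infer_instance
    haveI : Module.Flat A Db := by
      refine Module.Flat.of_linearEquiv (M := Cb ⧸ Ideal.span {algebraMap C Cb hb}) ?_
      exact (Ideal.quotientEquivAlgOfEq A (by rw [Ideal.map_span, Set.image_singleton])).toLinearEquiv
    exact Module.Flat.of_linearEquiv
      ((IsLocalization.algEquiv (Submonoid.powers (Ideal.Quotient.mk (Ideal.span {hb}) b))
        (Localization.Away (Ideal.Quotient.mk (Ideal.span {hb}) b)) Db).restrictScalars A).toLinearEquiv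
  refine Module.Flat.of_linearEquiv (M := C ⧸ Ideal.span {hb}) ?_
  refine (((Ideal.quotientEquivAlgOfEq A ?_).trans
    (DoubleQuot.quotQuotEquivQuotSupₐ A J (Ideal.span {h}))).toLinearEquiv).symm
  rw [Ideal.map_span, Set.image_singleton]; rfl

/-- Lifts of a transversally regular sequence cut out a flat algebra. -/
theorem flat_quotient_of_transReg {L Lb : Type u} [CommRing L] [Algebra A L] [Algebra.FinitePresentation A L]
    [Module.Flat A L] (hI : I ≤ nilradical A) [CommRing Lb] [Algebra A Lb] [Algebra (A ⧸ I) Lb]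
    [IsScalarTower A (A ⧸ I) Lb] (π : L →ₐ[A] Lb) (hπ : Function.Surjective π)
    (hker : RingHom.ker π = I.map (algebraMap A L)) (rs : List L)
    (h : RegImm.IsTransRegularSeq (A ⧸ I) Lb (rs.map π)) : Module.Flat A (L ⧸ Ideal.ofList rs) := by
  suffices ∀ j, j ≤ rs.length → Module.Flat A (L ⧸ Ideal.ofList (rs.take j)) by
    have := this rs.length le_rfl
    rwa [List.take_length] at this
  intro j hj
  induction j with
  | zero =>
    rw [List.take_zero, Ideal.ofList_nil]
    exact Module.Flat.of_linearEquiv (AlgEquiv.quotientBot A L).toLinearEquiv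
  | succ j ih =>
    haveI := ih (by omega)
    have hjl : j < rs.length := by omega
    have hker' : ∀ K : Ideal L, (K.map π).comap π = K ⊔ I.map (algebraMap A L) := fun K => by
      rw [Ideal.comap_map_of_surjective π hπ, ← RingHom.ker_eq_comap_bot, hker]
    have hmap : ∀ i, Ideal.ofList ((rs.map π).take i) = (Ideal.ofList (rs.take i)).map π := fun i => by
      rw [← List.map_take]; exact (Ideal.map_ofList π.toRingHom _).symm
    have htake : Ideal.ofList (rs.take (j + 1)) = Ideal.ofList (rs.take j) ⊔ Ideal.span {rs[j]} := by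
      rw [← List.take_concat_get' rs j hjl, Ideal.ofList_append, Ideal.ofList_singleton]
    rw [htake]
    refine flat_step I hI _ (Submodule.fg_span (List.finite_toSet _)) _ (fun x hx => ?_) ?_
    · rw [← hker', Ideal.mem_comap, ← hmap]
      rw [← hker', Ideal.mem_comap, ← hmap, map_mul] at hx
      have hr := ((isWeaklyRegular_iff Lb _).mp h.1) j (by simpa using hjl)
      rw [Ideal.smul_eq_mul, Ideal.mul_top] at hr
      rw [← Ideal.Quotient.eq_zero_iff_mem] at hx ⊢
      refine hr.right_eq_zero_of_smul ?_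
      simp only [List.getElem_map]
      exact hx
    · rw [← htake, ← hker']
      haveI := h.2 (j + 1) (by simpa using hjl)
      refine relFlat_of_surjective I (M := Lb ⧸ Ideal.ofList ((rs.map π).take (j + 1)))
        ((Ideal.Quotient.mkₐ A _).comp π) (Ideal.Quotient.mk_surjective.comp hπ) ?_
      rw [← hmap]
      ext x
      simp [Ideal.Quotient.eq_zero_iff_mem]

theorem main (B : Type u) [CommRing B] [Algebra A B] [Module.Flat A B] [Algebra.FinitePresentation A B]
    (hI : I ≤ nilradical A) {r : ℕ} (f : Fin r → B)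
    (hq : CAlgX.IsQuasiRegular (fun i => Ideal.Quotient.mk (I.map (algebraMap A B)) (f i)))
    (hflat : Module.Flat (A ⧸ I) ((B ⧸ I.map (algebraMap A B)) ⧸
      Ideal.span (Set.range fun i => Ideal.Quotient.mk (I.map (algebraMap A B)) (f i)))) :
    Module.Flat A (B ⧸ Ideal.span (Set.range f)) := by
  let IB := I.map (algebraMap A B)
  let e : (A ⧸ I) ⊗[A] B ≃ₐ[A ⧸ I] (B ⧸ IB) :=
    let e₀ : (A ⧸ I) ⊗[A] B ≃ₐ[A] (B ⧸ IB) := (Algebra.TensorProduct.comm A (A ⧸ I) B).trans
      ((Algebra.TensorProduct.quotIdealMapEquivTensorQuot B I).symm.restrictScalars A)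
    { e₀ with
      commutes' := fun r => by
        obtain ⟨a, rfl⟩ := Ideal.Quotient.mk_surjective r
        exact e₀.commutes a }
  haveI : Algebra.FinitePresentation (A ⧸ I) (B ⧸ IB) := Algebra.FinitePresentation.equiv e
  haveI : Module.Flat (A ⧸ I) (B ⧸ IB) := Module.Flat.of_linearEquiv e.toLinearEquiv.symm
  refine flat_of_locally fun P hP => ?_
  let q₀ : Ideal B := P.comap (Ideal.Quotient.mk _)
  haveI : q₀.IsPrime := Ideal.IsPrime.comap (hK := hP.isPrime) _
  have hIq : IB ≤ q₀ := Ideal.map_le_iff_le_comap.mpr (hI.trans (nilradical_le_prime _))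
  let q : PrimeSpectrum (B ⧸ IB) := ⟨q₀.map (Ideal.Quotient.mk IB),
    Ideal.map_isPrime_of_surjective Ideal.Quotient.mk_surjective (by rwa [Ideal.mk_ker])⟩
  have hfq : ∀ i, Ideal.Quotient.mk IB (f i) ∈ q.asIdeal := fun i => Ideal.mem_map_of_mem (I := q₀) _ (by
    show Ideal.Quotient.mk (Ideal.span (Set.range f)) (f i) ∈ P
    rw [Ideal.Quotient.eq_zero_iff_mem.mpr (Ideal.subset_span (α := B) (s := Set.range f) ⟨i, rfl⟩)]
    exact zero_mem _)
  obtain ⟨bb, hbb, htr⟩ := Groth.Agent.H29Slice.exists_transReg (A := A ⧸ I) (B ⧸ IB) _ hq hflat q hfq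
  obtain ⟨b, rfl⟩ := Ideal.Quotient.mk_surjective bb
  refine ⟨Ideal.Quotient.mk _ b, fun h => hbb (Ideal.mem_map_of_mem (I := q₀) _ h), ?_⟩
  let L := Localization.Away b
  let Lb := L ⧸ IB.map (algebraMap B L)
  letI : Algebra (A ⧸ I) Lb := ((algebraMap (B ⧸ IB) Lb).comp (algebraMap (A ⧸ I) (B ⧸ IB))).toAlgebra
  haveI : IsScalarTower (A ⧸ I) (B ⧸ IB) Lb := IsScalarTower.of_algebraMap_eq fun _ => rfl
  haveI : IsScalarTower A (A ⧸ I) Lb := IsScalarTower.of_algebraMap_eq (R := A) (S := A ⧸ I) (A := Lb) fun a =>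
    congrArg (Ideal.Quotient.mk _) (IsScalarTower.algebraMap_apply A B L a)
  haveI : IsLocalization.Away (Ideal.Quotient.mk IB b) Lb := by
    show IsLocalization (Submonoid.powers _) Lb
    rw [← show Algebra.algebraMapSubmonoid (B ⧸ IB) (Submonoid.powers b) = Submonoid.powers (Ideal.Quotient.mk IB b) from
      Submonoid.map_powers _ b]
    infer_instance
  haveI : Algebra.FinitePresentation B L := IsLocalization.Away.finitePresentation b
  haveI : Algebra.FinitePresentation A L := Algebra.FinitePresentation.trans A B L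
  haveI : Module.Flat B L := IsLocalization.flat L (Submonoid.powers b)
  haveI : Module.Flat A L := Module.Flat.trans A B L
  let π : L →ₐ[A] Lb := Ideal.Quotient.mkₐ A _
  have hker : RingHom.ker π = I.map (algebraMap A L) := by
    rw [IsScalarTower.algebraMap_eq A B L, ← Ideal.map_map]
    exact Ideal.mk_ker
  have htr' := htr Lb
  rw [List.map_ofFn] at htr'
  have hlist : List.ofFn (algebraMap (B ⧸ IB) Lb ∘ fun i => Ideal.Quotient.mk IB (f i)) =
      (List.ofFn (algebraMap B L ∘ f)).map π := by
    rw [List.map_ofFn]; rfl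
  rw [hlist] at htr'
  haveI hfl := flat_quotient_of_transReg I hI π Ideal.Quotient.mk_surjective hker _ htr'
  have hspan : Ideal.ofList (List.ofFn (algebraMap B L ∘ f)) = (Ideal.span (Set.range f)).map (algebraMap B L) := by
    rw [Ideal.map_span, ← Set.range_comp]
    show Ideal.span {x | x ∈ List.ofFn _} = _
    congr 1
    ext x
    simp [List.mem_ofFn]
  let Q := B ⧸ Ideal.span (Set.range f)
  let Qb := L ⧸ (Ideal.span (Set.range f)).map (algebraMap B L)
  haveI : IsScalarTower A Q Qb := IsScalarTower.of_algebraMap_eq (R := A) (S := Q) (A := Qb) fun a =>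
    congrArg (Ideal.Quotient.mk _) (IsScalarTower.algebraMap_apply A B L a)
  haveI : IsLocalization.Away (Ideal.Quotient.mk (Ideal.span (Set.range f)) b) Qb := by
    show IsLocalization (Submonoid.powers _) Qb
    rw [← show Algebra.algebraMapSubmonoid Q (Submonoid.powers b) = Submonoid.powers (Ideal.Quotient.mk (Ideal.span (Set.range f)) b) from
      Submonoid.map_powers _ b]
    infer_instance
  haveI : Module.Flat A Qb := Module.Flat.of_linearEquiv (Ideal.quotientEquivAlgOfEq A hspan.symm).toLinearEquiv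
  exact Module.Flat.of_linearEquiv
    ((IsLocalization.algEquiv (Submonoid.powers (Ideal.Quotient.mk (Ideal.span (Set.range f)) b))
      (Localization.Away (Ideal.Quotient.mk (Ideal.span (Set.range f)) b)) Qb).restrictScalars A).toLinearEquiv

end Groth.Agent.H02CA.NilLift
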