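import Groth.Prelude.Def_W4c5spincurvestfNode
import Mathlib.RingTheory.MvPowerSeries.Equiv
import Mathlib.RingTheory.AdicCompletion.Basic

/-!
# Coordinates on `R[[x, y]]/(xy - π)` for `π` in the maximal ideal of a complete local ring
-/

set_option autoImplicit false
universe u

open SpinCurv MvPowerSeries

namespace Groth.Agent.H02CA.NodeCoord

variable {R : Type u} [CommRing R] [IsLocalRing R] [IsAdicComplete (IsLocalRing.maximalIdeal R) R]
  {π : R} (hπ : π ∈ IsLocalRing.maximalIdeal R)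

/-- Partial sums. -/
def S (π : R) (c : ℕ → R) (N : ℕ) : R := ∑ k ∈ Finset.range N, π ^ k * c k

theorem eq_of_forall_mem {a b : R} (h : ∀ N, a - b ∈ IsLocalRing.maximalIdeal R ^ N) : a = b := by
  rw [← sub_eq_zero]
  refine IsHausdorff.haus inferInstance (I := IsLocalRing.maximalIdeal R) _ fun n => ?_
  rw [SModEq.zero, smul_eq_mul, Ideal.mul_top]
  exact h n

include hπ in
theorem exists_lim (c : ℕ → R) : ∃ L : R, ∀ N, L - S π c N ∈ IsLocalRing.maximalIdeal R ^ N := by
  have hc : ∀ {m n}, m ≤ n → S π c m ≡ S π c n [SMOD (IsLocalRing.maximalIdeal R ^ m • ⊤ : Submodule R R)] := by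
    intro m n hmn
    rw [SModEq.sub_mem, smul_eq_mul, Ideal.mul_top, S, S, ← neg_sub,
      ← Finset.sum_Ico_eq_sub _ hmn]
    exact neg_mem (sum_mem fun k hk => Ideal.mul_mem_right _ _
      (Ideal.pow_le_pow_right (Finset.mem_Ico.mp hk).1 (Ideal.pow_mem_pow hπ k)))
  obtain ⟨L, hL⟩ := IsPrecomplete.prec' (I := IsLocalRing.maximalIdeal R) (fun N => S π c N) hc
  refine ⟨L, fun N => ?_⟩
  have := hL N
  rw [SModEq.sub_mem, smul_eq_mul, Ideal.mul_top] at this
  simpa using neg_mem this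

/-- The sum `∑ πᵏ cₖ`. -/
noncomputable def lim (c : ℕ → R) : R := (exists_lim hπ c).choose

theorem lim_spec (c : ℕ → R) (N : ℕ) : lim hπ c - S π c N ∈ IsLocalRing.maximalIdeal R ^ N :=
  (exists_lim hπ c).choose_spec N

theorem lim_eq {c : ℕ → R} {a : R} (h : ∀ N, a - S π c N ∈ IsLocalRing.maximalIdeal R ^ N) :
    lim hπ c = a := eq_of_forall_mem fun N => by
  simpa using sub_mem (lim_spec hπ c N) (h N)

theorem lim_rec (c : ℕ → R) : lim hπ c = c 0 + π * lim hπ (fun k => c (k + 1)) :=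
  lim_eq hπ fun N => by
    rcases N with _ | N
    · simp
    · have h := Ideal.mul_mem_mul hπ (lim_spec hπ (fun k => c (k + 1)) N)
      rw [← pow_succ'] at h
      convert! h using 1
      rw [S, S, Finset.sum_range_succ', mul_sub, Finset.mul_sum]
      simp only [pow_succ', pow_zero, one_mul, mul_assoc]
      ring

theorem lim_add (c c' : ℕ → R) : lim hπ (c + c') = lim hπ c + lim hπ c' := lim_eq hπ fun N => by
  convert! add_mem (lim_spec hπ c N) (lim_spec hπ c' N) using 1
  simp only [S, Pi.add_apply, mul_add, Finset.sum_add_distrib]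
  ring

theorem lim_smul (r : R) (c : ℕ → R) : lim hπ (fun k => r * c k) = r * lim hπ c := lim_eq hπ fun N => by
  convert! Ideal.mul_mem_left _ r (lim_spec hπ c N) using 1
  simp only [S, mul_sub, Finset.mul_sum, mul_left_comm r]

theorem lim_zero_of (c : ℕ → R) (h : ∀ k, c (k + 1) = 0) : lim hπ c = c 0 := lim_eq hπ fun N => by
  rcases N with _ | N
  · simp
  · rw [S, Finset.sum_range_succ', Finset.sum_eq_zero fun k _ => by rw [h, mul_zero]]
    simp

/-- The exponent `(a, b)`. -/
noncomputable def ex (a b : ℕ) : Fin 2 →₀ ℕ := Finsupp.single 0 a + Finsupp.single 1 b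

theorem ex_zero (a b : ℕ) : ex a b 0 = a := by simp [ex]

theorem ex_one (a b : ℕ) : ex a b 1 = b := by simp [ex]

theorem ex_add (a b a' b' : ℕ) : ex a b + ex a' b' = ex (a + a') (b + b') := by
  ext i; fin_cases i <;> simp [ex_zero, ex_one]

theorem eq_ex (d : Fin 2 →₀ ℕ) : d = ex (d 0) (d 1) := by
  ext i; fin_cases i <;> simp [ex_zero, ex_one]

theorem monomial_mul_coeff (a b c d : ℕ) (r : R) (P : MvPowerSeries (Fin 2) R) :
    coeff (ex (a + c) (b + d)) (monomial (ex a b) r * P) = r * coeff (ex c d) P := by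
  rw [← ex_add, coeff_add_monomial_mul]

theorem monomial_mul_coeff_zero (a b c d : ℕ) (r : R) (P : MvPowerSeries (Fin 2) R)
    (h : c < a ∨ d < b) : coeff (ex c d) (monomial (ex a b) r * P) = 0 := by
  rw [coeff_monomial_mul, if_neg]
  intro hle
  have h0 := hle 0
  have h1 := hle 1
  rw [ex_zero, ex_zero] at h0
  rw [ex_one, ex_one] at h1
  omega

theorem X_zero_eq : (X 0 : MvPowerSeries (Fin 2) R) = monomial (ex 1 0) 1 := by
  rw [X_def]; congr 2; ext i; fin_cases i <;> simp [ex]

theorem X_one_eq : (X 1 : MvPowerSeries (Fin 2) R) = monomial (ex 0 1) 1 := by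
  rw [X_def]; congr 2; ext i; fin_cases i <;> simp [ex]

theorem rel_eq : (X 0 * X 1 : MvPowerSeries (Fin 2) R) = monomial (ex 1 1) 1 := by
  rw [X_zero_eq, X_one_eq, monomial_mul_monomial, ex_add, one_mul]

/-- The coordinate of index `i` of a series. -/
noncomputable def pre (i : ℤ) : MvPowerSeries (Fin 2) R →ₗ[R] R where
  toFun P := lim hπ fun k => coeff (ex (i.toNat + k) ((-i).toNat + k)) P
  map_add' P Q := by
    rw [← lim_add]
    exact congrArg (lim hπ) (funext fun k => map_add (coeff _) P Q)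
  map_smul' r P := by
    rw [RingHom.id_apply, smul_eq_mul, ← lim_smul]
    exact congrArg (lim hπ) (funext fun k => map_smul (coeff _) r P)

theorem pre_rel_mul (i : ℤ) (Q : MvPowerSeries (Fin 2) R) :
    pre hπ i ((X 0 * X 1 - C π) * Q) = 0 := by
  refine lim_eq hπ fun N => ?_
  set a := i.toNat
  set b := (-i).toNat
  have hab : a = 0 ∨ b = 0 := by simp only [a, b]; omega
  have hsum : ∀ N, S π (fun k => coeff (ex (a + k) (b + k)) ((X 0 * X 1 - C π) * Q)) (N + 1) =
      -(π ^ (N + 1) * coeff (ex (a + N) (b + N)) Q) := fun N => by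
    induction N with
    | zero =>
      rw [S, Finset.sum_range_one, pow_zero, one_mul, sub_mul, map_sub, coeff_C_mul, rel_eq,
        monomial_mul_coeff_zero _ _ _ _ _ _ (by omega)]
      ring
    | succ N ih =>
      rw [S, Finset.sum_range_succ, ← S, ih, sub_mul, map_sub, coeff_C_mul, rel_eq,
        show a + (N + 1) = 1 + (a + N) by ring, show b + (N + 1) = 1 + (b + N) by ring,
        monomial_mul_coeff]
      ring
  rcases N with _ | N
  · simp
  · rw [hsum, zero_sub, neg_neg]
    exact Ideal.mul_mem_right _ _ (Ideal.pow_mem_pow hπ _)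

theorem pre_ideal (i : ℤ) :
    Submodule.restrictScalars R (Ideal.span {(X 0 * X 1 - C π : MvPowerSeries (Fin 2) R)}) ≤
      LinearMap.ker (pre hπ i) := fun P hP => by
  obtain ⟨Q, rfl⟩ := Ideal.mem_span_singleton'.1 hP
  rw [LinearMap.mem_ker, mul_comm]
  exact pre_rel_mul hπ i Q

/-- The coordinate of index `i`. -/
noncomputable def κ (i : ℤ) : NodeRing R π →ₗ[R] R :=
  (Submodule.restrictScalars R (Ideal.span {(X 0 * X 1 - C π : MvPowerSeries (Fin 2) R)})).liftQ
      (pre hπ i) (pre_ideal hπ i) ∘ₗ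
    (Submodule.Quotient.restrictScalarsEquiv R _).symm.toLinearMap

theorem κ_mk (i : ℤ) (P : MvPowerSeries (Fin 2) R) :
    κ hπ i (Ideal.Quotient.mk _ P) = lim hπ fun k => coeff (ex (i.toNat + k) ((-i).toNat + k)) P := rfl

theorem κ_ext {z w : NodeRing R π} (h : ∀ i, κ hπ i z = κ hπ i w) : z = w := by
  rw [← sub_eq_zero]
  have h0 : ∀ i, κ hπ i (z - w) = 0 := fun i => by rw [map_sub, h, sub_self]
  revert h0
  generalize z - w = v
  intro h0
  obtain ⟨P, rfl⟩ := Ideal.Quotient.mk_surjective v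
  rw [Ideal.Quotient.eq_zero_iff_mem, Ideal.mem_span_singleton']
  let Q : MvPowerSeries (Fin 2) R := fun d => lim hπ fun k => coeff (ex (d 0 + 1 + k) (d 1 + 1 + k)) P
  have hQ : ∀ a b, coeff (ex a b) Q = lim hπ fun k => coeff (ex (a + 1 + k) (b + 1 + k)) P := fun a b => by
    show Q (ex a b) = _
    simp only [Q, ex_zero, ex_one]
  refine ⟨Q, MvPowerSeries.ext fun d => ?_⟩
  obtain ⟨a, b, rfl⟩ : ∃ a b, d = ex a b := ⟨_, _, eq_ex d⟩
  rw [mul_comm Q, sub_mul, map_sub, coeff_C_mul, rel_eq]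
  by_cases hab : a = 0 ∨ b = 0
  · rw [monomial_mul_coeff_zero _ _ _ _ _ _ (by omega), zero_sub, hQ]
    have := h0 ((a : ℤ) - b)
    rw [κ_mk, lim_rec, show ((a : ℤ) - b).toNat = a by omega, show (-((a : ℤ) - b)).toNat = b by omega] at this
    have hs : (fun k => coeff (ex (a + (k + 1)) (b + (k + 1))) P) =
        fun k => coeff (ex (a + 1 + k) (b + 1 + k)) P :=
      funext fun k => by congr 2 <;> ring
    rw [hs, add_zero, add_zero] at this
    linear_combination -this
  · obtain ⟨a, rfl⟩ : ∃ a', a = 1 + a' := ⟨a - 1, by omega⟩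
    obtain ⟨b, rfl⟩ : ∃ b', b = 1 + b' := ⟨b - 1, by omega⟩
    have h : lim hπ (fun k => coeff (ex (a + 1 + k) (b + 1 + k)) P) =
        coeff (ex (1 + a) (1 + b)) P + π * lim hπ (fun k => coeff (ex (1 + a + 1 + k) (1 + b + 1 + k)) P) := by
      rw [lim_rec]
      congr 1
      · congr 2 <;> ring
      · congr 2
        funext k
        congr 2 <;> ring
    rw [monomial_mul_coeff, one_mul, hQ, hQ]
    linear_combination h

theorem κ_x_mul_pos (i : ℤ) (hi : 1 ≤ i) (z : NodeRing R π) :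
    κ hπ i (NodeRing.x R π * z) = κ hπ (i - 1) z := by
  obtain ⟨P, rfl⟩ := Ideal.Quotient.mk_surjective z
  rw [← map_mul, κ_mk, κ_mk, X_zero_eq]
  congr 1
  funext k
  rw [show i.toNat + k = 1 + ((i - 1).toNat + k) by omega,
    show (-i).toNat + k = 0 + ((-(i - 1)).toNat + k) by omega, monomial_mul_coeff, one_mul]

theorem κ_x_mul_nonpos (i : ℤ) (hi : i ≤ 0) (z : NodeRing R π) :
    κ hπ i (NodeRing.x R π * z) = π * κ hπ (i - 1) z := by
  obtain ⟨P, rfl⟩ := Ideal.Quotient.mk_surjective z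
  rw [← map_mul, κ_mk, κ_mk, X_zero_eq, lim_rec, monomial_mul_coeff_zero _ _ _ _ _ _ (by omega), zero_add]
  congr 2
  funext k
  rw [show i.toNat + (k + 1) = 1 + ((i - 1).toNat + k) by omega,
    show (-i).toNat + (k + 1) = 0 + ((-(i - 1)).toNat + k) by omega, monomial_mul_coeff, one_mul]

theorem κ_y_mul_neg (i : ℤ) (hi : i ≤ -1) (z : NodeRing R π) :
    κ hπ i (NodeRing.y R π * z) = κ hπ (i + 1) z := by
  obtain ⟨P, rfl⟩ := Ideal.Quotient.mk_surjective z
  rw [← map_mul, κ_mk, κ_mk, X_one_eq]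
  congr 1
  funext k
  rw [show i.toNat + k = 0 + ((i + 1).toNat + k) by omega,
    show (-i).toNat + k = 1 + ((-(i + 1)).toNat + k) by omega, monomial_mul_coeff, one_mul]

theorem κ_y_mul_nonneg (i : ℤ) (hi : 0 ≤ i) (z : NodeRing R π) :
    κ hπ i (NodeRing.y R π * z) = π * κ hπ (i + 1) z := by
  obtain ⟨P, rfl⟩ := Ideal.Quotient.mk_surjective z
  rw [← map_mul, κ_mk, κ_mk, X_one_eq, lim_rec, monomial_mul_coeff_zero _ _ _ _ _ _ (by omega), zero_add]
  congr 2
  funext k
  rw [show i.toNat + (k + 1) = 0 + ((i + 1).toNat + k) by omega,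
    show (-i).toNat + (k + 1) = 1 + ((-(i + 1)).toNat + k) by omega, monomial_mul_coeff, one_mul]

theorem κ_algebraMap_mul (i : ℤ) (r : R) (z : NodeRing R π) :
    κ hπ i (algebraMap R _ r * z) = r * κ hπ i z := by
  rw [← Algebra.smul_def, map_smul, smul_eq_mul]

theorem coeff_toMv (j : Fin 2) (f : PowerSeries R) (d : Fin 2 →₀ ℕ) :
    coeff d (PowerSeries.toMvPowerSeries j f) = if d = Finsupp.single j (d j) then PowerSeries.coeff (d j) f else 0 := by
  let e : Unit ↪ Fin 2 := ⟨fun _ => j, fun _ _ _ => rfl⟩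
  split_ifs with h
  · conv_lhs => rw [h, show Finsupp.single j (d j) = Finsupp.embDomain e (Finsupp.single () (d j)) from
      (Finsupp.embDomain_single e () (d j)).symm]
    exact coeff_embDomain_rename e f _
  · refine coeff_rename_eq_zero (f := fun _ : Unit => j) f ?_
    rintro ⟨x, rfl⟩
    refine h ?_
    rw [Finsupp.unique_single x, Finsupp.mapDomain_single]
    simp

theorem κ_ofX (i : ℤ) (f : PowerSeries R) :
    κ hπ i (NodeRing.ofX R π f) = if 0 ≤ i then PowerSeries.coeff i.toNat f else 0 := by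
  rw [NodeRing.ofX, κ_mk]
  have h : ∀ a b, coeff (ex a b) (PowerSeries.toMvPowerSeries (σ := Fin 2) 0 f) =
      if b = 0 then PowerSeries.coeff a f else 0 := fun a b => by
    rw [coeff_toMv, ex_zero]
    refine if_congr ⟨fun h => ?_, fun h => by rw [h, ex]; simp⟩ rfl rfl
    simpa [ex_one] using DFunLike.congr_fun h 1
  rw [lim_zero_of hπ _ fun k => by rw [h, if_neg (by omega)], h, add_zero, add_zero]
  split_ifs <;> first | rfl | omega

theorem κ_ofY (i : ℤ) (g : PowerSeries R) :
    κ hπ i (NodeRing.ofY R π g) = if i ≤ 0 then PowerSeries.coeff (-i).toNat g else 0 := by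
  rw [NodeRing.ofY, κ_mk]
  have h : ∀ a b, coeff (ex a b) (PowerSeries.toMvPowerSeries (σ := Fin 2) 1 g) =
      if a = 0 then PowerSeries.coeff b g else 0 := fun a b => by
    rw [coeff_toMv, ex_one]
    refine if_congr ⟨fun h => ?_, fun h => by rw [h, ex]; simp⟩ rfl rfl
    simpa [ex_zero] using DFunLike.congr_fun h 0
  rw [lim_zero_of hπ _ fun k => by rw [h, if_neg (by omega)], h, add_zero, add_zero]
  split_ifs <;> first | rfl | omega

end Groth.Agent.H02CA.NodeCoord
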