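import Groth.Agent.H02CA.NormShMinimal
import Groth.Agent.H02CA.SmoothRegular
import Groth.Agent.H9Hens.BranchCount

/-!
# One branch at each maximal ideal of the normalisation over a strict henselisation
-/

set_option autoImplicit false
set_option linter.style.haveILetI false
universe u

namespace Groth.Agent.H02CA

open scoped TensorProduct

variable {A H Q : Type u} [CommRing A] [CommRing H] [Algebra A H] [CommRing Q] [Algebra A Q]

/-- An etale algebra over a reduced Artinian ring is reduced and Artinian. -/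
theorem isArtinianRing_and_isReduced_etale_tensor [IsArtinianRing Q] [IsReduced Q] (S : Type u) [CommRing S]
    [Algebra A S] [Algebra.Etale A S] : IsArtinianRing (S ⊗[A] Q) ∧ IsReduced (S ⊗[A] Q) := by
  haveI : Algebra.QuasiFinite Q (Q ⊗[A] S) := ⟨fun P _ => Algebra.FormallyUnramified.finite_of_free _ _⟩
  haveI : Module.Finite Q (Q ⊗[A] S) := Module.Finite.of_quasiFinite
  haveI : IsArtinianRing (Q ⊗[A] S) := isArtinian_of_tower Q inferInstance
  haveI : IsReduced (Q ⊗[A] S) := isReduced_of_smooth Q (Q ⊗[A] S)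
  let c := (Algebra.TensorProduct.comm A Q S).toRingEquiv
  exact ⟨Function.Surjective.isArtinianRing (f := (c : Q ⊗[A] S →+* S ⊗[A] Q)) c.surjective,
    isReduced_of_injective c.symm c.symm.injective⟩

/-- Every element of `H ⊗ P`, `P` the integral closure in a reduced Artinian ring, is supported by an
idempotent of `H ⊗ P`. -/
theorem exists_idem_supporting {k : Type u} [CommRing k] [Algebra A k] {π : H →ₐ[A] k}
    (hH : H9Hens.IsPtColim π) [IsArtinianRing Q] [IsReduced Q]
    (x : H ⊗[A] integralClosure A Q) :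
    ∃ e : H ⊗[A] integralClosure A Q, IsIdempotentElem e ∧ e * x = x ∧
      ∃ d : H ⊗[A] Q, Algebra.TensorProduct.map (AlgHom.id A H) (integralClosure A Q).val e =
        Algebra.TensorProduct.map (AlgHom.id A H) (integralClosure A Q).val x * d := by
  let P := integralClosure A Q
  obtain ⟨S, _, _, _, φ, w, rfl⟩ := hH.exists_rep_tensor (Q := P) x
  let ι : S ⊗[A] P →ₐ[A] S ⊗[A] Q := Algebra.TensorProduct.map (AlgHom.id A S) P.val
  have hι : Function.Injective ι :=
    Module.Flat.lTensor_preserves_injective_linearMap (M := S) P.val.toLinearMap Subtype.val_injective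
  obtain ⟨hart, hred⟩ := isArtinianRing_and_isReduced_etale_tensor (A := A) (Q := Q) S
  obtain ⟨n, m, hm⟩ := IsArtinian.exists_pow_succ_smul_dvd (ι w) (1 : S ⊗[A] Q)
  simp only [smul_eq_mul, mul_one] at hm
  have hlm : ι w * (1 - ι w * m) = 0 := by
    refine IsReduced.eq_zero _ ⟨n + 1, ?_⟩
    have h0 : ι w ^ n * (1 - ι w * m) = 0 := by
      rw [mul_sub, mul_one, ← mul_assoc, ← pow_succ, hm, sub_self]
    rw [mul_pow, pow_succ, pow_succ (1 - ι w * m)]
    linear_combination (ι w * (1 - ι w * m) ^ n) * h0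
  have hidem : (ι w * m) * (ι w * m) = ι w * m := by linear_combination -m * hlm
  have hint : IsIntegral S (ι w * m) :=
    ⟨Polynomial.X ^ 2 - Polynomial.X, Polynomial.monic_X_pow_sub (lt_of_le_of_lt Polynomial.degree_X_le (by norm_num)),
      by simp [pow_two, hidem]⟩
  obtain ⟨z, hz⟩ := (TensorProduct.toIntegralClosure_bijective_of_smooth (R := A) (S := S) (B := Q)).2 ⟨_, hint⟩
  have hcompat : ∀ v, ι v = ((TensorProduct.toIntegralClosure A S Q v : integralClosure S (S ⊗[A] Q)) : S ⊗[A] Q) := fun v => by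
    induction v using TensorProduct.induction_on with
    | zero => simp
    | tmul s c => rfl
    | add a b ha hb => rw [map_add, map_add, Subalgebra.coe_add, ha, hb]
  replace hz : ι z = ι w * m := (hcompat z).trans (congrArg Subtype.val hz)
  let f : S ⊗[A] P →ₐ[A] H ⊗[A] P := Algebra.TensorProduct.map φ (AlgHom.id A P)
  let g : S ⊗[A] Q →ₐ[A] H ⊗[A] Q := Algebra.TensorProduct.map φ (AlgHom.id A Q)
  have hcomm : ∀ v, Algebra.TensorProduct.map (AlgHom.id A H) P.val (f v) = g (ι v) := fun v => by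
    induction v using TensorProduct.induction_on with
    | zero => simp
    | tmul s c => rfl
    | add a b ha hb => simp only [map_add, ha, hb]
  refine ⟨f z, ?_, ?_, g m, ?_⟩
  · exact IsIdempotentElem.map (hι (by rw [map_mul, hz, hidem]) : z * z = z) f
  · rw [← map_mul, show z * w = w from hι (by rw [map_mul, hz]; linear_combination -hlm)]
  · rw [hcomm, hcomm, hz, map_mul]

/-- At most one minimal prime in each maximal ideal. -/
theorem minimalPrimes_eq_of_le_maximal {X D : Type u} [CommRing X] [CommRing D] (j : X →+* D)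
    (hj : Function.Injective j) (hsupp : ∀ x : X, ∃ e, IsIdempotentElem e ∧ e * x = x ∧ ∃ d, j e = j x * d)
    {m q₁ q₂ : Ideal X} (hm : m.IsMaximal) (h₁ : q₁ ∈ minimalPrimes X) (h₂ : q₂ ∈ minimalPrimes X)
    (hle₁ : q₁ ≤ m) (hle₂ : q₂ ≤ m) : q₁ = q₂ := by
  refine (h₂.2 ⟨h₁.1.1, bot_le⟩ fun x hx => ?_).antisymm' (h₁.2 ⟨h₂.1.1, bot_le⟩ fun x hx => ?_)
  all_goals
    revert hx
  · exact key h₁ h₂ hle₂ hle₁ x
  · exact key h₂ h₁ hle₁ hle₂ x
where
  key {a b : Ideal X} (ha : a ∈ minimalPrimes X) (hb : b ∈ minimalPrimes X) (hlb : b ≤ m) (hla : a ≤ m) (x : X)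
      (hx : x ∈ a) : x ∈ b := by
    obtain ⟨e, he, hex, d, hd⟩ := hsupp x
    haveI := ha.1.1
    haveI := hb.1.1
    have h0 : e * (1 - e) = 0 := by rw [mul_sub, mul_one, he.eq, sub_self]
    by_cases hem : e ∈ m
    · have h1 : (1 - e) ∉ b := fun h => hm.ne_top ((Ideal.eq_top_iff_one _).2 (by
        simpa using add_mem hem (hlb h)))
      exact ((Ideal.IsPrime.mem_or_mem ‹b.IsPrime›) (show (1 - e) * x ∈ b by
        rw [sub_mul, one_mul, hex, sub_self]; exact b.zero_mem)).resolve_left h1
    · exfalso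
      have hea : e ∉ a := fun h => hem (hla h)
      have hxn : algebraMap X (Localization.AtPrime a) x ∈ (Ideal.map (algebraMap X (Localization.AtPrime a)) ⊥).radical := by
        rw [IsLocalization.AtPrime.radical_map_of_mem_minimalPrimes (A := Localization.AtPrime a) (q := a) (I := ⊥) ha]
        exact Ideal.mem_map_of_mem _ hx
      obtain ⟨n, hn⟩ := hxn
      rw [Ideal.map_bot, Ideal.mem_bot, ← map_pow, IsLocalization.map_eq_zero_iff a.primeCompl] at hn
      obtain ⟨⟨s, hs⟩, hsn⟩ := hn
      have hpow : j e = j x ^ n * d ^ n := by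
        rcases Nat.eq_zero_or_pos n with rfl | hpos
        · exfalso
          exact hs (show s ∈ a by rw [pow_zero, mul_one] at hsn; rw [show s = 0 from hsn]; exact a.zero_mem)
        · rw [← mul_pow, ← hd, ← map_pow, he.pow_eq hpos.ne']
      have hse : s * e = 0 := hj (by
        rw [map_mul, hpow, map_zero, ← mul_assoc, ← map_pow, ← map_mul,
          show s * x ^ n = 0 from hsn, map_zero, zero_mul])
      exact ((Ideal.IsPrime.mem_or_mem ‹a.IsPrime›) (show s * e ∈ a by rw [hse]; exact a.zero_mem)).elim hs hea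

/-- Branches of a ring integral over a henselian local ring. -/
theorem existsUnique_branches {k : Type u} [CommRing k] [Algebra A k] {π : H →ₐ[A] k}
    (hH : H9Hens.IsPtColim π) [HenselianLocalRing H] [Module.Flat A H] [IsArtinianRing Q] [IsReduced Q]
    {X : Type u} [CommRing X] (e : X ≃+* H ⊗[A] integralClosure A Q) :
    (∀ q ∈ minimalPrimes X, ∃! m : Ideal X, m.IsMaximal ∧ q ≤ m) ∧
      (∀ m : Ideal X, m.IsMaximal → ∃! q : Ideal X, q ∈ minimalPrimes X ∧ q ≤ m) := by
  letI : Algebra H X := (e.symm.toRingHom.comp (algebraMap H (H ⊗[A] integralClosure A Q))).toAlgebra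
  let e' : H ⊗[A] integralClosure A Q ≃ₐ[H] X := AlgEquiv.ofRingEquiv (f := e.symm) fun _ => rfl
  haveI : Algebra.IsIntegral H X := Algebra.IsIntegral.of_surjective e'.toAlgHom e'.surjective
  refine ⟨fun q hq => ?_, fun m hm => ?_⟩
  · haveI := hq.1.1
    obtain ⟨m, hm, hle⟩ := Ideal.exists_le_maximal q hq.1.1.ne_top
    refine ⟨m, ⟨hm, hle⟩, fun m' ⟨hm', hle'⟩ => ?_⟩
    exact H9Hens.maximal_eq_of_prime_le_of_isIntegral (R := H) hle' hle
  · haveI := hm.isPrime
    obtain ⟨q, hq, hle⟩ := Ideal.exists_minimalPrimes_le (I := (⊥ : Ideal X)) (J := m) bot_le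
    refine ⟨q, ⟨hq, hle⟩, fun q' ⟨hq', hle'⟩ => ?_⟩
    let j : X →+* H ⊗[A] Q :=
      (Algebra.TensorProduct.map (AlgHom.id A H) (integralClosure A Q).val).toRingHom.comp e.toRingHom
    have hj : Function.Injective j :=
      (Module.Flat.lTensor_preserves_injective_linearMap (M := H) (integralClosure A Q).val.toLinearMap
        Subtype.val_injective).comp e.injective
    refine minimalPrimes_eq_of_le_maximal j hj (fun x => ?_) hm hq' hq hle' hle
    obtain ⟨f, hf, hfx, d, hd⟩ := exists_idem_supporting hH (e x)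
    refine ⟨e.symm f, hf.map e.symm, e.injective (by rw [map_mul, e.apply_symm_apply, hfx]), d, ?_⟩
    show Algebra.TensorProduct.map (AlgHom.id A H) (integralClosure A Q).val (e (e.symm f)) = _
    rw [e.apply_symm_apply]
    exact hd

end Groth.Agent.H02CA
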