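import Groth.Prelude.Def_CAlg2
import Mathlib

/-!
# Minimal primes after a flat base change of the normalisation
-/

set_option autoImplicit false
universe u

namespace Groth.Agent.H02CA

open scoped TensorProduct

/-- An injective ring map is a localisation when every element becomes the image of one after multiplication
by an invertible image. -/
theorem bijOn_comap_minimalPrimes_of_localization {B C D : Type u} [CommRing B] [CommRing C] [CommRing D]
    (i : B →+* C) (j : C →+* D) (hi : Function.Injective i) (hj : Function.Injective j) (M : Submonoid B)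
    (hu : ∀ m ∈ M, IsUnit (j (i m))) (hs : ∀ d : D, ∃ b : B, ∃ m ∈ M, d * j (i m) = j (i b)) :
    Set.BijOn (Ideal.comap i) (minimalPrimes C) (minimalPrimes B) := by
  letI : Algebra B D := (j.comp i).toAlgebra
  letI : Algebra C D := j.toAlgebra
  haveI : IsLocalization M D :=
    (isLocalization_iff _ _).2 ⟨fun ⟨m, hm⟩ => hu m hm, fun d => by
      obtain ⟨b, m, hm, h⟩ := hs d
      exact ⟨⟨b, ⟨m, hm⟩⟩, h⟩, fun {x y} h => ⟨1, by rw [hi (hj h)]⟩⟩
  haveI : IsLocalization (M.map i) D :=
    (isLocalization_iff _ _).2 ⟨fun ⟨m, hm⟩ => by obtain ⟨m', hm', rfl⟩ := hm; exact hu m' hm', fun d => by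
      obtain ⟨b, m, hm, h⟩ := hs d
      exact ⟨⟨i b, ⟨i m, ⟨m, hm, rfl⟩⟩⟩, h⟩, fun {x y} h => ⟨1, by rw [hj h]⟩⟩
  have hB : minimalPrimes B = Ideal.comap (j.comp i) '' minimalPrimes D := by
    have h := IsLocalization.minimalPrimes_comap M D (⊥ : Ideal D)
    rw [show Ideal.comap (algebraMap B D) ⊥ = (⊥ : Ideal B) from
      Ideal.comap_bot_of_injective (j.comp i) (hj.comp hi)] at h
    exact h
  have hC : minimalPrimes C = Ideal.comap j '' minimalPrimes D := by
    have h := IsLocalization.minimalPrimes_comap (M.map i) D (⊥ : Ideal D)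
    rw [show Ideal.comap (algebraMap C D) ⊥ = (⊥ : Ideal C) from Ideal.comap_bot_of_injective j hj] at h
    exact h
  rw [hB, hC]
  refine ⟨?_, ?_, ?_⟩
  · rintro _ ⟨P, hP, rfl⟩
    exact ⟨P, hP, rfl⟩
  · rintro _ ⟨P, hP, rfl⟩ _ ⟨Q, hQ, rfl⟩ h
    rw [Ideal.comap_comap, Ideal.comap_comap] at h
    have := congrArg (Ideal.map (algebraMap B D)) h
    change ((P.comap (algebraMap B D)).map _ = (Q.comap (algebraMap B D)).map _) at this
    rw [IsLocalization.map_under M D, IsLocalization.map_under M D] at this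
    rw [this]
  · rintro _ ⟨P, hP, rfl⟩
    exact ⟨_, ⟨P, hP, rfl⟩, rfl⟩

variable (A T : Type u) [CommRing A] [CommRing T] [Algebra A T] [Module.Flat A T]

/-- Flat base change of the normalisation does not change the set of minimal primes. -/
theorem bijOn_minimalPrimes_normRed :
    Set.BijOn (fun P : Ideal ((CAlg2.normRed A) ⊗[A] T) =>
        P.comap (Algebra.TensorProduct.includeRight.toRingHom : T →+* (CAlg2.normRed A) ⊗[A] T))
      (minimalPrimes ((CAlg2.normRed A) ⊗[A] T)) (minimalPrimes T) := by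
  let Ar := CAlg2.red A
  let Q := FractionRing Ar
  let f : Ar →ₐ[A] CAlg2.normRed A := IsScalarTower.toAlgHom A Ar _
  let g : CAlg2.normRed A →ₐ[A] Q := ((integralClosure Ar Q).val).restrictScalars A
  let i : Ar ⊗[A] T →ₐ[A] CAlg2.normRed A ⊗[A] T := Algebra.TensorProduct.map f (AlgHom.id A T)
  let j : CAlg2.normRed A ⊗[A] T →ₐ[A] Q ⊗[A] T := Algebra.TensorProduct.map g (AlgHom.id A T)
  have hf : Function.Injective f := fun a b h =>
    IsFractionRing.injective Ar Q (congrArg Subtype.val h : algebraMap Ar Q a = algebraMap Ar Q b)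
  have hi : Function.Injective i := Module.Flat.rTensor_preserves_injective_linearMap (M := T) f.toLinearMap hf
  have hj : Function.Injective j :=
    Module.Flat.rTensor_preserves_injective_linearMap (M := T) g.toLinearMap fun a b h => Subtype.ext h
  let inc : Ar →* Ar ⊗[A] T := (Algebra.TensorProduct.includeLeft : Ar →ₐ[A] Ar ⊗[A] T).toRingHom.toMonoidHom
  have hji : ∀ (a : Ar) (t : T), j (i (a ⊗ₜ t)) = algebraMap Ar Q a ⊗ₜ t := fun a t => rfl
  have hu : ∀ m ∈ (nonZeroDivisors Ar).map inc, IsUnit (j (i m)) := by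
    rintro _ ⟨s, hs, rfl⟩
    show IsUnit (algebraMap Ar Q s ⊗ₜ[A] (1 : T))
    exact (IsLocalization.map_units Q ⟨s, hs⟩).map (Algebra.TensorProduct.includeLeft : Q →ₐ[A] Q ⊗[A] T)
  have hsu : ∀ d : Q ⊗[A] T, ∃ b, ∃ m ∈ (nonZeroDivisors Ar).map inc, d * j (i m) = j (i b) := by
    intro d
    induction d using TensorProduct.induction_on with
    | zero => exact ⟨0, 1, one_mem _, by simp⟩
    | tmul x t =>
      obtain ⟨a, s, rfl⟩ := IsLocalization.exists_mk'_eq (nonZeroDivisors Ar) x
      refine ⟨a ⊗ₜ t, inc s, ⟨s, s.2, rfl⟩, ?_⟩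
      show (IsLocalization.mk' Q a s ⊗ₜ[A] t) * (algebraMap Ar Q s ⊗ₜ[A] (1 : T)) = algebraMap Ar Q a ⊗ₜ[A] t
      rw [Algebra.TensorProduct.tmul_mul_tmul, IsLocalization.mk'_spec, mul_one]
    | add d₁ d₂ h₁ h₂ =>
      obtain ⟨b₁, m₁, hm₁, e₁⟩ := h₁
      obtain ⟨b₂, m₂, hm₂, e₂⟩ := h₂
      refine ⟨b₁ * m₂ + b₂ * m₁, m₁ * m₂, mul_mem hm₁ hm₂, ?_⟩
      simp only [map_add, map_mul, add_mul, ← e₁, ← e₂]
      ring
  let i' : Ar ⊗[A] T →+* CAlg2.normRed A ⊗[A] T := i.toRingHom
  let j' : CAlg2.normRed A ⊗[A] T →+* Q ⊗[A] T := j.toRingHom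
  have key : Set.BijOn (Ideal.comap i') (minimalPrimes _) (minimalPrimes _) :=
    bijOn_comap_minimalPrimes_of_localization (B := Ar ⊗[A] T) (C := CAlg2.normRed A ⊗[A] T) (D := Q ⊗[A] T) i' j' hi hj ((nonZeroDivisors Ar).map inc) hu hsu
  let π : T →+* Ar ⊗[A] T := (Algebra.TensorProduct.includeRight : T →ₐ[A] Ar ⊗[A] T).toRingHom
  have hπ : Function.Surjective π := by
    intro z
    induction z using TensorProduct.induction_on with
    | zero => exact ⟨0, map_zero _⟩
    | tmul a t =>
      obtain ⟨a, rfl⟩ := Ideal.Quotient.mk_surjective a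
      refine ⟨a • t, ?_⟩
      show (1 : Ar) ⊗ₜ[A] (a • t) = _
      rw [← TensorProduct.smul_tmul, Algebra.smul_def, mul_one]
      rfl
    | add x y hx hy =>
      obtain ⟨x, rfl⟩ := hx
      obtain ⟨y, rfl⟩ := hy
      exact ⟨x + y, map_add _ _ _⟩
  have hker : RingHom.ker π ≤ nilradical T := by
    have hle : RingHom.ker π ≤ (nilradical A).map (algebraMap A T) := by
      intro t ht
      have h := congrArg (Algebra.TensorProduct.lift
        (Ideal.quotientMapₐ (I := nilradical A) ((nilradical A).map (algebraMap A T)) (Algebra.ofId A T)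
          Ideal.le_comap_map) (Ideal.Quotient.mkₐ A ((nilradical A).map (algebraMap A T)))
          fun _ _ => Commute.all _ _) (RingHom.mem_ker.1 ht)
      rw [show π t = (1 : Ar) ⊗ₜ[A] t from rfl, Algebra.TensorProduct.lift_tmul, map_one, one_mul, map_zero] at h
      exact Ideal.Quotient.eq_zero_iff_mem.1 h
    exact hle.trans (Ideal.map_le_iff_le_comap.2 fun a ha => IsNilpotent.map ha (algebraMap A T))
  have hmin : minimalPrimes T = Ideal.comap π '' minimalPrimes (Ar ⊗[A] T) := by
    have h := Ideal.comap_minimalPrimes_eq_of_surjective hπ (⊥ : Ideal (Ar ⊗[A] T))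
    rw [← RingHom.ker_eq_comap_bot] at h
    have h2 : (RingHom.ker π).radical = (⊥ : Ideal T).radical :=
      le_antisymm ((Ideal.radical_mono hker).trans (by rw [nilradical, Ideal.zero_eq_bot, Ideal.radical_idem]))
        (Ideal.radical_mono bot_le)
    rw [← Ideal.radical_minimalPrimes, h2, Ideal.radical_minimalPrimes] at h
    exact h
  have hcomp : (Algebra.TensorProduct.includeRight.toRingHom : T →+* CAlg2.normRed A ⊗[A] T) = i.toRingHom.comp π :=
    RingHom.ext fun t => by simp [i, π]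
  simp only [hcomp, ← Ideal.comap_comap]
  rw [hmin]
  exact ((Ideal.comap_injective_of_surjective π hπ).injOn.bijOn_image).comp key

end Groth.Agent.H02CA
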