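import Mathlib.RingTheory.Norm.Transitivity
import Mathlib.RingTheory.Norm.Basic
import Mathlib.FieldTheory.Minpoly.IsIntegrallyClosed
import Mathlib.FieldTheory.IntermediateField.Adjoin.Basic
import Mathlib.RingTheory.Spectrum.Prime.Topology
import Mathlib.Topology.KrullDimension
import Groth.Agent.H05EGA4.IntegralDim

/-! The image of `V(b)` under a finite-degree integral extension of a normal domain is `V(N b)`. -/

set_option autoImplicit false

open Polynomial

universe u

namespace Groth.Agent.H02CA.NormZeroLocus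

variable {A B K L : Type u} [CommRing A] [IsDomain A] [CommRing B] [IsDomain B] [Algebra A B]
    [Field K] [Field L] [Algebra A K] [IsFractionRing A K] [Algebra B L] [IsFractionRing B L]
    [Algebra A L] [Algebra K L] [IsScalarTower A B L] [IsScalarTower A K L]
    [FiniteDimensional K L] [Algebra.IsIntegral A B] [IsIntegrallyClosed A]

theorem norm_eq (b : B) : ∃ m : ℕ, 0 < m ∧ Algebra.norm K (algebraMap B L b) =
    algebraMap A K (((-1) ^ (minpoly A b).natDegree * (minpoly A b).coeff 0) ^ m) := by
  have hb : IsIntegral A b := Algebra.IsIntegral.isIntegral b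
  have hL : IsIntegral K (algebraMap B L b) := IsIntegral.of_finite K _
  refine ⟨Module.finrank (IntermediateField.adjoin K {algebraMap B L b}) L, Module.finrank_pos, ?_⟩
  have h1 := Algebra.PowerBasis.norm_gen_eq_coeff_zero_minpoly (IntermediateField.adjoin.powerBasis hL)
  rw [IntermediateField.adjoin.powerBasis_gen, IntermediateField.minpoly_gen,
    IntermediateField.adjoin.powerBasis_dim, minpoly.isIntegrallyClosed_eq_field_fractions K L hb,
    coeff_map, (minpoly.monic hb).natDegree_map] at h1
  rw [Algebra.norm_eq_norm_adjoin, h1, map_pow, map_mul, map_pow, map_neg, map_one]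

theorem image_zeroLocus (hinj : Function.Injective (algebraMap A B)) (b : B) (a : A)
    (ha : algebraMap A K a = Algebra.norm K (algebraMap B L b)) :
    PrimeSpectrum.comap (algebraMap A B) '' PrimeSpectrum.zeroLocus ({b} : Set B) =
      PrimeSpectrum.zeroLocus ({a} : Set A) := by
  haveI : Module.IsTorsionFree A B :=
    Module.isTorsionFree_iff_algebraMap_injective.mpr hinj
  have hb : IsIntegral A b := Algebra.IsIntegral.isIntegral b
  obtain ⟨m, hm, hnorm⟩ := norm_eq (A := A) (K := K) (L := L) b
  have hab : a = ((-1) ^ (minpoly A b).natDegree * (minpoly A b).coeff 0) ^ m :=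
    IsFractionRing.injective A K (ha.trans hnorm)
  have hmem : ∀ p : PrimeSpectrum A, a ∈ p.asIdeal ↔ (minpoly A b).coeff 0 ∈ p.asIdeal := by
    intro p
    rw [hab, p.isPrime.pow_mem_iff_mem m hm, p.isPrime.mul_mem_iff_mem_or_mem]
    refine or_iff_right fun h => p.isPrime.ne_top ?_
    exact Ideal.eq_top_of_isUnit_mem _ h ((IsUnit.neg isUnit_one).pow _)
  ext p
  rw [PrimeSpectrum.mem_zeroLocus, Set.singleton_subset_iff, SetLike.mem_coe, hmem]
  constructor
  · rintro ⟨q, hq, rfl⟩
    rw [PrimeSpectrum.mem_zeroLocus, Set.singleton_subset_iff, SetLike.mem_coe] at hq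
    rw [PrimeSpectrum.comap_asIdeal, Ideal.mem_comap]
    have h1 := congrArg (aeval b) (X_mul_divX_add (minpoly A b))
    rw [minpoly.aeval, map_add, map_mul, aeval_X, aeval_C] at h1
    rw [eq_neg_of_add_eq_zero_right h1]
    exact neg_mem (q.asIdeal.mul_mem_right _ hq)
  · intro hp
    letI : Algebra A[X] B := (aeval b : A[X] →ₐ[A] B).toRingHom.toAlgebra
    haveI : IsScalarTower A A[X] B := IsScalarTower.of_algebraMap_eq fun x => by
      simp [RingHom.algebraMap_toAlgebra]
    haveI : Algebra.IsIntegral A[X] B := ⟨fun x => (Algebra.IsIntegral.isIntegral (R := A) x).tower_top⟩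
    let P : Ideal A[X] := p.asIdeal.comap constantCoeff
    haveI : P.IsPrime := Ideal.IsPrime.comap constantCoeff
    have hker : Ideal.comap (algebraMap A[X] B) (⊥ : Ideal B) ≤ P := by
      rw [← RingHom.ker_eq_comap_bot, RingHom.algebraMap_toAlgebra, minpoly.ker_eval hb,
        Ideal.span_singleton_le_iff_mem, Ideal.mem_comap, constantCoeff_apply]
      exact hp
    obtain ⟨Q, -, hQ, hQP⟩ := Ideal.exists_ideal_over_prime_of_isIntegral P (⊥ : Ideal B) hker
    refine ⟨⟨Q, hQ⟩, ?_, PrimeSpectrum.ext ?_⟩
    · rw [PrimeSpectrum.mem_zeroLocus, Set.singleton_subset_iff, SetLike.mem_coe,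
        show b = algebraMap A[X] B X by simp [RingHom.algebraMap_toAlgebra], ← Ideal.mem_comap, hQP]
      simp [P]
    · ext x
      rw [PrimeSpectrum.comap_asIdeal, Ideal.mem_comap, IsScalarTower.algebraMap_apply A A[X] B,
        ← Ideal.mem_comap, hQP]
      simp [P]

theorem topologicalKrullDim_zeroLocus {R : Type u} [CommRing R] (I : Ideal R) :
    topologicalKrullDim (PrimeSpectrum.zeroLocus (I : Set R)) = ringKrullDim (R ⧸ I) := by
  have hr : Set.range (PrimeSpectrum.comap (Ideal.Quotient.mk I)) =
      PrimeSpectrum.zeroLocus (I : Set R) := by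
    rw [range_comap_of_surjective _ _ Ideal.Quotient.mk_surjective, Ideal.mk_ker]
  rw [← PrimeSpectrum.topologicalKrullDim_eq_ringKrullDim, eq_comm]
  exact IsHomeomorph.topologicalKrullDim_eq _
    (((PrimeSpectrum.isClosedEmbedding_comap_of_surjective _ _ Ideal.Quotient.mk_surjective
      ).isEmbedding.toHomeomorph).trans (Homeomorph.setCongr hr)).isHomeomorph

theorem dim_zeroLocus_eq (hinj : Function.Injective (algebraMap A B)) (b : B) (a : A)
    (ha : algebraMap A K a = Algebra.norm K (algebraMap B L b)) :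
    topologicalKrullDim ↥(PrimeSpectrum.zeroLocus ({b} : Set B)) =
      topologicalKrullDim ↥(PrimeSpectrum.zeroLocus ({a} : Set A)) := by
  set J := (Ideal.span {b}).comap (algebraMap A B)
  have hA : PrimeSpectrum.zeroLocus ({a} : Set A) = PrimeSpectrum.zeroLocus (J : Set A) := by
    rw [← PrimeSpectrum.closure_image_comap_zeroLocus, PrimeSpectrum.zeroLocus_span,
      image_zeroLocus hinj b a ha, (PrimeSpectrum.isClosed_zeroLocus _).closure_eq]
  rw [hA, ← PrimeSpectrum.zeroLocus_span {b}, topologicalKrullDim_zeroLocus,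
    topologicalKrullDim_zeroLocus]
  letI : Algebra (A ⧸ J) (B ⧸ Ideal.span {b}) :=
    (Ideal.quotientMap (Ideal.span {b}) (algebraMap A B) le_rfl).toAlgebra
  haveI : IsScalarTower A (A ⧸ J) (B ⧸ Ideal.span {b}) :=
    IsScalarTower.of_algebraMap_eq fun x => rfl
  haveI : Algebra.IsIntegral (A ⧸ J) (B ⧸ Ideal.span {b}) :=
    ⟨fun x => (Algebra.IsIntegral.isIntegral (R := A) x).tower_top⟩
  exact (H05EGA4.dim_int (A ⧸ J) (B ⧸ Ideal.span {b})).2 Ideal.quotientMap_injective

end Groth.Agent.H02CA.NormZeroLocus
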