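import Groth.Agent.H05EGA4.Regular
import Groth.Agent.S6862
import Mathlib.Algebra.Module.StablyFree.FreeOfInvertible
import Mathlib.RingTheory.PicardGroup
import Mathlib.RingTheory.LocalRing.Module
import Mathlib.RingTheory.Localization.BaseChange
import Mathlib.Algebra.Module.LocalizedModule.Exact

/-!
A finitely generated module over a regular local ring has stably free localizations as soon as they
are projective; hence every invertible module over a localization is free.
-/

set_option autoImplicit false

universe u

open CategoryTheory

namespace Groth.Agent.H02CA.PicRegular

variable {R : Type u} [CommRing R] [IsNoetherianRing R] [IsLocalRing R] (S : Submonoid R)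

theorem isStablyFree_localizedModule : ∀ (m : ℕ) (M : Type u) [AddCommGroup M] [Module R M]
    [Module.Finite R M], HasProjectiveDimensionLT (ModuleCat.of R M) (m + 1) →
    Module.Projective (Localization S) (LocalizedModule S M) →
    Module.IsStablyFree (Localization S) (LocalizedModule S M) := by
  intro m
  induction m with
  | zero =>
    intro M _ _ _ hpd _
    haveI : Module.Projective R M :=
      (IsProjective.iff_projective M).mpr (projective_iff_hasProjectiveDimensionLT_one.mpr hpd)
    haveI : Module.Free R M := Module.free_of_flat_of_isLocalRing
    haveI : Module.Free (Localization S) (LocalizedModule S M) :=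
      Module.Free.of_equiv (LocalizedModule.equivTensorProduct S M).symm
    infer_instance
  | succ m ih =>
    intro M _ _ _ hpd hproj
    obtain ⟨t, π, hπ⟩ := Module.Finite.exists_fin' R M
    let K := LinearMap.ker π
    haveI : Module.Finite R K := Module.Finite.of_fg (IsNoetherian.noetherian K)
    have hse : (ShortComplex.mk (ModuleCat.ofHom K.subtype) (ModuleCat.ofHom π) (by
        ext1; exact LinearMap.ext fun x => x.2)).ShortExact :=
      { exact := (ShortComplex.ShortExact.moduleCat_exact_iff_function_exact _).mpr π.exact_subtype_ker_map
        mono_f := (ModuleCat.mono_iff_injective _).mpr K.injective_subtype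
        epi_g := (ModuleCat.epi_iff_surjective _).mpr hπ }
    haveI : Projective (ModuleCat.of R (Fin t → R)) :=
      (IsProjective.iff_projective _).mp inferInstance
    have hK : HasProjectiveDimensionLT (ModuleCat.of R K) (m + 1) :=
      hse.hasProjectiveDimensionLT_X₁ (m + 1)
        (hasProjectiveDimensionLT_of_ge (ModuleCat.of R (Fin t → R)) 1 (m + 1) (by omega)) hpd
    let f := LocalizedModule.map S K.subtype
    let g := LocalizedModule.map S π
    have hf : Function.Injective f := LocalizedModule.map_injective S _ K.injective_subtype
    have hg : Function.Surjective g := LocalizedModule.map_surjective S _ hπ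
    have hfg : Function.Exact f g := LocalizedModule.map_exact S _ _ π.exact_subtype_ker_map
    haveI : Module.Free (Localization S) (LocalizedModule S (Fin t → R)) :=
      Module.Free.of_equiv (LocalizedModule.equivTensorProduct S (Fin t → R)).symm
    obtain ⟨s, hs⟩ := Module.projective_lifting_property g LinearMap.id hg
    let r : LocalizedModule S (Fin t → R) →ₗ[Localization S] LinearMap.range f :=
      (LinearMap.id - s ∘ₗ g).codRestrict _ fun x => (hfg _).mp (by
        have := LinearMap.congr_fun hs (g x)
        simp only [LinearMap.comp_apply, LinearMap.id_apply] at this
        simp only [LinearMap.sub_apply, LinearMap.comp_apply, LinearMap.id_apply, map_sub, this,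
          sub_self])
    haveI : Module.Projective (Localization S) (LocalizedModule S K) :=
      Module.Projective.of_split f ((LinearEquiv.ofInjective f hf).symm.toLinearMap ∘ₗ r)
        (LinearMap.ext fun x => by
          apply hf
          change f ((LinearEquiv.ofInjective f hf).symm (r (f x))) = f x
          rw [← LinearEquiv.ofInjective_apply f (h := hf), LinearEquiv.apply_symm_apply]
          change f x - s (g (f x)) = f x
          rw [(hfg (f x)).mpr ⟨x, rfl⟩, map_zero, sub_zero])
    exact (S6862.result f g hf hg hfg).1 (ih K hK inferInstance) inferInstance

theorem subsingleton_pic [IsRegularLocalRing R] : Subsingleton (CommRing.Pic (Localization S)) := by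
  rw [CommRing.Pic.subsingleton_iff]
  intro P _ _ _
  letI : Module R P := Module.compHom P (algebraMap R (Localization S))
  haveI : IsScalarTower R (Localization S) P := IsScalarTower.of_algebraMap_smul fun r x => rfl
  obtain ⟨t, π, hπ⟩ := Module.Finite.exists_fin' (Localization S) P
  classical
  let M : Submodule R P := Submodule.span R (Set.range fun i => π (Pi.single i 1))
  haveI : Module.Finite R M := Module.Finite.span_of_finite R (Set.finite_range _)
  haveI : IsLocalizedModule S M.subtype :=
    { map_units := fun s => by
        rw [Module.End.isUnit_iff]
        obtain ⟨v, hv⟩ := IsLocalization.map_units (Localization S) s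
        have h : ∀ x : P, (algebraMap R (Module.End R P) (s : R)) x = (v : Localization S) • x :=
          fun x => by rw [Module.algebraMap_end_apply, ← algebraMap_smul (Localization S) (s : R) x, hv]
        refine ⟨fun x y hxy => ?_, fun y => ⟨(↑v⁻¹ : Localization S) • y, ?_⟩⟩
        · rw [h, h] at hxy
          simpa [smul_smul] using congrArg (fun z => (↑v⁻¹ : Localization S) • z) hxy
        · rw [h, smul_smul, Units.mul_inv, one_smul]
      surj := fun y => by
        obtain ⟨c, rfl⟩ := hπ y
        obtain ⟨b, hb⟩ := IsLocalization.exist_integer_multiples S Finset.univ c
        refine ⟨(⟨(b : R) • π c, ?_⟩, b), rfl⟩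
        have : (b : R) • π c = π ((b : R) • c) := (LinearMap.map_smul_of_tower π _ _).symm
        rw [this, ← Finset.univ_sum_single ((b : R) • c), map_sum]
        refine Submodule.sum_mem _ fun i _ => ?_
        obtain ⟨r, hr⟩ := hb i (Finset.mem_univ i)
        have : Pi.single i (((b : R) • c) i) = r • (Pi.single i 1 : Fin t → Localization S) := by
          rw [Pi.smul_apply, ← hr, ← Pi.single_smul', Algebra.smul_def, mul_one]
        rw [this, LinearMap.map_smul_of_tower]
        exact Submodule.smul_mem _ _ (Submodule.subset_span ⟨i, rfl⟩)
      exists_of_eq := fun {x y} hxy => ⟨1, by rw [Subtype.ext hxy]⟩ }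
  let e : LocalizedModule S M ≃ₗ[Localization S] P :=
    LinearEquiv.extendScalarsOfIsLocalization S _ (IsLocalizedModule.iso S M.subtype)
  obtain ⟨d, -, hk⟩ := H05EGA4.exists_pd_residueField R
  haveI : Module.Projective (Localization S) (LocalizedModule S M) :=
    Module.Projective.of_equiv e.symm
  haveI := isStablyFree_localizedModule S d M
    (H05EGA4.hasProjectiveDimensionLT_of_residueField d hk _) inferInstance
  haveI : Module.Invertible (Localization S) (LocalizedModule S M) :=
    Module.Invertible.congr e.symm
  haveI := Module.free_of_isStablyFree_of_invertible (Localization S) (LocalizedModule S M)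
  exact Module.Free.of_equiv e

end Groth.Agent.H02CA.PicRegular
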