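import Mathlib

/-!
# Vanishing orders of linear systems of polar parts on the projective line

`Φ G = D * (G / P)'` identifies the span of the polar parts without simple poles with the exact differentials.
-/

set_option autoImplicit false

open Polynomial Module

namespace Groth.Agent.H02CA.PolarSystem

variable {k : Type*} [Field k] {m : ℕ} (r : Fin m → k) (a : Fin m → ℕ)

/-- `∏ (X - r j) ^ a j` over a set of indices. -/
noncomputable def Pp (s : Finset (Fin m)) : k[X] := ∏ j ∈ s, (X - C (r j)) ^ a j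

/-- `∏ (X - r j)` over a set of indices. -/
noncomputable def Rp (s : Finset (Fin m)) : k[X] := ∏ j ∈ s, (X - C (r j))

/-- The logarithmic derivative of `Pp` times `Rp`. -/
noncomputable def Sp (s : Finset (Fin m)) : k[X] :=
  ∑ j ∈ s, (a j : k[X]) * ∏ l ∈ s.erase j, (X - C (r l))

lemma Rp_mul_derivative (s : Finset (Fin m)) :
    Rp r s * derivative (Pp r a s) = Sp r a s * Pp r a s := by
  rw [Pp, derivative_prod_finset, Sp, Finset.mul_sum, Finset.sum_mul]
  refine Finset.sum_congr rfl fun j hj => ?_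
  rw [derivative_pow, derivative_sub, derivative_X, derivative_C, sub_zero, mul_one, Rp,
    ← Finset.mul_prod_erase s _ hj, ← Finset.mul_prod_erase s _ hj]
  cases h : a j with
  | zero => simp
  | succ n =>
    rw [Nat.add_sub_cancel, map_natCast, pow_succ]
    ring

variable {r a}

lemma not_dvd_Pp (s : Finset (Fin m)) {q : k} (hq : ∀ j ∈ s, q ≠ r j) : (Pp r a s).eval q ≠ 0 := by
  rw [Pp, eval_prod]
  exact Finset.prod_ne_zero_iff.mpr fun j hj => by
    rw [eval_pow, eval_sub, eval_X, eval_C]
    exact pow_ne_zero _ (sub_ne_zero.mpr (hq j hj))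

lemma eval_Rp_ne_zero (s : Finset (Fin m)) {q : k} (hq : ∀ j ∈ s, q ≠ r j) : (Rp r s).eval q ≠ 0 := by
  rw [Rp, eval_prod]
  exact Finset.prod_ne_zero_iff.mpr fun j hj => by simpa [sub_eq_zero] using hq j hj

lemma Pp_monic (s : Finset (Fin m)) : (Pp r a s).Monic :=
  monic_prod_of_monic _ _ fun j _ => (monic_X_sub_C _).pow _

lemma natDegree_Pp (s : Finset (Fin m)) : (Pp r a s).natDegree = ∑ j ∈ s, a j := by
  rw [Pp, natDegree_prod_of_monic _ _ fun j _ => (monic_X_sub_C _).pow _]
  simp

variable (r a)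

/-- `G ↦ R G' - S G`, i.e. `D (G / P)'`. -/
noncomputable def Φ : k[X] →ₗ[k] k[X] :=
  (LinearMap.mulLeft k (Rp r Finset.univ)).comp derivative - LinearMap.mulLeft k (Sp r a Finset.univ)

lemma Φ_apply (G : k[X]) : Φ r a G = Rp r Finset.univ * derivative G - Sp r a Finset.univ * G := rfl

lemma Φ_Pp : Φ r a (Pp r a Finset.univ) = 0 := by
  rw [Φ_apply, Rp_mul_derivative, sub_self]

lemma Φ_Pp_mul (F : k[X]) :
    Φ r a (Pp r a Finset.univ * F) = Rp r Finset.univ * Pp r a Finset.univ * derivative F := by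
  rw [Φ_apply, derivative_mul]
  linear_combination F * Rp_mul_derivative r a Finset.univ

lemma Φ_sub_smul_Pp (G : k[X]) (c : k) : Φ r a (G - c • Pp r a Finset.univ) = Φ r a G := by
  rw [map_sub, map_smul, Φ_Pp, smul_zero, sub_zero]

/-- At a marked point. -/
lemma Φ_marked (i : Fin m) (l : ℕ) (u : k[X]) :
    Φ r a ((X - C (r i)) ^ l * u) = (X - C (r i)) ^ l *
      (C ((l : k) - a i) * Rp r (Finset.univ.erase i) * u +
        (X - C (r i)) * (Rp r (Finset.univ.erase i) * derivative u - Sp r a (Finset.univ.erase i) * u)) := by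
  have hR : Rp r Finset.univ = (X - C (r i)) * Rp r (Finset.univ.erase i) := by
    exact (Finset.mul_prod_erase Finset.univ (fun j => X - C (r j)) (Finset.mem_univ i)).symm
  have hS : Sp r a Finset.univ = (a i : k[X]) * Rp r (Finset.univ.erase i) +
      (X - C (r i)) * Sp r a (Finset.univ.erase i) := by
    rw [Sp, Sp, ← Finset.add_sum_erase _ _ (Finset.mem_univ i), Rp]
    congr 1
    rw [Finset.mul_sum]
    refine Finset.sum_congr rfl fun j hj => ?_
    rw [Finset.erase_right_comm, ← Finset.mul_prod_erase (Finset.univ.erase j) (fun l => X - C (r l))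
      (Finset.mem_erase.mpr ⟨(Finset.ne_of_mem_erase hj).symm, Finset.mem_univ _⟩)]
    ring
  rw [Φ_apply, hR, hS, derivative_mul, derivative_pow, derivative_sub, derivative_X, derivative_C, sub_zero,
    mul_one, map_sub, map_natCast, map_natCast]
  cases l with
  | zero => simp only [pow_zero, Nat.cast_zero, Nat.zero_sub, one_mul]; ring
  | succ n => rw [Nat.add_sub_cancel, pow_succ]; push_cast; ring

/-- At an unmarked point. -/
lemma Φ_unmarked (q : k) (l : ℕ) (u : k[X]) :
    Φ r a ((X - C q) ^ (l + 1) * u) = (X - C q) ^ l *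
      (Rp r Finset.univ * (((l : k[X]) + 1) * u + (X - C q) * derivative u) -
        (X - C q) * (Sp r a Finset.univ * u)) := by
  rw [Φ_apply, derivative_mul, derivative_pow, derivative_sub, derivative_X, derivative_C, sub_zero,
    mul_one, map_natCast, Nat.add_sub_cancel, pow_succ]
  push_cast
  ring

lemma le_of_pow_dvd_pow_mul {q : k} {n l : ℕ} {w : k[X]} (hw : w.eval q ≠ 0)
    (h : (X - C q) ^ n ∣ (X - C q) ^ l * w) : n ≤ l := by
  by_contra hnl
  have h1 : (X - C q) ^ l * (X - C q) ∣ (X - C q) ^ l * w := by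
    rw [← pow_succ]; exact (pow_dvd_pow _ (Nat.lt_of_not_le hnl)).trans h
  exact hw (dvd_iff_isRoot.mp ((mul_dvd_mul_iff_left (pow_ne_zero l (X_sub_C_ne_zero q))).mp h1))

lemma exists_decomp {H : k[X]} (hH : H ≠ 0) (q : k) :
    ∃ (l : ℕ) (u : k[X]), u.eval q ≠ 0 ∧ H = (X - C q) ^ l * u := by
  obtain ⟨u, hu, hdvd⟩ := exists_eq_pow_rootMultiplicity_mul_and_not_dvd H hH q
  exact ⟨_, u, fun h => hdvd (dvd_iff_isRoot.mpr h), hu⟩

variable {r a}

/-- Vanishing orders at an unmarked point. -/
theorem pow_dvd_Φ_iff_unmarked [CharZero k] {q : k} (hq : ∀ j, q ≠ r j) (n : ℕ) (G : k[X]) :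
    (X - C q) ^ n ∣ Φ r a G ↔ ∃ c : k, (X - C q) ^ (n + 1) ∣ G - c • Pp r a Finset.univ := by
  constructor
  · intro h
    refine ⟨G.eval q / (Pp r a Finset.univ).eval q, ?_⟩
    rw [← Φ_sub_smul_Pp r a G (G.eval q / (Pp r a Finset.univ).eval q)] at h
    have hroot : (G - (G.eval q / (Pp r a Finset.univ).eval q) • Pp r a Finset.univ).eval q = 0 := by
      rw [eval_sub, eval_smul, smul_eq_mul, div_mul_cancel₀ _ (not_dvd_Pp _ fun j _ => hq j), sub_self]
    generalize G - (G.eval q / (Pp r a Finset.univ).eval q) • Pp r a Finset.univ = H at h hroot ⊢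
    rcases eq_or_ne H 0 with rfl | hH
    · exact dvd_zero _
    obtain ⟨l, u, hu, rfl⟩ := exists_decomp hH q
    obtain ⟨l, rfl⟩ : ∃ l', l = l' + 1 := Nat.exists_eq_succ_of_ne_zero (by
      rintro rfl
      rw [pow_zero, one_mul] at hroot
      exact hu hroot)
    rw [Φ_unmarked] at h
    have hle := le_of_pow_dvd_pow_mul (w := Rp r Finset.univ * (((l : k[X]) + 1) * u + (X - C q) * derivative u) -
        (X - C q) * (Sp r a Finset.univ * u)) (by
      simp only [eval_sub, eval_mul, eval_add, eval_natCast, eval_one, eval_X, eval_C, sub_self, zero_mul,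
        add_zero, sub_zero]
      exact mul_ne_zero (eval_Rp_ne_zero _ fun j _ => hq j) (mul_ne_zero (Nat.cast_add_one_ne_zero l) hu)) h
    exact Dvd.dvd.mul_right (pow_dvd_pow _ (by omega)) _
  · rintro ⟨c, u, hu⟩
    rw [← Φ_sub_smul_Pp r a G c, hu, Φ_unmarked]
    exact dvd_mul_right _ _

/-- Vanishing orders at a marked point. -/
theorem pow_dvd_Φ_iff_marked [CharZero k] (hr : Function.Injective r) (i : Fin m) (n : ℕ) (G : k[X]) :
    (X - C (r i)) ^ n ∣ Φ r a G ↔ ∃ c : k, (X - C (r i)) ^ n ∣ G - c • Pp r a Finset.univ := by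
  have hQ : (Pp r a (Finset.univ.erase i)).eval (r i) ≠ 0 :=
    not_dvd_Pp _ fun j hj h => (Finset.ne_of_mem_erase hj) (hr h).symm
  have hR : (Rp r (Finset.univ.erase i)).eval (r i) ≠ 0 :=
    eval_Rp_ne_zero _ fun j hj h => (Finset.ne_of_mem_erase hj) (hr h).symm
  have hP : Pp r a Finset.univ = (X - C (r i)) ^ a i * Pp r a (Finset.univ.erase i) := by
    exact (Finset.mul_prod_erase Finset.univ (fun j => (X - C (r j)) ^ a j) (Finset.mem_univ i)).symm
  have key : ∀ H : k[X], H ≠ 0 → ∀ (l : ℕ) (u : k[X]), u.eval (r i) ≠ 0 → H = (X - C (r i)) ^ l * u →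
      l ≠ a i → (X - C (r i)) ^ n ∣ Φ r a H → (X - C (r i)) ^ n ∣ H := by
    intro H _ l u hu he hl h
    rw [he, Φ_marked] at h
    have hle := le_of_pow_dvd_pow_mul
      (w := C ((l : k) - a i) * Rp r (Finset.univ.erase i) * u +
        (X - C (r i)) * (Rp r (Finset.univ.erase i) * derivative u - Sp r a (Finset.univ.erase i) * u)) (by
      simp only [eval_add, eval_mul, eval_C, eval_sub, eval_X, sub_self, zero_mul, add_zero]
      exact mul_ne_zero (mul_ne_zero (sub_ne_zero.mpr (Nat.cast_injective.ne hl)) hR) hu) h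
    rw [he]
    exact Dvd.dvd.mul_right (pow_dvd_pow _ hle) _
  constructor
  · intro h
    rcases eq_or_ne G 0 with rfl | hG
    · exact ⟨0, by simp⟩
    obtain ⟨l, u, hu, he⟩ := exists_decomp hG (r i)
    by_cases hl : l = a i
    · subst hl
      let c := u.eval (r i) / (Pp r a (Finset.univ.erase i)).eval (r i)
      refine ⟨c, ?_⟩
      rw [← Φ_sub_smul_Pp r a G c] at h
      rcases eq_or_ne (G - c • Pp r a Finset.univ) 0 with h0 | h0
      · rw [h0]; exact dvd_zero _
      have heH : G - c • Pp r a Finset.univ =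
          (X - C (r i)) ^ a i * (u - c • Pp r a (Finset.univ.erase i)) := by
        rw [he, hP, mul_sub, mul_smul_comm]
      obtain ⟨l', u', hu', he'⟩ := exists_decomp h0 (r i)
      refine key _ h0 l' u' hu' he' ?_ h
      intro hl'
      subst hl'
      have hu2 : u' = u - c • Pp r a (Finset.univ.erase i) :=
        mul_left_cancel₀ (pow_ne_zero _ (X_sub_C_ne_zero (r i))) (he'.symm.trans heH)
      apply hu'
      rw [hu2, eval_sub, eval_smul, smul_eq_mul, div_mul_cancel₀ _ hQ, sub_self]
    · exact ⟨0, by simpa using key G hG l u hu he hl h⟩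
  · rintro ⟨c, u, hu⟩
    rw [← Φ_sub_smul_Pp r a G c, hu, Φ_marked]
    exact dvd_mul_right _ _

theorem eq_smul_of_Φ_eq_zero [CharZero k] {G : k[X]} (h : Φ r a G = 0) : ∃ c : k, G = c • Pp r a Finset.univ := by
  classical
  obtain ⟨q, hq⟩ := Infinite.exists_notMem_finset (Finset.univ.image r)
  have hq' : ∀ j, q ≠ r j := fun j h => hq (Finset.mem_image.mpr ⟨j, Finset.mem_univ j, h.symm⟩)
  let n := G.natDegree + (Pp r a Finset.univ).natDegree
  obtain ⟨c, hc⟩ := (pow_dvd_Φ_iff_unmarked hq' n G).mp (h ▸ dvd_zero _)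
  refine ⟨c, sub_eq_zero.mp (eq_zero_of_dvd_of_natDegree_lt hc ?_)⟩
  rw [natDegree_pow, natDegree_X_sub_C, mul_one]
  refine Nat.lt_succ_of_le ((natDegree_sub_le _ _).trans (max_le (Nat.le_add_right _ _) ?_))
  exact (natDegree_smul_le _ _).trans (Nat.le_add_left _ _)

lemma natDegree_Rp (s : Finset (Fin m)) : (Rp r s).natDegree = s.card := by
  rw [Rp, natDegree_prod_of_monic _ _ fun j _ => monic_X_sub_C _]
  simp

lemma natDegree_Sp_le (s : Finset (Fin m)) : (Sp r a s).natDegree ≤ s.card - 1 := by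
  refine natDegree_sum_le_of_forall_le _ _ fun j hj => ?_
  refine natDegree_mul_le.trans ?_
  rw [natDegree_natCast, zero_add, natDegree_prod_of_monic _ _ fun l _ => monic_X_sub_C _]
  simp [Finset.card_erase_of_mem hj]

lemma coeff_Sp (s : Finset (Fin m)) : (Sp r a s).coeff (s.card - 1) = ∑ j ∈ s, (a j : k) := by
  rw [Sp, finsetSum_coeff]
  refine Finset.sum_congr rfl fun j hj => ?_
  rw [← C_eq_natCast, coeff_C_mul]
  have hm : (∏ l ∈ s.erase j, (X - C (r l))).Monic := monic_prod_of_monic _ _ fun l _ => monic_X_sub_C _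
  have hdeg : (∏ l ∈ s.erase j, (X - C (r l))).natDegree = s.card - 1 := by
    rw [natDegree_prod_of_monic _ _ fun l _ => monic_X_sub_C _]
    simp [Finset.card_erase_of_mem hj]
  rw [← hdeg, hm.coeff_natDegree, mul_one]

lemma natDegree_Φ_le (hm : 1 ≤ m) (G : k[X]) : (Φ r a G).natDegree ≤ G.natDegree + m - 1 := by
  rw [Φ_apply]
  refine (natDegree_sub_le _ _).trans (max_le ?_ ?_)
  · rcases eq_or_ne G.natDegree 0 with h | h
    · rw [eq_C_of_natDegree_eq_zero h, derivative_C, mul_zero, natDegree_zero]; exact Nat.zero_le _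
    · refine natDegree_mul_le.trans ?_
      have := natDegree_derivative_le G
      have := natDegree_Rp (r := r) Finset.univ
      simp only [Finset.card_univ, Fintype.card_fin] at this
      omega
  · refine natDegree_mul_le.trans ?_
    have := natDegree_Sp_le (r := r) (a := a) Finset.univ
    simp only [Finset.card_univ, Fintype.card_fin] at this
    omega

lemma degree_Φ_lt (G : k[X]) (e : ℕ) (he : G.degree < (e + 1 : ℕ)) : (Φ r a G).degree < (e + m : ℕ) := by
  rcases eq_or_ne m 0 with hm | hm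
  · subst hm
    have hR : Rp r (Finset.univ : Finset (Fin 0)) = 1 := by simp [Rp]
    have hS : Sp r a (Finset.univ : Finset (Fin 0)) = 0 := by simp [Sp]
    rw [Φ_apply, hR, hS, one_mul, zero_mul, sub_zero]
    rcases eq_or_ne G.natDegree 0 with h | h
    · rw [eq_C_of_natDegree_eq_zero h, derivative_C, degree_zero]; exact WithBot.bot_lt_coe _
    · have hG : G ≠ 0 := fun h0 => h (by rw [h0, natDegree_zero])
      have := (natDegree_lt_iff_degree_lt hG).mpr he
      have := natDegree_derivative_le G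
      refine degree_le_natDegree.trans_lt ?_
      exact Nat.cast_lt.mpr (by omega)
  · rcases eq_or_ne G 0 with rfl | hG
    · rw [map_zero, degree_zero]; exact WithBot.bot_lt_coe _
    have := (natDegree_lt_iff_degree_lt hG).mpr he
    have := natDegree_Φ_le (r := r) (a := a) (by omega) G
    refine degree_le_natDegree.trans_lt ?_
    exact Nat.cast_lt.mpr (by omega)

lemma coeff_Φ_top (G : k[X]) (h : 1 ≤ G.natDegree + m) :
    (Φ r a G).coeff (G.natDegree + m - 1) = G.leadingCoeff * ((G.natDegree : k) - ∑ j, (a j : k)) := by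
  have hRd : (Rp r (Finset.univ : Finset (Fin m))).natDegree = m := by simp [natDegree_Rp]
  have hRm : (Rp r (Finset.univ : Finset (Fin m))).Monic := monic_prod_of_monic _ _ fun l _ => monic_X_sub_C _
  rw [Φ_apply, coeff_sub, mul_sub]
  congr 1
  · rcases eq_or_ne G.natDegree 0 with h0 | h0
    · rw [h0, Nat.cast_zero, mul_zero]
      conv_lhs => rw [eq_C_of_natDegree_eq_zero h0, derivative_C, mul_zero, coeff_zero]
    · rw [show G.natDegree + m - 1 = m + (G.natDegree - 1) by omega,
        coeff_mul_add_eq_of_natDegree_le hRd.le (natDegree_derivative_le G),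
        coeff_derivative, show G.natDegree - 1 + 1 = G.natDegree by omega]
      have : (Rp r (Finset.univ : Finset (Fin m))).coeff m = 1 := by
        conv_lhs => arg 2; rw [← hRd]
        exact hRm.coeff_natDegree
      rw [this, one_mul, leadingCoeff]
      rw [show ((G.natDegree - 1 : ℕ) : k) + 1 = ((G.natDegree - 1 + 1 : ℕ) : k) by push_cast; ring,
        show G.natDegree - 1 + 1 = G.natDegree by omega]
  · rcases eq_or_ne m 0 with hm | hm
    · subst hm
      simp [Sp]
    · have hS := natDegree_Sp_le (r := r) (a := a) Finset.univ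
      have hc := coeff_Sp (r := r) (a := a) Finset.univ
      simp only [Finset.card_univ, Fintype.card_fin] at hS hc
      rw [show G.natDegree + m - 1 = (m - 1) + G.natDegree by omega,
        coeff_mul_add_eq_of_natDegree_le hS le_rfl, hc, ← leadingCoeff, mul_comm]

/-- Vanishing orders at infinity. -/
theorem degree_Φ_lt_iff [CharZero k] (G : k[X]) (e : ℕ) :
    (Φ r a G).degree < (e + m - 1 : ℕ) ↔ ∃ c : k, (G - c • Pp r a Finset.univ).degree < (e : ℕ) := by
  have key : ∀ H : k[X], H.natDegree ≠ ∑ j, a j → (Φ r a H).degree < (e + m - 1 : ℕ) → H.degree < (e : ℕ) := by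
    intro H hH hlt
    rcases eq_or_ne H 0 with rfl | h0
    · rw [degree_zero]; exact WithBot.bot_lt_coe _
    rw [← natDegree_lt_iff_degree_lt h0]
    by_contra hle
    have h1 : 1 ≤ H.natDegree + m := by
      rcases eq_or_ne m 0 with hm | hm
      · subst hm
        simp at hH
        omega
      · omega
    refine coeff_eq_zero_of_degree_lt (n := H.natDegree + m - 1) (hlt.trans_le (Nat.cast_le.mpr (by omega))) |>
      fun h2 => ?_
    rw [coeff_Φ_top H h1] at h2
    rcases mul_eq_zero.mp h2 with h3 | h3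
    · exact h0 (leadingCoeff_eq_zero.mp h3)
    · rw [sub_eq_zero, ← Nat.cast_sum] at h3
      exact hH (Nat.cast_injective h3)
  constructor
  · intro h
    by_cases hd : G.natDegree = ∑ j, a j
    · let c := G.leadingCoeff
      refine ⟨c, ?_⟩
      rw [← Φ_sub_smul_Pp r a G c] at h
      rcases eq_or_ne (G - c • Pp r a Finset.univ) 0 with h0 | h0
      · rw [h0, degree_zero]; exact WithBot.bot_lt_coe _
      refine key _ ?_ h
      intro hd'
      apply h0
      apply leadingCoeff_eq_zero.mp
      rw [leadingCoeff, hd', coeff_sub, coeff_smul, smul_eq_mul, ← natDegree_Pp (r := r) (a := a) Finset.univ,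
        (Pp_monic _).coeff_natDegree, mul_one, natDegree_Pp, ← hd, ← leadingCoeff, sub_self]
    · exact ⟨0, by simpa using key G hd h⟩
  · rintro ⟨c, hc⟩
    rw [← Φ_sub_smul_Pp r a G c]
    rcases e with _ | e
    · rw [Nat.cast_zero, Nat.WithBot.lt_zero_iff, degree_eq_bot] at hc
      rw [hc, map_zero, degree_zero]
      exact WithBot.bot_lt_coe _
    · exact (degree_Φ_lt _ e hc).trans_eq (by congr 1; omega)

end Groth.Agent.H02CA.PolarSystem
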