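import Groth.Agent.H02CA.PolarSystem

/-!
# Dimensions of the vanishing filtrations of systems of polar parts and of their hyperplanes
-/

set_option autoImplicit false

open Polynomial Module

namespace Groth.Agent.H02CA.PolarSystem

variable {k : Type*} [Field k] [CharZero k] {m : ℕ} {r : Fin m → k} {a : Fin m → ℕ} {b N : ℕ}

local notation "P₀" => Pp r a (Finset.univ : Finset (Fin m))

lemma finrank_degreeLT (n : ℕ) : finrank k (degreeLT k n) = n := by
  rw [(degreeLTEquiv k n).finrank_eq, finrank_fin_fun]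

lemma finite_degreeLT (n : ℕ) : Module.Finite k (degreeLT k n) :=
  Module.Finite.equiv (degreeLTEquiv k n).symm

lemma finite_of_le {W : Submodule k k[X]} {n : ℕ} (hW : W ≤ degreeLT k n) : Module.Finite k W :=
  haveI := finite_degreeLT (k := k) n
  Submodule.finiteDimensional_of_le hW

open scoped Classical in
/-- Rank-nullity for `Φ`. -/
lemma finrank_map_Φ {W : Submodule k k[X]} [Module.Finite k W] :
    finrank k (W.map (Φ r a)) + (if P₀ ∈ W then 1 else 0) = finrank k W := by
  have h := LinearMap.finrank_range_add_finrank_ker ((Φ r a).comp W.subtype)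
  rw [LinearMap.range_comp, Submodule.range_subtype] at h
  refine Eq.trans ?_ h
  congr 1
  by_cases hP : P₀ ∈ W
  · rw [if_pos hP]
    have : LinearMap.ker ((Φ r a).comp W.subtype) = Submodule.span k {(⟨P₀, hP⟩ : W)} := by
      ext x
      rw [LinearMap.mem_ker, LinearMap.comp_apply, Submodule.subtype_apply, Submodule.mem_span_singleton]
      constructor
      · intro hx
        obtain ⟨c, hc⟩ := eq_smul_of_Φ_eq_zero hx
        exact ⟨c, Subtype.ext hc.symm⟩
      · rintro ⟨c, rfl⟩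
        simp [Φ_Pp]
    rw [this, finrank_span_singleton]
    exact fun h0 => (Pp_monic (r := r) (a := a) (Finset.univ : Finset (Fin m))).ne_zero (congrArg Subtype.val h0)
  · rw [if_neg hP]
    symm
    have : LinearMap.ker ((Φ r a).comp W.subtype) = ⊥ := by
      rw [eq_bot_iff]
      intro x hx
      obtain ⟨c, hc⟩ := eq_smul_of_Φ_eq_zero (LinearMap.mem_ker.mp hx)
      rcases eq_or_ne c 0 with rfl | hc0
      · exact (Submodule.mem_bot k).mpr (Subtype.ext (by simpa using hc))
      · exact absurd (by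
          have h1 := W.smul_mem c⁻¹ x.2
          have hc' : (x : k[X]) = c • P₀ := hc
          rwa [hc', smul_smul, inv_mul_cancel₀ hc0, one_smul] at h1) hP
    rw [this, finrank_bot]

lemma map_inf_eq {W₀ T C : Submodule k k[X]} (hP : P₀ ∈ W₀)
    (h : ∀ G, Φ r a G ∈ C ↔ ∃ c : k, G - c • P₀ ∈ T) :
    W₀.map (Φ r a) ⊓ C = (W₀ ⊓ T).map (Φ r a) := by
  apply le_antisymm
  · rintro _ ⟨⟨G, hG, rfl⟩, hC⟩
    obtain ⟨c, hc⟩ := (h G).mp hC
    exact ⟨G - c • P₀, ⟨sub_mem hG (W₀.smul_mem c hP), hc⟩, Φ_sub_smul_Pp r a G c⟩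
  · rintro _ ⟨G, ⟨hG, hT⟩, rfl⟩
    exact ⟨⟨G, hG, rfl⟩, (h G).mpr ⟨0, by simpa using hT⟩⟩

/-- Multiples of `(X - q) ^ n`. -/
noncomputable abbrev T (q : k) (n : ℕ) : Submodule k k[X] := (Ideal.span {(X - C q) ^ n}).restrictScalars k

lemma mem_T {q : k} {n : ℕ} {G : k[X]} : G ∈ T q n ↔ (X - C q) ^ n ∣ G := by
  rw [Submodule.restrictScalars_mem, Ideal.mem_span_singleton]

lemma mem_degreeLT_succ {G : k[X]} {n : ℕ} : G ∈ degreeLT k (n + 1) ↔ G.natDegree ≤ n := by
  rw [mem_degreeLT]
  rcases eq_or_ne G 0 with rfl | hG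
  · simp
  · rw [← natDegree_lt_iff_degree_lt hG, Nat.lt_succ_iff]

lemma finrank_degreeLT_inf_T (q : k) (M n : ℕ) : finrank k ↥(degreeLT k M ⊓ T q n) = M - n := by
  have h : degreeLT k M ⊓ T q n = (degreeLT k (M - n)).map (LinearMap.mulLeft k ((X - C q) ^ n)) := by
    apply le_antisymm
    · rintro G ⟨hG, hT⟩
      obtain ⟨u, rfl⟩ := mem_T.mp hT
      refine ⟨u, ?_, rfl⟩
      rw [SetLike.mem_coe, mem_degreeLT] at hG ⊢
      rcases eq_or_ne u 0 with rfl | hu
      · rw [degree_zero]; exact WithBot.bot_lt_coe _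
      rw [← natDegree_lt_iff_degree_lt hu]
      rw [← natDegree_lt_iff_degree_lt (mul_ne_zero (pow_ne_zero n (X_sub_C_ne_zero q)) hu),
        natDegree_mul (pow_ne_zero n (X_sub_C_ne_zero q)) hu, natDegree_pow, natDegree_X_sub_C, mul_one] at hG
      omega
    · rintro _ ⟨u, hu, rfl⟩
      refine ⟨?_, mem_T.mpr (dvd_mul_right _ _)⟩
      rw [SetLike.mem_coe, mem_degreeLT] at hu ⊢
      rcases eq_or_ne u 0 with rfl | hu0
      · rw [map_zero, degree_zero]; exact WithBot.bot_lt_coe _
      rw [← natDegree_lt_iff_degree_lt hu0] at hu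
      rw [LinearMap.mulLeft_apply,
        ← natDegree_lt_iff_degree_lt (mul_ne_zero (pow_ne_zero n (X_sub_C_ne_zero q)) hu0),
        natDegree_mul (pow_ne_zero n (X_sub_C_ne_zero q)) hu0, natDegree_pow, natDegree_X_sub_C, mul_one]
      omega
  rw [h, ← (Submodule.equivMapOfInjective _ (mul_right_injective₀ (pow_ne_zero n (X_sub_C_ne_zero q))) _).finrank_eq,
    finrank_degreeLT]

section System

variable (r a b)

/-- The span of the polar parts. -/
noncomputable abbrev Vs : Submodule k k[X] :=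
  (degreeLT k b).map (LinearMap.mulLeft k (∏ j, (X - C (r j)) ^ (a j + 1))) ⊔
    ⨆ i, (degreeLT k (a i)).map (LinearMap.mulLeft k (∏ j ∈ Finset.univ.erase i, (X - C (r j)) ^ (a j + 1)))

lemma prod_succ (s : Finset (Fin m)) :
    ∏ j ∈ s, (X - C (r j)) ^ (a j + 1) = Rp r s * Pp r a s := by
  rw [Rp, Pp, ← Finset.prod_mul_distrib]
  exact Finset.prod_congr rfl fun j _ => pow_succ' _ _

variable {r a b}

lemma poly_part_le (e : ℕ) :
    (degreeLT k e).map (LinearMap.mulLeft k (∏ j, (X - C (r j)) ^ (a j + 1))) ≤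
      (degreeLT k ((∑ j, a j) + e + 1)).map (Φ r a) := by
  classical
  rw [Submodule.map_le_iff_le_comap, degreeLT_eq_span_X_pow, Submodule.span_le]
  intro x hx
  obtain ⟨i, hi, rfl⟩ := Finset.mem_image.mp hx
  rw [Finset.mem_range] at hi
  refine ⟨P₀ * (C ((i + 1 : k)⁻¹) * X ^ (i + 1)), ?_, ?_⟩
  · refine mem_degreeLT_succ.mpr (natDegree_mul_le.trans (Nat.add_le_add (natDegree_Pp _).le ?_))
    exact (natDegree_C_mul_X_pow_le _ _).trans hi
  · rw [Φ_Pp_mul, LinearMap.mulLeft_apply, prod_succ]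
    congr 1
    rw [derivative_C_mul_X_pow, Nat.add_sub_cancel]
    push_cast
    rw [inv_mul_cancel₀ (Nat.cast_add_one_ne_zero i), C_1, one_mul]

lemma marked_part_le (i : Fin m) :
    (degreeLT k (a i)).map (LinearMap.mulLeft k (∏ j ∈ Finset.univ.erase i, (X - C (r j)) ^ (a j + 1))) ≤
      (degreeLT k (∑ j, a j)).map (Φ r a) := by
  rintro _ ⟨g, hg, rfl⟩
  rcases eq_or_ne g 0 with rfl | hg0
  · rw [map_zero]; exact zero_mem _
  have hg' := (natDegree_lt_iff_degree_lt hg0).mpr (mem_degreeLT.mp hg)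
  rw [← sum_taylor_eq g (r i), LinearMap.mulLeft_apply, Polynomial.sum_over_range' _ (by simp) (a i) (by
    rw [natDegree_taylor]; exact hg'), Finset.mul_sum]
  refine Submodule.sum_mem _ fun l hl => ?_
  rw [Finset.mem_range] at hl
  have hla : ((l : k) - a i) ≠ 0 := sub_ne_zero.mpr (Nat.cast_injective.ne hl.ne)
  refine ⟨C ((taylor (r i) g).coeff l / ((l : k) - a i)) * ((X - C (r i)) ^ l * Pp r a (Finset.univ.erase i)), ?_, ?_⟩
  · have hA : (∑ j ∈ Finset.univ.erase i, a j) + a i = ∑ j, a j :=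
      Finset.sum_erase_add _ _ (Finset.mem_univ i)
    rw [SetLike.mem_coe, mem_degreeLT]
    refine degree_le_natDegree.trans_lt (Nat.cast_lt.mpr ?_)
    refine lt_of_le_of_lt (natDegree_C_mul_le _ _) (lt_of_le_of_lt natDegree_mul_le ?_)
    rw [natDegree_Pp, natDegree_pow, natDegree_X_sub_C, mul_one]
    omega
  · rw [prod_succ, ← smul_eq_C_mul, map_smul, Φ_marked, Rp_mul_derivative, sub_self, mul_zero, add_zero,
      smul_eq_C_mul]
    have hC : C ((taylor (r i) g).coeff l / ((l : k) - a i)) * C ((l : k) - a i) =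
        C ((taylor (r i) g).coeff l) := by
      rw [← C_mul, div_mul_cancel₀ _ hla]
    linear_combination (Rp r (Finset.univ.erase i) * Pp r a (Finset.univ.erase i) * (X - C (r i)) ^ l) * hC

/-- The polar parts are independent. -/
theorem sum_add_le_finrank (hr : Function.Injective r) (e : ℕ) (W : Submodule k k[X]) [Module.Finite k W]
    (hW : Vs r a e ≤ W) : (∑ i, a i) + e ≤ finrank k W := by
  classical
  let D : k[X] := ∏ j, (X - C (r j)) ^ (a j + 1)
  let Dj : Fin m → k[X] := fun i => ∏ j ∈ Finset.univ.erase i, (X - C (r j)) ^ (a j + 1)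
  haveI : ∀ n, Module.Finite k (degreeLT k n) := finite_degreeLT
  let ψ : (degreeLT k e × ((i : Fin m) → degreeLT k (a i))) →ₗ[k] k[X] :=
    (LinearMap.mulLeft k D).comp ((degreeLT k e).subtype.comp (LinearMap.fst k _ _)) +
      ∑ i, (LinearMap.mulLeft k (Dj i)).comp ((degreeLT k (a i)).subtype.comp ((LinearMap.proj i).comp (LinearMap.snd k _ _)))
  have hψ : ∀ x, ψ x ∈ W := fun x => hW <| by
    simp only [ψ, LinearMap.add_apply, LinearMap.comp_apply, LinearMap.sum_apply]
    refine Submodule.add_mem_sup ⟨_, x.1.2, rfl⟩ (Submodule.sum_mem _ fun i _ => ?_)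
    exact Submodule.mem_iSup_of_mem i ⟨_, (x.2 i).2, rfl⟩
  have hinj : Function.Injective ψ := by
    rw [injective_iff_map_eq_zero]
    rintro ⟨g, gs⟩ h
    simp only [ψ, LinearMap.add_apply, LinearMap.comp_apply, LinearMap.sum_apply, LinearMap.fst_apply,
      LinearMap.snd_apply, LinearMap.proj_apply, Submodule.subtype_apply, LinearMap.mulLeft_apply] at h
    have hgs : ∀ i, (gs i : k[X]) = 0 := by
      intro i
      have hd : (X - C (r i)) ^ (a i + 1) ∣ Dj i * (gs i : k[X]) := by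
        have h2 : Dj i * (gs i : k[X]) = - (D * (g : k[X]) + ∑ j ∈ Finset.univ.erase i, Dj j * (gs j : k[X])) := by
          rw [← Finset.add_sum_erase _ _ (Finset.mem_univ i)] at h
          linear_combination h
        rw [h2, dvd_neg]
        refine dvd_add (Dvd.dvd.mul_right (Finset.dvd_prod_of_mem _ (Finset.mem_univ i)) _)
          (Finset.dvd_sum fun j hj => Dvd.dvd.mul_right ?_ _)
        exact Finset.dvd_prod_of_mem (fun j => (X - C (r j)) ^ (a j + 1))
          (Finset.mem_erase.mpr ⟨(Finset.ne_of_mem_erase hj).symm, Finset.mem_univ i⟩)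
      have hcop : IsCoprime ((X - C (r i)) ^ (a i + 1)) (Dj i) :=
        IsCoprime.prod_right fun j hj =>
          (isCoprime_X_sub_C_of_isUnit_sub (sub_ne_zero.mpr fun h => Finset.ne_of_mem_erase hj (hr h).symm).isUnit).pow
      have h3 := hcop.dvd_of_dvd_mul_left hd
      by_contra hne
      have h4 := natDegree_le_of_dvd h3 hne
      rw [natDegree_pow, natDegree_X_sub_C, mul_one] at h4
      have h5 := (natDegree_lt_iff_degree_lt hne).mpr (mem_degreeLT.mp (gs i).2)
      omega
    simp only [hgs, mul_zero, Finset.sum_const_zero, add_zero, mul_eq_zero] at h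
    refine Prod.ext (Subtype.ext (h.resolve_left ?_)) (funext fun i => Subtype.ext (hgs i))
    exact Finset.prod_ne_zero_iff.mpr fun j _ => pow_ne_zero _ (X_sub_C_ne_zero _)
  have h1 := LinearMap.finrank_le_finrank_of_injective (f := ψ.codRestrict W hψ)
    (fun x y hxy => hinj (congrArg Subtype.val hxy))
  rw [finrank_prod, finrank_pi_fintype] at h1
  simp only [finrank_degreeLT] at h1
  omega

theorem finrank_map_top (hN : N = (∑ j, a j) + b) :
    finrank k ((degreeLT k (N + 1)).map (Φ r a)) = N := by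
  classical
  haveI := finite_degreeLT (k := k) (N + 1)
  have h := finrank_map_Φ (r := r) (a := a) (W := degreeLT k (N + 1))
  rw [finrank_degreeLT, if_pos (mem_degreeLT_succ.mpr (by rw [natDegree_Pp]; omega))] at h
  omega

theorem Vs_eq (hr : Function.Injective r) (hN : N = (∑ j, a j) + b) :
    Vs r a b = (degreeLT k (N + 1)).map (Φ r a) := by
  haveI := finite_degreeLT (k := k) (N + 1)
  have hle : Vs r a b ≤ (degreeLT k (N + 1)).map (Φ r a) := by
    refine sup_le ((poly_part_le b).trans_eq (by rw [hN])) (iSup_le fun i => (marked_part_le i).trans ?_)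
    exact Submodule.map_mono (degreeLT_mono (by omega))
  haveI : Module.Finite k (Vs r a b) := Submodule.finiteDimensional_of_le hle
  refine Submodule.eq_of_le_of_finrank_le hle ?_
  rw [finrank_map_top hN, hN]
  exact sum_add_le_finrank hr b (Vs r a b) le_rfl

lemma Pp_mem (hN : N = (∑ j, a j) + b) : P₀ ∈ degreeLT k (N + 1) :=
  mem_degreeLT_succ.mpr (by rw [natDegree_Pp]; omega)

variable (ℓ : k[X] →ₗ[k] k) {W₀ : Submodule k k[X]}

open scoped Classical in
lemma finrank_inf_ker (W : Submodule k k[X]) [Module.Finite k W] :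
    finrank k ↥(W ⊓ LinearMap.ker ℓ) + (if ∃ x ∈ W, ℓ x ≠ 0 then 1 else 0) = finrank k W := by
  have hker : finrank k (LinearMap.ker (ℓ.comp W.subtype)) = finrank k ↥(W ⊓ LinearMap.ker ℓ) := by
    rw [LinearMap.ker_comp, LinearEquiv.finrank_eq (Submodule.equivMapOfInjective W.subtype Subtype.val_injective
      (Submodule.comap W.subtype (LinearMap.ker ℓ))), Submodule.map_comap_eq, Submodule.range_subtype]
  have h := LinearMap.finrank_range_add_finrank_ker (ℓ.comp W.subtype)
  rw [hker] at h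
  by_cases hx : ∃ x ∈ W, ℓ x ≠ 0
  · rw [if_pos hx]
    obtain ⟨x, hxW, hx⟩ := hx
    have : LinearMap.range (ℓ.comp W.subtype) = ⊤ := by
      refine eq_top_iff.mpr fun c _ => ⟨(c / ℓ x) • ⟨x, hxW⟩, ?_⟩
      simp [div_mul_cancel₀ _ hx]
    rw [this, finrank_top, Module.finrank_self] at h
    omega
  · rw [if_neg hx]
    push Not at hx
    have : LinearMap.range (ℓ.comp W.subtype) = ⊥ := by
      rw [LinearMap.range_eq_bot]; ext x; exact hx x x.2
    rw [this, finrank_bot] at h
    omega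

open scoped Classical in
lemma finrank_piece (hN : N = (∑ j, a j) + b) (hℓP : ℓ P₀ = 0) (T' C' : Submodule k k[X])
    (h : ∀ G, Φ r a G ∈ C' ↔ ∃ c : k, G - c • P₀ ∈ T') :
    finrank k ↥((degreeLT k (N + 1) ⊓ LinearMap.ker ℓ).map (Φ r a) ⊓ C') +
        (if P₀ ∈ T' then 1 else 0) + (if ∃ x ∈ degreeLT k (N + 1) ⊓ T', ℓ x ≠ 0 then 1 else 0) =
      finrank k ↥(degreeLT k (N + 1) ⊓ T') := by
  have hP := Pp_mem (r := r) hN
  rw [map_inf_eq (Submodule.mem_inf.mpr ⟨hP, hℓP⟩) h]
  haveI : Module.Finite k ↥(degreeLT k (N + 1) ⊓ T') := finite_of_le inf_le_left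
  haveI : Module.Finite k ↥(degreeLT k (N + 1) ⊓ LinearMap.ker ℓ ⊓ T') := finite_of_le (inf_le_left.trans inf_le_left)
  have h1 := finrank_map_Φ (r := r) (a := a) (W := degreeLT k (N + 1) ⊓ LinearMap.ker ℓ ⊓ T')
  have h2 := finrank_inf_ker ℓ (degreeLT k (N + 1) ⊓ T')
  have hiff : P₀ ∈ degreeLT k (N + 1) ⊓ LinearMap.ker ℓ ⊓ T' ↔ P₀ ∈ T' :=
    ⟨fun h => h.2, fun h => Submodule.mem_inf.mpr ⟨Submodule.mem_inf.mpr ⟨hP, hℓP⟩, h⟩⟩
  simp only [hiff] at h1
  rw [inf_right_comm (degreeLT k (N + 1)) (LinearMap.ker ℓ) T'] at h1 ⊢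
  omega

theorem sum_range_sub (n : ℕ) : 2 * ∑ i ∈ Finset.range n, (n - i) = n * (n + 1) := by
  induction n with
  | zero => simp
  | succ n ih =>
    rw [Finset.sum_range_succ']
    simp only [Nat.add_sub_add_right, Nat.sub_zero, mul_add]
    rw [ih]
    ring

/-- Bookkeeping for the weights. -/
theorem sum_filtration {d : ℕ} (hd : N ≤ d + 1) (f : ℕ → ℕ) (c : ℕ) (hc : c ≤ N) (e : ℕ → ℕ)
    (hf : ∀ i < N, f i + (if i + 1 ≤ c then 1 else 0) + e i = N - i)
    (hlast : d + 1 = N → f d = 0) (hz : ∀ i, N ≤ i → f i = 0) :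
    2 * (∑ i ∈ Finset.range d, f i) + 2 * c + 2 * ∑ i ∈ Finset.range N, e i = N * (N + 1) := by
  have hsum : ∑ i ∈ Finset.range d, f i = ∑ i ∈ Finset.range N, f i := by
    rcases Nat.lt_or_ge d N with h | h
    · have : N = d + 1 := by omega
      rw [this, Finset.sum_range_succ, hlast this.symm, add_zero]
    · exact (Finset.sum_subset (Finset.range_subset_range.mpr h) fun i _ hi => hz i (by simpa using hi)).symm
  have hcnt : ∑ i ∈ Finset.range N, (if i + 1 ≤ c then 1 else 0) = c := by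
    rw [Finset.sum_boole]
    have : (Finset.range N).filter (fun i => i + 1 ≤ c) = Finset.range c := by
      ext i; simp only [Finset.mem_filter, Finset.mem_range]; omega
    rw [this, Finset.card_range]; rfl
  have hall : ∑ i ∈ Finset.range N, (f i + (if i + 1 ≤ c then 1 else 0) + e i) = ∑ i ∈ Finset.range N, (N - i) :=
    Finset.sum_congr rfl fun i hi => hf i (Finset.mem_range.mp hi)
  rw [Finset.sum_add_distrib, Finset.sum_add_distrib, hcnt] at hall
  have h3 := sum_range_sub N
  rw [hsum]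
  omega

end System

end Groth.Agent.H02CA.PolarSystem
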