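import Groth.Agent.H02CA.PolarSystemDim

/-!
# Hyperplanes of systems of polar parts
-/

set_option autoImplicit false

open Polynomial Module

namespace Groth.Agent.H02CA.PolarSystem

variable {k : Type*} [Field k] [CharZero k] {m : ℕ} {r : Fin m → k} {a : Fin m → ℕ} {b N : ℕ}

local notation "P₀" => Pp r a (Finset.univ : Finset (Fin m))
local notation "L₀" => degreeLT k (N + 1)

lemma Pp_mem_T_marked (hr : Function.Injective r) (i : Fin m) (n : ℕ) : P₀ ∈ T (r i) n ↔ n ≤ a i := by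
  rw [mem_T]
  constructor
  · intro h
    rw [show P₀ = (X - C (r i)) ^ a i * Pp r a (Finset.univ.erase i) from
      (Finset.mul_prod_erase Finset.univ (fun j => (X - C (r j)) ^ a j) (Finset.mem_univ i)).symm] at h
    exact le_of_pow_dvd_pow_mul (not_dvd_Pp _ fun j hj h => (Finset.ne_of_mem_erase hj) (hr h).symm) h
  · intro h
    exact (pow_dvd_pow _ h).trans (Finset.dvd_prod_of_mem (fun j => (X - C (r j)) ^ a j) (Finset.mem_univ i))

lemma Pp_notMem_T {q : k} (hq : ∀ j, q ≠ r j) (n : ℕ) : P₀ ∉ T q (n + 1) := fun h =>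
  not_dvd_Pp _ (fun j _ => hq j) (dvd_iff_isRoot.mp ((dvd_pow_self _ n.succ_ne_zero).trans (mem_T.mp h)))

lemma Pp_mem_degreeLT (e : ℕ) : P₀ ∈ degreeLT k e ↔ (∑ j, a j) < e := by
  rw [mem_degreeLT, ← natDegree_lt_iff_degree_lt (Pp_monic _).ne_zero, natDegree_Pp]

lemma marked_iff (hr : Function.Injective r) (i : Fin m) (n : ℕ) (G : k[X]) :
    Φ r a G ∈ T (r i) n ↔ ∃ c : k, G - c • P₀ ∈ T (r i) n := by
  simp only [mem_T]
  exact pow_dvd_Φ_iff_marked hr i n G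

lemma unmarked_iff {q : k} (hq : ∀ j, q ≠ r j) (n : ℕ) (G : k[X]) :
    Φ r a G ∈ T q n ↔ ∃ c : k, G - c • P₀ ∈ T q (n + 1) := by
  simp only [mem_T]
  exact pow_dvd_Φ_iff_unmarked hq n G

lemma infinity_iff (e : ℕ) (G : k[X]) :
    Φ r a G ∈ degreeLT k (e + m - 1) ↔ ∃ c : k, G - c • P₀ ∈ degreeLT k e := by
  simp only [mem_degreeLT]
  exact degree_Φ_lt_iff G e

/-- Deep vanishing at infinity kills everything. -/
lemma inf_degreeLT_eq_bot {W : Submodule k k[X]} {j : ℕ} (hj : j ≤ m - 1) :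
    W.map (Φ r a) ⊓ degreeLT k j = ⊥ := by
  rw [eq_bot_iff]
  rintro _ ⟨⟨G, _, rfl⟩, hC⟩
  obtain ⟨c, hc⟩ := (infinity_iff (r := r) (a := a) 0 G).mp (degreeLT_mono (by omega) hC)
  rw [mem_degreeLT, Nat.cast_zero, Nat.WithBot.lt_zero_iff, degree_eq_bot, sub_eq_zero] at hc
  rw [Submodule.mem_bot, hc, map_smul, Φ_Pp, smul_zero]

/-- The system has no ramification off the marked points. -/
theorem unmarked_top_eq_bot {q : k} (hq : ∀ j, q ≠ r j) (hN : N = (∑ j, a j) + b) :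
    (L₀).map (Φ r a) ⊓ T q N = ⊥ := by
  rw [map_inf_eq (Pp_mem hN) (unmarked_iff hq N)]
  haveI : Module.Finite k ↥(L₀ ⊓ T q (N + 1)) := finite_of_le inf_le_left
  have h : L₀ ⊓ T q (N + 1) = ⊥ := Submodule.finrank_eq_zero.mp (by rw [finrank_degreeLT_inf_T, Nat.sub_self])
  rw [h, Submodule.map_bot]

section Hyperplane

variable (ℓ : k[X] →ₗ[k] k)

local notation "H₁" => Submodule.map (Φ r a) (L₀ ⊓ LinearMap.ker ℓ)

theorem finrank_hyperplane (hN : N = (∑ j, a j) + b) (hℓP : ℓ P₀ = 0) (hℓ : ∃ x ∈ L₀, ℓ x ≠ 0) :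
    finrank k ↥H₁ + 1 = N := by
  classical
  haveI := finite_degreeLT (k := k) (N + 1)
  haveI : Module.Finite k ↥(L₀ ⊓ LinearMap.ker ℓ) := finite_of_le inf_le_left
  have h1 := finrank_map_Φ (r := r) (a := a) (W := L₀ ⊓ LinearMap.ker ℓ)
  rw [if_pos (Submodule.mem_inf.mpr ⟨Pp_mem hN, hℓP⟩)] at h1
  have h2 := finrank_inf_ker ℓ L₀
  rw [if_pos hℓ, finrank_degreeLT] at h2
  omega

lemma X_sub_C_pow_mem {q : k} {l n : ℕ} (hl : l ≤ N) (hn : n ≤ l) : (X - C q) ^ l ∈ L₀ ⊓ T q n :=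
  Submodule.mem_inf.mpr ⟨mem_degreeLT_succ.mpr (by rw [natDegree_pow, natDegree_X_sub_C, mul_one]; exact hl),
    mem_T.mpr (pow_dvd_pow _ hn)⟩

open scoped Classical in
lemma witness_of_or {q : k} {n : ℕ} (hn : n ≤ N - 1)
    (h : ℓ ((X - C q) ^ N) ≠ 0 ∨ ℓ ((X - C q) ^ (N - 1)) ≠ 0) : ∃ x ∈ L₀ ⊓ T q n, ℓ x ≠ 0 := by
  rcases h with h | h
  · exact ⟨_, X_sub_C_pow_mem le_rfl (by omega), h⟩
  · exact ⟨_, X_sub_C_pow_mem (by omega) hn, h⟩

theorem unmarked_weight_le_one {q : k} (hq : ∀ j, q ≠ r j) (hN : N = (∑ j, a j) + b) (hℓP : ℓ P₀ = 0)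
    (h2 : 2 ≤ N) (h : ℓ ((X - C q) ^ N) ≠ 0 ∨ ℓ ((X - C q) ^ (N - 1)) ≠ 0) :
    finrank k ↥(H₁ ⊓ T q (N - 2)) ≤ 1 := by
  classical
  have h1 := finrank_piece ℓ hN hℓP _ _ (unmarked_iff hq (N - 2))
  rw [if_neg (Pp_notMem_T hq _), if_pos (witness_of_or ℓ (by omega) h), finrank_degreeLT_inf_T] at h1
  omega

theorem unmarked_weight_pos {q : k} (hq : ∀ j, q ≠ r j) (hN : N = (∑ j, a j) + b) (hℓP : ℓ P₀ = 0)
    (h1 : 1 ≤ N) (h : H₁ ⊓ T q (N - 1) ≠ ⊥) : ℓ ((X - C q) ^ N) = 0 := by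
  classical
  by_contra hne
  apply h
  have hp := finrank_piece ℓ hN hℓP _ _ (unmarked_iff hq (N - 1))
  rw [if_neg (Pp_notMem_T hq _), if_pos ⟨_, X_sub_C_pow_mem le_rfl (by omega), hne⟩, finrank_degreeLT_inf_T] at hp
  haveI : Module.Finite k ↥(H₁ ⊓ T q (N - 1)) := by
    haveI := finite_degreeLT (k := k) (N + 1)
    haveI : Module.Finite k ↥(L₀ ⊓ LinearMap.ker ℓ) := finite_of_le inf_le_left
    exact Submodule.finiteDimensional_of_le inf_le_left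
  exact Submodule.finrank_eq_zero.mp (by omega)

theorem atMostOne (hN : N = (∑ j, a j) + b) (h1 : 1 ≤ N) (hℓP : ℓ P₀ = 0) (hℓ : ∃ x ∈ L₀, ℓ x ≠ 0) (S : k → Prop)
    (hor : 2 ≤ N → ∀ q, S q → ℓ ((X - C q) ^ N) ≠ 0 ∨ ℓ ((X - C q) ^ (N - 1)) ≠ 0)
    (huniq : ∀ q q', S q → S q' → ℓ ((X - C q) ^ N) = 0 → ℓ ((X - C q') ^ N) = 0 → q = q') :
    (∀ q, (∀ j, q ≠ r j) → S q → H₁ ⊓ T q N = ⊥ ∧ finrank k ↥(H₁ ⊓ T q (N - 2)) ≤ 1) ∧
    (∀ q q', (∀ j, q ≠ r j) → S q → (∀ j, q' ≠ r j) → S q' →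
      H₁ ⊓ T q (N - 1) ≠ ⊥ → H₁ ⊓ T q' (N - 1) ≠ ⊥ → q = q') := by
  refine ⟨fun q hq hS => ⟨?_, ?_⟩, fun q q' hq hS hq' hS' h h' =>
    huniq q q' hS hS' (unmarked_weight_pos ℓ hq hN hℓP h1 h) (unmarked_weight_pos ℓ hq' hN hℓP h1 h')⟩
  · exact le_bot_iff.mp ((inf_le_inf_right _ (Submodule.map_mono inf_le_left)).trans (unmarked_top_eq_bot hq hN).le)
  · by_cases h2 : 2 ≤ N
    · exact unmarked_weight_le_one ℓ hq hN hℓP h2 (hor h2 q hS)
    · haveI := finite_degreeLT (k := k) (N + 1)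
      haveI : Module.Finite k ↥(L₀ ⊓ LinearMap.ker ℓ) := finite_of_le inf_le_left
      have := Submodule.finrank_mono (inf_le_left : H₁ ⊓ T q (N - 2) ≤ H₁)
      have := finrank_hyperplane ℓ hN hℓP hℓ
      omega

lemma two_mul_choose_two (M : ℕ) : 2 * M.choose 2 + M = M * M := by
  induction M with
  | zero => rfl
  | succ M ih =>
    rw [Nat.choose_succ_succ, Nat.choose_one_right]
    have : (M + 1) * (M + 1) = M * M + 2 * M + 1 := by ring
    change 2 * (M + M.choose 2) + (M + 1) = _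
    omega

lemma two_mul_choose (h1 : 1 ≤ N) : 2 * (N - 1).choose 2 + 4 * N = N * (N + 1) + 2 := by
  obtain ⟨M, rfl⟩ := Nat.exists_eq_add_of_le' h1
  rw [Nat.add_sub_cancel]
  have := two_mul_choose_two M
  have : (M + 1) * (M + 1 + 1) = M * M + 3 * M + 2 := by ring
  omega

lemma sum_e_ones {e : ℕ → ℕ} (h1 : 1 ≤ N) (he : ∀ i, e i ≤ 1) (hone : ∀ i, i + 1 < N → e i = 1) :
    ∃ δ ≤ 1, ∑ i ∈ Finset.range N, e i = N - 1 + δ := by
  obtain ⟨M, rfl⟩ := Nat.exists_eq_add_of_le' h1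
  refine ⟨e M, he M, ?_⟩
  rw [Finset.sum_range_succ, Nat.add_sub_cancel, Finset.sum_congr rfl fun i hi => hone i (by
    rw [Finset.mem_range] at hi; omega)]
  simp

theorem weight_marked (hr : Function.Injective r) (hN : N = (∑ j, a j) + b) (hℓP : ℓ P₀ = 0) (d : ℕ)
    (hd : d + 1 = N + m) (hb : 1 ≤ b) (i : Fin m)
    (h : 2 ≤ N → ℓ ((X - C (r i)) ^ N) ≠ 0 ∨ ℓ ((X - C (r i)) ^ (N - 1)) ≠ 0) (ha : 1 ≤ a i) :
    ∃ ε : ℕ, ε ≤ 1 ∧
      (∑ n ∈ Finset.range d, finrank k ↥(H₁ ⊓ T (r i) (n + 1))) + 1 = (N - 1).choose 2 + (N - a i) + ε := by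
  classical
  have hai : a i ≤ ∑ j, a j := Finset.single_le_sum (f := a) (fun j _ => Nat.zero_le _) (Finset.mem_univ i)
  have hm : 0 < m := i.pos
  have hp := fun n => finrank_piece ℓ hN hℓP _ _ (marked_iff (a := a) hr i (n + 1))
  simp only [Pp_mem_T_marked hr, finrank_degreeLT_inf_T] at hp
  let e : ℕ → ℕ := fun n => if ∃ x ∈ L₀ ⊓ T (r i) (n + 1), ℓ x ≠ 0 then 1 else 0
  have hs := sum_filtration (N := N) (d := d) (by omega) (fun n => finrank k ↥(H₁ ⊓ T (r i) (n + 1))) (a i)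
    (by omega) e (fun n _ => (hp n).trans (by omega)) (fun hdN => by omega) (fun n hn => by
      have := hp n; omega)
  obtain ⟨δ, hδ, he⟩ := sum_e_ones (e := e) (N := N) (by omega) (fun n => by simp only [e]; split_ifs <;> omega)
    (fun n hn => if_pos (witness_of_or ℓ (by omega) (h (by omega))))
  refine ⟨1 - δ, by omega, ?_⟩
  have := two_mul_choose (N := N) (by omega)
  omega

open scoped Classical in
/-- The pieces of the filtration at infinity. -/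
lemma infinity_piece (hN : N = (∑ j, a j) + b) (hℓP : ℓ P₀ = 0) (n : ℕ) (hn : n < N) :
    finrank k ↥(H₁ ⊓ degreeLT k (N + m - 1 - n)) + (if n + 1 ≤ b then 1 else 0) +
      (if ∃ x ∈ degreeLT k (N - n), ℓ x ≠ 0 then 1 else 0) = N - n := by
  have h := finrank_piece ℓ hN hℓP _ _ (infinity_iff (r := r) (a := a) (N - n))
  rw [inf_eq_right.mpr (degreeLT_mono (show N - n ≤ N + 1 by omega)), finrank_degreeLT] at h
  rw [show N + m - 1 - n = N - n + m - 1 by omega]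
  have hiff : P₀ ∈ degreeLT k (N - n) ↔ n + 1 ≤ b := by rw [Pp_mem_degreeLT]; omega
  simp only [hiff] at h
  convert h using 3

open scoped Classical in
theorem infinity_sum (hN : N = (∑ j, a j) + b) (hℓP : ℓ P₀ = 0) (d : ℕ) (hd : d + 1 = N + m)
    :
    2 * (∑ n ∈ Finset.range d, finrank k ↥(H₁ ⊓ degreeLT k (d - n))) + 2 * b +
      2 * ∑ n ∈ Finset.range N, (if ∃ x ∈ degreeLT k (N - n), ℓ x ≠ 0 then 1 else 0) = N * (N + 1) := by
  refine sum_filtration (N := N) (d := d) (by omega) _ b (by omega) _ (fun n hn => ?_) (fun hdN => ?_) (fun n hn => ?_)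
  · rw [show d - n = N + m - 1 - n by omega]
    exact infinity_piece ℓ hN hℓP n hn
  · rw [Nat.sub_self, inf_degreeLT_eq_bot (Nat.zero_le _), finrank_bot]
  · rw [inf_degreeLT_eq_bot (by omega), finrank_bot]

theorem weight_infinity_of_deep (hN : N = (∑ j, a j) + b) (hℓP : ℓ P₀ = 0) (hℓ : ∃ x ∈ L₀, ℓ x ≠ 0) (d : ℕ)
    (hd : d + 1 = N + m) (hb : 1 ≤ b) (hvan : ∀ x ∈ degreeLT k (N - 1), ℓ x = 0) :
    ∃ ε : ℕ, ε ≤ 1 ∧ (∑ n ∈ Finset.range d, finrank k ↥(H₁ ⊓ degreeLT k (d - n))) =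
      (N - 1).choose 2 + (N - b) + (N - 2) + ε := by
  classical
  rcases Nat.lt_or_ge N 2 with hN2 | hN2
  · refine ⟨0, zero_le_one, ?_⟩
    haveI := finite_degreeLT (k := k) (N + 1)
    haveI : Module.Finite k ↥(L₀ ⊓ LinearMap.ker ℓ) := finite_of_le inf_le_left
    have hbot : H₁ = ⊥ := Submodule.finrank_eq_zero.mp (by
      have := finrank_hyperplane ℓ hN hℓP hℓ; omega)
    rw [Finset.sum_eq_zero fun n _ => Submodule.finrank_eq_zero.mpr (by rw [hbot]; exact bot_inf_eq _),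
      Nat.choose_eq_zero_of_lt (show N - 1 < 2 by omega)]
    omega
  · have hs := infinity_sum ℓ hN hℓP d hd
    rw [Finset.sum_eq_single_of_mem 0 (Finset.mem_range.mpr (by omega)) (fun n hn hn0 => if_neg (by
      rintro ⟨x, hx, hne⟩
      exact hne (hvan x (degreeLT_mono (by omega) hx))))] at hs
    have := two_mul_choose (N := N) (by omega)
    by_cases hδ : ∃ x ∈ degreeLT k (N - 0), ℓ x ≠ 0
    · rw [if_pos hδ] at hs
      exact ⟨0, zero_le_one, by omega⟩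
    · rw [if_neg hδ] at hs
      exact ⟨1, le_rfl, by omega⟩

theorem weight_infinity_of_linear (hN : N = (∑ j, a j) + b) (hℓP : ℓ P₀ = 0) (d : ℕ)
    (hd : d + 1 = N + m) (hb : 1 ≤ b) (hone : ∀ e, 2 ≤ e → ∃ x ∈ degreeLT k e, ℓ x ≠ 0) :
    ∃ ε : ℕ, ε ≤ 1 ∧ (∑ n ∈ Finset.range d, finrank k ↥(H₁ ⊓ degreeLT k (d - n))) + 1 =
      (N - 1).choose 2 + (N - b) + ε := by
  classical
  have hs := infinity_sum ℓ hN hℓP d hd
  obtain ⟨δ, hδ, he⟩ := sum_e_ones (N := N) (e := fun n => if ∃ x ∈ degreeLT k (N - n), ℓ x ≠ 0 then 1 else 0)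
    (by omega) (fun n => by (try dsimp only); split_ifs <;> omega)
    (fun n hn => if_pos (hone _ (by omega)))
  refine ⟨1 - δ, by omega, ?_⟩
  have := two_mul_choose (N := N) (by omega)
  omega

end Hyperplane

/-- A hyperplane containing the system dropped by two at infinity. -/
theorem exists_functional (hr : Function.Injective r) (hb : 1 ≤ b) (hN : N = (∑ j, a j) + b)
    (V₁ : Submodule k k[X]) (hV₁ : V₁ ≤ Vs r a b) (hfin : finrank k ↥V₁ + 1 = N) (hU : Vs r a (b - 2) ≤ V₁) :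
    ∃ ℓ : k[X] →ₗ[k] k, ℓ P₀ = 0 ∧ (∃ x ∈ L₀, ℓ x ≠ 0) ∧ V₁ = (L₀ ⊓ LinearMap.ker ℓ).map (Φ r a) ∧
      (∀ x ∈ degreeLT k (N - 1), ℓ x = 0) := by
  classical
  rw [Vs_eq hr hN] at hV₁
  rw [Vs_eq hr (N := (∑ j, a j) + (b - 2)) rfl] at hU
  haveI := finite_degreeLT (k := k) (N + 1)
  let L₁ := L₀ ⊓ V₁.comap (Φ r a)
  have hmap : L₁.map (Φ r a) = V₁ := by
    apply le_antisymm
    · rintro _ ⟨G, hG, rfl⟩
      exact hG.2
    · intro y hy
      obtain ⟨G, hG, rfl⟩ := hV₁ hy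
      exact ⟨G, ⟨hG, hy⟩, rfl⟩
  haveI : Module.Finite k ↥L₁ := finite_of_le inf_le_left
  have hPL : P₀ ∈ L₁ := Submodule.mem_inf.mpr ⟨Pp_mem hN, by simp [Φ_Pp]⟩
  have h1 := finrank_map_Φ (r := r) (a := a) (W := L₁)
  rw [if_pos hPL, hmap] at h1
  obtain ⟨x, hx, hx1⟩ : ∃ x ∈ L₀, x ∉ L₁ := by
    by_contra hcon
    push Not at hcon
    have hle : L₀ ≤ L₁ := hcon
    have := Submodule.finrank_mono hle
    rw [finrank_degreeLT] at this
    omega
  obtain ⟨ℓ, hℓx, hℓ⟩ := L₁.exists_dual_map_eq_bot_of_notMem hx1 inferInstance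
  have hker : L₁ ≤ LinearMap.ker ℓ := fun y hy => by
    have : ℓ y ∈ L₁.map ℓ := ⟨y, hy, rfl⟩
    rwa [hℓ, Submodule.mem_bot] at this
  haveI : Module.Finite k ↥(L₀ ⊓ LinearMap.ker ℓ) := finite_of_le inf_le_left
  have h2 := finrank_inf_ker ℓ L₀
  rw [if_pos ⟨x, hx, hℓx⟩, finrank_degreeLT] at h2
  have heq : L₁ = L₀ ⊓ LinearMap.ker ℓ :=
    Submodule.eq_of_le_of_finrank_le (le_inf inf_le_left hker) (by omega)
  refine ⟨ℓ, hker hPL, ⟨x, hx, hℓx⟩, by rw [← heq, hmap], fun y hy => hker ?_⟩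
  refine Submodule.mem_inf.mpr ⟨degreeLT_mono (by omega) hy, hU ⟨y, degreeLT_mono (by omega) hy, rfl⟩⟩

lemma functional_X_sub_C_pow {ℓ : k[X] →ₗ[k] k} (h1 : 1 ≤ N) (hvan : ∀ x ∈ degreeLT k (N - 1), ℓ x = 0) (q : k) :
    ℓ ((X - C q) ^ (N - 1)) = ℓ (X ^ (N - 1)) ∧
    ℓ ((X - C q) ^ N) = ℓ (X ^ N) - N * q * ℓ (X ^ (N - 1)) := by
  obtain ⟨M, rfl⟩ := Nat.exists_eq_add_of_le' h1
  rw [Nat.add_sub_cancel] at hvan ⊢
  constructor
  · rw [← sub_eq_zero, ← map_sub]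
    refine hvan _ (mem_degreeLT.mpr ((degree_lt_iff_coeff_zero _ _).mpr fun j hj => ?_))
    rw [coeff_sub, coeff_X_pow]
    rcases hj.eq_or_lt with rfl | hj
    · rw [if_pos rfl, sub_eq_zero]
      have := ((monic_X_sub_C q).pow M).coeff_natDegree
      rwa [natDegree_pow, natDegree_X_sub_C, mul_one] at this
    · rw [if_neg (by omega), sub_zero, coeff_eq_zero_of_natDegree_lt]
      rwa [natDegree_pow, natDegree_X_sub_C, mul_one]
  · have hmem : (X - C q) ^ (M + 1) - (X ^ (M + 1) - C (((M + 1 : ℕ) : k) * q) * X ^ M) ∈ degreeLT k M := by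
      refine mem_degreeLT.mpr ((degree_lt_iff_coeff_zero _ _).mpr fun j hj => ?_)
      rw [coeff_sub, coeff_sub, coeff_X_pow, coeff_C_mul, coeff_X_pow]
      rcases hj.eq_or_lt with rfl | hj
      · rw [if_neg (by omega), if_pos rfl, mul_one, zero_sub, sub_neg_eq_add, sub_eq_add_neg, ← C_neg,
          coeff_X_add_C_pow, Nat.choose_succ_self_right, show M + 1 - M = 1 by omega]
        push_cast
        ring
      · rcases (Nat.succ_le_of_lt hj).eq_or_lt with rfl | hj'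
        · rw [if_pos rfl, if_neg (by omega), mul_zero, sub_zero, sub_eq_zero]
          have := ((monic_X_sub_C q).pow (M + 1)).coeff_natDegree
          rwa [natDegree_pow, natDegree_X_sub_C, mul_one] at this
        · rw [if_neg (by omega), if_neg (by omega), mul_zero, sub_zero, sub_zero, coeff_eq_zero_of_natDegree_lt]
          rw [natDegree_pow, natDegree_X_sub_C, mul_one]
          exact hj'
    have h := hvan _ hmem
    rw [map_sub, map_sub, ← smul_eq_C_mul, map_smul, smul_eq_mul, sub_eq_zero] at h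
    exact h

lemma functional_or {ℓ : k[X] →ₗ[k] k} (h1 : 1 ≤ N) (hℓ : ∃ x ∈ L₀, ℓ x ≠ 0)
    (hvan : ∀ x ∈ degreeLT k (N - 1), ℓ x = 0) : ℓ (X ^ N) ≠ 0 ∨ ℓ (X ^ (N - 1)) ≠ 0 := by
  by_contra hcon
  push Not at hcon
  obtain ⟨x, hx, hne⟩ := hℓ
  apply hne
  have hmem : x - x.coeff N • X ^ N - x.coeff (N - 1) • X ^ (N - 1) ∈ degreeLT k (N - 1) := by
    refine mem_degreeLT.mpr ((degree_lt_iff_coeff_zero _ _).mpr fun j hj => ?_)
    simp only [coeff_sub, coeff_smul, coeff_X_pow, smul_eq_mul]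
    rcases lt_trichotomy j N with h | rfl | h
    · obtain rfl : j = N - 1 := by omega
      rw [if_neg (by omega), if_pos rfl]
      ring
    · rw [if_pos rfl, if_neg (by omega)]
      ring
    · rw [if_neg (by omega), if_neg (by omega), coeff_eq_zero_of_natDegree_lt (lt_of_le_of_lt (mem_degreeLT_succ.mp hx) h)]
      ring
  have h := hvan _ hmem
  rwa [map_sub, map_sub, map_smul, map_smul, hcon.1, hcon.2, smul_zero, smul_zero, sub_zero, sub_zero] at h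

/-- Evaluation at `p` after `Φ`. -/
noncomputable def evΦ (r : Fin m → k) (a : Fin m → ℕ) (p : k) : k[X] →ₗ[k] k := (Polynomial.leval p).comp (Φ r a)

lemma evΦ_Pp (p : k) : evΦ r a p P₀ = 0 := by simp [evΦ, Φ_Pp]

lemma inf_ker_evΦ (p : k) :
    (L₀).map (Φ r a) ⊓ (Ideal.span {X - C p}).restrictScalars k = (L₀ ⊓ LinearMap.ker (evΦ r a p)).map (Φ r a) := by
  ext y
  simp only [Submodule.mem_inf, Submodule.restrictScalars_mem, Ideal.mem_span_singleton, dvd_iff_isRoot, Submodule.mem_map,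
    LinearMap.mem_ker, evΦ, LinearMap.comp_apply, leval_apply, IsRoot.def]
  constructor
  · rintro ⟨⟨G, hG, rfl⟩, h⟩
    exact ⟨G, ⟨hG, h⟩, rfl⟩
  · rintro ⟨G, ⟨hG, h⟩, rfl⟩
    exact ⟨⟨G, hG, rfl⟩, h⟩

lemma evΦ_X_sub_C_pow (p q : k) (n : ℕ) :
    evΦ r a p ((X - C q) ^ (n + 1)) = (p - q) ^ n *
      (((n : k) + 1) * (Rp r Finset.univ).eval p - (p - q) * (Sp r a Finset.univ).eval p) := by
  have h : (X - C q) ^ (n + 1) = (X - C q) ^ (n + 1) * 1 := (mul_one _).symm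
  rw [evΦ, LinearMap.comp_apply, h, Φ_unmarked, leval_apply]
  simp only [derivative_one, mul_zero, add_zero, mul_one, eval_mul, eval_sub, eval_pow, eval_X, eval_C, eval_add,
    eval_natCast, eval_one]
  ring

lemma evΦ_linear {p : k} (hp : ∀ j, p ≠ r j) : evΦ r a p (X - C p) ≠ 0 := by
  have h := evΦ_X_sub_C_pow (r := r) (a := a) p p 0
  rw [zero_add, pow_one] at h
  rw [h, pow_zero, sub_self, zero_mul, sub_zero, Nat.cast_zero, zero_add, one_mul, one_mul]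
  exact eval_Rp_ne_zero _ fun j _ => hp j

lemma exists_evΦ_ne_zero {p : k} (hp : ∀ j, p ≠ r j) {e : ℕ} (he : 2 ≤ e) :
    ∃ x ∈ degreeLT k e, evΦ r a p x ≠ 0 :=
  ⟨_, mem_degreeLT.mpr ((degree_X_sub_C p).trans_lt (Nat.one_lt_cast.mpr (by omega))), evΦ_linear hp⟩

lemma evΦ_or {p q : k} (hp : ∀ j, p ≠ r j) (hpq : q ≠ p) (h2 : 2 ≤ N) :
    evΦ r a p ((X - C q) ^ N) ≠ 0 ∨ evΦ r a p ((X - C q) ^ (N - 1)) ≠ 0 := by
  obtain ⟨M, rfl⟩ := Nat.exists_eq_add_of_le' h2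
  rw [show M + 2 - 1 = M + 1 by omega]
  by_contra hcon
  push Not at hcon
  have h1 := hcon.1
  have h0 := hcon.2
  rw [evΦ_X_sub_C_pow] at h1 h0
  have hne : p - q ≠ 0 := sub_ne_zero.mpr hpq.symm
  replace h1 := (mul_eq_zero.mp h1).resolve_left (pow_ne_zero _ hne)
  replace h0 := (mul_eq_zero.mp h0).resolve_left (pow_ne_zero _ hne)
  apply eval_Rp_ne_zero (r := r) Finset.univ fun j _ => hp j
  push_cast at h1
  linear_combination h1 - h0

lemma evΦ_unique {p q q' : k} (hp : ∀ j, p ≠ r j) (hq : q ≠ p) (hq' : q' ≠ p) (h1 : 1 ≤ N)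
    (h : evΦ r a p ((X - C q) ^ N) = 0) (h' : evΦ r a p ((X - C q') ^ N) = 0) : q = q' := by
  obtain ⟨M, rfl⟩ := Nat.exists_eq_add_of_le' h1
  rw [evΦ_X_sub_C_pow] at h h'
  replace h := (mul_eq_zero.mp h).resolve_left (pow_ne_zero _ (sub_ne_zero.mpr hq.symm))
  replace h' := (mul_eq_zero.mp h').resolve_left (pow_ne_zero _ (sub_ne_zero.mpr hq'.symm))
  have hS : (Sp r a Finset.univ).eval p ≠ 0 := by
    intro h0
    rw [h0, mul_zero, sub_zero] at h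
    exact mul_ne_zero (Nat.cast_add_one_ne_zero M) (eval_Rp_ne_zero (r := r) Finset.univ fun j _ => hp j) h
  have : (q - q') * (Sp r a Finset.univ).eval p = 0 := by linear_combination h - h'
  exact sub_eq_zero.mp ((mul_eq_zero.mp this).resolve_right hS)

end Groth.Agent.H02CA.PolarSystem
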