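import Groth.Agent.H02CA.PolarSystemHyper

/-!
# The system of polar parts on a three-pointed line
-/

set_option autoImplicit false

open Polynomial Module

namespace Groth.Agent.H02CA.PolarSystem

variable {k : Type*} [Field k] [CharZero k] {a b : ℕ}

lemma inf_degreeLE_eq {D : k[X]} (hD : D.Monic) {u n : ℕ} (hu : D.natDegree + n = u + 1) :
    (Ideal.span {D}).restrictScalars k ⊓ degreeLE k (u : WithBot ℕ) = (degreeLT k n).map (LinearMap.mulLeft k D) := by
  ext G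
  simp only [Submodule.mem_inf, Submodule.restrictScalars_mem, Ideal.mem_span_singleton, Submodule.mem_map,
    LinearMap.mulLeft_apply, mem_degreeLE, mem_degreeLT]
  constructor
  · rintro ⟨⟨v, rfl⟩, h⟩
    refine ⟨v, ?_, rfl⟩
    rcases eq_or_ne v 0 with rfl | hv
    · rw [degree_zero]; exact WithBot.bot_lt_coe _
    rw [← natDegree_lt_iff_degree_lt hv]
    have h' := natDegree_le_of_degree_le h
    rw [hD.natDegree_mul' hv] at h'
    omega
  · rintro ⟨v, hv, rfl⟩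
    refine ⟨dvd_mul_right _ _, ?_⟩
    rcases eq_or_ne v 0 with rfl | hv0
    · rw [mul_zero, degree_zero]; exact bot_le
    rw [← natDegree_lt_iff_degree_lt hv0] at hv
    refine degree_le_natDegree.trans (Nat.cast_le.mpr ?_)
    rw [hD.natDegree_mul' hv0]
    omega

variable (k a b)

/-- The marked points `0`, `1`. -/
abbrev r₂ : Fin 2 → k := ![0, 1]

/-- The pole orders. -/
abbrev a₂ : Fin 2 → ℕ := ![a, b]

variable {k a b}

lemma r₂_injective : Function.Injective (r₂ k) := by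
  intro x y h
  fin_cases x <;> fin_cases y <;> simp_all [r₂]

lemma three_pointed_eq {V : Submodule k k[X]}
    (hV : V = ((Ideal.span {(X : k[X]) ^ (a + 1)}).restrictScalars k ⊓ degreeLE k ↑(a + b)) ⊔
      ((Ideal.span {((X : k[X]) - 1) ^ (b + 1)}).restrictScalars k ⊓ degreeLE k ↑(a + b)) ⊔
      Submodule.span k {(X : k[X]) ^ (a + 1) * (X - 1) ^ (b + 1)}) :
    V = (degreeLT k (a + b + 1 + 1)).map (Φ (r₂ k) (a₂ a b)) := by
  classical
  rw [← Vs_eq (b := 1) r₂_injective (by simp [a₂, Fin.sum_univ_two]), hV]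
  have e0 : (Finset.univ : Finset (Fin 2)).erase 0 = {1} := by decide
  have e1 : (Finset.univ : Finset (Fin 2)).erase 1 = {0} := by decide
  have hs : (⨆ i : Fin 2, (degreeLT k (a₂ a b i)).map
      (LinearMap.mulLeft k (∏ j ∈ Finset.univ.erase i, (X - C (r₂ k j)) ^ (a₂ a b j + 1)))) =
      (degreeLT k a).map (LinearMap.mulLeft k (((X : k[X]) - 1) ^ (b + 1))) ⊔
        (degreeLT k b).map (LinearMap.mulLeft k ((X : k[X]) ^ (a + 1))) := by
    refine le_antisymm (iSup_le fun i => ?_) (sup_le (le_iSup_of_le 0 ?_) (le_iSup_of_le 1 ?_))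
    · fin_cases i
      · simp [e0, r₂, a₂]
      · simp [e1, r₂, a₂]
    · simp [e0, r₂, a₂]
    · simp [e1, r₂, a₂]
  have hd : (degreeLT k 1).map (LinearMap.mulLeft k ((X : k[X]) ^ (a + 1) * (X - 1) ^ (b + 1))) =
      Submodule.span k {(X : k[X]) ^ (a + 1) * (X - 1) ^ (b + 1)} := by
    rw [degreeLT_eq_span_X_pow, Submodule.map_span]
    simp
  have hX : ((X : k[X]) - 1).Monic := by simpa using monic_X_sub_C (1 : k)
  have hXd : ((X : k[X]) - 1).natDegree = 1 := by simpa using natDegree_X_sub_C (1 : k)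
  rw [inf_degreeLE_eq (monic_X_pow _) (n := b) (by rw [natDegree_X_pow]; omega),
    inf_degreeLE_eq (hX.pow _) (n := a) (by rw [hX.natDegree_pow, hXd]; omega), ← hd]
  unfold Vs
  rw [hs, Fin.prod_univ_two]
  simp only [r₂, a₂, Matrix.cons_val_zero, Matrix.cons_val_one, map_zero, sub_zero, map_one]
  rw [sup_comm ((degreeLT k b).map _), sup_comm]

local notation "Ψ" => Φ (r₂ k) (a₂ a b)
local notation "Q₀" => Pp (r₂ k) (a₂ a b) (Finset.univ : Finset (Fin 2))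

lemma unmarked₂ {q : k} (h0 : q ≠ 0) (h1 : q ≠ 1) : ∀ j, q ≠ r₂ k j := by
  intro j
  fin_cases j <;> simp [r₂, h0, h1]

lemma smul_eq_zero_of_dvd {G : k[X]} {c : k} {D : k[X]} (hD : a + b + 1 < D.natDegree)
    (hG : G ∈ degreeLT k (a + b + 1 + 1)) (h : D ∣ G - c • Q₀) : Ψ G = 0 := by
  have h0 : G - c • Q₀ = 0 := eq_zero_of_dvd_of_natDegree_lt h (lt_of_le_of_lt (mem_degreeLT_succ.mp
    (sub_mem hG (Submodule.smul_mem _ c (Pp_mem (b := 1) (by simp [a₂, Fin.sum_univ_two]))))) hD)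
  rw [sub_eq_zero.mp h0, map_smul, Φ_Pp, smul_zero]

theorem three_pointed_le_one {p q : k} (hp0 : p ≠ 0) (hp1 : p ≠ 1) (hq0 : q ≠ 0) (hq1 : q ≠ 1) {i j : ℕ}
    (hi : 1 ≤ i) (hj1 : 1 ≤ j) (hij : i + j = a + b + 2) :
    finrank k ↥((degreeLT k (a + b + 1 + 1)).map Ψ ⊓
      (Ideal.span {(X - C p) ^ (i - 1) * (X - C q) ^ (j - 1)}).restrictScalars k) ≤ 1 := by
  classical
  have hN : a + b + 1 = (∑ l, a₂ a b l) + 1 := by simp [a₂, Fin.sum_univ_two]
  rcases eq_or_ne p q with rfl | hpq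
  · rw [← pow_add, show i - 1 + (j - 1) = a + b + 1 - 1 by omega]
    change finrank k ↥((degreeLT k (a + b + 1 + 1)).map Ψ ⊓ T p (a + b + 1 - 1)) ≤ 1
    rw [map_inf_eq (Pp_mem hN) (unmarked_iff (unmarked₂ hp0 hp1) (a + b + 1 - 1))]
    haveI : Module.Finite k ↥(degreeLT k (a + b + 1 + 1) ⊓ T p (a + b + 1 - 1 + 1)) := finite_of_le inf_le_left
    refine (Submodule.finrank_map_le _ _).trans ?_
    rw [finrank_degreeLT_inf_T]
    omega
  · haveI := finite_degreeLT (k := k) (a + b + 1 + 1)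
    set W := (degreeLT k (a + b + 1 + 1)).map Ψ ⊓
      (Ideal.span {(X - C p) ^ (i - 1) * (X - C q) ^ (j - 1)}).restrictScalars k
    have hW : ∀ h ∈ W, ∃ (G : k[X]) (c c' : k), G ∈ degreeLT k (a + b + 1 + 1) ∧ Ψ G = h ∧
        (X - C p) ^ i ∣ G - c • Q₀ ∧ (X - C q) ^ j ∣ G - c' • Q₀ := by
      rintro _ ⟨⟨G, hG, rfl⟩, h⟩
      rw [SetLike.mem_coe, Submodule.restrictScalars_mem, Ideal.mem_span_singleton] at h
      obtain ⟨c, hc⟩ := (pow_dvd_Φ_iff_unmarked (unmarked₂ hp0 hp1) (i - 1) G).mp ((dvd_mul_right _ _).trans h)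
      obtain ⟨c', hc'⟩ := (pow_dvd_Φ_iff_unmarked (unmarked₂ hq0 hq1) (j - 1) G).mp ((dvd_mul_left _ _).trans h)
      rw [Nat.sub_add_cancel hi] at hc
      rw [Nat.sub_add_cancel hj1] at hc'
      exact ⟨G, c, c', hG, rfl, hc, hc'⟩
    have hcop : IsCoprime ((X - C p) ^ i) ((X - C q) ^ j) :=
      (isCoprime_X_sub_C_of_isUnit_sub (sub_ne_zero.mpr hpq).isUnit).pow
    have hdeg : a + b + 1 < ((X - C p) ^ i * (X - C q) ^ j).natDegree := by
      rw [natDegree_mul (pow_ne_zero _ (X_sub_C_ne_zero p)) (pow_ne_zero _ (X_sub_C_ne_zero q))]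
      simp
      omega
    by_cases hbot : ∀ h ∈ W, h = 0
    · rw [(Submodule.eq_bot_iff W).mpr hbot, finrank_bot]
      exact zero_le_one
    push Not at hbot
    obtain ⟨h₀, hh₀, hne⟩ := hbot
    obtain ⟨G₀, c₀, c₀', hG₀, rfl, hd₀, hd₀'⟩ := hW h₀ hh₀
    have hc₀ : c₀ ≠ c₀' := by
      rintro rfl
      exact hne (smul_eq_zero_of_dvd hdeg hG₀ (hcop.mul_dvd hd₀ hd₀'))
    refine finrank_le_one (⟨_, hh₀⟩ : W) fun w => ?_
    obtain ⟨G, c, c', hG, hw, hd, hd'⟩ := hW w w.2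
    refine ⟨(c - c') / (c₀ - c₀'), Subtype.ext ?_⟩
    generalize ht : (c - c') / (c₀ - c₀') = t
    have hcc : c - t * c₀ = c' - t * c₀' := by
      have : t * (c₀ - c₀') = c - c' := by rw [← ht, div_mul_cancel₀ _ (sub_ne_zero.mpr hc₀)]
      linear_combination -this
    have h1 : G - t • G₀ - (c - t * c₀) • Q₀ = (G - c • Q₀) - t • (G₀ - c₀ • Q₀) := by
      rw [smul_sub, smul_smul, sub_smul]; abel
    have h2 : G - t • G₀ - (c - t * c₀) • Q₀ = (G - c' • Q₀) - t • (G₀ - c₀' • Q₀) := by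
      rw [hcc, smul_sub, smul_smul, sub_smul]; abel
    have hz := smul_eq_zero_of_dvd (G := G - t • G₀) (c := c - t * c₀) hdeg (sub_mem hG (Submodule.smul_mem _ t hG₀))
      (hcop.mul_dvd (h1 ▸ dvd_sub hd (by rw [smul_eq_C_mul]; exact hd₀.mul_left _))
        (h2 ▸ dvd_sub hd' (by rw [smul_eq_C_mul t]; exact hd₀'.mul_left _)))
    rw [map_sub, map_smul, sub_eq_zero, hw] at hz
    exact hz.symm

theorem three_pointed_eq_bot (q : k) {i j : ℕ} (hia : i ≤ a) (hi : 1 ≤ i) (hij : i + j = a + b + 2) :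
    (degreeLT k (a + b + 1 + 1)).map Ψ ⊓ (Ideal.span {(X : k[X]) ^ i * (X - C q) ^ j}).restrictScalars k = ⊥ := by
  classical
  rw [Submodule.eq_bot_iff]
  rintro _ ⟨⟨G, hG, rfl⟩, h⟩
  rw [SetLike.mem_coe, Submodule.restrictScalars_mem, Ideal.mem_span_singleton] at h
  have hX : (X : k[X]) - C (r₂ k 0) = X := by simp [r₂]
  rcases eq_or_ne q 0 with rfl | hq0
  · rw [C_0, sub_zero, ← pow_add] at h
    obtain ⟨c, hc⟩ := (pow_dvd_Φ_iff_marked r₂_injective 0 (i + j) G).mp (by rw [hX]; exact h)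
    rw [hX] at hc
    exact smul_eq_zero_of_dvd (by rw [natDegree_X_pow]; omega) hG hc
  · obtain ⟨c0, hc0⟩ := (pow_dvd_Φ_iff_marked r₂_injective 0 i G).mp
      (by rw [hX]; exact (dvd_mul_right _ _).trans h)
    rw [hX] at hc0
    obtain ⟨c, hc⟩ : ∃ c, (X - C q) ^ j ∣ G - c • Q₀ := by
      rcases eq_or_ne q 1 with rfl | hq1
      · have h1 : (X : k[X]) - C (r₂ k 1) = X - C 1 := by simp [r₂]
        obtain ⟨c, hc⟩ := (pow_dvd_Φ_iff_marked r₂_injective 1 j G).mp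
          (by rw [h1]; exact (dvd_mul_left _ _).trans h)
        exact ⟨c, h1 ▸ hc⟩
      · obtain ⟨c, hc⟩ := (pow_dvd_Φ_iff_unmarked (unmarked₂ hq0 hq1) j G).mp ((dvd_mul_left _ _).trans h)
        exact ⟨c, (pow_dvd_pow _ j.le_succ).trans hc⟩
    have hP : (X : k[X]) ^ i ∣ Q₀ := by
      rw [← hX]
      exact mem_T.mp ((Pp_mem_T_marked r₂_injective 0 i).mpr (by simpa [a₂] using hia))
    have hXi : (X : k[X]) ^ i ∣ G - c • Q₀ := by
      have : G - c • Q₀ = (G - c0 • Q₀) + (c0 - c) • Q₀ := by rw [sub_smul]; abel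
      rw [this, smul_eq_C_mul (c0 - c)]
      exact dvd_add hc0 (hP.mul_left _)
    have hcop : IsCoprime ((X : k[X]) ^ i) ((X - C q) ^ j) := by
      simpa using ((isCoprime_X_sub_C_of_isUnit_sub (a := (0 : k)) (b := q)
        (sub_ne_zero.mpr hq0.symm).isUnit).pow (m := i) (n := j))
    refine smul_eq_zero_of_dvd ?_ hG (hcop.mul_dvd hXi hc)
    rw [natDegree_mul (pow_ne_zero _ X_ne_zero) (pow_ne_zero _ (X_sub_C_ne_zero q))]
    simp
    omega

end Groth.Agent.H02CA.PolarSystem
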