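import Groth.Prelude.Def_W4c5spincurvestfNode
import Mathlib

/-!
# The ring `R[x, y]/(xy - q)`: its basis indexed by `ℤ` and sections of twists on the blown-up node
-/

universe u

namespace Groth.Agent.H02CA.PolyNode

open SpinCurv MvPolynomial

variable {R : Type u} [CommRing R] (q : R)

/-- The weight `q^{(-i)⁺}`. -/
def γ (i : ℤ) : R := q ^ (-i).toNat

theorem γ_of_nonneg {i : ℤ} (h : 0 ≤ i) : γ q i = 1 := by
  rw [γ, Int.toNat_eq_zero.2 (by omega), pow_zero]

/-- The basis element: `x^i` for `i ≥ 0` and `y^(-i)` for `i < 0`. -/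
noncomputable def e (i : ℤ) : PolyNodeRing R q :=
  PolyNodeRing.x R q ^ i.toNat * PolyNodeRing.y R q ^ (-i).toNat

theorem e_natCast (a : ℕ) : e q (a : ℤ) = PolyNodeRing.x R q ^ a := by simp [e]

theorem e_neg_natCast (b : ℕ) : e q (-(b : ℤ)) = PolyNodeRing.y R q ^ b := by simp [e]

theorem xy : PolyNodeRing.x R q * PolyNodeRing.y R q = algebraMap R _ q := by
  rw [← map_mul, IsScalarTower.algebraMap_apply R (MvPolynomial (Fin 2) R) (PolyNodeRing R q),
    Ideal.Quotient.algebraMap_eq, MvPolynomial.algebraMap_eq, Ideal.Quotient.eq]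
  exact Ideal.subset_span rfl

theorem x_pow_mul_y_pow (a b : ℕ) :
    PolyNodeRing.x R q ^ a * PolyNodeRing.y R q ^ b = q ^ (min a b) • e q ((a : ℤ) - b) := by
  rw [show ∀ (c : R) (z : PolyNodeRing R q), c • z = algebraMap R _ c * z from
    fun c z => Algebra.smul_def c z, map_pow, ← xy, mul_pow, e]
  rcases le_total a b with h | h
  · rw [min_eq_left h, show ((a : ℤ) - b).toNat = 0 by omega,
      show (-((a : ℤ) - b)).toNat = b - a by omega, pow_zero, one_mul, mul_assoc, ← pow_add,
      Nat.add_sub_cancel' h]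
  · rw [min_eq_right h, show ((a : ℤ) - b).toNat = a - b by omega,
      show (-((a : ℤ) - b)).toNat = 0 by omega, pow_zero, mul_one, mul_comm (_ ^ b), mul_assoc,
      ← pow_add, mul_comm, Nat.add_sub_cancel' h]

theorem mk_monomial (d : Fin 2 →₀ ℕ) (r : R) :
    (Ideal.Quotient.mk _ (MvPolynomial.monomial d r) : PolyNodeRing R q) =
      (r * q ^ (min (d 0) (d 1))) • e q ((d 0 : ℤ) - d 1) := by
  rw [mul_smul, ← x_pow_mul_y_pow,
    show ∀ (c : R) (z : PolyNodeRing R q), c • z = algebraMap R _ c * z from
      fun c z => Algebra.smul_def c z, ← map_pow, ← map_pow, ← map_mul,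
    IsScalarTower.algebraMap_apply R (MvPolynomial (Fin 2) R) (PolyNodeRing R q),
    Ideal.Quotient.algebraMap_eq, ← map_mul, MvPolynomial.algebraMap_eq, MvPolynomial.monomial_eq,
    Finsupp.prod_fintype _ _ (fun i => pow_zero _), Fin.prod_univ_two]

/-- Coordinates on polynomials. -/
noncomputable def pre : MvPolynomial (Fin 2) R →ₗ[R] (ℤ →₀ R) :=
  (MvPolynomial.basisMonomials (Fin 2) R).constr R fun d =>
    Finsupp.single ((d 0 : ℤ) - d 1) (q ^ (min (d 0) (d 1)))

theorem pre_monomial (d : Fin 2 →₀ ℕ) (r : R) :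
    pre q (MvPolynomial.monomial d r) =
      Finsupp.single ((d 0 : ℤ) - d 1) (r * q ^ (min (d 0) (d 1))) := by
  rw [show MvPolynomial.monomial d r = r • MvPolynomial.basisMonomials (Fin 2) R d by
      simp [MvPolynomial.smul_monomial],
    map_smul, pre, Module.Basis.constr_basis, Finsupp.smul_single, smul_eq_mul]

theorem pre_ideal :
    Submodule.restrictScalars R
        (Ideal.span {(MvPolynomial.X 0 * MvPolynomial.X 1 - MvPolynomial.C q : MvPolynomial (Fin 2) R)}) ≤
      LinearMap.ker (pre q) := by
  intro P hP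
  obtain ⟨S, rfl⟩ := Ideal.mem_span_singleton'.1 hP
  rw [LinearMap.mem_ker]
  induction S using MvPolynomial.induction_on' with
  | monomial d r =>
    rw [mul_sub, map_sub, MvPolynomial.X, MvPolynomial.X, MvPolynomial.monomial_mul,
      MvPolynomial.monomial_mul, MvPolynomial.C_apply, MvPolynomial.monomial_mul, pre_monomial,
      pre_monomial, sub_eq_zero]
    simp only [Finsupp.add_apply, Finsupp.single_eq_same, Finsupp.single_eq_of_ne (one_ne_zero : (1 : Fin 2) ≠ 0),
      Finsupp.single_eq_of_ne (zero_ne_one : (0 : Fin 2) ≠ 1), add_zero, zero_add, mul_one,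
      Finsupp.zero_apply]
    rw [show ((d 0 + 1 : ℕ) : ℤ) - (d 1 + 1 : ℕ) = (d 0 : ℤ) - d 1 by push_cast; ring,
      show min (d 0 + 1) (d 1 + 1) = min (d 0) (d 1) + 1 by omega]
    congr 1
    ring
  | add a b ha hb => rw [add_mul, map_add, ha (Ideal.mem_span_singleton'.2 ⟨a, rfl⟩),
      hb (Ideal.mem_span_singleton'.2 ⟨b, rfl⟩), add_zero]

/-- Coordinates in the basis `e`. -/
noncomputable def coord : PolyNodeRing R q →ₗ[R] (ℤ →₀ R) :=
  (Submodule.restrictScalars R (Ideal.span
    {(MvPolynomial.X 0 * MvPolynomial.X 1 - MvPolynomial.C q : MvPolynomial (Fin 2) R)})).liftQ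
      (pre q) (pre_ideal q) ∘ₗ
    (Submodule.Quotient.restrictScalarsEquiv R _).symm.toLinearMap

theorem coord_mk (P : MvPolynomial (Fin 2) R) : coord q (Ideal.Quotient.mk _ P) = pre q P := rfl

theorem coord_e (i : ℤ) : coord q (e q i) = Finsupp.single i 1 := by
  rw [e, ← map_pow, ← map_pow, ← map_mul, coord_mk, MvPolynomial.X_pow_eq_monomial,
    MvPolynomial.X_pow_eq_monomial, MvPolynomial.monomial_mul, pre_monomial]
  simp only [Finsupp.add_apply, Finsupp.single_eq_same, Finsupp.single_eq_of_ne (one_ne_zero : (1 : Fin 2) ≠ 0),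
    Finsupp.single_eq_of_ne (zero_ne_one : (0 : Fin 2) ≠ 1), add_zero, zero_add, mul_one]
  rw [show ((i.toNat : ℕ) : ℤ) - ((-i).toNat : ℕ) = i by omega,
    show min i.toNat (-i).toNat = 0 by omega, pow_zero, mul_one]

/-- The basis. -/
noncomputable def bas : (ℤ →₀ R) ≃ₗ[R] PolyNodeRing R q :=
  LinearEquiv.ofLinear (Finsupp.linearCombination R (e q)) (coord q)
    (LinearMap.ext fun z => by
      obtain ⟨P, rfl⟩ := Ideal.Quotient.mk_surjective z
      induction P using MvPolynomial.induction_on' with
      | monomial d r =>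
        rw [LinearMap.comp_apply, coord_mk, pre_monomial, Finsupp.linearCombination_single,
          LinearMap.id_apply, mk_monomial]
      | add a b ha hb => rw [map_add, map_add, map_add, ha, hb])
    (Finsupp.lhom_ext fun i r => by
      rw [LinearMap.comp_apply, Finsupp.linearCombination_single, map_smul, coord_e,
        LinearMap.id_apply, Finsupp.smul_single, smul_eq_mul, mul_one])

theorem bas_single (i : ℤ) (r : R) : bas q (Finsupp.single i r) = r • e q i :=
  Finsupp.linearCombination_single R r i

theorem bas_symm : ((bas q).symm : PolyNodeRing R q → ℤ →₀ R) = coord q := rfl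

theorem g_e (g : PolyNodeRing R q →ₐ[R] LaurentPolynomial R)
    (hx : g (PolyNodeRing.x R q) = LaurentPolynomial.T 1)
    (hy : g (PolyNodeRing.y R q) = LaurentPolynomial.C q * LaurentPolynomial.T (-1)) (i : ℤ) :
    g (e q i) = γ q i • LaurentPolynomial.T i := by
  rw [e, map_mul, map_pow, map_pow, hx, hy, mul_pow, LaurentPolynomial.T_pow, LaurentPolynomial.T_pow,
    LaurentPolynomial.smul_eq_C_mul, ← map_pow]
  rw [mul_left_comm, ← LaurentPolynomial.T_add]
  congr 2
  omega

theorem g'_e (g : PolyNodeRing R q →ₐ[R] LaurentPolynomial R)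
    (hx : g (PolyNodeRing.x R q) = LaurentPolynomial.T (-1))
    (hy : g (PolyNodeRing.y R q) = LaurentPolynomial.C q * LaurentPolynomial.T 1) (i : ℤ) :
    g (e q i) = γ q i • LaurentPolynomial.T (-i) := by
  rw [e, map_mul, map_pow, map_pow, hx, hy, mul_pow, LaurentPolynomial.T_pow, LaurentPolynomial.T_pow,
    LaurentPolynomial.smul_eq_C_mul, ← map_pow]
  rw [mul_left_comm, ← LaurentPolynomial.T_add]
  congr 2
  omega

theorem x_mul_e (i : ℤ) :
    PolyNodeRing.x R q * e q i = (if 0 ≤ i then 1 else q) • e q (i + 1) := by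
  rw [e, ← mul_assoc, ← pow_succ', x_pow_mul_y_pow]
  rw [show ((i.toNat + 1 : ℕ) : ℤ) - ((-i).toNat : ℕ) = i + 1 by omega]
  congr 1
  split_ifs with h
  · rw [show min (i.toNat + 1) (-i).toNat = 0 by omega, pow_zero]
  · rw [show min (i.toNat + 1) (-i).toNat = 1 by omega, pow_one]

theorem y_mul_e (i : ℤ) :
    PolyNodeRing.y R q * e q i = (if i ≤ 0 then 1 else q) • e q (i - 1) := by
  rw [e, mul_left_comm, ← pow_succ', x_pow_mul_y_pow]
  rw [show (i.toNat : ℤ) - (((-i).toNat + 1 : ℕ) : ℤ) = i - 1 by omega]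
  congr 1
  split_ifs with h
  · rw [show min i.toNat ((-i).toNat + 1) = 0 by omega, pow_zero]
  · rw [show min i.toNat ((-i).toNat + 1) = 1 by omega, pow_one]

theorem coord_y_mul (z : PolyNodeRing R q) (i : ℤ) :
    coord q (PolyNodeRing.y R q * z) (i - 1) = (if i ≤ 0 then 1 else q) * coord q z i := by
  obtain ⟨c, rfl⟩ := (bas q).surjective z
  induction c using Finsupp.induction_linear with
  | zero => simp
  | add a b ha hb => simp only [map_add, mul_add, Finsupp.add_apply, ha, hb]
  | single j r =>
    rw [bas_single, mul_smul_comm, y_mul_e, smul_smul, map_smul, map_smul, coord_e, coord_e]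
    simp only [Finsupp.smul_apply, smul_eq_mul, Finsupp.single_apply, sub_left_inj]
    split_ifs <;> first | omega | (subst_vars; ring) | ring

section Sections

variable (p : R) (n : ℤ)
variable (gU : PolyNodeRing R q →ₐ[R] LaurentPolynomial R)
  (hgUs : gU (PolyNodeRing.x R q) = LaurentPolynomial.T 1)
  (hgUy : gU (PolyNodeRing.y R q) = LaurentPolynomial.C q * LaurentPolynomial.T (-1))
  (gV : PolyNodeRing R p →ₐ[R] LaurentPolynomial R)
  (hgVt : gV (PolyNodeRing.x R p) = LaurentPolynomial.T (-1))
  (hgVx : gV (PolyNodeRing.y R p) = LaurentPolynomial.C p * LaurentPolynomial.T 1)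

include hgUs hgUy in
theorem coeff_gU (g : PolyNodeRing R q) (m : ℤ) :
    AddMonoidAlgebra.coeff (gU g) m = γ q m * coord q g m := by
  obtain ⟨c, rfl⟩ := (bas q).surjective g
  rw [← bas_symm, LinearEquiv.symm_apply_apply]
  induction c using Finsupp.induction_linear with
  | zero => simp
  | add a b ha hb =>
    rw [map_add, map_add, AddMonoidAlgebra.coeff_add, Finsupp.add_apply, ha, hb, Finsupp.add_apply, mul_add]
  | single i r =>
    rw [bas_single, map_smul, g_e q gU hgUs hgUy, smul_smul, LaurentPolynomial.smul_eq_C_mul,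
      ← LaurentPolynomial.single_eq_C_mul_T, AddMonoidAlgebra.coeff_single]
    by_cases h : i = m
    · subst h; rw [Finsupp.single_eq_same, Finsupp.single_eq_same]; ring
    · rw [Finsupp.single_eq_of_ne (Ne.symm h), Finsupp.single_eq_of_ne (Ne.symm h), mul_zero]

include hgVt hgVx in
theorem coeff_gV (f : PolyNodeRing R p) (m : ℤ) :
    AddMonoidAlgebra.coeff (LaurentPolynomial.T n * gV f) m = γ p (n - m) * coord p f (n - m) := by
  obtain ⟨c, rfl⟩ := (bas p).surjective f
  rw [← bas_symm, LinearEquiv.symm_apply_apply]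
  induction c using Finsupp.induction_linear with
  | zero => simp
  | add a b ha hb =>
    rw [map_add, map_add, mul_add, AddMonoidAlgebra.coeff_add, Finsupp.add_apply, ha, hb,
      Finsupp.add_apply, mul_add]
  | single i r =>
    rw [bas_single, map_smul, g'_e p gV hgVt hgVx, smul_smul, mul_smul_comm,
      ← LaurentPolynomial.T_add, LaurentPolynomial.smul_eq_C_mul,
      ← LaurentPolynomial.single_eq_C_mul_T, AddMonoidAlgebra.coeff_single]
    by_cases h : i = n - m
    · subst h
      rw [show n + -(n - m) = m by ring, Finsupp.single_eq_same, Finsupp.single_eq_same]; ring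
    · rw [Finsupp.single_eq_of_ne (by omega), Finsupp.single_eq_of_ne (Ne.symm h), mul_zero]

include hgUs hgUy hgVt hgVx in
theorem mem_sections_iff (g : PolyNodeRing R q) (f : PolyNodeRing R p) :
    gU g = LaurentPolynomial.T n * gV f ↔
      ∀ m : ℤ, γ q m * coord q g m = γ p (n - m) * coord p f (n - m) := by
  constructor
  · intro h m
    rw [← coeff_gU q gU hgUs hgUy, ← coeff_gV p n gV hgVt hgVx, h]
  · intro h
    refine AddMonoidAlgebra.ext (Finsupp.ext fun m => ?_)
    rw [coeff_gU q gU hgUs hgUy, coeff_gV p n gV hgVt hgVx, h]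

/-- The generator of sections in Laurent degree `m`. -/
noncomputable def gen (m : ℤ) : PolyNodeRing R q × PolyNodeRing R p :=
  if 0 ≤ m then (γ p (n - m) • e q m, e p (n - m)) else (e q m, γ q m • e p (n - m))

/-- The map from the free module. -/
noncomputable def par : (ℤ →₀ R) →ₗ[R] PolyNodeRing R q × PolyNodeRing R p :=
  Finsupp.linearCombination R (gen q p n)

theorem coord_par_fst (w : ℤ →₀ R) (m : ℤ) :
    coord q (par q p n w).1 m = (if 0 ≤ m then γ p (n - m) else 1) * w m := by
  induction w using Finsupp.induction_linear with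
  | zero => simp
  | add a b ha hb =>
    simp only [map_add, Prod.fst_add, Finsupp.add_apply, ha, hb, mul_add]
  | single i r =>
    rw [par, Finsupp.linearCombination_single, Prod.smul_fst, map_smul, gen]
    split_ifs with h1 h2 h2 <;>
      simp only [map_smul, coord_e, Finsupp.smul_apply, smul_eq_mul, Finsupp.single_apply] <;>
      split_ifs with h3 <;> first | omega | (subst_vars; ring) | ring

theorem coord_par_snd (w : ℤ →₀ R) (m : ℤ) :
    coord p (par q p n w).2 (n - m) = (if 0 ≤ m then 1 else γ q m) * w m := by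
  induction w using Finsupp.induction_linear with
  | zero => simp
  | add a b ha hb =>
    simp only [map_add, Prod.snd_add, Finsupp.add_apply, ha, hb, mul_add]
  | single i r =>
    rw [par, Finsupp.linearCombination_single, Prod.smul_snd, map_smul, gen]
    split_ifs with h1 h2 h2 <;>
      simp only [map_smul, coord_e, Finsupp.smul_apply, smul_eq_mul, Finsupp.single_apply] <;>
      split_ifs with h3 h4 h5 <;> first | omega | (subst_vars; ring) | ring

theorem par_injective : Function.Injective (par q p n) := by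
  rw [injective_iff_map_eq_zero]
  intro w hw
  ext m
  by_cases h : 0 ≤ m
  · have := coord_par_snd q p n w m
    rw [hw, if_pos h] at this
    simpa using this.symm
  · have := coord_par_fst q p n w m
    rw [hw, if_neg h] at this
    simpa using this.symm

include hgUs hgUy hgVt hgVx in
theorem range_par (hn : -1 ≤ n) :
    Set.range (par q p n) =
      {gf : PolyNodeRing R q × PolyNodeRing R p | gU gf.1 = LaurentPolynomial.T n * gV gf.2} := by
  ext ⟨g, f⟩
  rw [Set.mem_setOf_eq, mem_sections_iff q p n gU hgUs hgUy gV hgVt hgVx]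
  constructor
  · rintro ⟨w, hw⟩ m
    rw [← congrArg Prod.fst hw, ← congrArg Prod.snd hw, coord_par_fst, coord_par_snd]
    by_cases h : 0 ≤ m
    · rw [if_pos h, if_pos h, γ_of_nonneg q h]; ring
    · rw [if_neg h, if_neg h, γ_of_nonneg p (show 0 ≤ n - m by omega)]; ring
  · intro h
    classical
    let w : ℤ →₀ R := Finsupp.onFinset ((coord q g).support ∪ (coord p f).support.image fun j => n - j)
      (fun m => if 0 ≤ m then coord p f (n - m) else coord q g m) (fun m hm => by
        rw [Finset.mem_union]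
        by_cases h0 : 0 ≤ m
        · rw [if_pos h0] at hm
          exact Or.inr (Finset.mem_image.2 ⟨n - m, Finsupp.mem_support_iff.2 hm, by ring⟩)
        · rw [if_neg h0] at hm
          exact Or.inl (Finsupp.mem_support_iff.2 hm))
    refine ⟨w, Prod.ext ((bas q).symm.injective (Finsupp.ext fun m => ?_))
      ((bas p).symm.injective (Finsupp.ext fun j => ?_))⟩
    · rw [bas_symm, coord_par_fst]
      simp only [w, Finsupp.onFinset_apply]
      by_cases h0 : 0 ≤ m
      · rw [if_pos h0, if_pos h0, ← h m, γ_of_nonneg q h0, one_mul]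
      · rw [if_neg h0, if_neg h0, one_mul]
    · rw [bas_symm, show j = n - (n - j) by ring, coord_par_snd]
      simp only [w, Finsupp.onFinset_apply]
      by_cases h0 : 0 ≤ n - j
      · rw [if_pos h0, if_pos h0, one_mul]
      · rw [if_neg h0, if_neg h0, h, γ_of_nonneg p (show 0 ≤ n - (n - j) by omega), one_mul]

include hgUs hgUy hgVt hgVx in
theorem free_sections (hn : -1 ≤ n) :
    Module.Free R (LinearMap.ker
      (gU.toLinearMap.comp (LinearMap.fst R (PolyNodeRing R q) (PolyNodeRing R p)) -
        (LinearMap.mulLeft R (LaurentPolynomial.T n)).comp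
          (gV.toLinearMap.comp (LinearMap.snd R (PolyNodeRing R q) (PolyNodeRing R p))))) := by
  set D := gU.toLinearMap.comp (LinearMap.fst R (PolyNodeRing R q) (PolyNodeRing R p)) -
    (LinearMap.mulLeft R (LaurentPolynomial.T n)).comp
      (gV.toLinearMap.comp (LinearMap.snd R (PolyNodeRing R q) (PolyNodeRing R p)))
  have hk : LinearMap.range (par q p n) = LinearMap.ker D := by
    ext ⟨g, f⟩
    rw [LinearMap.mem_ker]
    show (g, f) ∈ Set.range (par q p n) ↔ _
    rw [range_par q p n gU hgUs hgUy gV hgVt hgVx hn, Set.mem_setOf_eq, ← sub_eq_zero]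
    rfl
  exact Module.Free.of_equiv ((LinearEquiv.ofInjective _ (par_injective q p n)).trans
    (LinearEquiv.ofEq _ _ hk))

end Sections

end Groth.Agent.H02CA.PolyNode
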