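import Groth.Agent.H02CA.PolyNode

/-!
# Global sections of twists on the blown-up node
-/

universe u

namespace Groth.Agent.H02CA.PolyNode

open SpinCurv

variable {R : Type u} [CommRing R] (p q : R) {π : R}
  (rU : PolyNodeRing R π →ₐ[R] PolyNodeRing R q)
  (hrUx : rU (PolyNodeRing.x R π) = algebraMap R _ p * PolyNodeRing.x R q)
  (hrUy : rU (PolyNodeRing.y R π) = PolyNodeRing.y R q)
  (rV : PolyNodeRing R π →ₐ[R] PolyNodeRing R p)
  (hrVx : rV (PolyNodeRing.x R π) = PolyNodeRing.y R p)
  (hrVy : rV (PolyNodeRing.y R π) = algebraMap R _ q * PolyNodeRing.x R p)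
  (n : ℕ)

theorem smul_eq (π : R) (c : R) (z : PolyNodeRing R π) : c • z = algebraMap R _ c * z :=
  Algebra.smul_def c z

/-- The map to pairs of functions on the two charts. -/
noncomputable def phi : (Fin (n + 1) → PolyNodeRing R π) →ₗ[R] PolyNodeRing R q × PolyNodeRing R p where
  toFun F := (∑ i : Fin (n + 1), rU (F i) * PolyNodeRing.x R q ^ (n - (i : ℕ)),
    ∑ i : Fin (n + 1), rV (F i) * PolyNodeRing.x R p ^ (i : ℕ))
  map_add' F G := by simp [add_mul, Finset.sum_add_distrib]
  map_smul' r F := by simp [Finset.smul_sum, smul_mul_assoc]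

theorem phi_smul (a : PolyNodeRing R π) (F : Fin (n + 1) → PolyNodeRing R π) :
    phi p q rU rV n (a • F) = (rU a, rV a) * phi p q rU rV n F := by
  refine Prod.ext ?_ ?_
  · show ∑ i, rU (a • F i) * _ = rU a * ∑ i, rU (F i) * _
    rw [Finset.mul_sum]
    exact Finset.sum_congr rfl fun i _ => by rw [smul_eq_mul, map_mul, mul_assoc]
  · show ∑ i, rV (a • F i) * _ = rV a * ∑ i, rV (F i) * _
    rw [Finset.mul_sum]
    exact Finset.sum_congr rfl fun i _ => by rw [smul_eq_mul, map_mul, mul_assoc]

theorem phi_single (i : Fin (n + 1)) (a : PolyNodeRing R π) :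
    phi p q rU rV n (Pi.single i a) =
      (rU a * PolyNodeRing.x R q ^ (n - (i : ℕ)), rV a * PolyNodeRing.x R p ^ (i : ℕ)) := by
  refine Prod.ext ?_ ?_
  · show ∑ j, rU ((Pi.single i a : Fin (n + 1) → _) j) * _ = _
    rw [Finset.sum_eq_single i (fun j _ hj => by simp [Pi.single_eq_of_ne hj]) (by simp),
      Pi.single_eq_same]
  · show ∑ j, rV ((Pi.single i a : Fin (n + 1) → _) j) * _ = _
    rw [Finset.sum_eq_single i (fun j _ hj => by simp [Pi.single_eq_of_ne hj]) (by simp),
      Pi.single_eq_same]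

/-- The slot of the normal form of degree `m`. -/
def slot (m : ℤ) : Fin (n + 1) := ⟨min n ((n : ℤ) - m).toNat, by omega⟩

/-- The normal form of degree `m`. -/
noncomputable def nf (π : R) (m : ℤ) : Fin (n + 1) → PolyNodeRing R π :=
  Pi.single (slot n m) (PolyNodeRing.x R π ^ (m - n).toNat * PolyNodeRing.y R π ^ (-m).toNat)

include hrUx hrUy hrVx hrVy in
theorem phi_nf (m : ℤ) : phi p q rU rV n (nf n π m) = gen q p n m := by
  rw [nf, phi_single, map_mul, map_mul, map_pow, map_pow, map_pow, map_pow, hrUx, hrUy, hrVx, hrVy]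
  rw [gen, e, e]
  rcases lt_or_ge m 0 with h | h
  · rw [if_neg (by omega)]
    have h1 : (m - n).toNat = 0 := by omega
    have h2 : ((slot n m : Fin (n + 1)) : ℕ) = n := by simp [slot]; omega
    rw [h1, h2, show (-((n : ℤ) - m)).toNat = 0 by omega, show m.toNat = 0 by omega,
      show ((n : ℤ) - m).toNat = (-m).toNat + n by omega, Nat.sub_self]
    refine Prod.ext ?_ ?_
    · simp
    · simp only [γ, smul_eq, map_pow, mul_pow, pow_add]; ring
  · rw [if_pos h]
    have h1 : (-m).toNat = 0 := by omega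
    have h2 : ((slot n m : Fin (n + 1)) : ℕ) = ((n : ℤ) - m).toNat := by simp [slot]; omega
    rw [h1, h2, show (m - (n : ℤ)).toNat = (-((n : ℤ) - m)).toNat by omega]
    refine Prod.ext ?_ ?_
    · simp only [γ, smul_eq, map_pow, mul_pow, pow_zero, mul_one]
      rw [mul_assoc, ← pow_add]
      congr 2
      omega
    · simp [mul_comm]

/-- The relations. -/
noncomputable def rels (π : R) : Submodule (PolyNodeRing R π) (Fin (n + 1) → PolyNodeRing R π) :=
  Submodule.span (PolyNodeRing R π)
    (Set.range (fun i : Fin n =>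
        (Pi.single (Fin.castSucc i) (algebraMap R (PolyNodeRing R π) p) -
          Pi.single (Fin.succ i) (PolyNodeRing.x R π) : Fin (n + 1) → PolyNodeRing R π)) ∪
     Set.range (fun i : Fin n =>
        (Pi.single (Fin.castSucc i) (PolyNodeRing.y R π) -
          Pi.single (Fin.succ i) (algebraMap R (PolyNodeRing R π) q) : Fin (n + 1) → PolyNodeRing R π)))

include hrUx hrUy hrVx hrVy in
theorem phi_rels {F : Fin (n + 1) → PolyNodeRing R π} (hF : F ∈ rels p q n π) :
    phi p q rU rV n F = 0 := by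
  induction hF using Submodule.span_induction with
  | mem F hF =>
    rcases hF with ⟨i, rfl⟩ | ⟨i, rfl⟩ <;>
      (rw [map_sub, phi_single, phi_single, sub_eq_zero]
       simp only [AlgHom.commutes, hrUx, hrUy, hrVx, hrVy, Fin.val_castSucc, Fin.val_succ, pow_succ']
       rw [show n - (i : ℕ) = n - ((i : ℕ) + 1) + 1 by omega, pow_succ']
       refine Prod.ext ?_ ?_)
    · ring
    · rw [← xy p]; ring
    · rw [← xy q]; ring
    · ring
  | zero => simp
  | add F G _ _ hF hG => rw [map_add, hF, hG, add_zero]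
  | smul a F _ hF => rw [phi_smul, hF, mul_zero]

/-- `F` is a combination of normal forms modulo the relations. -/
noncomputable def Red (π : R) : Submodule R (Fin (n + 1) → PolyNodeRing R π) :=
  (rels p q n π).restrictScalars R ⊔ LinearMap.range (Finsupp.linearCombination R (nf n π))

theorem nf_mem (π : R) (m : ℤ) : nf n π m ∈ Red p q n π :=
  Submodule.mem_sup_right ⟨Finsupp.single m 1, by simp⟩

theorem of_rel {F G : Fin (n + 1) → PolyNodeRing R π} (hG : G ∈ Red p q n π)
    (h : F - G ∈ rels p q n π) : F ∈ Red p q n π := by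
  rw [← sub_add_cancel F G]
  exact add_mem (Submodule.mem_sup_left h) hG

theorem smul_single {S : Type*} [CommRing S] {ι : Type*} [DecidableEq ι] (i : ι) (v a : S) :
    v • (Pi.single i a : ι → S) = Pi.single i (v * a) := by
  funext k
  by_cases h : k = i
  · subst h; simp
  · simp [Pi.single_eq_of_ne h]

theorem x_nf (π : R) (m : ℤ) : PolyNodeRing.x R π • nf n π m ∈ Red p q n π := by
  rw [nf, smul_single]
  by_cases hA : (n : ℤ) ≤ m
  · convert nf_mem p q n π (m + 1) using 1
    rw [nf, show slot n (m + 1) = slot n m from Fin.ext (by simp [slot]; omega),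
      show (-(m + 1)).toNat = (-m).toNat by omega, show (m + 1 - n).toNat = (m - n).toNat + 1 by omega,
      pow_succ', mul_assoc]
  by_cases hB : m < 0
  · have h := Submodule.smul_mem _ π (nf_mem p q n π (m + 1))
    convert h using 1
    rw [nf, show slot n (m + 1) = slot n m from Fin.ext (by simp [slot]; omega),
      show (m + 1 - (n : ℤ)).toNat = 0 by omega, show (m - (n : ℤ)).toNat = 0 by omega,
      show (-m).toNat = (-(m + 1)).toNat + 1 by omega, pow_succ', pow_zero, one_mul, one_mul,
      ← Pi.single_smul', smul_eq, ← mul_assoc, xy]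
  have h1 : (m - (n : ℤ)).toNat = 0 := by omega
  have h2 : (-m).toNat = 0 := by omega
  simp only [h1, h2, pow_zero, one_mul, mul_one]
  let i : Fin n := ⟨((n : ℤ) - m).toNat - 1, by omega⟩
  refine of_rel p q n (Submodule.smul_mem _ p (nf_mem p q n π (m + 1))) ?_
  rw [nf, show (m + 1 - (n : ℤ)).toNat = 0 by omega, show (-(m + 1)).toNat = 0 by omega, pow_zero,
    one_mul, ← Pi.single_smul',
    show slot n (m + 1) = Fin.castSucc i from Fin.ext (by simp [slot, i]; omega),
    show slot n m = Fin.succ i from Fin.ext (by simp [slot, i]; omega),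
    ← neg_mem_iff, neg_sub]
  refine Submodule.subset_span (Or.inl ⟨i, ?_⟩)
  simp [smul_eq]

theorem y_nf (π : R) (m : ℤ) : PolyNodeRing.y R π • nf n π m ∈ Red p q n π := by
  rw [nf, smul_single]
  by_cases hA : m ≤ 0
  · convert nf_mem p q n π (m - 1) using 1
    rw [nf, show slot n (m - 1) = slot n m from Fin.ext (by simp [slot]; omega),
      show (-(m - 1)).toNat = (-m).toNat + 1 by omega, show (m - 1 - (n : ℤ)).toNat = (m - n).toNat by omega,
      pow_succ', mul_left_comm]
  by_cases hB : (n : ℤ) < m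
  · have h := Submodule.smul_mem _ π (nf_mem p q n π (m - 1))
    convert h using 1
    rw [nf, show slot n (m - 1) = slot n m from Fin.ext (by simp [slot]; omega),
      show (-m).toNat = 0 by omega, show (-(m - 1)).toNat = 0 by omega,
      show (m - (n : ℤ)).toNat = (m - 1 - n).toNat + 1 by omega, pow_succ', pow_zero, mul_one, mul_one,
      ← Pi.single_smul', smul_eq, ← mul_assoc, mul_comm (PolyNodeRing.y R π), xy]
  have h1 : (m - (n : ℤ)).toNat = 0 := by omega
  have h2 : (-m).toNat = 0 := by omega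
  simp only [h1, h2, pow_zero, one_mul, mul_one]
  let i : Fin n := ⟨((n : ℤ) - m).toNat, by omega⟩
  refine of_rel p q n (Submodule.smul_mem _ q (nf_mem p q n π (m - 1))) ?_
  rw [nf, show (m - 1 - (n : ℤ)).toNat = 0 by omega, show (-(m - 1)).toNat = 0 by omega, pow_zero,
    one_mul, ← Pi.single_smul',
    show slot n (m - 1) = Fin.succ i from Fin.ext (by simp [slot, i]; omega),
    show slot n m = Fin.castSucc i from Fin.ext (by simp [slot, i]; omega)]
  refine Submodule.subset_span (Or.inr ⟨i, ?_⟩)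
  simp [smul_eq]

theorem smul_mem_red (v : PolyNodeRing R π) (hv : ∀ m, v • nf n π m ∈ Red p q n π)
    {F : Fin (n + 1) → PolyNodeRing R π} (hF : F ∈ Red p q n π) : v • F ∈ Red p q n π := by
  obtain ⟨G, hG, _, ⟨w, rfl⟩, rfl⟩ := Submodule.mem_sup.1 hF
  rw [smul_add]
  refine add_mem (Submodule.mem_sup_left ((rels p q n π).smul_mem v hG)) ?_
  rw [Finsupp.linearCombination_apply, Finsupp.sum, Finset.smul_sum]
  refine sum_mem fun m _ => ?_
  rw [smul_comm]
  exact Submodule.smul_mem _ _ (hv m)

theorem mem_red (F : Fin (n + 1) → PolyNodeRing R π) : F ∈ Red p q n π := by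
  rw [← Finset.univ_sum_single F]
  refine sum_mem fun i _ => ?_
  obtain ⟨P, hP⟩ := Ideal.Quotient.mk_surjective (F i)
  rw [← hP]
  clear hP
  induction P using MvPolynomial.induction_on with
  | C r =>
    have h := Submodule.smul_mem _ r (nf_mem p q n π ((n : ℤ) - i))
    convert h using 1
    have := i.2
    rw [nf, show slot n ((n : ℤ) - i) = i from Fin.ext (by simp [slot]; omega),
      show ((n : ℤ) - i - n).toNat = 0 by omega, show (-((n : ℤ) - i)).toNat = 0 by omega,
      pow_zero, pow_zero, one_mul, ← Pi.single_smul']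
    exact congrArg _ (Algebra.algebraMap_eq_smul_one (A := PolyNodeRing R π) r)
  | add a b ha hb => rw [map_add, Pi.single_add]; exact add_mem ha hb
  | mul_X a j ha =>
    rw [map_mul, mul_comm (Ideal.Quotient.mk _ a), ← smul_single]
    refine smul_mem_red p q n _ ?_ ha
    fin_cases j
    · exact x_nf p q n π
    · exact y_nf p q n π

variable (gU : PolyNodeRing R q →ₐ[R] LaurentPolynomial R)
  (hgUs : gU (PolyNodeRing.x R q) = LaurentPolynomial.T 1)
  (hgUy : gU (PolyNodeRing.y R q) = LaurentPolynomial.C q * LaurentPolynomial.T (-1))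
  (gV : PolyNodeRing R p →ₐ[R] LaurentPolynomial R)
  (hgVt : gV (PolyNodeRing.x R p) = LaurentPolynomial.T (-1))
  (hgVx : gV (PolyNodeRing.y R p) = LaurentPolynomial.C p * LaurentPolynomial.T 1)

include hrUx hrUy hrVx hrVy in
theorem phi_comp (w : ℤ →₀ R) :
    phi p q rU rV n (Finsupp.linearCombination R (nf n π) w) = par q p n w := by
  rw [Finsupp.apply_linearCombination, par,
    show (⇑(phi p q rU rV n) ∘ nf n π) = gen q p (n : ℤ) from
      funext fun m => phi_nf p q rU hrUx hrUy rV hrVx hrVy n m]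

include hrUx hrUy hrVx hrVy in
theorem phi_factor (F : Fin (n + 1) → PolyNodeRing R π) :
    ∃ (G : Fin (n + 1) → PolyNodeRing R π) (w : ℤ →₀ R), G ∈ rels p q n π ∧
      F = G + Finsupp.linearCombination R (nf n π) w ∧ phi p q rU rV n F = par q p n w := by
  obtain ⟨G, hG, _, ⟨w, rfl⟩, rfl⟩ := Submodule.mem_sup.1 (mem_red p q n F)
  exact ⟨G, w, hG, rfl, by rw [map_add, phi_rels p q rU hrUx hrUy rV hrVx hrVy n hG, zero_add,
    phi_comp p q rU hrUx hrUy rV hrVx hrVy n]⟩

include hrUx hrUy hrVx hrVy hgUs hgUy hgVt hgVx in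
theorem range_and_ker :
    Set.range (fun F : Fin (n + 1) → PolyNodeRing R π =>
        (∑ i : Fin (n + 1), rU (F i) * PolyNodeRing.x R q ^ (n - (i : ℕ)),
         ∑ i : Fin (n + 1), rV (F i) * PolyNodeRing.x R p ^ (i : ℕ))) =
      {gf : PolyNodeRing R q × PolyNodeRing R p |
        gU gf.1 = LaurentPolynomial.T (n : ℤ) * gV gf.2} ∧
    {F : Fin (n + 1) → PolyNodeRing R π |
        (∑ i : Fin (n + 1), rU (F i) * PolyNodeRing.x R q ^ (n - (i : ℕ)),
         ∑ i : Fin (n + 1), rV (F i) * PolyNodeRing.x R p ^ (i : ℕ)) = 0} =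
      (rels p q n π : Set (Fin (n + 1) → PolyNodeRing R π)) := by
  constructor
  · rw [← range_par q p (n : ℤ) gU hgUs hgUy gV hgVt hgVx (by omega)]
    refine Set.ext fun z => ⟨?_, ?_⟩
    · rintro ⟨F, rfl⟩
      obtain ⟨G, w, -, -, h⟩ := phi_factor p q rU hrUx hrUy rV hrVx hrVy n F
      exact ⟨w, h.symm⟩
    · rintro ⟨w, rfl⟩
      exact ⟨_, phi_comp p q rU hrUx hrUy rV hrVx hrVy n w⟩
  · refine Set.ext fun F => ⟨fun hF => ?_, fun hF => phi_rels p q rU hrUx hrUy rV hrVx hrVy n hF⟩
    obtain ⟨G, w, hG, rfl, h⟩ := phi_factor p q rU hrUx hrUy rV hrVx hrVy n F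
    have hw : w = 0 := par_injective q p n ((h.symm.trans hF).trans (map_zero _).symm)
    subst hw
    rw [map_zero, add_zero]
    exact hG

end Groth.Agent.H02CA.PolyNode
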