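import Mathlib.RingTheory.Etale.Basic
import Mathlib.RingTheory.Kaehler.Basic
import Mathlib.RingTheory.TensorProduct.Maps

/-! Principal parts are insensitive to formally étale extensions. -/

set_option autoImplicit false

universe u

open TensorProduct

namespace Groth.Agent.H02CA.PrincipalParts

theorem exists_section {S S' T : Type u} [CommRing S] [CommRing S'] [CommRing T] [Algebra S S']
    [Algebra.FormallyEtale S S'] (j : S →+* T) (ε : T →+* S') (hj : ∀ s, ε (j s) = algebraMap S S' s)
    (hsurj : Function.Surjective ε) (hnil : IsNilpotent (RingHom.ker ε)) :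
    ∃ φ : S' →+* T, (∀ x, ε (φ x) = x) ∧ ∀ s, φ (algebraMap S S' s) = j s := by
  letI : Algebra S T := j.toAlgebra
  let εa : T →ₐ[S] S' := { ε with commutes' := hj }
  refine ⟨(Algebra.FormallySmooth.liftOfSurjective (AlgHom.id S S') εa hsurj hnil).toRingHom,
    fun x => Algebra.FormallySmooth.liftOfSurjective_apply (AlgHom.id S S') εa hsurj hnil x,
    fun s => AlgHom.commutes _ s⟩

theorem eq_of_comp {S S' Q C : Type u} [CommRing S] [CommRing S'] [CommRing Q] [CommRing C]
    [Algebra S S'] [Algebra.FormallyUnramified S S'] (g₁ g₂ : S' →+* Q) (f : Q →+* C)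
    (hnil : IsNilpotent (RingHom.ker f)) (hS : ∀ s, g₁ (algebraMap S S' s) = g₂ (algebraMap S S' s))
    (hf : ∀ x, f (g₁ x) = f (g₂ x)) : g₁ = g₂ := by
  letI : Algebra S Q := (g₁.comp (algebraMap S S')).toAlgebra
  let a₁ : S' →ₐ[S] Q := { g₁ with commutes' := fun s => rfl }
  let a₂ : S' →ₐ[S] Q := { g₂ with commutes' := fun s => (hS s).symm }
  exact congrArg AlgHom.toRingHom (Algebra.FormallyUnramified.ext' f hnil a₁ a₂ hf)

variable (R : Type u) [CommRing R] (S : Type u) [CommRing S] [Algebra R S] (S' : Type u)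
  [CommRing S'] [Algebra R S'] [Algebra S S'] [IsScalarTower R S S'] [Algebra.FormallyEtale S S']

theorem bijective_quotientMap (k : ℕ) :
    Function.Bijective (Ideal.quotientMap (KaehlerDifferential.ideal R S' ^ (k + 1))
      (Algebra.TensorProduct.map (AlgHom.id S' S') (IsScalarTower.toAlgHom R S S')).toRingHom
      (Ideal.le_comap_pow
        (Algebra.TensorProduct.map (AlgHom.id S' S') (IsScalarTower.toAlgHom R S S')).toRingHom
        (K := KaehlerDifferential.ideal R S') (k + 1))) := by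
  set f := (Algebra.TensorProduct.map (AlgHom.id S' S') (IsScalarTower.toAlgHom R S S')).toRingHom
  set J := KaehlerDifferential.ideal R S'
  have hfl : ∀ a : S', f (a ⊗ₜ[R] (1 : S)) = a ⊗ₜ[R] (1 : S') := fun a => by simp [f]
  have hfr : ∀ s : S, f ((1 : S') ⊗ₜ[R] s) = (1 : S') ⊗ₜ[R] algebraMap S S' s := fun s => by
    simp [f]
  set F := Ideal.quotientMap (J ^ (k + 1)) f
    (Ideal.le_comap_pow f (K := J) (k + 1))
  let μ : S' ⊗[R] S' →+* S' := (Algebra.TensorProduct.lmul' R (S := S')).toRingHom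
  have hJ : RingHom.ker μ = J := rfl
  let ε : (S' ⊗[R] S) ⧸ J.comap f ^ (k + 1) →+* S' :=
    Ideal.Quotient.lift _ (μ.comp f) fun x hx => by
      have h : x ∈ J.comap f := Ideal.pow_le_self (Nat.succ_ne_zero k) hx
      exact h
  let mk := Ideal.Quotient.mk (J.comap f ^ (k + 1))
  let mk' := Ideal.Quotient.mk (J ^ (k + 1))
  have hε : ∀ x, ε (mk x) = μ (f x) := fun x => rfl
  have hker : RingHom.ker ε = (J.comap f).map mk := by
    apply le_antisymm
    · intro y hy
      obtain ⟨x, rfl⟩ := Ideal.Quotient.mk_surjective y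
      exact Ideal.mem_map_of_mem _ hy
    · rw [Ideal.map_le_iff_le_comap]
      exact fun x hx => hx
  have hnil : IsNilpotent (RingHom.ker ε) := ⟨k + 1, by
    rw [hker, ← Ideal.map_pow, Ideal.map_quotient_self, Ideal.zero_eq_bot]⟩
  obtain ⟨φ, hφ, hφS⟩ := exists_section (S := S) (S' := S')
    (mk.comp (Algebra.TensorProduct.includeRight (R := R) (A := S') (B := S)).toRingHom) ε
    (fun s => by
      change μ (f ((1 : S') ⊗ₜ[R] s)) = _
      rw [hfr]
      simp [μ])
    (fun a => ⟨mk (a ⊗ₜ[R] 1), by rw [hε, hfl]; simp [μ]⟩) hnil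
  have hφR : ∀ r : R, φ (algebraMap R S' r) =
      algebraMap R ((S' ⊗[R] S) ⧸ J.comap f ^ (k + 1)) r := by
        intro r
        rw [IsScalarTower.algebraMap_apply R S S', hφS]
        change mk ((1 : S') ⊗ₜ[R] algebraMap R S r) = _
        rw [Algebra.algebraMap_eq_smul_one (A := S), TensorProduct.tmul_smul,
          ← Algebra.TensorProduct.one_def, ← Algebra.algebraMap_eq_smul_one]
        exact Ideal.Quotient.mk_algebraMap R _ r
  let φa : S' →ₐ[R] (S' ⊗[R] S) ⧸ J.comap f ^ (k + 1) := { φ with commutes' := hφR }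
  let g₀ : S' ⊗[R] S' →ₐ[R] (S' ⊗[R] S) ⧸ J.comap f ^ (k + 1) :=
    Algebra.TensorProduct.productMap
      ((Ideal.Quotient.mkₐ R _).comp (Algebra.TensorProduct.includeLeft (R := R) (S := R))) φa
  have hg₀ : ∀ a b, g₀ (a ⊗ₜ[R] b) = mk (a ⊗ₜ[R] 1) * φ b := fun a b => by
    simp [g₀, φa, mk]
  have hεg : ∀ z, ε (g₀ z) = μ z := by
    intro z
    induction z using TensorProduct.induction_on with
    | zero => simp
    | tmul a b => rw [hg₀, map_mul, hφ, hε, hfl]; simp [μ]
    | add x y hx hy => simp only [map_add, hx, hy]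
  have hgJ : ∀ z ∈ J ^ (k + 1), g₀ z = 0 := by
    intro z hz
    have h1 : J ≤ (RingHom.ker ε).comap g₀.toRingHom := fun y hy => by
      rw [Ideal.mem_comap, RingHom.mem_ker]
      exact (hεg y).trans hy
    have h2 : z ∈ (RingHom.ker ε ^ (k + 1)).comap g₀.toRingHom :=
      Ideal.le_comap_pow g₀.toRingHom (k + 1) (Ideal.pow_right_mono h1 (k + 1) hz)
    rw [hker, ← Ideal.map_pow, Ideal.map_quotient_self] at h2
    exact h2
  let G : (S' ⊗[R] S') ⧸ J ^ (k + 1) →+* (S' ⊗[R] S) ⧸ J.comap f ^ (k + 1) :=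
    Ideal.Quotient.lift _ g₀.toRingHom hgJ
  have hF : ∀ x, F (mk x) = mk' (f x) := fun x => rfl
  have hG : ∀ x, G (mk' x) = g₀ x := fun x => rfl
  have hGF : G.comp F = RingHom.id _ := by
    refine Ideal.Quotient.ringHom_ext (RingHom.ext fun x => ?_)
    change G (F (mk x)) = mk x
    rw [hF, hG]
    induction x using TensorProduct.induction_on with
    | zero => simp
    | tmul a s =>
      rw [show a ⊗ₜ[R] s = (a ⊗ₜ[R] (1 : S)) * ((1 : S') ⊗ₜ[R] s) by simp, map_mul, map_mul,
        hfl, hfr, map_mul, hg₀, hg₀, map_one, mul_one, hφS]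
      simp [mk, ← Algebra.TensorProduct.one_def]
    | add x y hx hy => simp only [map_add, hx, hy]
  let μ' : (S' ⊗[R] S') ⧸ J ^ (k + 1) →+* S' :=
    Ideal.Quotient.lift _ μ fun x hx => by
      have h : x ∈ J := Ideal.pow_le_self (Nat.succ_ne_zero k) hx
      exact h
  have hnil' : IsNilpotent (RingHom.ker μ') := ⟨k + 1, by
    have : RingHom.ker μ' = J.map mk' := by
      apply le_antisymm
      · intro y hy
        obtain ⟨x, rfl⟩ := Ideal.Quotient.mk_surjective y
        exact Ideal.mem_map_of_mem _ hy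
      · rw [Ideal.map_le_iff_le_comap]
        exact fun x hx => hx
    rw [this, ← Ideal.map_pow, Ideal.map_quotient_self, Ideal.zero_eq_bot]⟩
  have hμF : ∀ y, μ' (F y) = ε y := fun y => by
    obtain ⟨x, rfl⟩ := Ideal.Quotient.mk_surjective y
    rfl
  have hright := eq_of_comp (S := S) (F.comp φ)
    (mk'.comp (Algebra.TensorProduct.includeRight (R := R) (A := S') (B := S')).toRingHom) μ' hnil'
    (fun s => by
      change F (φ (algebraMap S S' s)) = mk' ((1 : S') ⊗ₜ[R] algebraMap S S' s)
      rw [hφS, ← hfr]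
      rfl)
    (fun x => by
      change μ' (F (φ x)) = μ ((1 : S') ⊗ₜ[R] x)
      rw [hμF, hφ]
      simp [μ])
  have hFG : F.comp G = RingHom.id _ := by
    refine Ideal.Quotient.ringHom_ext (RingHom.ext fun x => ?_)
    change F (G (mk' x)) = mk' x
    rw [hG]
    induction x using TensorProduct.induction_on with
    | zero => simp
    | tmul a b =>
      rw [hg₀, map_mul, hF, hfl, show F (φ b) = mk' ((1 : S') ⊗ₜ[R] b) from
        RingHom.congr_fun hright b, ← map_mul]
      simp
    | add x y hx hy => simp only [map_add, hx, hy]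
  exact Function.bijective_iff_has_inverse.mpr
    ⟨G, fun x => RingHom.congr_fun hGF x, fun x => RingHom.congr_fun hFG x⟩

end Groth.Agent.H02CA.PrincipalParts
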