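import Groth.Prelude.Def_DRing2
import Mathlib.Algebra.Homology.DerivedCategory.KProjective
import Mathlib.Algebra.Homology.DerivedCategory.Linear
import Mathlib.Algebra.Category.ModuleCat.Projective
import Mathlib.RingTheory.Filtration
import Mathlib.RingTheory.Noetherian.Basic
import Mathlib.LinearAlgebra.FreeModule.Finite.Basic
import Groth.Agent.H16Derived.ProjLift

/-!
# Ext from a pseudo-coherent object into modules, as cohomology of a complex of Hom modules
-/

set_option autoImplicit false
universe u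

open CategoryTheory CategoryTheory.Limits

attribute [local instance] HasDerivedCategory.standard

namespace Groth.Agent.H02CA.PseudoExt

variable {A : Type u} [CommRing A]

/-- Precomposition with a differential. -/
def pre (E : DRing.Cx A) (i j : ℤ) (M : Type u) [AddCommGroup M] [Module A M] :
    ((E.X j : Type u) →ₗ[A] M) →ₗ[A] ((E.X i : Type u) →ₗ[A] M) where
  toFun z := z ∘ₗ (E.d i j).hom
  map_add' z z' := LinearMap.add_comp _ _ _
  map_smul' a z := LinearMap.smul_comp _ _ _

@[simp] theorem pre_apply (E : DRing.Cx A) (i j : ℤ) {M : Type u} [AddCommGroup M] [Module A M]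
    (z : (E.X j : Type u) →ₗ[A] M) : pre E i j M z = z ∘ₗ (E.d i j).hom := rfl

theorem pre_pre (E : DRing.Cx A) (i j k : ℤ) {M : Type u} [AddCommGroup M] [Module A M]
    (z : (E.X k : Type u) →ₗ[A] M) : pre E i j M (pre E j k M z) = 0 := by
  refine LinearMap.ext fun x ↦ ?_
  have : (E.d i j ≫ E.d j k) x = 0 := by rw [E.d_comp_d]; rfl
  exact (congrArg z this).trans (map_zero z)

variable (E : DRing.Cx A) (q : ℤ) (M : Type u) [AddCommGroup M] [Module A M]

/-- The morphism of complexes attached to a cocycle. -/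
noncomputable def toSingle (z : LinearMap.ker (pre E (q - 1) q M)) :
    E ⟶ (HomologicalComplex.single (ModuleCat.{u} A) (ComplexShape.up ℤ) q).obj (ModuleCat.of A M) :=
  HomologicalComplex.mkHomToSingle (ModuleCat.ofHom z.1) fun i hi ↦ by
    obtain rfl : i = q - 1 := by change i + 1 = q at hi; omega
    exact ModuleCat.hom_ext (LinearMap.mem_ker.mp z.2)

/-- The map from cocycles to the derived category. -/
noncomputable def toQ : LinearMap.ker (pre E (q - 1) q M) →ₗ[A]
    (DRing.toD E ⟶ (DerivedCategory.singleFunctor (ModuleCat.{u} A) q).obj (ModuleCat.of A M)) where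
  toFun z := DerivedCategory.Q.map (toSingle E q M z)
  map_add' z z' := by
    have : toSingle E q M (z + z') = toSingle E q M z + toSingle E q M z' :=
      HomologicalComplex.to_single_hom_ext (by
        simp only [toSingle, HomologicalComplex.mkHomToSingle_f, HomologicalComplex.add_f_apply,
          ← Preadditive.add_comp]
        rfl)
    exact (congrArg DerivedCategory.Q.map this).trans DerivedCategory.Q.map_add
  map_smul' a z := by
    have : toSingle E q M (a • z) = a • toSingle E q M z :=
      HomologicalComplex.to_single_hom_ext (by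
        simp only [toSingle, HomologicalComplex.mkHomToSingle_f, HomologicalComplex.smul_f_apply,
          ← Linear.smul_comp]
        rfl)
    exact (congrArg DerivedCategory.Q.map this).trans (DerivedCategory.Q.map_smul a _)

variable [E.IsKProjective]

theorem toQ_surjective : Function.Surjective (toQ E q M) := fun φ ↦ by
  obtain ⟨g, hg⟩ := H16Derived.ProjLift.Q_map_surjective E
    ((HomologicalComplex.single (ModuleCat.{u} A) (ComplexShape.up ℤ) q).obj (ModuleCat.of A M)) φ
  let z : E.X q ⟶ ModuleCat.of A M :=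
    g.f q ≫ (HomologicalComplex.singleObjXSelf (ComplexShape.up ℤ) q (ModuleCat.of A M)).hom
  have hz : E.d (q - 1) q ≫ z = 0 := by
    rw [← Category.assoc, ← g.comm, HomologicalComplex.single_obj_d, comp_zero, zero_comp]
  refine ⟨⟨z.hom, LinearMap.mem_ker.mpr (congrArg ModuleCat.Hom.hom hz)⟩, ?_⟩
  refine (congrArg DerivedCategory.Q.map (HomologicalComplex.to_single_hom_ext ?_)).trans hg
  simp [toSingle, z]

theorem toQ_eq_zero_iff (z : LinearMap.ker (pre E (q - 1) q M)) :
    toQ E q M z = 0 ↔ z.1 ∈ LinearMap.range (pre E q (q + 1) M) := by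
  constructor
  · intro h
    obtain ⟨H⟩ := H16Derived.ProjLift.homotopic_of_Q_map E _ (toSingle E q M z) 0
      (h.trans (DerivedCategory.Q.map_zero _ _).symm)
    have hc := H.comm q
    rw [dNext_eq H.hom (show (ComplexShape.up ℤ).Rel q (q + 1) from rfl),
      prevD_eq H.hom (show (ComplexShape.up ℤ).Rel (q - 1) q from sub_add_cancel q 1),
      HomologicalComplex.single_obj_d, comp_zero, add_zero, HomologicalComplex.zero_f, add_zero] at hc
    refine ⟨(H.hom (q + 1) q ≫
      (HomologicalComplex.singleObjXSelf (ComplexShape.up ℤ) q (ModuleCat.of A M)).hom).hom, ?_⟩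
    have : E.d q (q + 1) ≫ H.hom (q + 1) q ≫
        (HomologicalComplex.singleObjXSelf (ComplexShape.up ℤ) q (ModuleCat.of A M)).hom =
          ModuleCat.ofHom z.1 := by
      rw [← Category.assoc, ← hc]
      simp [toSingle]
    exact congrArg ModuleCat.Hom.hom this
  · rintro ⟨w, hw⟩
    let L := (HomologicalComplex.single (ModuleCat.{u} A) (ComplexShape.up ℤ) q).obj (ModuleCat.of A M)
    let h : ∀ i j, (ComplexShape.up ℤ).Rel j i → (E.X i ⟶ L.X j) := fun i j r ↦
      if hj : j = q then (E.XIsoOfEq (show i = q + 1 by change j + 1 = i at r; omega)).hom ≫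
        ModuleCat.ofHom w ≫ (HomologicalComplex.singleObjXIsoOfEq _ q (ModuleCat.of A M) j hj).inv
      else 0
    have heq : toSingle E q M z = Homotopy.nullHomotopicMap' h := by
      refine HomologicalComplex.to_single_hom_ext ?_
      rw [Homotopy.nullHomotopicMap'_f (show (ComplexShape.up ℤ).Rel (q - 1) q from sub_add_cancel q 1)
        (show (ComplexShape.up ℤ).Rel q (q + 1) from rfl), HomologicalComplex.single_obj_d, comp_zero,
        add_zero]
      simp only [toSingle, HomologicalComplex.mkHomToSingle_f, h, dif_pos, HomologicalComplex.XIsoOfEq_rfl,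
        Iso.refl_hom, Category.id_comp, ← Category.assoc]
      congr 1
      exact ModuleCat.hom_ext hw.symm
    change DerivedCategory.Q.map (toSingle E q M z) = 0
    rw [heq]
    exact (DerivedCategory.Q_map_eq_of_homotopy _ (Homotopy.nullHomotopy' h)).trans
      (DerivedCategory.Q.map_zero _ _)

variable {M} in
omit [E.IsKProjective] in
theorem comp_mem_ker {N : Type u} [AddCommGroup N] [Module A N] (f : M →ₗ[A] N)
    {z : (E.X q : Type u) →ₗ[A] M} (hz : z ∈ LinearMap.ker (pre E (q - 1) q M)) :
    f ∘ₗ z ∈ LinearMap.ker (pre E (q - 1) q N) := by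
  rw [LinearMap.mem_ker, pre_apply, LinearMap.comp_assoc]
  rw [LinearMap.mem_ker, pre_apply] at hz
  rw [hz, LinearMap.comp_zero]

omit [E.IsKProjective] in
theorem toQ_naturality {N : Type u} [AddCommGroup N] [Module A N] (f : M →ₗ[A] N)
    (z : LinearMap.ker (pre E (q - 1) q M)) :
    toQ E q N ⟨f ∘ₗ z.1, comp_mem_ker E q f z.2⟩ = toQ E q M z ≫
      (DerivedCategory.singleFunctor (ModuleCat.{u} A) q).map (ModuleCat.ofHom f) := by
  change DerivedCategory.Q.map _ = DerivedCategory.Q.map (toSingle E q M z) ≫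
    DerivedCategory.Q.map ((HomologicalComplex.single (ModuleCat.{u} A) (ComplexShape.up ℤ) q).map
      (ModuleCat.ofHom f))
  rw [← Functor.map_comp]
  refine congrArg DerivedCategory.Q.map (HomologicalComplex.to_single_hom_ext ?_)
  simp [toSingle, HomologicalComplex.single_map_f_self, ModuleCat.ofHom_comp]

section ext

variable {E} {q}
variable {K : Dual.D A} (e : DRing.toD E ≅ K) {p : ℤ} (hpq : p + q = 0)

/-- Cocycles surject onto the morphisms to a shifted module. -/
noncomputable def Φ : LinearMap.ker (pre E (q - 1) q M) →ₗ[A] (K ⟶ (Dual.inD A M)⟦p⟧) :=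
  ((Linear.leftComp A _ e.inv) ∘ₗ (Linear.rightComp A _
    (((DerivedCategory.singleFunctors (ModuleCat.{u} A)).shiftIso p q 0 hpq).inv.app
      (ModuleCat.of A M)))) ∘ₗ toQ E q M

theorem Φ_surjective : Function.Surjective (Φ M e hpq) := fun φ ↦ by
  obtain ⟨z, hz⟩ := toQ_surjective E q M (e.hom ≫ φ ≫
    ((DerivedCategory.singleFunctors (ModuleCat.{u} A)).shiftIso p q 0 hpq).hom.app (ModuleCat.of A M))
  refine ⟨z, ?_⟩
  change e.inv ≫ toQ E q M z ≫ _ = φ
  rw [hz, Category.assoc, Category.assoc, Iso.hom_inv_id_app, Iso.inv_hom_id_assoc]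
  exact Category.comp_id φ

theorem Φ_eq_zero_iff (z : LinearMap.ker (pre E (q - 1) q M)) :
    Φ M e hpq z = 0 ↔ z.1 ∈ LinearMap.range (pre E q (q + 1) M) := by
  rw [← toQ_eq_zero_iff E q M z]
  change e.inv ≫ toQ E q M z ≫ _ = 0 ↔ _
  rw [Preadditive.IsIso.comp_left_eq_zero, Preadditive.IsIso.comp_right_eq_zero]

omit [E.IsKProjective] in
theorem Φ_naturality {N : Type u} [AddCommGroup N] [Module A N] (f : M →ₗ[A] N)
    (z : LinearMap.ker (pre E (q - 1) q M)) :
    Φ N e hpq ⟨f ∘ₗ z.1, comp_mem_ker E q f z.2⟩ = Φ M e hpq z ≫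
      ((DerivedCategory.singleFunctor (ModuleCat.{u} A) 0).map (ModuleCat.ofHom f))⟦p⟧' := by
  change e.inv ≫ toQ E q N _ ≫ _ = (e.inv ≫ toQ E q M z ≫ _) ≫ _
  rw [toQ_naturality]
  simp only [Category.assoc]
  congr 2
  exact ((DerivedCategory.singleFunctors (ModuleCat.{u} A)).shiftIso p q 0 hpq).inv.naturality
    (ModuleCat.ofHom f)

end ext

omit [E.IsKProjective] in
/-- A map from a finite free term with values in `J • M` is in `J • Hom`. -/
theorem mem_smul_top [Module.Finite A (E.X q)] [Module.Free A (E.X q)] (J : Ideal A)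
    (z : (E.X q : Type u) →ₗ[A] M) (hz : ∀ x, z x ∈ (J • ⊤ : Submodule A M)) :
    z ∈ (J • ⊤ : Submodule A ((E.X q : Type u) →ₗ[A] M)) := by
  let b := Module.Free.chooseBasis A (E.X q)
  have hzs : z = ∑ i, (b.coord i).smulRight (z (b i)) := b.ext fun j ↦ by
    simp [LinearMap.sum_apply, Finsupp.single_apply, ite_smul]
  rw [hzs]
  refine sum_mem fun i _ ↦ ?_
  have h1 : LinearMap.smulRightₗ (b.coord i) (z (b i)) ∈
      Submodule.map (LinearMap.smulRightₗ (R := A) (M := M) (b.coord i)) (J • ⊤) :=
    Submodule.mem_map_of_mem (hz (b i))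
  rw [Submodule.map_smul''] at h1
  exact SetLike.le_def.mp (smul_mono_right J le_top) h1

omit [E.IsKProjective] in
theorem apply_mem_of_mem_smul_top {X : Type u} [AddCommGroup X] [Module A X] (J : Ideal A)
    {z : X →ₗ[A] M} (hz : z ∈ (J • ⊤ : Submodule A (X →ₗ[A] M))) (x : X) :
    z x ∈ (J • ⊤ : Submodule A M) := by
  have h1 := Submodule.mem_map_of_mem (f := LinearMap.applyₗ (R := A) (M₂ := M) x) hz
  rw [Submodule.map_smul''] at h1
  exact SetLike.le_def.mp (smul_mono_right J le_top) h1

omit [E.IsKProjective] in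
/-- Artin–Rees for the cocycles. -/
theorem exists_artinRees [IsNoetherianRing A] [Module.Finite A (E.X q)] [Module.Free A (E.X q)]
    [Module.Finite A M] (I : Ideal A) (j : ℤ) :
    ∃ c : ℕ, ∀ n, c ≤ n → ∀ z : (E.X q : Type u) →ₗ[A] M, z ∈ LinearMap.ker (pre E j q M) →
      z ∈ (I ^ n • ⊤ : Submodule A ((E.X q : Type u) →ₗ[A] M)) →
        z ∈ I ^ (n - c) • LinearMap.ker (pre E j q M) := by
  obtain ⟨c, hc⟩ := Ideal.exists_pow_inf_eq_pow_smul I (LinearMap.ker (pre E j q M))
  refine ⟨c, fun n hn z hz hzn ↦ ?_⟩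
  have h1 : z ∈ (I ^ n • ⊤ : Submodule A _) ⊓ LinearMap.ker (pre E j q M) := ⟨hzn, hz⟩
  rw [hc n hn] at h1
  exact SetLike.le_def.mp (smul_mono_right _ inf_le_right) h1

omit [E.IsKProjective] in
theorem isKProjective (b : ℤ) (hb : DRing.VanishesAbove E b) (hf : DRing.TermwiseFiniteFree E) :
    E.IsKProjective := by
  have : E.IsStrictlyLE b := (CochainComplex.isStrictlyLE_iff E b).mpr hb
  have : ∀ i, Projective (E.X i) := fun i ↦ by
    have := (hf i).2
    exact (IsProjective.iff_projective (E.X i : Type u)).mp inferInstance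
  exact CochainComplex.isKProjective_of_projective E b

omit [E.IsKProjective] in
theorem exists_pow_smul_eq_zero {Q : Type*} [AddCommGroup Q] [Module A Q] [Module.Finite A Q]
    (I : Ideal A) (h : ∀ x : Q, ∃ n : ℕ, ∀ a ∈ I ^ n, a • x = 0) :
    ∃ N : ℕ, ∀ a ∈ I ^ N, ∀ x : Q, a • x = 0 := by
  classical
  obtain ⟨s, hs⟩ := Module.Finite.fg_top (R := A) (M := Q)
  choose n hn using h
  refine ⟨s.sup n, fun a ha x ↦ ?_⟩
  have hx : x ∈ Submodule.span A (s : Set Q) := hs ▸ Submodule.mem_top
  induction hx using Submodule.span_induction with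
  | mem y hy => exact hn y a (Ideal.pow_le_pow_right (Finset.le_sup hy) ha)
  | zero => exact smul_zero a
  | add y z _ _ hy hz => rw [smul_add, hy, hz, add_zero]
  | smul r y _ hy => rw [smul_comm, hy, smul_zero]

end Groth.Agent.H02CA.PseudoExt
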