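import Groth.Prelude.Def_W4c5quivmodgenus0Quiv
import Mathlib

/-!
# (Semi)stability for the two bipartite quivers `Q`, `P`
-/

namespace Groth.Agent.H02CA.PtQ

open PtQuiv

set_option maxRecDepth 8000

variable {K : Type*} [Field K]

theorem line_cases (L : Submodule K (Fin 2 → K)) :
    (L = ⊥ ∧ Module.finrank K L = 0) ∨ (L = ⊤ ∧ Module.finrank K L = 2) ∨
      (Module.finrank K L = 1) := by
  have h : Module.finrank K L ≤ 2 := by
    simpa using Submodule.finrank_le L
  rcases Nat.lt_or_ge (Module.finrank K L) 1 with h0 | h1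
  · left
    exact ⟨Submodule.finrank_eq_zero.1 (by omega), by omega⟩
  · rcases Nat.lt_or_ge (Module.finrank K L) 2 with h2 | h2
    · right; right; omega
    · right; left
      exact ⟨Submodule.eq_top_of_finrank_eq (by simp; omega), by omega⟩

theorem line_eq_span {L : Submodule K (Fin 2 → K)} (hL : Module.finrank K L = 1)
    {v : Fin 2 → K} (hv : v ∈ L) (h0 : v ≠ 0) : L = K ∙ v := by
  symm
  refine Submodule.eq_of_le_of_finrank_eq ?_ ?_
  · simpa [Submodule.span_singleton_le_iff_mem] using hv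
  · rw [hL, finrank_span_singleton h0]

theorem exists_line_gen {L : Submodule K (Fin 2 → K)} (hL : Module.finrank K L = 1) :
    ∃ v, v ≠ 0 ∧ L = K ∙ v := by
  have : L ≠ ⊥ := by intro h; rw [h] at hL; simp at hL
  obtain ⟨v, hv, h0⟩ := Submodule.exists_mem_ne_zero_of_ne_bot this
  exact ⟨v, h0, line_eq_span hL hv h0⟩

theorem span_comm {u v : Fin 2 → K} (hu : u ≠ 0) (h : u ∈ K ∙ v) : v ∈ K ∙ u := by
  obtain ⟨c, hc⟩ := Submodule.mem_span_singleton.1 h
  have hc0 : c ≠ 0 := by rintro rfl; simp at hc; exact hu hc.symm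
  exact Submodule.mem_span_singleton.2 ⟨c⁻¹, by rw [← hc, smul_smul, inv_mul_cancel₀ hc0, one_smul]⟩

theorem span_trans {u v w : Fin 2 → K} (h : u ∈ K ∙ v) (h' : v ∈ K ∙ w) : u ∈ K ∙ w :=
  (Submodule.span_singleton_le_iff_mem _ _).2 h' h

variable {ι : Type*} [Fintype ι]

theorem qss_iff (s : ι → (Fin 2 → K)) (hs : ∀ i, s i ≠ 0) (θ : ι → ℚ) (h0 : ∀ i, 0 ≤ θ i)
    (h2 : ∑ i, θ i = 2) :
    QSemistable (-1) θ s ↔
      ∀ (J : Finset ι) (v : Fin 2 → K), (∀ i ∈ J, s i ∈ K ∙ v) → ∑ i ∈ J, θ i ≤ 1 := by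
  constructor
  · intro h J v hJ
    by_cases hv : v = 0
    · rcases J.eq_empty_or_nonempty with rfl | ⟨i, hi⟩
      · simp
      · exact absurd (by simpa [hv] using hJ i hi) (hs i)
    · have := h.2 (K ∙ v) J hJ
      simp only [QWt, finrank_span_singleton hv] at this
      push_cast at this
      linarith
  · intro h
    refine ⟨by linarith, fun L I hI => ?_⟩
    rcases line_cases L with ⟨rfl, hr⟩ | ⟨rfl, hr⟩ | hr
    · have : I = ∅ := by
        rcases I.eq_empty_or_nonempty with h' | ⟨i, hi⟩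
        · exact h'
        · exact absurd ((Submodule.mem_bot K).1 (hI i hi)) (hs i)
      simp [QWt, this]
    · have hle : ∑ i ∈ I, θ i ≤ ∑ i, θ i :=
        Finset.sum_le_sum_of_subset_of_nonneg (Finset.subset_univ _) fun i _ _ => h0 i
      simp only [QWt, hr]
      push_cast
      linarith
    · obtain ⟨v, hv, rfl⟩ := exists_line_gen hr
      have := h I v hI
      simp only [QWt, hr]
      push_cast
      linarith

theorem exists_stable_iff (s : ι → (Fin 2 → K)) (hs : ∀ i, s i ≠ 0) :
    (∃ θ : ι → ℚ, (∀ i, 0 ≤ θ i) ∧ (∀ i, θ i ≤ 1) ∧ ∑ i, θ i = 2 ∧ QStable (-1) θ s) ↔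
      ∃ i j k : ι, s i ∉ K ∙ s j ∧ s j ∉ K ∙ s k ∧ s i ∉ K ∙ s k := by
  classical
  constructor
  · rintro ⟨θ, h0, h1, h2, hss, hst⟩
    by_contra hne
    push Not at hne
    have key : ∀ (J : Finset ι) (v : Fin 2 → K), v ≠ 0 → (∀ i ∈ J, s i ∈ K ∙ v) →
        ∑ i ∈ J, θ i < 1 := by
      intro J v hv hJ
      refine lt_of_le_of_ne ((qss_iff s hs θ h0 h2).1 hss J v hJ) fun he => ?_
      have hw : QWt K (-1) θ (K ∙ v) J = 0 := by
        simp only [QWt, finrank_span_singleton hv, he]; norm_num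
      rcases hst _ J hJ hw with ⟨hb, -⟩ | ⟨ht, -⟩
      · exact hv (by simpa using hb)
      · have := finrank_span_singleton (K := K) hv
        rw [ht] at this; simp at this
    obtain ⟨i0⟩ : Nonempty ι := by
      rcases isEmpty_or_nonempty ι with h | h
      · simp at h2
      · exact h
    let J1 := Finset.univ.filter fun i => s i ∈ K ∙ s i0
    have hJ1 := key J1 (s i0) (hs i0) (fun i hi => (Finset.mem_filter.1 hi).2)
    have hsplit := Finset.sum_filter_add_sum_filter_not Finset.univ
      (fun i => s i ∈ K ∙ s i0) θ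
    rcases (Finset.univ.filter fun i => ¬ s i ∈ K ∙ s i0).eq_empty_or_nonempty with he | ⟨j0, hj⟩
    · rw [he, Finset.sum_empty, add_zero, h2] at hsplit
      linarith [show (J1.sum θ) = 2 from hsplit]
    · have hj0 := (Finset.mem_filter.1 hj).2
      have hJ2 := key (Finset.univ.filter fun i => ¬ s i ∈ K ∙ s i0) (s j0) (hs j0) (by
        intro k hk
        have hk0 := (Finset.mem_filter.1 hk).2
        by_contra hkj
        exact hk0 (hne k j0 i0 hkj hj0))
      rw [h2] at hsplit
      have : J1.sum θ = ∑ i ∈ Finset.univ.filter (fun i => s i ∈ K ∙ s i0), θ i := rfl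
      linarith
  · rintro ⟨i, j, k, hij, hjk, hik⟩
    have hij' : i ≠ j := fun h => hij (h ▸ Submodule.mem_span_singleton_self _)
    have hjk' : j ≠ k := fun h => hjk (h ▸ Submodule.mem_span_singleton_self _)
    have hik' : i ≠ k := fun h => hik (h ▸ Submodule.mem_span_singleton_self _)
    let S : Finset ι := {i, j, k}
    have hS : S.card = 3 := Finset.card_eq_three.2 ⟨i, j, k, hij', hik', hjk', rfl⟩
    let n : ℚ := Fintype.card ι
    have hn : (3 : ℚ) ≤ n := by
      have : 3 ≤ Fintype.card ι := hS ▸ Finset.card_le_univ S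
      simpa only [n] using (by exact_mod_cast this : (3 : ℚ) ≤ (Fintype.card ι : ℚ))
    have hnpos : 0 < n := by linarith
    let ε : ℚ := 1 / (3 * n)
    have hε : 0 < ε := by positivity
    have hεn : ε * n = 1 / 3 := by
      simp only [ε]; field_simp
    let big : ℚ := (2 - (n - 3) * ε) / 3
    have hbig : 0 < big := by
      simp only [big]; nlinarith
    let θ : ι → ℚ := fun x => if x ∈ S then big else ε
    have hpos : ∀ x, 0 < θ x := fun x => by simp only [θ]; split <;> assumption
    have hsum : ∑ x, θ x = 2 := by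
      simp only [θ, Finset.sum_ite, Finset.sum_const, nsmul_eq_mul]
      have e1 : (Finset.univ.filter fun x => x ∈ S) = S := by ext; simp
      have e2 : (Finset.univ.filter fun x => ¬ x ∈ S) = Sᶜ := by ext; simp
      rw [e1, e2, Finset.card_compl, hS, Nat.cast_sub (hS ▸ Finset.card_le_univ S)]
      push_cast
      simp only [big, n]
      ring
    have hlt : ∀ (J : Finset ι) (v : Fin 2 → K), (∀ x ∈ J, s x ∈ K ∙ v) →
        ∑ x ∈ J, θ x < 1 := by
      intro J v hJ
      have h1 : (J ∩ S).card ≤ 1 := by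
        rw [Finset.card_le_one]
        intro x hx y hy
        rw [Finset.mem_inter] at hx hy
        have p : ∀ {p q}, p ∈ J → q ∈ J → s p ∈ K ∙ s q := fun hp hq =>
          span_trans (hJ _ hp) (span_comm (hs _) (hJ _ hq))
        have hxy := p hx.1 hy.1
        have hyx := p hy.1 hx.1
        simp only [S, Finset.mem_insert, Finset.mem_singleton] at hx hy
        rcases hx.2 with rfl | rfl | rfl <;> rcases hy.2 with rfl | rfl | rfl <;>
          first | rfl | contradiction
      rw [← Finset.sum_filter_add_sum_filter_not J (fun x => x ∈ S)]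
      have a1 : ∑ x ∈ J.filter (fun x => x ∈ S), θ x ≤ big := by
        rw [Finset.filter_mem_eq_inter, Finset.sum_congr rfl (g := fun _ => big)
          (fun x hx => if_pos (Finset.mem_inter.1 hx).2), Finset.sum_const, nsmul_eq_mul]
        exact mul_le_of_le_one_left hbig.le (by exact_mod_cast h1)
      have a2 : ∑ x ∈ J.filter (fun x => ¬ x ∈ S), θ x ≤ (n - 3) * ε := by
        rw [Finset.sum_congr rfl (g := fun _ => ε)
          (fun x hx => if_neg (Finset.mem_filter.1 hx).2), Finset.sum_const, nsmul_eq_mul]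
        refine mul_le_mul_of_nonneg_right ?_ hε.le
        have hle : (J.filter fun x => ¬ x ∈ S).card ≤ Sᶜ.card :=
          Finset.card_le_card fun x hx => by
            simp only [Finset.mem_filter] at hx; simpa using hx.2
        have hle' : ((J.filter fun x => ¬ x ∈ S).card : ℚ) ≤ (Sᶜ.card : ℚ) := by exact_mod_cast hle
        rw [Finset.card_compl, hS, Nat.cast_sub (hS ▸ Finset.card_le_univ S)] at hle'
        push_cast at hle'
        exact hle'
      simp only [big] at a1 ⊢
      nlinarith [hεn, hn]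
    have h1θ : ∀ x, θ x ≤ 1 := fun x => by
      have := hlt {x} (s x) (by simp [Submodule.mem_span_singleton_self])
      simp at this; linarith
    refine ⟨θ, fun x => (hpos x).le, h1θ, hsum, ?_, ?_⟩
    · exact (qss_iff s hs θ (fun x => (hpos x).le) hsum).2 fun J v hJ => (hlt J v hJ).le
    · intro L I hI hw
      rcases line_cases L with ⟨rfl, hr⟩ | ⟨rfl, hr⟩ | hr
      · left
        refine ⟨rfl, ?_⟩
        rcases I.eq_empty_or_nonempty with h' | ⟨x, hx⟩
        · exact h'
        · exact absurd ((Submodule.mem_bot K).1 (hI x hx)) (hs x)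
      · right
        refine ⟨rfl, ?_⟩
        by_contra hne
        have hlt' : ∑ x ∈ I, θ x < ∑ x, θ x := by
          obtain ⟨y, -, hy⟩ := Finset.exists_of_ssubset
            (Finset.ssubset_iff_subset_ne.2 ⟨Finset.subset_univ I, hne⟩)
          exact Finset.sum_lt_sum_of_subset (Finset.subset_univ I) (Finset.mem_univ y) hy
            (hpos y) fun z _ _ => (hpos z).le
        simp only [QWt, hr] at hw
        push_cast at hw
        linarith
      · obtain ⟨v, hv, rfl⟩ := exists_line_gen hr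
        simp only [QWt, hr] at hw
        push_cast at hw
        linarith [hlt I v hI]

section Transfer

variable {κ : Type*} [Fintype κ] [DecidableEq κ] {a b : κ} (hab : a ≠ b)

omit [Fintype ι] [Fintype κ] in
include hab in
theorem sum_split (θ : κ → ℚ) (I : Finset κ) :
    ∑ i ∈ I, θ i = (if a ∈ I then θ a else 0) + (if b ∈ I then θ b else 0) +
      ∑ i ∈ I.subtype (fun i => i ≠ a ∧ i ≠ b), θ i.1 := by
  rw [Finset.sum_subtype_eq_sum_filter,
    ← Finset.sum_filter_add_sum_filter_not I (fun i => i ≠ a ∧ i ≠ b), add_comm]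
  congr 1
  rw [show I.filter (fun i => ¬(i ≠ a ∧ i ≠ b)) = ({a, b} : Finset κ).filter (· ∈ I) by
    ext x; simp; tauto]
  rw [Finset.sum_filter, Finset.sum_pair hab]

/-- the `Q`-index set extending a `P`-index set. -/
def extend (A : Finset κ) (I : Finset {i : κ // i ≠ a ∧ i ≠ b}) : Finset κ :=
  A ∪ I.map ⟨Subtype.val, Subtype.val_injective⟩

omit [Fintype κ] in
theorem sum_extend (θ : κ → ℚ) {A : Finset κ} (hA : A ⊆ {a, b})
    (I : Finset {i : κ // i ≠ a ∧ i ≠ b}) :
    ∑ i ∈ extend A I, θ i = ∑ i ∈ A, θ i + ∑ i ∈ I, θ i.1 := by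
  rw [extend, Finset.sum_union, Finset.sum_map]
  · rfl
  · rw [Finset.disjoint_left]
    intro x hx hx'
    obtain ⟨y, -, rfl⟩ := Finset.mem_map.1 hx'
    have := hA hx
    simp only [Finset.mem_insert, Finset.mem_singleton] at this
    exact this.elim y.2.1 y.2.2

end Transfer

theorem pwt_eq {μ : Type*} (c : ℚ) (η : Fin 2 → ℚ) (θ : μ → ℚ) (U : Fin 2 → Submodule K K)
    (I : Finset μ) :
    PWt K ![c * η 0, c * η 1] (fun i => c * θ i) U I = c * PWt K η θ U I := by
  simp [PWt, Fin.sum_univ_two, ← Finset.mul_sum]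
  ring

theorem sub_cases (U : Submodule K K) : (U = ⊥ ∧ Module.finrank K U = 0) ∨
    (U = ⊤ ∧ Module.finrank K U = 1) := by
  rcases Ideal.eq_bot_or_top U with rfl | rfl
  · left; exact ⟨rfl, finrank_bot K K⟩
  · right; exact ⟨rfl, by rw [finrank_top, Module.finrank_self]⟩

variable {κ : Type*} [Fintype κ] [DecidableEq κ] {a b : κ}
  (hab : a ≠ b) (s : κ → (Fin 2 → K)) (θ : κ → ℚ)

include hab in
theorem qss_indep (hθ : 1 < θ a + θ b) (hb1 : θ a ≤ 1) (ha1 : θ b ≤ 1)
    (h : QSemistable (-1) θ s) : LinearIndependent K ![s a, s b] := by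
  have nz : ∀ x, 0 < θ x → s x ≠ 0 := fun x hx hs => by
    have := h.2 ⊥ {x} (by simp [QSubrep, hs])
    simp [QWt] at this
    linarith
  have hsa := nz a (by linarith)
  rw [LinearIndependent.pair_iff' hsa]
  intro c hc
  have := h.2 (K ∙ s a) {a, b} (by
    intro i hi
    simp only [Finset.mem_insert, Finset.mem_singleton] at hi
    rcases hi with rfl | rfl
    · exact Submodule.mem_span_singleton_self _
    · exact Submodule.mem_span_singleton.2 ⟨c, hc⟩)
  simp only [QWt, finrank_span_singleton hsa, Finset.sum_pair hab] at this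
  push_cast at this
  linarith

/-- The span attached to a `P`-subrepresentation, with its index set at `a`, `b`. -/
theorem lift_subrep (hli : LinearIndependent K ![s a, s b])
    (t : {i : κ // i ≠ a ∧ i ≠ b} → (Fin 2 → K))
    (ht : ∀ i, s i.1 = t i 0 • s a + t i 1 • s b)
    (U : Fin 2 → Submodule K K) (I : Finset {i : κ // i ≠ a ∧ i ≠ b}) (hI : PSubrep t U I)
    (hab : a ≠ b) :
    ∃ (L : Submodule K (Fin 2 → K)) (A : Finset κ), A ⊆ {a, b} ∧ QSubrep s L (extend A I) ∧
      QWt K (-1) θ L (extend A I) = PWt K ![θ a - 1, θ b - 1] (fun i => θ i.1) U I ∧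
      (L = ⊥ → U = ⊥) ∧ (a ∈ A → b ∈ A → U = ⊤) := by
  have hsa : s a ≠ 0 := by simpa using hli.ne_zero 0
  have hsb : s b ≠ 0 := by simpa using hli.ne_zero 1
  have hext : ∀ (A : Finset κ) (L : Submodule K (Fin 2 → K)), A ⊆ {a, b} →
      (∀ x ∈ A, s x ∈ L) → (∀ i ∈ I, s i.1 ∈ L) → QSubrep s L (extend A I) := by
    intro A L _ h1 h2 x hx
    rcases Finset.mem_union.1 hx with hx | hx
    · exact h1 x hx
    · obtain ⟨y, hy, rfl⟩ := Finset.mem_map.1 hx
      exact h2 y hy
  rcases sub_cases (U 0) with ⟨e0, r0⟩ | ⟨e0, r0⟩ <;>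
    rcases sub_cases (U 1) with ⟨e1, r1⟩ | ⟨e1, r1⟩
  · refine ⟨⊥, ∅, by simp, hext _ _ (by simp) (by simp) (fun i hi => ?_), ?_, fun _ => ?_, by simp⟩
    · have p0 := hI i hi 0
      have p1 := hI i hi 1
      rw [e0, Submodule.mem_bot] at p0
      rw [e1, Submodule.mem_bot] at p1
      simp [ht i, p0, p1]
    · simp [QWt, PWt, sum_extend θ (Finset.empty_subset _), Fin.sum_univ_two, r0, r1]
    · funext j; fin_cases j <;> assumption
  · refine ⟨K ∙ s b, {b}, by simp, hext _ _ (by simp)
      (by simp [Submodule.mem_span_singleton_self]) (fun i hi => ?_), ?_, fun h => ?_, ?_⟩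
    · have p0 := hI i hi 0
      rw [e0, Submodule.mem_bot] at p0
      rw [ht i, p0, zero_smul, zero_add]
      exact Submodule.smul_mem _ _ (Submodule.mem_span_singleton_self _)
    · simp only [QWt, PWt, finrank_span_singleton hsb,
        sum_extend θ (show ({b} : Finset κ) ⊆ {a, b} by simp), Fin.sum_univ_two, r0, r1]
      simp; ring
    · simp [hsb] at h
    · intro h; simp [hab] at h
  · refine ⟨K ∙ s a, {a}, by simp, hext _ _ (by simp)
      (by simp [Submodule.mem_span_singleton_self]) (fun i hi => ?_), ?_, fun h => ?_, ?_⟩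
    · have p1 := hI i hi 1
      rw [e1, Submodule.mem_bot] at p1
      rw [ht i, p1, zero_smul, add_zero]
      exact Submodule.smul_mem _ _ (Submodule.mem_span_singleton_self _)
    · simp only [QWt, PWt, finrank_span_singleton hsa,
        sum_extend θ (show ({a} : Finset κ) ⊆ {a, b} by simp), Fin.sum_univ_two, r0, r1]
      simp; ring
    · simp [hsa] at h
    · intro _ h; simp [hab.symm] at h
  · refine ⟨⊤, {a, b}, by simp, hext _ _ subset_rfl (by simp) (by simp), ?_,
      fun h => absurd h top_ne_bot, fun _ _ => ?_⟩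
    · simp only [QWt, PWt, finrank_top, sum_extend θ (subset_refl ({a, b} : Finset κ)),
        Fin.sum_univ_two, r0, r1, Finset.sum_pair hab]
      simp; ring
    · funext j; fin_cases j <;> assumption

omit [Fintype κ] [DecidableEq κ] in
theorem exists_coords (hli : LinearIndependent K ![s a, s b]) :
    ∃ t : {i : κ // i ≠ a ∧ i ≠ b} → (Fin 2 → K),
      ∀ i, s i.1 = t i 0 • s a + t i 1 • s b := by
  have hspan := hli.span_eq_top_of_card_eq_finrank (by simp)
  have : ∀ x : Fin 2 → K, ∃ p q : K, p • s a + q • s b = x := fun x => by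
    have hx : x ∈ Submodule.span K (Set.range ![s a, s b]) := hspan ▸ Submodule.mem_top
    rw [Matrix.range_cons, Matrix.range_cons, Matrix.range_empty, Set.union_empty,
      Set.singleton_union] at hx
    exact Submodule.mem_span_pair.1 hx
  choose p q h using this
  exact ⟨fun i => ![p (s i.1), q (s i.1)], fun i => by simpa using (h (s i.1)).symm⟩

variable (h0 : ∀ i, 0 ≤ θ i) (h1 : ∀ i, θ i ≤ 1) (h2 : ∑ i, θ i = 2)
  (hθ : 1 < θ a + θ b) (hθ' : θ a + θ b < 2)

set_option quotPrecheck false in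
local notation "ηP" => ![θ a - 1, θ b - 1]
set_option quotPrecheck false in
local notation "θP" => fun i : {i : κ // i ≠ a ∧ i ≠ b} => θ i.1

include hab in
theorem sum_rest : ∑ i : {i : κ // i ≠ a ∧ i ≠ b}, θ i.1 = ∑ i, θ i - θ a - θ b := by
  have h := sum_split hab θ Finset.univ
  simp only [Finset.mem_univ, if_true] at h
  have e : Finset.univ.subtype (fun i : κ => i ≠ a ∧ i ≠ b) = Finset.univ := by ext; simp
  rw [e] at h
  linarith

/-- For a `Q`-subrepresentation: either it is small, or a `P`-subrepresentation dominates it. -/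
theorem q_to_p (hli : LinearIndependent K ![s a, s b])
    (t : {i : κ // i ≠ a ∧ i ≠ b} → (Fin 2 → K))
    (ht : ∀ i, s i.1 = t i 0 • s a + t i 1 • s b)
    (L : Submodule K (Fin 2 → K)) (I : Finset κ) (hI : QSubrep s L I) (hab : a ≠ b)
    (h0 : ∀ i, 0 ≤ θ i) (h2 : ∑ i, θ i = 2) (hθ : 1 < θ a + θ b) :
    QWt K (-1) θ L I < 0 ∨
      ∃ U : Fin 2 → Submodule K K, PSubrep t U (I.subtype fun i => i ≠ a ∧ i ≠ b) ∧
        (L = ⊥ → U = ⊥ ∧ a ∉ I ∧ b ∉ I) ∧ (L = ⊤ → U = ⊤) ∧
        (L ≠ ⊥ → L ≠ ⊤ → U ≠ ⊥ ∧ U ≠ ⊤) ∧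
        QWt K (-1) θ L I =
          PWt K ![θ a - 1, θ b - 1] (fun i => θ i.1) U (I.subtype fun i => i ≠ a ∧ i ≠ b) -
          ((if U 0 = ⊤ ∧ a ∉ I then θ a else 0) + (if U 1 = ⊤ ∧ b ∉ I then θ b else 0)) := by
  classical
  have hsa : s a ≠ 0 := by simpa using hli.ne_zero 0
  have hsb : s b ≠ 0 := by simpa using hli.ne_zero 1
  have coeff : ∀ (p q : K), p • s a + q • s b = 0 → p = 0 ∧ q = 0 :=
    LinearIndependent.pair_iff.1 hli
  have bt : (⊥ : Submodule K K) ≠ ⊤ := bot_ne_top
  have htop1 : Module.finrank K (⊤ : Submodule K K) = 1 := by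
    rw [finrank_top, Module.finrank_self]
  have hbot : L = ⊥ → a ∉ I ∧ b ∉ I := by
    rintro rfl
    exact ⟨fun h => hsa ((Submodule.mem_bot K).1 (hI a h)),
      fun h => hsb ((Submodule.mem_bot K).1 (hI b h))⟩
  rcases line_cases L with ⟨rfl, hr⟩ | ⟨rfl, hr⟩ | hr
  · refine Or.inr ⟨⊥, ?_, fun _ => ⟨rfl, hbot rfl⟩, fun h => absurd h bot_ne_top,
      fun h => absurd rfl h, ?_⟩
    · intro i hi
      have h := (Submodule.mem_bot K).1 (hI i.1 (Finset.mem_subtype.1 hi))
      rw [ht i] at h
      obtain ⟨p, q⟩ := coeff _ _ h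
      refine Fin.forall_fin_two.2 ⟨?_, ?_⟩
      · rw [p]; exact zero_mem _
      · rw [q]; exact zero_mem _
    · obtain ⟨ha, hb⟩ := hbot rfl
      simp only [QWt, PWt, sum_split hab θ I, ha, hb, bt, Pi.bot_apply, finrank_bot, Fin.sum_univ_two,
        false_and, if_false, Nat.cast_zero]
      ring
  · refine Or.inr ⟨⊤, fun i _ j => Submodule.mem_top, fun h => absurd h top_ne_bot,
      fun _ => rfl, fun _ h => absurd rfl h, ?_⟩
    simp only [QWt, PWt, hr, sum_split hab θ I, Fin.sum_univ_two, Pi.top_apply, htop1]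
    by_cases ha : a ∈ I <;> by_cases hb : b ∈ I <;> simp [ha, hb] <;> ring
  · have hLb : L ≠ ⊥ := by intro h; rw [h] at hr; simp at hr
    have hLt : L ≠ ⊤ := by intro h; rw [h] at hr; simp at hr
    by_cases haL : s a ∈ L
    · have eL := line_eq_span hr haL hsa
      have hbI : b ∉ I := fun h => by
        obtain ⟨c, hc⟩ := Submodule.mem_span_singleton.1 (eL ▸ hI b h)
        exact (LinearIndependent.pair_iff' hsa).1 hli c hc
      refine Or.inr ⟨![⊤, ⊥], ?_, fun h => absurd h hLb, fun h => absurd h hLt,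
        fun _ _ => ⟨fun h => bt (congrFun h 0).symm, fun h => bt (congrFun h 1)⟩, ?_⟩
      · intro i hi
        have h := hI i.1 (Finset.mem_subtype.1 hi)
        rw [eL, Submodule.mem_span_singleton] at h
        obtain ⟨c, hc⟩ := h
        rw [ht i] at hc
        obtain ⟨-, q⟩ := coeff (t i 0 - c) (t i 1) (by rw [sub_smul, hc]; abel)
        exact Fin.forall_fin_two.2 ⟨Submodule.mem_top, (Submodule.mem_bot K).2 q⟩
      · simp only [QWt, PWt, hr, sum_split hab θ I, Fin.sum_univ_two]
        rw [show Module.finrank K ↥((![⊤, ⊥] : Fin 2 → Submodule K K) 1) = 0 from finrank_bot K K,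
          show Module.finrank K ↥((![⊤, ⊥] : Fin 2 → Submodule K K) 0) = 1 from htop1]
        simp only [Matrix.cons_val_zero, Matrix.cons_val_one]
        by_cases ha : a ∈ I <;>
          simp only [ha, hbI, bt, and_true, and_false, not_true, not_false_eq_true, false_and, and_self, if_true, if_false,
            Nat.cast_zero, Nat.cast_one] <;> ring
    · by_cases hbL : s b ∈ L
      · have eL := line_eq_span hr hbL hsb
        have haI : a ∉ I := fun h => haL (hI a h)
        refine Or.inr ⟨![⊥, ⊤], ?_, fun h => absurd h hLb, fun h => absurd h hLt,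
          fun _ _ => ⟨fun h => bt (congrFun h 1).symm, fun h => bt (congrFun h 0)⟩, ?_⟩
        · intro i hi
          have h := hI i.1 (Finset.mem_subtype.1 hi)
          rw [eL, Submodule.mem_span_singleton] at h
          obtain ⟨c, hc⟩ := h
          rw [ht i] at hc
          obtain ⟨p, -⟩ := coeff (t i 0) (t i 1 - c) (by rw [sub_smul, hc]; abel)
          exact Fin.forall_fin_two.2 ⟨(Submodule.mem_bot K).2 p, Submodule.mem_top⟩
        · simp only [QWt, PWt, hr, sum_split hab θ I, Fin.sum_univ_two]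
          rw [show Module.finrank K ↥((![⊥, ⊤] : Fin 2 → Submodule K K) 0) = 0 from finrank_bot K K,
            show Module.finrank K ↥((![⊥, ⊤] : Fin 2 → Submodule K K) 1) = 1 from htop1]
          simp only [Matrix.cons_val_zero, Matrix.cons_val_one]
          by_cases hb : b ∈ I <;>
          simp only [hb, haI, bt, and_true, and_false, not_true, not_false_eq_true, false_and, and_self, if_true, if_false,
            Nat.cast_zero, Nat.cast_one] <;> ring
      · left
        have haI : a ∉ I := fun h => haL (hI a h)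
        have hbI : b ∉ I := fun h => hbL (hI b h)
        have hle : ∑ i ∈ I.subtype (fun i => i ≠ a ∧ i ≠ b), θ i.1 ≤ ∑ i, θP i :=
          Finset.sum_le_sum_of_subset_of_nonneg (Finset.subset_univ _) fun i _ _ => h0 i
        rw [sum_rest hab θ, h2] at hle
        simp only [QWt, hr, sum_split hab θ I, haI, hbI, if_false]
        push_cast
        linarith

include hab h0 h1 h2 hθ hθ' in
theorem qss_iff_pss :
    QSemistable (-1) θ s ↔
      (LinearIndependent K ![s a, s b] ∧
        ∀ t : {i : κ // i ≠ a ∧ i ≠ b} → (Fin 2 → K),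
          (∀ i, s i.1 = t i 0 • s a + t i 1 • s b) →
            PSemistable ![(2 - θ a - θ b)⁻¹ * (θ a - 1), (2 - θ a - θ b)⁻¹ * (θ b - 1)]
              (fun i : {i : κ // i ≠ a ∧ i ≠ b} => (2 - θ a - θ b)⁻¹ * θ i.1) t) := by
  have hc : 0 < (2 - θ a - θ b)⁻¹ := inv_pos.2 (by linarith)
  constructor
  · intro h
    have hli := qss_indep hab s θ hθ (h1 a) (h1 b) h
    refine ⟨hli, fun t ht => ⟨?_, fun U I hI => ?_⟩⟩
    · rw [Fin.sum_univ_two, ← Finset.mul_sum, sum_rest hab θ, h2]
      simp; ring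
    · obtain ⟨L, A, -, hQ, hw, -, -⟩ := lift_subrep s θ hli t ht U I hI hab
      have := h.2 L _ hQ
      rw [hw] at this
      have e := pwt_eq (2 - θ a - θ b)⁻¹ ηP θP U I
      simp only [Matrix.cons_val_zero, Matrix.cons_val_one] at e
      rw [e]
      exact mul_nonpos_of_nonneg_of_nonpos hc.le this
  · rintro ⟨hli, hp⟩
    refine ⟨by linarith, fun L I hI => ?_⟩
    obtain ⟨t, ht⟩ := exists_coords (a := a) (b := b) s hli
    rcases q_to_p s θ hli t ht L I hI hab h0 h2 hθ with hneg | ⟨U, hU, -, -, -, hw⟩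
    · exact hneg.le
    · have := (hp t ht).2 U _ hU
      have e := pwt_eq (2 - θ a - θ b)⁻¹ ηP θP U (I.subtype fun i => i ≠ a ∧ i ≠ b)
      simp only [Matrix.cons_val_zero, Matrix.cons_val_one] at e
      rw [e] at this
      have h3 := nonpos_of_mul_nonpos_right this hc
      rw [hw]
      have p : 0 ≤ (if U 0 = ⊤ ∧ a ∉ I then θ a else 0) := by split <;> simp [h0 a]
      have q : 0 ≤ (if U 1 = ⊤ ∧ b ∉ I then θ b else 0) := by split <;> simp [h0 b]
      linarith

include hab h0 h1 h2 hθ hθ' in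
theorem qst_iff_pst :
    QStable (-1) θ s ↔
      (LinearIndependent K ![s a, s b] ∧
        ∀ t : {i : κ // i ≠ a ∧ i ≠ b} → (Fin 2 → K),
          (∀ i, s i.1 = t i 0 • s a + t i 1 • s b) →
            PStable ![(2 - θ a - θ b)⁻¹ * (θ a - 1), (2 - θ a - θ b)⁻¹ * (θ b - 1)]
              (fun i : {i : κ // i ≠ a ∧ i ≠ b} => (2 - θ a - θ b)⁻¹ * θ i.1) t) := by
  have hc : 0 < (2 - θ a - θ b)⁻¹ := inv_pos.2 (by linarith)
  have hiff := qss_iff_pss hab s θ h0 h1 h2 hθ hθ'
  constructor
  · rintro ⟨hss, hst⟩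
    obtain ⟨hli, hp⟩ := hiff.1 hss
    refine ⟨hli, fun t ht => ⟨hp t ht, fun U I hI hw => ?_⟩⟩
    obtain ⟨L, A, hA, hQ, hw', hbot, htop⟩ := lift_subrep s θ hli t ht U I hI hab
    have e := pwt_eq (2 - θ a - θ b)⁻¹ ηP θP U I
    simp only [Matrix.cons_val_zero, Matrix.cons_val_one] at e
    rw [e, mul_eq_zero] at hw
    rcases hst L _ hQ (hw'.trans (hw.resolve_left hc.ne')) with ⟨hL, hI0⟩ | ⟨-, hI1⟩
    · left
      refine ⟨hbot hL, ?_⟩
      simpa [extend] using (Finset.union_eq_empty.1 hI0).2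
    · right
      have mem : ∀ x, x ∈ extend A I := fun x => by rw [hI1]; exact Finset.mem_univ x
      have memA : ∀ x, (x = a ∨ x = b) → x ∈ A := fun x hx => by
        rcases Finset.mem_union.1 (mem x) with h | h
        · exact h
        · obtain ⟨y, -, rfl⟩ := Finset.mem_map.1 h
          exact (hx.elim y.2.1 y.2.2).elim
      refine ⟨htop (memA a (Or.inl rfl)) (memA b (Or.inr rfl)), Finset.eq_univ_of_forall fun y => ?_⟩
      rcases Finset.mem_union.1 (mem y.1) with h | h
      · have := hA h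
        simp only [Finset.mem_insert, Finset.mem_singleton] at this
        exact (this.elim y.2.1 y.2.2).elim
      · obtain ⟨z, hz, hzy⟩ := Finset.mem_map.1 h
        exact Subtype.ext (p := fun i => i ≠ a ∧ i ≠ b) hzy ▸ hz
  · rintro ⟨hli, hp⟩
    have hss := hiff.2 ⟨hli, fun t ht => (hp t ht).1⟩
    refine ⟨hss, fun L I hI hw => ?_⟩
    obtain ⟨t, ht⟩ := exists_coords (a := a) (b := b) s hli
    rcases q_to_p s θ hli t ht L I hI hab h0 h2 hθ with hneg | ⟨U, hU, hbot, htop, hline, hwt⟩
    · linarith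
    · have hle := ((hp t ht).1).2 U _ hU
      have e := pwt_eq (2 - θ a - θ b)⁻¹ ηP θP U (I.subtype fun i => i ≠ a ∧ i ≠ b)
      simp only [Matrix.cons_val_zero, Matrix.cons_val_one] at e
      rw [e] at hle
      have h3 := nonpos_of_mul_nonpos_right hle hc
      have ha0 : 0 < θ a := by linarith [h1 b]
      have hb0 : 0 < θ b := by linarith [h1 a]
      have p : 0 ≤ (if U 0 = ⊤ ∧ a ∉ I then θ a else 0) := by split <;> simp [h0 a]
      have q : 0 ≤ (if U 1 = ⊤ ∧ b ∉ I then θ b else 0) := by split <;> simp [h0 b]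
      rw [hw] at hwt
      have hp0 : PWt K ηP θP U (I.subtype fun i => i ≠ a ∧ i ≠ b) = 0 := by linarith
      have hA : ¬(U 0 = ⊤ ∧ a ∉ I) := fun h => by rw [if_pos h] at hwt; linarith
      have hB : ¬(U 1 = ⊤ ∧ b ∉ I) := fun h => by rw [if_pos h] at hwt; linarith
      rw [hp0, mul_zero] at e
      rcases (hp t ht).2 U _ hU e with ⟨hU0, hI0⟩ | ⟨hU1, hI1⟩
      · left
        have hLb : L = ⊥ := by
          by_contra hL
          by_cases hT : L = ⊤
          · exact top_ne_bot (congrFun ((htop hT).symm.trans hU0) 0)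
          · exact (hline hL hT).1 hU0
        refine ⟨hLb, Finset.eq_empty_of_forall_notMem fun x hx => ?_⟩
        obtain ⟨-, ha, hb⟩ := hbot hLb
        have hxa : x ≠ a := fun h => ha (h ▸ hx)
        have hxb : x ≠ b := fun h => hb (h ▸ hx)
        have : (⟨x, hxa, hxb⟩ : {i : κ // i ≠ a ∧ i ≠ b}) ∈ I.subtype _ :=
          Finset.mem_subtype.2 hx
        rw [hI0] at this
        exact Finset.notMem_empty _ this
      · right
        have hLt : L = ⊤ := by
          by_contra hL
          by_cases hB' : L = ⊥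
          · exact bot_ne_top (congrFun ((hbot hB').1.symm.trans hU1) 0)
          · exact (hline hB' hL).2 hU1
        refine ⟨hLt, Finset.eq_univ_of_forall fun x => ?_⟩
        by_cases hxa : x = a
        · subst hxa; exact not_not.1 fun h => hA ⟨by rw [hU1]; rfl, h⟩
        by_cases hxb : x = b
        · subst hxb; exact not_not.1 fun h => hB ⟨by rw [hU1]; rfl, h⟩
        have : (⟨x, hxa, hxb⟩ : {i : κ // i ≠ a ∧ i ≠ b}) ∈ I.subtype _ := by
          rw [hI1]; exact Finset.mem_univ _
        exact Finset.mem_subtype.1 this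

end Groth.Agent.H02CA.PtQ
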