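import Groth.Prelude.Def_TorSh
import Groth.Agent.H29Blow.WeakAssAffine
import Groth.Agent.H29Blow.QCohExt
import Groth.Agent.H06Mod.StalkFinite
import Groth.Agent.H11Tilde.ModLoc
import Groth.Agent.H10Coh.FinType2

/-!
# Torsion and torsion-free modules on integral schemes
-/

universe u

open CategoryTheory CategoryTheory.Limits AlgebraicGeometry TopologicalSpace

namespace Groth.Agent.H02CA.TorShBasic

variable {X : Scheme.{u}}

theorem germ_smul (M : X.Modules) {x : X} {U : X.Opens} (hx : x ∈ U) (r : Γ(X, U)) (m : Γ(M, U)) :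
    M.presheaf.germ U x hx (r • m) = X.presheaf.germ U x hx r • M.presheaf.germ U x hx m :=
  H06Mod.germ_smul M U hx r m

theorem generic_mem [IsIntegral X] {U : X.Opens} {x : X} (hx : x ∈ U) : genericPoint X ∈ U :=
  ((genericPoint_spec X).mem_open_set_iff U.2).2 ⟨x, trivial, hx⟩

theorem germ_ne_zero [IsIntegral X] {U : X.Opens} {x : X} (hx : x ∈ U) {a : Γ(X, U)} (ha : a ≠ 0) :
    X.presheaf.germ U x hx a ≠ 0 := fun h =>
  ha (germ_injective_of_isIntegral X x hx (h.trans (map_zero _).symm))

theorem eq_zero_of_germ (M : X.Modules) {U : X.Opens} (s : Γ(M, U))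
    (h : ∀ (x : X) (hx : x ∈ U), M.presheaf.germ U x hx s = 0) : s = 0 :=
  TopCat.Presheaf.section_ext ((SheafOfModules.toSheaf X.ringCatSheaf).obj M) U s 0 fun x hx => by
    show M.presheaf.germ U x hx s = M.presheaf.germ U x hx 0
    rw [h x hx, map_zero]

/-- Over an affine open: vanishing of a germ gives a non-zero annihilator. -/
theorem exists_annihilator [IsIntegral X] (F : X.Modules) (hF : Coh.IsQCoh F) {V : X.Opens}
    (hV : IsAffineOpen V) {x : X} (hx : x ∈ V) (s : Γ(F, V))
    (h : F.presheaf.germ V x hx s = 0) : ∃ c : Γ(X, V), c ≠ 0 ∧ c • s = 0 := by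
  obtain ⟨c, hc, hcs⟩ := H29Blow.exists_smul_eq_zero_of_germ F hF hV ⟨x, hx⟩ s h
  exact ⟨c, fun h0 => hc (h0 ▸ Ideal.zero_mem _), hcs⟩

theorem germ_eq_zero_of_annihilator [IsIntegral X] (F : X.Modules) {V : X.Opens} {x : X}
    (hx : x ∈ V) (htf : Module.IsTorsionFree (X.presheaf.stalk x) (F.presheaf.stalk x))
    {c : Γ(X, V)} (hc : c ≠ 0) {s : Γ(F, V)} (hcs : c • s = 0) :
    F.presheaf.germ V x hx s = 0 := by
  have h := congrArg (F.presheaf.germ V x hx) hcs
  rw [germ_smul, map_zero] at h
  exact (smul_eq_zero.1 h).resolve_left (germ_ne_zero hx hc)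

theorem torsion_tfae [IsIntegral X] (F : X.Modules) (hF : Coh.IsQCoh F) :
    List.TFAE [∀ (x : X) (s : F.presheaf.stalk x), ∃ a : X.presheaf.stalk x, a ≠ 0 ∧ a • s = 0,
      Subsingleton (F.presheaf.stalk (genericPoint X)),
      CohB1.support F ≠ Set.univ] := by
  tfae_have 1 → 2 := fun h => by
    refine subsingleton_of_forall_eq 0 fun s => ?_
    obtain ⟨a, ha, has⟩ := h _ s
    obtain ⟨b, hb⟩ : IsUnit (show X.functionField from a) :=
      IsUnit.mk0 (show X.functionField from a) ha
    have hb' : IsUnit a := ⟨b, hb⟩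
    exact hb'.smul_eq_zero.1 has
  tfae_have 2 → 1 := fun h x s => by
    obtain ⟨V, hV, hx, -⟩ :=
      exists_isAffineOpen_mem_and_subset (X := X) (x := x) (U := ⊤) trivial
    obtain ⟨t, u, ht⟩ := H29Blow.exists_germ_eq_smul F hF hV ⟨x, hx⟩ s
    obtain ⟨c, hc, hcs⟩ := exists_annihilator F hF hV (generic_mem hx) t (Subsingleton.elim _ _)
    refine ⟨X.presheaf.germ V x hx c, germ_ne_zero hx hc, ?_⟩
    have h0 := congrArg (F.presheaf.germ V x hx) hcs
    rw [germ_smul, map_zero] at h0
    rw [ht, smul_comm] at h0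
    exact u.isUnit.smul_eq_zero.1 h0
  tfae_have 2 → 3 := fun h hu => by
    have := hu ▸ Set.mem_univ (genericPoint X)
    exact this h
  tfae_have 3 → 2 := fun h => by
    obtain ⟨x, hx⟩ := (Set.ne_univ_iff_exists_notMem _).1 h
    have hsub : Subsingleton (F.presheaf.stalk x) := not_not.1 hx
    refine subsingleton_of_forall_eq 0 fun s => ?_
    obtain ⟨V, hV, hxV, -⟩ :=
      exists_isAffineOpen_mem_and_subset (X := X) (x := x) (U := ⊤) trivial
    obtain ⟨t, u, ht⟩ := H29Blow.exists_germ_eq_smul F hF hV ⟨_, generic_mem hxV⟩ s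
    obtain ⟨c, hc, hcs⟩ := exists_annihilator F hF hV hxV t (Subsingleton.elim _ _)
    have h0 := congrArg (F.presheaf.germ V _ (generic_mem hxV)) hcs
    rw [germ_smul, map_zero] at h0
    rw [ht, smul_smul] at h0
    have hne : X.presheaf.germ V _ (generic_mem hxV) c * (u : X.presheaf.stalk (genericPoint X)) ≠ 0 :=
      mul_ne_zero (germ_ne_zero _ hc) u.ne_zero
    obtain ⟨b, hb⟩ : IsUnit (show X.functionField from _) :=
      IsUnit.mk0 (show X.functionField from _) hne
    exact IsUnit.smul_eq_zero ⟨b, hb⟩ |>.1 h0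
  tfae_finish

/-- Torsion-freeness, tested on sections. -/
theorem isTorsionFree_of_sections [IsIntegral X] (M : X.Modules)
    (h : ∀ (U : X.Opens) (a : Γ(X, U)) (s : Γ(M, U)), a ≠ 0 → a • s = 0 → s = 0) :
    TorSh.IsTorsionFree M := by
  intro x
  refine Module.isTorsionFree_iff_smul_eq_zero.2 fun a m ham => ?_
  by_cases ha : a = 0
  · exact Or.inl ha
  right
  obtain ⟨U, hxU, s, rfl⟩ := M.presheaf.exists_germ_eq m
  obtain ⟨W, hxW, a', rfl⟩ := X.presheaf.exists_germ_eq a
  set O := U ⊓ W with hO
  have hxO : x ∈ O := ⟨hxU, hxW⟩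
  rw [← TopCat.Presheaf.germ_res_apply M.presheaf (homOfLE (inf_le_left : O ≤ U)) x hxO,
    ← TopCat.Presheaf.germ_res_apply X.presheaf (homOfLE (inf_le_right : O ≤ W)) x hxO] at ham
  rw [← TopCat.Presheaf.germ_res_apply X.presheaf (homOfLE (inf_le_right : O ≤ W)) x hxO] at ha
  rw [← TopCat.Presheaf.germ_res_apply M.presheaf (homOfLE (inf_le_left : O ≤ U)) x hxO]
  set a₀ := X.presheaf.map (homOfLE (inf_le_right : O ≤ W)).op a'
  set s₀ := M.presheaf.map (homOfLE (inf_le_left : O ≤ U)).op s
  rw [← germ_smul] at ham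
  obtain ⟨V, hxV, i, j, hV⟩ := M.presheaf.germ_eq x hxO hxO _ _ (ham.trans (map_zero _).symm)
  rw [map_zero] at hV
  have hs := h V (X.presheaf.map i.op a₀) (M.presheaf.map i.op s₀) (fun h0 => ha (by
      rw [← TopCat.Presheaf.germ_res_apply X.presheaf i x hxV, h0, map_zero]))
    ((Scheme.Modules.map_smul M i a₀ s₀).symm.trans hV)
  rw [← TopCat.Presheaf.germ_res_apply M.presheaf i x hxV, hs, map_zero]

theorem isTorsionFree_pushforward {Y : Scheme.{u}} [IsIntegral X] [IsIntegral Y] (f : X ⟶ Y)
    [IsDominant f] (F : X.Modules) (hF : TorSh.IsTorsionFree F) :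
    TorSh.IsTorsionFree ((Scheme.Modules.pushforward f).obj F) := by
  refine isTorsionFree_of_sections _ fun U a s ha has => ?_
  refine eq_zero_of_germ F (U := f ⁻¹ᵁ U) s fun x hx => ?_
  have hfa : f.app U a ≠ 0 := by
    intro h0
    have hne : Y.basicOpen a ≠ ⊥ := fun hb => ha ((basicOpen_eq_bot_iff a).1 hb)
    have hemp : f ⁻¹ᵁ (Y.basicOpen a) = ⊥ := by
      rw [Scheme.preimage_basicOpen, h0]
      exact Scheme.basicOpen_zero _ _
    obtain ⟨y, hy⟩ : ((Y.basicOpen a : Set Y)).Nonempty := by
      exact (Opens.ne_bot_iff_nonempty _).1 hne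
    obtain ⟨z, hz⟩ := f.denseRange.exists_mem_open (Y.basicOpen a).2 ⟨y, hy⟩
    have : z ∈ f ⁻¹ᵁ (Y.basicOpen a) := hz
    rw [hemp] at this
    exact this
  exact germ_eq_zero_of_annihilator F hx (hF x) hfa has

section RatFun

variable (X) [IsIntegral X]

local notation "jξ" => X.fromSpecStalk (genericPoint X)
set_option quotPrecheck false in
local notation "Krat" => (Scheme.Modules.pushforward jξ).obj
  (Coh.structureModule (Spec (X.presheaf.stalk (genericPoint X))))

variable {X}

/-- The constant section attached to an element of the function field. -/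
noncomputable def cst (U : X.Opens) (a : X.presheaf.stalk (genericPoint X)) :
    Γ(Spec (X.presheaf.stalk (genericPoint X)), jξ ⁻¹ᵁ U) :=
  (Spec (X.presheaf.stalk (genericPoint X))).presheaf.map (homOfLE le_top).op
    ((Scheme.ΓSpecIso (X.presheaf.stalk (genericPoint X))).inv a)

theorem app_eq_cst {U : X.Opens} (h : genericPoint X ∈ U) (r : Γ(X, U)) :
    Scheme.Hom.app jξ U r = cst U (X.presheaf.germ U _ h r) := by
  rw [Scheme.fromSpecStalk_app h]
  rfl

theorem cst_mul (U : X.Opens) (a b : X.presheaf.stalk (genericPoint X)) :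
    cst U (a * b) = cst U a * cst U b := by simp [cst]

theorem cst_add (U : X.Opens) (a b : X.presheaf.stalk (genericPoint X)) :
    cst U (a + b) = cst U a + cst U b := by simp [cst]

theorem cst_zero (U : X.Opens) : cst (X := X) U 0 = 0 := by simp [cst]

theorem cst_res {U V : X.Opens} (h : V ≤ U) (a : X.presheaf.stalk (genericPoint X)) :
    (Spec (X.presheaf.stalk (genericPoint X))).presheaf.map
      ((Opens.map (jξ).base).map (homOfLE h)).op (cst U a) = cst V a := by
  simp only [cst, ← ConcreteCategory.comp_apply, ← Functor.map_comp]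
  rfl

theorem preimage_eq_top {U : X.Opens} (h : genericPoint X ∈ U) : jξ ⁻¹ᵁ U = ⊤ := by
  refine Opens.ext (Set.eq_univ_of_forall fun y => ?_)
  have hy : jξ y ⤳ genericPoint X :=
    (Scheme.range_fromSpecStalk (X := X) (x := genericPoint X)).le ⟨y, rfl⟩
  exact hy.mem_open U.2 h

theorem preimage_eq_bot {U : X.Opens} (h : genericPoint X ∉ U) : jξ ⁻¹ᵁ U = ⊥ := by
  refine Opens.ext (Set.eq_empty_of_forall_notMem fun y hy => h (generic_mem (x := jξ y) hy))

theorem eq_zero_of_not_mem {U : X.Opens} (h : genericPoint X ∉ U)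
    (t : Γ(Spec (X.presheaf.stalk (genericPoint X)), jξ ⁻¹ᵁ U)) : t = 0 := by
  refine eq_zero_of_germ (Coh.structureModule _) (U := jξ ⁻¹ᵁ U) t fun y hy => ?_
  rw [preimage_eq_bot h] at hy
  exact hy.elim

theorem cst_bijective {U : X.Opens} (h : genericPoint X ∈ U) :
    Function.Bijective (cst (X := X) U) := by
  haveI : IsIso (homOfLE (le_top : jξ ⁻¹ᵁ U ≤ ⊤)) :=
    ⟨homOfLE (preimage_eq_top h).ge, Subsingleton.elim _ _, Subsingleton.elim _ _⟩
  exact (ConcreteCategory.bijective_of_isIso
    ((Scheme.ΓSpecIso (X.presheaf.stalk (genericPoint X))).inv ≫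
      (Spec (X.presheaf.stalk (genericPoint X))).presheaf.map (homOfLE le_top).op))

open Classical in
/-- The map into rational functions attached to a functional on the generic stalk. -/
noncomputable def toRatApp (F : X.Modules)
    (φ : F.presheaf.stalk (genericPoint X) →ₗ[X.presheaf.stalk (genericPoint X)]
      X.presheaf.stalk (genericPoint X)) (U : X.Opens) (s : Γ(F, U)) :
    Γ(Spec (X.presheaf.stalk (genericPoint X)), jξ ⁻¹ᵁ U) :=
  if h : genericPoint X ∈ U then cst U (φ (F.presheaf.germ U _ h s)) else 0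

theorem toRatApp_mem (F : X.Modules) (φ) {U : X.Opens} (h : genericPoint X ∈ U) (s : Γ(F, U)) :
    toRatApp F φ U s = cst U (φ (F.presheaf.germ U _ h s)) := dif_pos h

/-- The morphism into rational functions attached to a functional on the generic stalk. -/
noncomputable def toRat (F : X.Modules)
    (φ : F.presheaf.stalk (genericPoint X) →ₗ[X.presheaf.stalk (genericPoint X)]
      X.presheaf.stalk (genericPoint X)) : F ⟶ Krat :=
  ⟨PresheafOfModules.homMk
    { app := fun U => AddCommGrpCat.ofHom (AddMonoidHom.mk' (toRatApp F φ U.unop) (fun s t => by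
        by_cases h : genericPoint X ∈ U.unop
        · refine (toRatApp_mem F φ h _).trans ?_
          rw [show F.presheaf.germ U.unop _ h (s + t) = F.presheaf.germ U.unop _ h s +
            F.presheaf.germ U.unop _ h t from map_add _ s t, map_add, cst_add]
          exact (congrArg₂ (· + ·) (toRatApp_mem F φ h s) (toRatApp_mem F φ h t)).symm
        · exact (eq_zero_of_not_mem h _).trans (eq_zero_of_not_mem h _).symm))
      naturality := fun U V i => by
        ext s
        show toRatApp F φ V.unop (F.presheaf.map i s) =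
          (Spec (X.presheaf.stalk (genericPoint X))).presheaf.map
            ((Opens.map (jξ).base).map i.unop).op (toRatApp F φ U.unop s)
        by_cases h : genericPoint X ∈ V.unop
        · refine (toRatApp_mem F φ h _).trans (Eq.trans ?_ (congrArg _
            (toRatApp_mem F φ (leOfHom i.unop h) s)).symm)
          refine Eq.trans ?_ (cst_res (leOfHom i.unop) _).symm
          exact congrArg (fun m => cst V.unop (φ m))
            (TopCat.Presheaf.germ_res_apply F.presheaf i.unop _ h s)
        · exact (eq_zero_of_not_mem h _).trans (eq_zero_of_not_mem h _).symm }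
    fun U r s => by
      show toRatApp F φ U.unop (r • s) = Scheme.Hom.app jξ U.unop r * toRatApp F φ U.unop s
      by_cases h : genericPoint X ∈ U.unop
      · refine (toRatApp_mem F φ h _).trans ?_
        refine Eq.trans ?_ (congrArg₂ (· * ·) (app_eq_cst h r) (toRatApp_mem F φ h s)).symm
        refine Eq.trans ?_ (cst_mul _ _ _)
        exact congrArg _ ((congrArg φ (germ_smul F h r s)).trans (map_smul φ _ _))
      · exact (eq_zero_of_not_mem h _).trans (eq_zero_of_not_mem h _).symm⟩

theorem toRat_app (F : X.Modules) (φ) (U : X.Opens) (s : Γ(F, U)) :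
    (toRat F φ).app U s = toRatApp F φ U s := rfl

/-- Values of a map into rational functions, read in the structure sheaf of the field. -/
noncomputable def appR {G : X.Modules} (i : G ⟶ Krat) (U : X.Opens) (s : Γ(G, U)) :
    Γ(Spec (X.presheaf.stalk (genericPoint X)), jξ ⁻¹ᵁ U) := i.app U s

theorem appR_zero {G : X.Modules} (i : G ⟶ Krat) (U : X.Opens) : appR i U 0 = 0 :=
  map_zero (i.app U).hom

theorem appR_smul {G : X.Modules} (i : G ⟶ Krat) (U : X.Opens) (r : Γ(X, U)) (s : Γ(G, U)) :
    appR i U (r • s) = Scheme.Hom.app jξ U r * appR i U s :=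
  Scheme.Modules.Hom.app_smul i r s

theorem appR_res {G : X.Modules} (i : G ⟶ Krat) {U V : X.Opens} (h : V ≤ U) (s : Γ(G, U)) :
    appR i V (G.presheaf.map (homOfLE h).op s) =
      (Spec (X.presheaf.stalk (genericPoint X))).presheaf.map
        ((Opens.map (jξ).base).map (homOfLE h)).op (appR i U s) :=
  H11Tilde.app_map_apply i h s

theorem appR_injective {G : X.Modules} (i : G ⟶ Krat) [Mono i] (U : X.Opens) :
    Function.Injective (appR i U) := H10Coh.injective_app_of_mono' i U

theorem exists_mono (F : X.Modules) (hqc : Coh.IsQCoh F) (hF : TorSh.IsTorsionFree F)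
    (h1 : Module.finrank (X.presheaf.stalk (genericPoint X)) (F.presheaf.stalk (genericPoint X)) = 1) :
    ∃ i : F ⟶ Krat, Mono i := by
  haveI := hF (genericPoint X)
  letI : Field (X.presheaf.stalk (genericPoint X)) := inferInstanceAs (Field X.functionField)
  obtain ⟨v, hv, hspan⟩ := finrank_eq_one_iff'.1 h1
  have hbij : Function.Bijective (LinearMap.toSpanSingleton (X.presheaf.stalk (genericPoint X)) _ v) :=
    ⟨smul_left_injective _ hv, hspan⟩
  let e := LinearEquiv.ofBijective _ hbij
  refine ⟨toRat F e.symm.toLinearMap, H11Tilde.mono_of_injective _ fun W s hs x hx => ?_⟩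
  have h := generic_mem hx
  have h0 : cst W (e.symm (F.presheaf.germ W _ h s)) = cst W 0 :=
    ((toRatApp_mem F e.symm.toLinearMap h s).symm.trans hs).trans (cst_zero W).symm
  have hg : F.presheaf.germ W _ h s = 0 :=
    e.symm.injective (((cst_bijective h).1 h0).trans (map_zero e.symm).symm)
  obtain ⟨V, hV, hxV, hVW⟩ := exists_isAffineOpen_mem_and_subset (X := X) hx
  refine ⟨V, hVW, hxV, eq_zero_of_germ F _ fun y hy => ?_⟩
  obtain ⟨c, hc, hcs⟩ := exists_annihilator F hqc hV (generic_mem hxV)
    (F.presheaf.map (homOfLE (show V ≤ W from hVW)).op s)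
    ((TopCat.Presheaf.germ_res_apply F.presheaf (homOfLE (show V ≤ W from hVW)) _ _ s).trans hg)
  exact germ_eq_zero_of_annihilator F hy (hF y) hc hcs

theorem ratFun_props (G : X.Modules) (i : G ⟶ Krat) [Mono i] (hG : ¬ IsZero G) :
    TorSh.IsTorsionFree G ∧
      Module.finrank (X.presheaf.stalk (genericPoint X)) (G.presheaf.stalk (genericPoint X)) = 1 := by
  letI : Field (X.presheaf.stalk (genericPoint X)) := inferInstanceAs (Field X.functionField)
  have hinj := appR_injective i
  have hval : ∀ {U : X.Opens} (h : genericPoint X ∈ U) (s : Γ(G, U)), ∃ a, appR i U s = cst U a :=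
    fun h s => ((cst_bijective h).2 (appR i _ s)).imp fun _ e => e.symm
  have hsm : ∀ {U : X.Opens} (h : genericPoint X ∈ U) (r : Γ(X, U)) (s : Γ(G, U)) a,
      appR i U s = cst U a → appR i U (r • s) = cst U (X.presheaf.germ U _ h r * a) := by
    intro U h r s a ha
    rw [appR_smul, app_eq_cst h, cst_mul, ha]
  have hzero : ∀ {U : X.Opens}, genericPoint X ∉ U → ∀ s : Γ(G, U), s = 0 := fun h s =>
    hinj _ ((eq_zero_of_not_mem h _).trans (eq_zero_of_not_mem h _).symm)
  have htf : TorSh.IsTorsionFree G := by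
    refine isTorsionFree_of_sections G fun U a s ha has => ?_
    by_cases h : genericPoint X ∈ U
    swap
    · exact hzero h s
    obtain ⟨b, hb⟩ := hval h s
    have hb0 := hsm h a s b hb
    rw [has, appR_zero, ← cst_zero U] at hb0
    have := (mul_eq_zero.1 ((cst_bijective h).1 hb0).symm).resolve_left (germ_ne_zero h ha)
    rw [this, cst_zero] at hb
    exact hinj U (hb.trans (appR_zero i U).symm)
  refine ⟨htf, ?_⟩
  haveI := htf (genericPoint X)
  -- a non-zero germ at the generic point
  obtain ⟨U, h, v, b, hb, hb0⟩ : ∃ (U : X.Opens) (_ : genericPoint X ∈ U) (v : Γ(G, U))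
      (b : X.presheaf.stalk (genericPoint X)), appR i U v = cst U b ∧ b ≠ 0 := by
    by_contra! hc
    refine hG ((IsZero.iff_id_eq_zero G).2 (Scheme.Modules.hom_ext _ _ fun U => ?_))
    ext s
    show s = 0
    by_cases h : genericPoint X ∈ U
    · obtain ⟨b, hb⟩ := hval h s
      rw [hc U h s b hb, cst_zero] at hb
      exact hinj U (hb.trans (appR_zero i U).symm)
    · exact hzero h s
  have hv : G.presheaf.germ U _ h v ≠ 0 := by
    intro h0
    obtain ⟨W, hW, k, l, hkl⟩ := G.presheaf.germ_eq _ h h v 0 (h0.trans (map_zero _).symm)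
    rw [map_zero] at hkl
    have hkl' : G.presheaf.map (homOfLE (leOfHom k)).op v = 0 := hkl
    have := congrArg (appR i W) hkl'
    rw [appR_zero, appR_res, hb, cst_res (leOfHom k) b, ← cst_zero W] at this
    exact hb0 ((cst_bijective hW).1 this)
  refine finrank_eq_one _ hv fun w => ?_
  obtain ⟨W, hW, w, rfl⟩ := G.presheaf.exists_germ_eq w
  obtain ⟨c, hc⟩ := hval hW w
  refine ⟨c / b, ?_⟩
  obtain ⟨R, hR, r, hr⟩ := X.presheaf.exists_germ_eq (c / b)
  let O := (U ⊓ W) ⊓ R
  have hO : genericPoint X ∈ O := ⟨⟨h, hW⟩, hR⟩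
  have hOU : O ≤ U := inf_le_left.trans inf_le_left
  have hOW : O ≤ W := inf_le_left.trans inf_le_right
  have hOR : O ≤ R := inf_le_right
  have hvO : appR i O (G.presheaf.map (homOfLE hOU).op v) = cst O b := by
    rw [appR_res, hb, cst_res hOU b]
  have hwO : appR i O (G.presheaf.map (homOfLE hOW).op w) = cst O c := by
    rw [appR_res, hc, cst_res hOW c]
  have key : X.presheaf.map (homOfLE hOR).op r • G.presheaf.map (homOfLE hOU).op v =
      G.presheaf.map (homOfLE hOW).op w := by
    refine hinj O ?_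
    rw [hsm hO _ _ b hvO, hwO, TopCat.Presheaf.germ_res_apply, hr, div_mul_cancel₀ c hb0]
  have := congrArg (G.presheaf.germ O _ hO) key
  rw [germ_smul, TopCat.Presheaf.germ_res_apply, TopCat.Presheaf.germ_res_apply,
    TopCat.Presheaf.germ_res_apply, hr] at this
  exact this

end RatFun

end Groth.Agent.H02CA.TorShBasic
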