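import Groth.Agent.H05EGA4.FlatRegular
import Groth.Agent.H8Props.FlatLocus.Scheme
import Mathlib.RingTheory.ZariskisMainTheorem
import Mathlib.RingTheory.Jacobson.Artinian
import Mathlib.RingTheory.Jacobson.Ring
import Mathlib.RingTheory.LocalRing.ResidueField.Fiber
import Mathlib.RingTheory.Ideal.AssociatedPrime.Finiteness
import Mathlib.RingTheory.Finiteness.FinitePresentationLocal
import Mathlib.RingTheory.Spectrum.Prime.Chevalley
import Mathlib.RingTheory.Flat.FaithfullyFlat.Algebra
import Mathlib.RingTheory.LocalProperties.Basic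

/-!
# Quasi-finite flat slices of flat algebras of finite type over Noetherian rings
-/

set_option autoImplicit false
universe u

open TensorProduct RingTheory.Sequence IsLocalRing

namespace Groth.Agent.H02CA.Slice

/-- In a finite type algebra over a field, units times elements of the image give a sequence regular
modulo each initial part, with finite nonzero quotient. -/
theorem exists_regular_seq (k F : Type u) [Field k] [CommRing F] [Nontrivial F] [Algebra k F]
    [Algebra.FiniteType k F] {S : Type u} [CommRing S] (g : S →+* F)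
    (hg : ∀ x : F, ∃ v : F, IsUnit v ∧ ∃ s, g s = v * x) :
    ∃ fs : List S, Ideal.ofList (fs.map g) ≠ ⊤ ∧
      (∀ i (h : i < fs.length), ∀ x : F, x * g fs[i] ∈ Ideal.ofList ((fs.map g).take i) →
        x ∈ Ideal.ofList ((fs.map g).take i)) ∧
      Module.Finite k (F ⧸ Ideal.ofList (fs.map g)) := by
  have : IsNoetherianRing F := Algebra.FiniteType.isNoetherianRing k F
  have : IsJacobsonRing F := isJacobsonRing_of_finiteType (A := k)
  suffices ∀ J : Ideal F, ∀ fs : List S, Ideal.ofList (fs.map g) = J → J ≠ ⊤ →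
      (∀ i (h : i < fs.length), ∀ x : F, x * g fs[i] ∈ Ideal.ofList ((fs.map g).take i) →
        x ∈ Ideal.ofList ((fs.map g).take i)) →
      ∃ fs : List S, Ideal.ofList (fs.map g) ≠ ⊤ ∧
        (∀ i (h : i < fs.length), ∀ x : F, x * g fs[i] ∈ Ideal.ofList ((fs.map g).take i) →
          x ∈ Ideal.ofList ((fs.map g).take i)) ∧
        Module.Finite k (F ⧸ Ideal.ofList (fs.map g)) from
    this ⊥ [] (by simp) bot_ne_top (fun i h => by simp at h)
  intro J
  induction J using IsNoetherian.induction with
  | hgt J ih =>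
    intro fs hfs hJ hreg
    by_cases hdim : ∀ P : Ideal F, P.IsPrime → J ≤ P → P.IsMaximal
    · refine ⟨fs, hfs ▸ hJ, hreg, ?_⟩
      rw [hfs]
      have : Nontrivial (F ⧸ J) := Ideal.Quotient.nontrivial_iff.mpr hJ
      have : Ring.KrullDimLE 0 (F ⧸ J) := Ring.krullDimLE_zero_iff.mpr fun P hP => by
        have hmax := hdim (P.comap (Ideal.Quotient.mk J)) inferInstance (by
          intro x hx
          simp [Ideal.mem_comap, Ideal.Quotient.eq_zero_iff_mem.mpr hx])
        have := (Ideal.map_eq_top_or_isMaximal_of_surjective (Ideal.Quotient.mk J)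
          Ideal.Quotient.mk_surjective hmax).resolve_left
        rw [Ideal.map_comap_of_surjective _ Ideal.Quotient.mk_surjective] at this
        exact this hP.ne_top
      exact (Module.finite_iff_isArtinianRing (R := k) (A := F ⧸ J)).mpr
        (isArtinianRing_iff_isNoetherianRing_krullDimLE_zero.mpr ⟨inferInstance, inferInstance⟩)
    · push Not at hdim
      obtain ⟨P, hP, hJP, hPmax⟩ := hdim
      have hinf : ¬ {m : Ideal F | P ≤ m ∧ m.IsMaximal}.Finite := by
        intro hfin
        have hle : hfin.toFinset.inf id ≤ P := by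
          conv_rhs => rw [← IsJacobsonRing.out ‹IsJacobsonRing F› hP.isRadical]
          exact le_sInf fun m hm => Finset.inf_le (f := id) (hfin.mem_toFinset.mpr hm)
        obtain ⟨m, hm, hmP⟩ := (Ideal.IsPrime.inf_le' hP).mp hle
        obtain ⟨hPm, hmmax⟩ := hfin.mem_toFinset.mp hm
        exact hPmax (le_antisymm hmP hPm ▸ hmmax)
      obtain ⟨m, ⟨hPm, hmmax⟩, hmass⟩ :=
        (Set.not_subset).mp fun h => hinf ((associatedPrimes.finite F (F ⧸ J)).subset h)
      have hnot : ¬ (m : Set F) ⊆ ⋃ Q ∈ associatedPrimes F (F ⧸ J), (Q : Set F) := by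
        intro h
        obtain ⟨Q, hQ, hle⟩ := (Ideal.subset_union_prime_finite (associatedPrimes.finite F (F ⧸ J))
          (f := id) ⊥ ⊥ (fun Q hQ _ _ => hQ.isPrime)).mp h
        exact hmass (hmmax.eq_of_le hQ.isPrime.ne_top hle ▸ hQ)
      obtain ⟨f₀, hf₀m, hf₀⟩ := Set.not_subset.mp hnot
      rw [biUnion_associatedPrimes_eq_zero_divisors] at hf₀
      obtain ⟨v, hv, s, hs⟩ := hg f₀
      have hreg' : ∀ x : F, x * g s ∈ J → x ∈ J := by
        intro x hx
        by_contra hxJ
        refine hf₀ ⟨Submodule.Quotient.mk x, ?_, ?_⟩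
        · rwa [ne_eq, Submodule.Quotient.mk_eq_zero]
        · rw [← Submodule.Quotient.mk_smul, Submodule.Quotient.mk_eq_zero, smul_eq_mul]
          rw [hs] at hx
          rwa [mul_left_comm, Ideal.unit_mul_mem_iff_mem J hv, mul_comm] at hx
      have hnotJ : g s ∉ J := fun h => hJ ((Ideal.eq_top_iff_one J).mpr (hreg' 1 (by rwa [one_mul])))
      have hJ' : Ideal.ofList ((fs ++ [s]).map g) = J ⊔ Ideal.span {g s} := by
        rw [List.map_append, Ideal.ofList_append, hfs]
        simp
      refine ih (J ⊔ Ideal.span {g s}) (Submodule.lt_sup_iff_notMem.2 hnotJ) (fs ++ [s]) hJ' ?_ ?_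
      · refine fun h => hmmax.ne_top (top_le_iff.mp (h ▸ sup_le (hJP.trans hPm) ?_))
        rw [Ideal.span_le, Set.singleton_subset_iff, SetLike.mem_coe, hs]
        exact m.mul_mem_left v hf₀m
      · intro i hi x hx
        rw [List.length_append, List.length_singleton] at hi
        rcases Nat.lt_succ_iff_lt_or_eq.mp hi with hi' | rfl
        · rw [List.getElem_append_left hi', List.map_append,
            List.take_append_of_le_length (by simp; omega)] at hx
          rw [List.map_append, List.take_append_of_le_length (by simp; omega)]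
          exact hreg i hi' x hx
        · rw [List.getElem_append_right (le_refl _), List.map_append,
            List.take_append_of_le_length (by simp), List.take_of_length_le (by simp), hfs] at hx
          rw [List.map_append, List.take_append_of_le_length (by simp),
            List.take_of_length_le (by simp), hfs]
          exact hreg' x (by simpa using hx)

variable {R S : Type u} [CommRing R] [CommRing S] [Algebra R S]

/-- Contraction of extended ideals from a fibre. -/
theorem fiber_mem_map_iff (p : Ideal R) [p.IsPrime] (I : Ideal S) (a : S) :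
    ((1 : p.ResidueField) ⊗ₜ[R] a : p.Fiber S) ∈
        I.map (Algebra.TensorProduct.includeRight : S →ₐ[R] p.Fiber S).toRingHom ↔
      ∃ r ∉ p, algebraMap R S r * a ∈ I ⊔ p.map (algebraMap R S) := by
  let _ : Algebra S (p.Fiber S) := Algebra.TensorProduct.rightAlgebra
  let Sp := Localization (Algebra.algebraMapSubmonoid S p.primeCompl)
  let pS := p.map (algebraMap R S)
  let e : p.Fiber S ≃ₐ[S] Sp ⧸ pS.map (algebraMap S Sp) := Ideal.Fiber.algEquivAux₁ p
  have he : ∀ b, e ((1 : p.ResidueField) ⊗ₜ[R] b) = Ideal.Quotient.mk _ (algebraMap S Sp b) :=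
    fun b => e.commutes b
  have hmap : (I.map (Algebra.TensorProduct.includeRight : S →ₐ[R] p.Fiber S).toRingHom).map
      e.toRingEquiv.toRingHom =
      (I.map (algebraMap S Sp)).map (Ideal.Quotient.mk (pS.map (algebraMap S Sp))) := by
    exact (Ideal.map_map _ _).trans
      ((congrArg (fun φ => Ideal.map φ I) (RingHom.ext he)).trans (Ideal.map_map _ _).symm)
  rw [← Ideal.apply_mem_of_equiv_iff (f := e.toRingEquiv)]
  change e ((1 : p.ResidueField) ⊗ₜ[R] a) ∈ Ideal.map e.toRingEquiv.toRingHom _ ↔ _
  rw [hmap, he, Ideal.mem_quotient_iff_mem_sup, ← Ideal.map_sup,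
    IsLocalization.algebraMap_mem_map_algebraMap_iff (Algebra.algebraMapSubmonoid S p.primeCompl)]
  constructor
  · rintro ⟨_, ⟨r, hr, rfl⟩, h⟩
    exact ⟨r, hr, h⟩
  · rintro ⟨r, hr, h⟩
    exact ⟨_, ⟨r, hr, rfl⟩, h⟩

theorem ofList_map {A B : Type u} [CommRing A] [CommRing B] (φ : A →+* B) (l : List A) :
    (Ideal.ofList l).map φ = Ideal.ofList (l.map φ) := Ideal.map_ofList φ l

theorem weaklyRegular_quot_iff {B : Type u} [CommRing B] (J : Ideal B) (rs : List B) :
    IsWeaklyRegular (B ⧸ J • (⊤ : Submodule B B)) rs ↔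
      ∀ i (h : i < rs.length), ∀ x, x * rs[i] ∈ J ⊔ Ideal.ofList (rs.take i) →
        x ∈ J ⊔ Ideal.ofList (rs.take i) := by
  rw [isWeaklyRegular_iff]
  refine forall₂_congr fun i h => ?_
  have htop : (J • ⊤ : Submodule B B) = J := by simp
  have key : ∀ x : B, (Submodule.Quotient.mk x : B ⧸ J • (⊤ : Submodule B B)) ∈
      (Ideal.ofList (rs.take i) • ⊤ : Submodule B (B ⧸ J • (⊤ : Submodule B B))) ↔
        x ∈ J ⊔ Ideal.ofList (rs.take i) := by
    intro x
    have : (Ideal.ofList (rs.take i) • ⊤ : Submodule B (B ⧸ J • (⊤ : Submodule B B))) =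
        Submodule.map (J • (⊤ : Submodule B B)).mkQ (Ideal.ofList (rs.take i) • ⊤) := by
      rw [Submodule.map_smul'', Submodule.map_top, Submodule.range_mkQ]
    rw [this, ← Submodule.mkQ_apply, ← Submodule.mem_comap, Submodule.comap_map_mkQ, htop]
    simp
  rw [isSMulRegular_iff_right_eq_zero_of_smul]
  constructor
  · intro H x hx
    rw [← key, ← Submodule.Quotient.mk_eq_zero]
    refine H _ ?_
    rw [← Submodule.Quotient.mk_smul, Submodule.Quotient.mk_eq_zero, ← Submodule.Quotient.mk_smul,
      key, smul_eq_mul, mul_comm]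
    exact hx
  · intro H y hy
    obtain ⟨y, rfl⟩ := Submodule.Quotient.mk_surjective _ y
    obtain ⟨x, rfl⟩ := Submodule.Quotient.mk_surjective _ y
    rw [← Submodule.Quotient.mk_smul, Submodule.Quotient.mk_eq_zero, ← Submodule.Quotient.mk_smul,
      key, smul_eq_mul, mul_comm] at hy
    rw [Submodule.Quotient.mk_eq_zero, key]
    exact H x hy

set_option maxHeartbeats 800000 in
/-- A quasi-finite flat slice through a given point of the base. -/
theorem exists_slice [IsNoetherianRing R] [Algebra.FinitePresentation R S] [Module.FaithfullyFlat R S]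
    (p : Ideal R) [p.IsPrime] :
    ∃ (C : Type u) (_ : CommRing C) (_ : Algebra R C), Algebra.FinitePresentation R C ∧
      Algebra.QuasiFinite R C ∧ Module.Flat R C ∧ Nonempty (S →ₐ[R] C) ∧
      ∃ q : PrimeSpectrum C, q.comap (algebraMap R C) = ⟨p, inferInstance⟩ := by
  have : Algebra.FiniteType R S := inferInstance
  have : IsNoetherianRing S := Algebra.FiniteType.isNoetherianRing R S
  obtain ⟨q₀, hq₀⟩ := PrimeSpectrum.comap_surjective_of_faithfullyFlat (A := R) (B := S) ⟨p, inferInstance⟩
  have : Nontrivial (p.Fiber S) :=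
    ⟨⟨0, 1, fun h => (PrimeSpectrum.preimageEquivFiber R S ⟨p, inferInstance⟩ ⟨q₀, hq₀⟩).isPrime.ne_top
      ((Ideal.eq_top_iff_one _).mpr (h ▸ Ideal.zero_mem _))⟩⟩
  let ι : S →ₐ[R] p.Fiber S := Algebra.TensorProduct.includeRight
  obtain ⟨fs, hne, hreg, hfin⟩ := exists_regular_seq p.ResidueField (p.Fiber S) ι.toRingHom fun x => by
    obtain ⟨r, hr, s, hs⟩ := Ideal.Fiber.exists_smul_eq_one_tmul p x
    refine ⟨algebraMap R _ r, ?_, s, ?_⟩
    · rw [IsScalarTower.algebraMap_apply R p.ResidueField]
      exact (isUnit_iff_ne_zero.mpr fun h => hr (by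
        rwa [Ideal.algebraMap_residueField_eq_zero] at h)).map _
    · rw [← Algebra.smul_def, hs]
      rfl
  obtain ⟨q, hq, hle⟩ := Ideal.exists_le_maximal _ hne
  let Q : Ideal S := q.comap ι.toRingHom
  have hQp : Q.LiesOver p := ⟨by
    rw [Ideal.under, Ideal.comap_comap, AlgHom.toRingHom_eq_coe, AlgHom.comp_algebraMap]
    exact q.over_def p⟩
  let I : Ideal S := Ideal.ofList fs
  have hIQ : I ≤ Q := by
    rw [← Ideal.map_le_iff_le_comap, ofList_map]
    exact hle
  -- flatness at `Q`
  let Rp := Localization.AtPrime p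
  let SQ := Localization.AtPrime Q
  let _ : Algebra Rp SQ := Localization.AtPrime.algebraOfLiesOver p Q
  have : IsScalarTower R Rp SQ := inferInstance
  have : IsLocalHom (algebraMap Rp SQ) := inferInstance
  have : Module.Flat Rp SQ := (Module.flat_iff_of_isLocalization Rp p.primeCompl SQ).mpr inferInstance
  have hmax : (maximalIdeal Rp).map (algebraMap Rp SQ) =
      (p.map (algebraMap R S)).map (algebraMap S SQ) := by
    rw [← Localization.AtPrime.map_eq_maximalIdeal, Ideal.map_map, Ideal.map_map,
      ← IsScalarTower.algebraMap_eq, ← IsScalarTower.algebraMap_eq]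
  have hregQ : IsWeaklyRegular (SQ ⧸ ((maximalIdeal Rp).map (algebraMap Rp SQ) • (⊤ : Submodule SQ SQ)))
      (fs.map (algebraMap S SQ)) := by
    rw [weaklyRegular_quot_iff]
    intro i hi x hx
    rw [List.length_map] at hi
    rw [List.getElem_map, ← List.map_take, ← ofList_map, hmax, ← Ideal.map_sup] at hx
    rw [← List.map_take, ← ofList_map, hmax, ← Ideal.map_sup]
    obtain ⟨a, ⟨t, ht⟩, rfl⟩ := IsLocalization.exists_mk'_eq Q.primeCompl x
    rw [mul_comm, IsLocalization.mul_mk'_eq_mk'_of_mul, IsLocalization.mk'_mem_map_algebraMap_iff] at hx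
    obtain ⟨c, hc, hmem⟩ := hx
    rw [IsLocalization.mk'_mem_map_algebraMap_iff]
    have h1 : ι.toRingHom (c * (fs[i] * a)) ∈ (Ideal.ofList (fs.take i)).map ι.toRingHom :=
      (fiber_mem_map_iff p _ _).mpr ⟨1, fun h => Ideal.IsPrime.ne_top ‹_› (p.eq_top_iff_one.mpr h),
        by rwa [map_one, one_mul, sup_comm]⟩
    rw [ofList_map, List.map_take, mul_left_comm, mul_comm, map_mul] at h1
    have h2 := hreg i hi _ h1
    rw [← List.map_take, ← ofList_map] at h2
    obtain ⟨r, hr, hmem'⟩ := (fiber_mem_map_iff p _ _).mp h2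
    refine ⟨algebraMap R S r * c, Q.primeCompl.mul_mem ?_ hc, ?_⟩
    · intro h
      apply hr
      rw [hQp.over]
      exact h
    · rwa [mul_assoc, sup_comm]
  obtain ⟨-, hflat⟩ := H05EGA4.isWeaklyRegular_and_flat_of_fibre (A := Rp) (fs.map (algebraMap S SQ))
    SQ hregQ
  have hflatQ : Module.Flat R (SQ ⧸ I.map (algebraMap S SQ)) := by
    have h1 := hflat _ le_rfl
    rw [List.take_length] at h1
    have heq : (Ideal.ofList (fs.map (algebraMap S SQ)) • ⊤ : Submodule SQ SQ) =
        I.map (algebraMap S SQ) := by simp [I, ofList_map]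
    have : Module.Flat Rp (SQ ⧸ I.map (algebraMap S SQ)) :=
      Module.Flat.of_linearEquiv ((Submodule.quotEquivOfEq _ _ heq).restrictScalars Rp).symm
    exact Module.Flat.trans R Rp _
  -- the quotient
  let C := S ⧸ I
  have : Algebra.FinitePresentation R C :=
    Algebra.FinitePresentation.quotient (IsNoetherian.noetherian I)
  have : Algebra.FiniteType R C := inferInstance
  let Qb : Ideal C := Q.map (Ideal.Quotient.mk I)
  have hQb : Qb.IsPrime := Ideal.map_isPrime_of_surjective Ideal.Quotient.mk_surjective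
    (by rwa [Ideal.mk_ker])
  have hQb' : Qb.LiesOver Q := ⟨by
    rw [Ideal.under, Ideal.Quotient.algebraMap_eq,
      Ideal.comap_map_of_surjective _ Ideal.Quotient.mk_surjective, ← RingHom.ker_eq_comap_bot,
      Ideal.mk_ker, sup_eq_left.mpr hIQ]⟩
  have hflatC : Module.Flat R (Localization.AtPrime Qb) := by
    have h : Algebra.algebraMapSubmonoid C Q.primeCompl = Qb.primeCompl :=
      Ideal.algebraMapSubmonoid_primeCompl_of_liesOver_surjective Qb Q Ideal.Quotient.mk_surjective
    have : IsLocalization Qb.primeCompl (SQ ⧸ I.map (algebraMap S SQ)) := by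
      rw [← h]; infer_instance
    have : IsScalarTower R C (SQ ⧸ I.map (algebraMap S SQ)) := IsScalarTower.to₁₃₄ R S C _
    exact Module.Flat.of_linearEquiv ((IsLocalization.algEquiv Qb.primeCompl
      (Localization.AtPrime Qb) (SQ ⧸ I.map (algebraMap S SQ))).restrictScalars R).toLinearEquiv
  have hQbp : Qb.LiesOver p := .trans _ Q _
  have hfinF : Module.Finite p.ResidueField (p.Fiber C) := by
    let μ : p.Fiber S →ₐ[p.ResidueField] p.Fiber C :=
      Algebra.TensorProduct.map (AlgHom.id _ _) (Ideal.Quotient.mkₐ R I)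
    have hμ : Function.Surjective μ := by
      intro z
      induction z using TensorProduct.induction_on with
      | zero => exact ⟨0, map_zero _⟩
      | add a b ha hb =>
        obtain ⟨x, rfl⟩ := ha
        obtain ⟨y, rfl⟩ := hb
        exact ⟨x + y, map_add _ _ _⟩
      | tmul a b =>
        obtain ⟨b, rfl⟩ := Ideal.Quotient.mk_surjective b
        exact ⟨a ⊗ₜ b, rfl⟩
    have hker : Ideal.ofList (fs.map ι.toRingHom) ≤ RingHom.ker μ := by
      rw [Ideal.ofList, Ideal.span_le]
      intro z hz
      obtain ⟨s, hs, rfl⟩ := List.mem_map.mp hz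
      change μ ((1 : p.ResidueField) ⊗ₜ[R] s) = 0
      rw [Algebra.TensorProduct.map_tmul, Ideal.Quotient.mkₐ_eq_mk,
        Ideal.Quotient.eq_zero_iff_mem.mpr (show s ∈ I from Ideal.subset_span hs), tmul_zero]
    let μ' := Ideal.Quotient.liftₐ _ μ fun z hz => hker hz
    exact Module.Finite.of_surjective μ'.toLinearMap fun z => by
      obtain ⟨y, rfl⟩ := hμ z
      exact ⟨Ideal.Quotient.mk _ y, rfl⟩
  have hqf : Algebra.QuasiFiniteAt R Qb := by
    let e := PrimeSpectrum.preimageHomeomorphFiber R C ⟨p, inferInstance⟩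
    let x : PrimeSpectrum.comap (algebraMap R C) ⁻¹' {⟨p, inferInstance⟩} :=
      ⟨⟨Qb, hQb⟩, PrimeSpectrum.ext hQbp.over.symm⟩
    have : Algebra.QuasiFinite p.ResidueField (p.Fiber C) := inferInstance
    exact .of_quasiFiniteAt_residueField p Qb (e x).asIdeal
      congr($(e.symm_apply_apply x).1.asIdeal)
  obtain ⟨S', hS', r, hr, hbij⟩ :=
    Algebra.QuasiFiniteAt.exists_fg_and_exists_notMem_and_awayMap_bijective (R := R) Qb
  have hopen := H8Props.FlatLocus.isOpen_setOf_flat_localization R C
  obtain ⟨_, ⟨h, rfl⟩, hQh, hsub⟩ := PrimeSpectrum.isTopologicalBasis_basic_opens.exists_subset_of_mem_open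
    (show (⟨Qb, hQb⟩ : PrimeSpectrum C) ∈ _ from hflatC) hopen
  let g := (r : C) * h
  let Cg := Localization.Away g
  have hg : g ∉ Qb := fun hc => (hQb.mem_or_mem hc).elim hr hQh
  have : IsLocalization.Away g Cg := inferInstance
  have hfpC : Algebra.FinitePresentation R Cg :=
    Algebra.FinitePresentation.trans R C Cg
  have hqfC : Algebra.QuasiFinite R Cg := by
    have : Module.Finite R S' := ⟨(Submodule.fg_top _).mpr hS'⟩
    have : Algebra.QuasiFinite R (Localization.Away r) := .trans _ S' _
    have : Algebra.QuasiFinite R (Localization.Away (r : C)) :=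
      .of_surjective_algHom (Localization.awayMapₐ S'.val r) hbij.2
    let f : Localization.Away (r : C) →ₐ[C] Cg := IsLocalization.Away.liftAlgHom (r : C)
      (f := Algebra.ofId C Cg) (isUnit_of_mul_isUnit_left (y := algebraMap C Cg h) (by
        rw [Algebra.ofId_apply, ← map_mul]
        exact IsLocalization.Away.algebraMap_isUnit g))
    refine .of_forall_exists_mul_mem_range (f.restrictScalars R) fun x => ?_
    obtain ⟨x, ⟨_, n, rfl⟩, rfl⟩ := IsLocalization.exists_mk'_eq (Submonoid.powers g) x
    exact ⟨algebraMap C _ (g ^ n), by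
        rw [AlgHom.restrictScalars_apply, f.commutes]
        exact IsLocalization.map_units Cg (⟨g ^ n, n, rfl⟩ : Submonoid.powers g),
      algebraMap C _ x, by
        change f (algebraMap C _ x) = _
        rw [f.commutes, AlgHom.restrictScalars_apply, f.commutes]
        exact (IsLocalization.mk'_spec Cg x (⟨g ^ n, n, rfl⟩ : Submonoid.powers g)).symm⟩
  have hflatg : Module.Flat R Cg := by
    refine Module.flat_of_isLocalized_maximal Cg Cg
      (fun P : Ideal Cg => fun [P.IsMaximal] => Localization.AtPrime P)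
      (fun P : Ideal Cg => fun [P.IsMaximal] => Algebra.linearMap Cg _) fun P hP => ?_
    let P₀ : PrimeSpectrum C := PrimeSpectrum.comap (algebraMap C Cg) ⟨P, hP.isPrime⟩
    have hP₀ : h ∉ P₀.asIdeal := fun hc => hP.ne_top (P.eq_top_of_isUnit_mem hc
      (isUnit_of_mul_isUnit_right (x := algebraMap C Cg r) (by
        rw [← map_mul]
        exact IsLocalization.Away.algebraMap_isUnit g)))
    have hfl : Module.Flat R (Localization.AtPrime P₀.asIdeal) := hsub hP₀
    have : IsLocalization P₀.asIdeal.primeCompl (Localization.AtPrime P) :=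
      IsLocalization.isLocalization_isLocalization_atPrime_isLocalization
        (Submonoid.powers g) (Localization.AtPrime P) P
    exact Module.Flat.of_linearEquiv ((IsLocalization.algEquiv P₀.asIdeal.primeCompl
      (Localization.AtPrime P) (Localization.AtPrime P₀.asIdeal)).restrictScalars R).toLinearEquiv
  refine ⟨Cg, inferInstance, inferInstance, hfpC, hqfC, hflatg,
    ⟨(IsScalarTower.toAlgHom R C Cg).comp (Ideal.Quotient.mkₐ R I)⟩, ?_⟩
  have hdisj : Disjoint (Submonoid.powers g : Set C) (Qb : Set C) :=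
    Set.disjoint_left.mpr fun _ ⟨n, hn⟩ hc => hg (hQb.mem_of_pow_mem n (by subst hn; exact hc))
  refine ⟨⟨Qb.map (algebraMap C Cg), IsLocalization.isPrime_of_isPrime_disjoint _ Cg Qb hQb hdisj⟩, ?_⟩
  ext1
  change (Qb.map (algebraMap C Cg)).comap (algebraMap R Cg) = p
  have h1 : (Qb.map (algebraMap C Cg)).comap (algebraMap C Cg) = Qb :=
    IsLocalization.under_map_of_isPrime_disjoint _ Cg hQb hdisj
  rw [IsScalarTower.algebraMap_eq R C Cg, ← Ideal.comap_comap, h1, hQbp.over]

end Groth.Agent.H02CA.Slice
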