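import Mathlib.RingTheory.MvPolynomial.Basic
import Mathlib.Algebra.MvPolynomial.PDeriv
import Mathlib.RingTheory.Ideal.Cotangent
import Mathlib.RingTheory.Localization.AtPrime.Basic
import Mathlib.RingTheory.LocalRing.ResidueField.Basic
import Mathlib.LinearAlgebra.Matrix.Rank
import Mathlib.LinearAlgebra.Dimension.RankNullity
import Mathlib.Tactic.LinearCombination

/-!
# The cotangent space at a rational point
-/

set_option autoImplicit false
universe u

open MvPolynomial IsLocalRing

namespace Groth.Agent.H02CA.RationalPoint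

variable (k : Type u) [Field k] {n r : ℕ}

/-- The first order part of a polynomial at a point. -/
noncomputable def grad (a : Fin n → k) : MvPolynomial (Fin n) k →ₗ[k] (Fin n → k) where
  toFun f j := eval a (pderiv j f)
  map_add' f g := funext fun j => by simp
  map_smul' c f := funext fun j => by simp [smul_eval]

variable {k}

theorem sub_taylor_mem (a : Fin n → k) (f : MvPolynomial (Fin n) k) :
    f - C (eval a f) - ∑ j, C (grad k a f j) * (X j - C (a j)) ∈ RingHom.ker (eval a) ^ 2 := by
  classical
  induction f using MvPolynomial.induction_on with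
  | C c => simp [grad]
  | add p q hp hq =>
    convert! add_mem hp hq using 1
    simp only [map_add, Pi.add_apply, add_mul, Finset.sum_add_distrib]
    ring
  | mul_X p i hp =>
    have hX : X i - C (a i) ∈ RingHom.ker (eval a) := by simp
    have hp1 : p - C (eval a p) ∈ RingHom.ker (eval a) := by simp
    have h1 : (p - C (eval a p)) * (X i - C (a i)) ∈ RingHom.ker (eval a) ^ 2 := by
      rw [sq]; exact Ideal.mul_mem_mul hp1 hX
    have h2 := Ideal.mul_mem_left _ (C (a i)) hp
    convert! add_mem h1 h2 using 1
    have hg : ∀ j, grad k a (p * X i) j = grad k a p j * a i + eval a p * (Pi.single i (1 : k) : Fin n → k) j := by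
      intro j
      change eval a (pderiv j (p * X i)) = eval a (pderiv j p) * a i + _
      rw [pderiv_mul, map_add, map_mul, map_mul, eval_X, pderiv_X]
      by_cases h : j = i
      · subst h; simp
      · simp [Pi.single_eq_of_ne h, Pi.single_eq_of_ne (Ne.symm h)]
    have hs : ∑ j, C (grad k a (p * X i) j) * (X j - C (a j)) =
        C (a i) * (∑ j, C (grad k a p j) * (X j - C (a j))) + C (eval a p) * (X i - C (a i)) := by
      rw [Finset.mul_sum]
      have : ∀ j, C (grad k a (p * X i) j) * (X j - C (a j)) =
          C (a i) * (C (grad k a p j) * (X j - C (a j))) +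
            C ((Pi.single i (1 : k) : Fin n → k) j) * (C (eval a p) * (X j - C (a j))) := fun j => by
        rw [hg, map_add, map_mul, map_mul]; ring
      rw [Finset.sum_congr rfl fun j _ => this j, Finset.sum_add_distrib, add_left_cancel_iff,
        Finset.sum_eq_single i (fun j _ hj => by simp [Pi.single_eq_of_ne hj])
          (fun h => absurd (Finset.mem_univ i) h)]
      simp
    rw [hs, map_mul, eval_X, map_mul]
    ring

theorem grad_mul_mem (a : Fin n → k) (I : Ideal (MvPolynomial (Fin n) k)) (W : Submodule k (Fin n → k))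
    (hI : ∀ f ∈ I, eval a f = 0) (hW : ∀ f ∈ I, grad k a f ∈ W) (g f : MvPolynomial (Fin n) k) (hf : f ∈ I) :
    grad k a (g * f) = eval a g • grad k a f := by
  funext j
  simp [grad, hI f hf]

theorem grad_eq_zero_of_mem_sq (a : Fin n → k) {f : MvPolynomial (Fin n) k} (hf : f ∈ RingHom.ker (eval a) ^ 2) :
    grad k a f = 0 := by
  rw [sq] at hf
  refine Submodule.mul_induction_on hf (fun p hp q hq => funext fun j => ?_) fun p q hp hq => by rw [map_add, hp, hq, add_zero]
  have hp' : eval a p = 0 := hp
  have hq' : eval a q = 0 := hq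
  simp [grad, hp', hq']

variable (F : Fin r → MvPolynomial (Fin n) k) (a : Fin n → k)
  (m : Ideal (MvPolynomial (Fin n) k ⧸ Ideal.span (Set.range F))) [m.IsMaximal]
  (hm : m.comap (Ideal.Quotient.mk (Ideal.span (Set.range F))) = RingHom.ker (eval a))

include hm in
theorem eval_eq_zero {f : MvPolynomial (Fin n) k} (hf : f ∈ Ideal.span (Set.range F)) : eval a f = 0 := by
  rw [← RingHom.mem_ker, ← hm, Ideal.mem_comap, Ideal.Quotient.eq_zero_iff_mem.mpr hf]
  exact zero_mem _

include hm in
theorem grad_mem_span {f : MvPolynomial (Fin n) k} (hf : f ∈ Ideal.span (Set.range F)) :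
    grad k a f ∈ Submodule.span k (Set.range fun i => grad k a (F i)) := by
  obtain ⟨c, rfl⟩ := Submodule.mem_span_range_iff_exists_fun _ |>.mp hf
  rw [map_sum]
  refine Submodule.sum_mem _ fun i _ => ?_
  rw [smul_eq_mul]
  have : grad k a (c i * F i) = eval a (c i) • grad k a (F i) := by
    funext j
    simp [grad, eval_eq_zero F a m hm (Ideal.subset_span ⟨i, rfl⟩)]
  rw [this]
  exact Submodule.smul_mem _ _ (Submodule.subset_span ⟨i, rfl⟩)

include hm in
theorem finrank_cotangentSpace_add_rank (L : Type u) [CommRing L] [IsLocalRing L] [Algebra k L]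
    [Algebra (MvPolynomial (Fin n) k ⧸ Ideal.span (Set.range F)) L]
    [IsScalarTower k (MvPolynomial (Fin n) k ⧸ Ideal.span (Set.range F)) L] [IsLocalization.AtPrime L m] :
    Module.finrank (ResidueField L) (CotangentSpace L) +
      (Matrix.of fun i j => eval a (pderiv j (F i))).rank = n := by
  classical
  let P := MvPolynomial (Fin n) k
  let I : Ideal P := Ideal.span (Set.range F)
  let M : Ideal P := RingHom.ker (eval a)
  let φ : P →+* L := (algebraMap (P ⧸ I) L).comp (Ideal.Quotient.mk I)
  have hmax : maximalIdeal L = M.map φ := by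
    rw [← IsLocalization.AtPrime.map_eq_maximalIdeal m L, ← Ideal.map_map]
    congr 1
    rw [show M = m.comap (Ideal.Quotient.mk I) from hm.symm,
      Ideal.map_comap_of_surjective _ Ideal.Quotient.mk_surjective]
  have hφM : ∀ f ∈ M, φ f ∈ maximalIdeal L := fun f hf => hmax ▸ Ideal.mem_map_of_mem φ hf
  have hcomm : ∀ c : k, φ (C c) = algebraMap k L c := fun c => by
    rw [IsScalarTower.algebraMap_apply k (P ⧸ I) L]; rfl
  let x : Fin n → maximalIdeal L := fun j => ⟨φ (X j - C (a j)), hφM _ (RingHom.mem_ker.mpr (by erw [map_sub, eval_C]; first | simp | exact sub_eq_zero.mpr (eval_X _) | (erw [eval_X]; simp)))⟩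
  let v : Fin n → CotangentSpace L := fun j => (maximalIdeal L).toCotangent (x j)
  let T : (Fin n → k) →ₗ[k] CotangentSpace L := Fintype.linearCombination k v
  have hT : ∀ c : Fin n → k, T c = (maximalIdeal L).toCotangent (∑ j, algebraMap k L (c j) • x j) := fun c => by
    rw [Fintype.linearCombination_apply, map_sum]
    exact Finset.sum_congr rfl fun j _ => by rw [map_smul, algebraMap_smul]
  have hnot : ∀ g : P, Ideal.Quotient.mk I g ∈ m.primeCompl → eval a g ≠ 0 := fun g hng h0 => hng (by
    have : g ∈ m.comap (Ideal.Quotient.mk (Ideal.span (Set.range F))) := hm.symm ▸ RingHom.mem_ker.mpr h0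
    exact this)
  have hval : ∀ c : Fin n → k, ((∑ j, algebraMap k L (c j) • x j : maximalIdeal L) : L) =
      φ (∑ j, C (c j) * (X j - C (a j))) := fun c => by
    rw [map_sum, AddSubmonoidClass.coe_finsetSum]
    exact Finset.sum_congr rfl fun j _ => by rw [map_mul, hcomm]; rfl
  -- the classes of polynomials
  have hclass : ∀ f (hf : f ∈ M), (maximalIdeal L).toCotangent ⟨φ f, hφM f hf⟩ = T (grad k a f) := fun f hf => by
    rw [hT, Ideal.toCotangent_eq, hval, ← map_sub]
    have h := Ideal.mem_map_of_mem φ (sub_taylor_mem a f)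
    rw [show eval a f = 0 from hf, map_zero, sub_zero, Ideal.map_pow] at h
    rwa [hmax]
  have hsurj : Function.Surjective T := by
    intro z
    obtain ⟨⟨y, hy⟩, rfl⟩ := (maximalIdeal L).toCotangent_surjective z
    obtain ⟨s, t, rfl⟩ := IsLocalization.exists_mk'_eq m.primeCompl y
    obtain ⟨f, rfl⟩ := Ideal.Quotient.mk_surjective s
    obtain ⟨g, hg⟩ := Ideal.Quotient.mk_surjective (t : P ⧸ I)
    have hf : f ∈ M := by
      change f ∈ RingHom.ker (eval a)
      rw [← hm, Ideal.mem_comap, ← IsLocalization.AtPrime.to_map_mem_maximal_iff L m]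
      rw [← IsLocalization.mk'_spec L (Ideal.Quotient.mk I f) t]
      exact Ideal.mul_mem_right _ _ hy
    have hg0 : eval a g ≠ 0 := hnot g (hg ▸ t.2)
    refine ⟨(eval a g)⁻¹ • grad k a f, ?_⟩
    rw [map_smul, ← hclass f hf, ← algebraMap_smul L, ← map_smul, Ideal.toCotangent_eq]
    have h1 : φ (g - C (eval a g)) ∈ maximalIdeal L := hφM _ (RingHom.mem_ker.mpr (by erw [map_sub, eval_C]; first | simp | exact sub_eq_zero.mpr (eval_X _) | (erw [eval_X]; simp)))
    have h2 := Ideal.mul_mem_mul h1 hy
    have hts : φ g * IsLocalization.mk' L (Ideal.Quotient.mk I f) t = φ f := by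
      change algebraMap (P ⧸ I) L (Ideal.Quotient.mk I g) * _ = algebraMap (P ⧸ I) L (Ideal.Quotient.mk I f)
      rw [hg, IsLocalization.mk'_spec']
    rw [← sq, map_sub, sub_mul, hts, hcomm] at h2
    have h3 := Ideal.mul_mem_left _ (algebraMap k L (eval a g)⁻¹) h2
    convert! h3 using 1
    change algebraMap k L (eval a g)⁻¹ * φ f - _ = _
    rw [mul_sub, ← mul_assoc, ← map_mul, inv_mul_cancel₀ hg0, map_one, one_mul]
  have hker : LinearMap.ker T = Submodule.span k (Set.range fun i => grad k a (F i)) := by
    refine le_antisymm (fun c hc => ?_) (Submodule.span_le.mpr ?_)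
    · rw [LinearMap.mem_ker, hT, Ideal.toCotangent_eq_zero, hval, hmax, ← Ideal.map_pow, ← Ideal.map_map] at hc
      obtain ⟨s, hs, hsc⟩ := (IsLocalization.algebraMap_mem_map_algebraMap_iff m.primeCompl L _ _).mp hc
      obtain ⟨g, rfl⟩ := Ideal.Quotient.mk_surjective s
      rw [← map_mul] at hsc
      obtain ⟨w, hw, hwe⟩ := (Ideal.mem_map_iff_of_surjective _ Ideal.Quotient.mk_surjective).mp hsc
      have hd : g * (∑ j, C (c j) * (X j - C (a j))) - w ∈ I := (Ideal.Quotient.eq.mp hwe.symm)
      have h1 := grad_mem_span F a m hm hd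
      rw [map_sub, grad_eq_zero_of_mem_sq a hw, sub_zero] at h1
      have h2 : grad k a (g * ∑ j, C (c j) * (X j - C (a j))) = eval a g • c := by
        funext i
        simp [grad, pderiv_X, Pi.single_apply, mul_comm]
      rw [h2] at h1
      have hg0 : eval a g ≠ 0 := hnot g hs
      exact (Submodule.smul_mem_iff _ hg0).mp h1
    · rintro _ ⟨i, rfl⟩
      change T (grad k a (F i)) = 0
      rw [← hclass (F i) (eval_eq_zero F a m hm (Ideal.subset_span ⟨i, rfl⟩)), Ideal.toCotangent_eq_zero]
      have : φ (F i) = 0 := by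
        change algebraMap _ L (Ideal.Quotient.mk I (F i)) = 0
        rw [Ideal.Quotient.eq_zero_iff_mem.mpr (Ideal.subset_span ⟨i, rfl⟩ : F i ∈ I), map_zero]
      simp [this]
  have hbij : Function.Bijective (algebraMap k (ResidueField L)) := by
    refine ⟨(algebraMap k (ResidueField L)).injective, fun z => ?_⟩
    obtain ⟨y, rfl⟩ := residue_surjective z
    obtain ⟨s, t, rfl⟩ := IsLocalization.exists_mk'_eq m.primeCompl y
    obtain ⟨f, rfl⟩ := Ideal.Quotient.mk_surjective s
    obtain ⟨g, hg⟩ := Ideal.Quotient.mk_surjective (t : P ⧸ I)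
    have hg0 : eval a g ≠ 0 := hnot g (hg ▸ t.2)
    have key : ∀ p : P, residue L (φ p) = algebraMap k (ResidueField L) (eval a p) := fun p => by
      rw [IsScalarTower.algebraMap_apply k L (ResidueField L), ← hcomm, ResidueField.algebraMap_eq,
        ← sub_eq_zero, ← map_sub, ← map_sub, residue_eq_zero_iff]
      exact hφM _ (RingHom.mem_ker.mpr (by erw [map_sub, eval_C]; first | simp | exact sub_eq_zero.mpr (eval_X _) | (erw [eval_X]; simp)))
    refine ⟨eval a f / eval a g, ?_⟩
    rw [map_div₀, ← key, ← key, div_eq_iff (by rw [key]; exact fun h => hg0 ((algebraMap k (ResidueField L)).injective (h.trans (map_zero _).symm))), ← map_mul]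
    congr 1
    change algebraMap _ L (Ideal.Quotient.mk I f) = _ * algebraMap (P ⧸ I) L (Ideal.Quotient.mk I g)
    rw [hg, IsLocalization.mk'_spec]
  haveI : IsScalarTower k (ResidueField L) (CotangentSpace L) := IsScalarTower.of_algebraMap_smul fun c z => by
    rw [IsScalarTower.algebraMap_apply k L (ResidueField L), algebraMap_smul, algebraMap_smul]
  have h1 : Module.finrank k (CotangentSpace L) = Module.finrank (ResidueField L) (CotangentSpace L) := by
    rw [← Module.finrank_mul_finrank k (ResidueField L) (CotangentSpace L),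
      (AlgEquiv.ofBijective (Algebra.ofId k (ResidueField L)) hbij).symm.toLinearEquiv.finrank_eq,
      Module.finrank_self, one_mul]
  have h2 := LinearMap.finrank_range_add_finrank_ker T
  rw [LinearMap.range_eq_top.mpr hsurj, finrank_top, hker, h1, Module.finrank_fin_fun] at h2
  rw [Matrix.rank_eq_finrank_span_row]
  exact h2

end Groth.Agent.H02CA.RationalPoint
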