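import Mathlib.RingTheory.Length
import Mathlib.Data.Sym.Card
import Mathlib.Data.Nat.Factorial.BigOperators
import Mathlib.RingTheory.Noetherian.Basic
import Mathlib.Analysis.SpecificLimits.Basic
import Mathlib.Data.Fintype.Sum

/-!
# The Samuel function of an ideal with `d` generators is at most `length (R/I) · C(n+d-1,d)`
-/

set_option autoImplicit false
universe u

namespace Groth.Agent.H02CA.SamuelBound

open Filter Topology

variable {R : Type u} [CommRing R] {d : ℕ} (g : Fin d → R)

/-- The monomial attached to a multiset of indices. -/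
def mon (k : ℕ) (s : Sym (Fin d) k) : R := ((s : Multiset (Fin d)).map g).prod

theorem pow_le_span_mon : ∀ k : ℕ, Ideal.span (Set.range g) ^ k ≤ Ideal.span (Set.range (mon g k))
  | 0 => by
    have : (1 : R) ∈ Ideal.span (Set.range (mon g 0)) := Ideal.subset_span ⟨Sym.nil, by simp [mon]⟩
    rw [(Ideal.eq_top_iff_one _).mpr this]
    exact le_top
  | k + 1 => by
    rw [pow_succ]
    refine le_trans (Ideal.mul_mono_left (pow_le_span_mon k)) ?_
    rw [Ideal.span_mul_span', Ideal.span_le]
    rintro _ ⟨_, ⟨s, rfl⟩, _, ⟨i, rfl⟩, rfl⟩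
    exact Ideal.subset_span ⟨Sym.cons i s, by simp [mon, Sym.coe_cons, mul_comm]⟩

theorem mon_mem (k : ℕ) (s : Sym (Fin d) k) : mon g k s ∈ Ideal.span (Set.range g) ^ k := by
  obtain ⟨m, hm⟩ := s
  subst hm
  induction m using Multiset.induction_on with
  | empty => simp [mon]
  | cons a m ih =>
    show ((a ::ₘ m).map g).prod ∈ _
    rw [Multiset.map_cons, Multiset.prod_cons, Multiset.card_cons, pow_succ']
    exact Ideal.mul_mem_mul (Ideal.subset_span ⟨a, rfl⟩) ih

theorem length_graded_le (k : ℕ) :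
    Module.length R (↥(Ideal.span (Set.range g) ^ k) ⧸
      (Ideal.span (Set.range g) ^ (k + 1)).submoduleOf (Ideal.span (Set.range g) ^ k)) ≤
      (Nat.multichoose d k : ℕ) * Module.length R (R ⧸ Ideal.span (Set.range g)) := by
  classical
  set I := Ideal.span (Set.range g) with hI
  let Q := ↥(I ^ k) ⧸ (I ^ (k + 1)).submoduleOf (I ^ k)
  let φ : Sym (Fin d) k → ((R ⧸ I) →ₗ[R] Q) := fun s =>
    Submodule.liftQ I ((Submodule.mkQ _).comp (LinearMap.toSpanSingleton R ↥(I ^ k) ⟨mon g k s, mon_mem g k s⟩))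
      fun a ha => by
        rw [LinearMap.mem_ker, LinearMap.comp_apply, Submodule.mkQ_apply, Submodule.Quotient.mk_eq_zero]
        show a * mon g k s ∈ I ^ (k + 1)
        rw [pow_succ']
        exact Ideal.mul_mem_mul ha (mon_mem g k s)
  let f : (Sym (Fin d) k → R ⧸ I) →ₗ[R] Q := ∑ s, (φ s).comp (LinearMap.proj s)
  have hf : Function.Surjective f := fun y => by
    obtain ⟨⟨x, hx⟩, rfl⟩ := Submodule.mkQ_surjective _ y
    obtain ⟨c, hc⟩ := Ideal.mem_span_range_iff_exists_fun.mp (pow_le_span_mon g k hx)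
    refine ⟨fun s => Submodule.Quotient.mk (c s), ?_⟩
    simp only [f, LinearMap.sum_apply, LinearMap.comp_apply, LinearMap.proj_apply]
    have : (⟨x, hx⟩ : ↥(I ^ k)) = ∑ s, c s • (⟨mon g k s, mon_mem g k s⟩ : ↥(I ^ k)) :=
      Subtype.ext (by simp [← hc])
    rw [this, map_sum]
    rfl
  refine (Module.length_le_of_surjective f hf).trans (le_of_eq ?_)
  rw [Module.length_pi, ENat.card_eq_coe_fintype_card, Sym.card_sym_eq_multichoose, Fintype.card_fin]

theorem sum_multichoose_eq (n : ℕ) : ∑ k ∈ Finset.range (n + 1), Nat.multichoose d k = Nat.multichoose (d + 1) n := by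
  induction n with
  | zero => simp
  | succ n ih => rw [Finset.sum_range_succ, ih, Nat.multichoose_succ_succ, add_comm]

theorem sum_multichoose_le (n : ℕ) : ∑ k ∈ Finset.range n, Nat.multichoose d k ≤ Nat.multichoose (d + 1) n := by
  rw [← sum_multichoose_eq, Finset.sum_range_succ]
  exact Nat.le_add_right _ _

theorem length_quot_pow_le (n : ℕ) :
    Module.length R (R ⧸ Ideal.span (Set.range g) ^ n) ≤
      (∑ k ∈ Finset.range n, Nat.multichoose d k : ℕ) * Module.length R (R ⧸ Ideal.span (Set.range g)) := by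
  induction n with
  | zero =>
    haveI : Subsingleton (R ⧸ Ideal.span (Set.range g) ^ 0) := by
      rw [Submodule.Quotient.subsingleton_iff, pow_zero, Ideal.one_eq_top]
    simp [Module.length_eq_zero]
  | succ n ih =>
    set I := Ideal.span (Set.range g)
    let f : (↥(I ^ n) ⧸ (I ^ (n + 1)).submoduleOf (I ^ n)) →ₗ[R] R ⧸ I ^ (n + 1) :=
      Submodule.mapQ _ (I ^ (n + 1)) (I ^ n).subtype le_rfl
    let h : (R ⧸ I ^ (n + 1)) →ₗ[R] R ⧸ I ^ n :=
      Submodule.factor (Ideal.pow_le_pow_right n.le_succ)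
    have hf : Function.Injective f := by
      rw [← LinearMap.ker_eq_bot, eq_bot_iff]
      intro y hy
      obtain ⟨y, rfl⟩ := Submodule.mkQ_surjective _ y
      rw [LinearMap.mem_ker] at hy
      exact (Submodule.mem_bot R).mpr ((Submodule.Quotient.mk_eq_zero _).mpr ((Submodule.Quotient.mk_eq_zero (I ^ (n + 1))).mp hy : (y : R) ∈ I ^ (n + 1)))
    have hex : Function.Exact f h := fun x => by
      obtain ⟨x, rfl⟩ := Submodule.mkQ_surjective _ x
      refine ⟨fun hx => ⟨Submodule.Quotient.mk ⟨x, (Submodule.Quotient.mk_eq_zero (I ^ n)).mp hx⟩, rfl⟩, ?_⟩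
      rintro ⟨y, hy⟩
      obtain ⟨y, rfl⟩ := Submodule.mkQ_surjective _ y
      rw [← hy]
      exact (Submodule.Quotient.mk_eq_zero (I ^ n)).mpr y.2
    rw [Module.length_eq_add_of_exact f h hf (Submodule.factor_surjective _) hex, Finset.sum_range_succ,
      add_comm (∑ k ∈ _, _), Nat.cast_add, add_mul]
    exact add_le_add (length_graded_le g n) ih

theorem le_of_tendsto_samuel (L : ℕ) (hL : Module.length R (R ⧸ Ideal.span (Set.range g)) = L) (e : ℝ)
    (he : Tendsto (fun n : ℕ => (d.factorial : ℝ) *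
      ((Module.length R (R ⧸ Ideal.span (Set.range g) ^ n)).toNat : ℝ) / (n : ℝ) ^ d) atTop (𝓝 e)) :
    e ≤ L := by
  have hlim : Tendsto (fun n : ℕ => (L : ℝ) * (1 + (d : ℝ) / n) ^ d) atTop (𝓝 L) := by
    have := (((tendsto_const_div_atTop_nhds_zero_nat (d : ℝ)).const_add 1).pow d).const_mul (L : ℝ)
    simpa using this
  refine le_of_tendsto_of_tendsto he hlim ?_
  filter_upwards [eventually_gt_atTop 0] with n hn
  have hn0 : (0 : ℝ) < (n : ℝ) := Nat.cast_pos.mpr hn
  have h1 := length_quot_pow_le g n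
  rw [hL, ← Nat.cast_mul] at h1
  have h2 : (Module.length R (R ⧸ Ideal.span (Set.range g) ^ n)).toNat ≤ (∑ k ∈ Finset.range n, Nat.multichoose d k) * L :=
    ENat.toNat_le_of_le_natCast h1
  have h3 : d.factorial * (Module.length R (R ⧸ Ideal.span (Set.range g) ^ n)).toNat ≤ L * (n + d) ^ d := by
    refine (Nat.mul_le_mul_left _ h2).trans ?_
    rw [← mul_assoc, mul_comm L]
    refine Nat.mul_le_mul_right _ ((Nat.mul_le_mul_left _ (sum_multichoose_le n)).trans ?_)
    rw [Nat.multichoose_eq, show d + 1 + n - 1 = n + d by omega, Nat.choose_symm_add, ← Nat.descFactorial_eq_factorial_mul_choose]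
    exact Nat.descFactorial_le_pow _ _
  rw [div_le_iff₀ (pow_pos hn0 d), mul_assoc, ← mul_pow, add_mul, one_mul, div_mul_cancel₀ _ hn0.ne']
  exact_mod_cast h3

end Groth.Agent.H02CA.SamuelBound
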