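import Mathlib.RingTheory.Smooth.Field
import Mathlib.RingTheory.Etale.Kaehler
import Mathlib.RingTheory.Kaehler.Polynomial
import Mathlib.RingTheory.Unramified.Field
import Mathlib.FieldTheory.IntermediateField.Adjoin.Basic

/-!
# Differentials of separably generated field extensions: the differentials of a separating
transcendence basis form a basis, and conversely.
-/

namespace Groth.Agent.H02CA

open IntermediateField

universe u v

variable (k : Type u) (L : Type v) [Field k] [Field L] [Algebra k L] {ι : Type*} (x : ι → L)

theorem exists_basis_D (hx : AlgebraicIndependent k x)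
    [Algebra.IsSeparable (adjoin k (Set.range x)) L] :
    ∃ b : Module.Basis ι L (Ω[L⁄k]), ∀ i, b i = KaehlerDifferential.D k L (x i) := by
  classical
  let P := MvPolynomial ι k
  let E := adjoin k (Set.range x)
  let φE : P →ₐ[k] E := MvPolynomial.aeval fun i => (⟨x i, subset_adjoin k _ ⟨i, rfl⟩⟩ : E)
  letI : Algebra P E := φE.toRingHom.toAlgebra
  letI : Algebra P L := ((algebraMap E L).comp φE.toRingHom).toAlgebra
  haveI : IsScalarTower P E L := IsScalarTower.of_algebraMap_eq fun _ => rfl
  haveI : IsScalarTower k P L := IsScalarTower.of_algebraMap_eq fun c => by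
    show _ = algebraMap E L (φE (algebraMap k P c))
    rw [AlgHom.commutes, ← IsScalarTower.algebraMap_apply k E L]
  have hval : ∀ p : P, algebraMap P L p = MvPolynomial.aeval x p := fun p => by
    show (IntermediateField.val E) (φE p) = _
    rw [← AlgHom.comp_apply, MvPolynomial.comp_aeval]
    rfl
  have hinjL : Function.Injective (algebraMap P L) := fun p q h => hx (by rwa [hval, hval] at h)
  haveI : FaithfulSMul P E := (faithfulSMul_iff_algebraMap_injective P E).mpr fun p q h =>
    hinjL (congrArg (algebraMap E L) h)
  haveI : IsFractionRing P E := IsFractionRing.of_field P E fun z => by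
    obtain ⟨r, s, h⟩ := (mem_adjoin_range_iff k x (z : L)).mp z.2
    refine ⟨r, s, Subtype.ext ?_⟩
    rw [h, ← hval, ← hval]
    rfl
  haveI : Algebra.FormallyEtale P E := Algebra.FormallyEtale.of_isLocalization (nonZeroDivisors P)
  haveI : Algebra.FormallyEtale E L := Algebra.FormallyEtale.of_isSeparable E L
  haveI : Algebra.FormallyEtale P L := .comp P E L
  have hb := KaehlerDifferential.isBaseChange_of_formallyEtale k P L
  refine ⟨((KaehlerDifferential.mvPolynomialBasis k ι).baseChange L).map hb.equiv, fun i => ?_⟩
  rw [Module.Basis.map_apply, Module.Basis.baseChange_apply, IsBaseChange.equiv_tmul, one_smul,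
    KaehlerDifferential.mvPolynomialBasis_apply, KaehlerDifferential.map_D, hval,
    MvPolynomial.aeval_X]

theorem isSeparable_of_span_D_eq_top [Algebra.EssFiniteType k L]
    (h : Submodule.span L (Set.range fun i => KaehlerDifferential.D k L (x i)) = ⊤) :
    Algebra.IsSeparable (adjoin k (Set.range x)) L := by
  let E := adjoin k (Set.range x)
  haveI : Algebra.EssFiniteType E L := Algebra.EssFiniteType.of_comp k _ _
  rw [← Algebra.FormallyUnramified.iff_isSeparable]
  refine ⟨subsingleton_of_forall_eq 0 fun w => ?_⟩
  obtain ⟨w', rfl⟩ := KaehlerDifferential.map_surjective k E L w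
  have hw : w' ∈ Submodule.span L (Set.range fun i => KaehlerDifferential.D k L (x i)) := h ▸ Submodule.mem_top
  induction hw using Submodule.span_induction with
  | mem z hz =>
    obtain ⟨i, rfl⟩ := hz
    rw [KaehlerDifferential.map_D]
    rw [show algebraMap L L (x i) = algebraMap E L ⟨x i, subset_adjoin k _ ⟨i, rfl⟩⟩ from rfl]
    exact Derivation.map_algebraMap _ _
  | zero => exact map_zero _
  | add a b _ _ ha hb => rw [map_add, ha, hb, add_zero]
  | smul c a _ ha => rw [map_smul, ha, smul_zero]

end Groth.Agent.H02CA
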