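import Groth.Agent.H02CA.GeomReducedField
import Mathlib.FieldTheory.PurelyInseparable.PerfectClosure
import Mathlib.FieldTheory.IntermediateField.Adjoin.Algebra
import Mathlib.Algebra.MvPolynomial.Expand
import Mathlib.FieldTheory.IsAlgClosed.AlgebraicClosure
import Mathlib.Algebra.CharP.Lemmas

/-! Separably generated extensions satisfy Mac Lane's criterion, hence so do their subextensions. -/

set_option autoImplicit false

namespace Groth.Agent.H02CA.SepGenerated

open MvPolynomial

universe u

theorem map_frobenius_expand_eq {σ : Type*} {R : Type*} [CommRing R] (p : ℕ) [ExpChar R p]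
    (φ : MvPolynomial σ R) : φ ^ p = MvPolynomial.map (frobenius R p) (expand p φ) := by
  induction φ using MvPolynomial.induction_on with
  | C a => rw [expand_C, MvPolynomial.map_C, frobenius_def, C_pow]
  | add a b ha hb => rw [add_pow_expChar, map_add, map_add, ha, hb]
  | mul_X a i ha => rw [mul_pow, map_mul, map_mul, ← ha, expand_X, map_pow, MvPolynomial.map_X]

variable {k K : Type u} [Field k] [Field K] [Algebra k K] (p : ℕ) [Fact p.Prime] [CharP k p]

/-- Vectors over `k` that are linearly independent stay so over an algebraically closed field, in the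
form needed for `p`-th roots. -/
theorem eq_zero_of_sum_mul_pow {ι ν : Type*} [Fintype ι] (w : ι → ν → k)
    (hw : ∀ l : ι → k, (∀ m, ∑ i, l i * w i m = 0) → l = 0) (c : ι → k)
    (hc : ∀ m, ∑ i, c i * w i m ^ p = 0) : c = 0 := by
  let Ω := AlgebraicClosure k
  haveI : CharP Ω p := charP_of_injective_algebraMap (algebraMap k Ω).injective p
  choose r hr using fun i => IsAlgClosed.exists_pow_nat_eq (algebraMap k Ω (c i))
    (Fact.out : p.Prime).pos
  have h1 : ∀ m, ∑ i, r i * algebraMap k Ω (w i m) = 0 := by
    intro m
    have h2 : (∑ i, r i * algebraMap k Ω (w i m)) ^ p = 0 := by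
      rw [sum_pow_char p]
      simp only [mul_pow, hr, ← map_pow, ← map_mul, ← map_sum, hc m, map_zero]
    exact pow_eq_zero_iff (Fact.out : p.Prime).ne_zero |>.mp h2
  let b := Module.Basis.ofVectorSpace k Ω
  have h3 : ∀ (l : Ω →ₗ[k] k), (fun i => l (r i)) = 0 := by
    intro l
    refine hw _ fun m => ?_
    have := congrArg l (h1 m)
    simp only [map_sum, map_zero] at this
    rw [← this]
    refine Finset.sum_congr rfl fun i _ => ?_
    rw [mul_comm (r i), ← Algebra.smul_def, map_smul, smul_eq_mul, mul_comm]
  funext i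
  have hr0 : r i = 0 := b.forall_coord_eq_zero_iff.mp fun j => congrFun (h3 (b.coord j)) i
  have := hr i
  rw [hr0, zero_pow (Fact.out : p.Prime).ne_zero] at this
  exact (map_eq_zero_iff _ (algebraMap k Ω).injective).mp this.symm

theorem linearIndepOn_pow_of_separablyGenerated {σ : Type u} (x : σ → K)
    (hx : IsTranscendenceBasis k x)
    [Algebra.IsSeparable (IntermediateField.adjoin k (Set.range x)) K] (s : Finset K)
    (hs : LinearIndepOn k _root_.id (s : Set K)) : LinearIndepOn k (· ^ p) (s : Set K) := by
  classical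
  set F := IntermediateField.adjoin k (Set.range x)
  haveI : CharP F p := charP_of_injective_algebraMap (algebraMap k F).injective p
  haveI : CharP K p := charP_of_injective_algebraMap (algebraMap k K).injective p
  haveI : ExpChar F p := ExpChar.prime Fact.out
  haveI : ExpChar k p := ExpChar.prime Fact.out
  let V : Submodule F K := Submodule.span F (s : Set K)
  haveI : Module.Finite F V := Module.Finite.span_of_finite F s.finite_toSet
  let e := Module.finBasis F V
  have hcoord : ∀ ij : s × Fin (Module.finrank F V), ∃ f g : MvPolynomial σ k,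
      aeval x g ≠ 0 ∧ aeval x f = aeval x g *
        ((e.repr ⟨ij.1, Submodule.subset_span ij.1.2⟩ ij.2 : F) : K) := by
    intro ij
    obtain ⟨f, g, hfg⟩ := (IntermediateField.mem_adjoin_range_iff k x _).mp
      (e.repr ⟨ij.1, Submodule.subset_span ij.1.2⟩ ij.2).2
    by_cases hg : aeval x g = 0
    · exact ⟨0, 1, by simp, by rw [hfg, hg]; simp⟩
    · exact ⟨f, g, hg, by rw [hfg, mul_div_cancel₀ _ hg]⟩
  choose f g hg hfg using hcoord
  let G : MvPolynomial σ k := ∏ ij, g ij
  have hG : aeval x G ≠ 0 := by
    rw [map_prod]; exact Finset.prod_ne_zero_iff.mpr fun ij _ => hg ij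
  let f' : s × Fin (Module.finrank F V) → MvPolynomial σ k := fun ij =>
    (∏ q ∈ Finset.univ.erase ij, g q) * f ij
  have hf' : ∀ ij, aeval x (f' ij) = aeval x G *
      ((e.repr ⟨ij.1, Submodule.subset_span ij.1.2⟩ ij.2 : F) : K) := by
    intro ij
    rw [map_mul, hfg, ← mul_assoc, ← map_mul,
      Finset.prod_erase_mul _ _ (Finset.mem_univ ij)]
  have hexp : ∀ i : s, aeval x G * (i : K) = ∑ j, aeval x (f' (i, j)) * (e j : K) := by
    intro i
    have h1 := congrArg Subtype.val (e.sum_repr ⟨(i : K), Submodule.subset_span i.2⟩)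
    simp only [AddSubmonoidClass.coe_finsetSum, SetLike.val_smul] at h1
    conv_lhs => rw [← h1, Finset.mul_sum]
    refine Finset.sum_congr rfl fun j _ => ?_
    rw [hf', mul_assoc]
    rfl
  have hind : LinearIndependent F fun j => (e j : K) ^ p := by
    have := LinearIndependent.map_pow_expChar_pow_of_isSeparable (q := p) (n := 1)
      (e.linearIndependent.map' V.subtype V.ker_subtype)
    rw [pow_one] at this
    exact this
  have hmem : ∀ P : MvPolynomial σ k, aeval x P ∈ F := fun P =>
    IntermediateField.algebra_adjoin_le_adjoin k _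
      ((Algebra.adjoin_range_eq_range_aeval k x).symm ▸ ⟨P, rfl⟩)
  show LinearIndependent k (fun i : s => (i : K) ^ p)
  rw [Fintype.linearIndependent_iff]
  intro c hc i₀
  refine congrFun (eq_zero_of_sum_mul_pow p
    (fun (i : s) (jm : Fin (Module.finrank F V) × (σ →₀ ℕ)) => (f' (i, jm.1)).coeff jm.2)
    (fun l hl => ?_) c fun jm => ?_) i₀
  · have h0 : ∀ j, ∑ i, C (l i) * f' (i, j) = 0 := fun j => MvPolynomial.ext _ _ fun m => by
      simp only [coeff_sum, coeff_C_mul, coeff_zero]
      exact hl (j, m)
    have h1 : aeval x G * ∑ i : s, l i • (i : K) = 0 := by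
      simp only [Algebra.smul_def, Finset.mul_sum, ← mul_assoc]
      simp only [mul_comm (aeval x G) (algebraMap k K _), mul_assoc, hexp, Finset.mul_sum]
      rw [Finset.sum_comm]
      refine Finset.sum_eq_zero fun j _ => ?_
      have := congrArg (aeval x) (h0 j)
      simp only [map_sum, map_mul, aeval_C, map_zero] at this
      simp only [← mul_assoc, ← Finset.sum_mul, this, zero_mul]
    have h2 := (mul_eq_zero.mp h1).resolve_left hG
    exact funext (Fintype.linearIndependent_iff.mp hs l h2)
  · obtain ⟨j, m⟩ := jm
    have hsum : ∑ j, (⟨_, hmem (∑ i, C (c i) * f' (i, j) ^ p)⟩ : F) • ((e j : K) ^ p) = 0 := by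
      have h1 : (aeval x G) ^ p * ∑ i : s, c i • (i : K) ^ p = 0 := by rw [hc, mul_zero]
      rw [← h1]
      simp only [Algebra.smul_def, Finset.mul_sum, ← mul_assoc,
        mul_comm ((aeval x G) ^ p) (algebraMap k K _)]
      simp only [mul_assoc, ← mul_pow, hexp, sum_pow_char p, Finset.mul_sum]
      rw [Finset.sum_comm]
      refine Finset.sum_congr rfl fun j _ => ?_
      change aeval x (∑ i, C (c i) * f' (i, j) ^ p) * (e j : K) ^ p = _
      simp only [map_sum, map_mul, aeval_C, map_pow, Finset.sum_mul, mul_pow, mul_assoc]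
    have h2 : aeval x (∑ i, C (c i) * f' (i, j) ^ p) = 0 :=
      congrArg Subtype.val (Fintype.linearIndependent_iff.mp hind _ hsum j)
    have h3 := congrArg (fun P => MvPolynomial.coeff (p • m) P)
      (hx.1.eq_zero_of_aeval_eq_zero _ h2)
    simp only [coeff_sum, coeff_C_mul, coeff_zero, map_frobenius_expand_eq p, coeff_map,
      coeff_expand_smul p (Fact.out : p.Prime).ne_zero, frobenius_def] at h3
    exact h3

omit [Fact p.Prime] [CharP k p] in
theorem exists_separating (h : ∃ (ι : Type u) (x : ι → K), IsTranscendenceBasis k x ∧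
      Algebra.IsSeparable (IntermediateField.adjoin k (Set.range x)) K)
    (K' : IntermediateField k K) (hK' : K'.FG) :
    ∃ (ι : Type u) (x : ι → K'), IsTranscendenceBasis k x ∧
      Algebra.IsSeparable (IntermediateField.adjoin k (Set.range x)) K' := by
  haveI : Algebra.EssFiniteType k K' := IntermediateField.essFiniteType_iff.mpr hK'
  suffices ∃ s : Finset K', IsTranscendenceBasis k ((↑) : s → K') ∧
      Algebra.IsSeparable (IntermediateField.adjoin k (s : Set K')) K' by
    obtain ⟨s, hs, hsep⟩ := this
    refine ⟨{a : K' // a ∈ s}, Subtype.val, hs, ?_⟩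
    convert! hsep <;> simp
  obtain _ | ⟨q, hq, hqk⟩ := CharP.exists' k
  · exact exists_isTranscendenceBasis_and_isSeparable_of_perfectField k K'
  refine exists_isTranscendenceBasis_and_isSeparable_of_linearIndepOn_pow_of_essFiniteType q hq.out
    fun s hs => ?_
  classical
  obtain ⟨σ, x, hx, hsep⟩ := h
  have hs' : LinearIndepOn k _root_.id ((s.map ⟨K'.val, K'.val.injective⟩ : Finset K) : Set K) := by
    rw [Finset.coe_map]
    exact LinearIndepOn.id_image (hs.map_injOn K'.val.toLinearMap K'.val.injective.injOn)
  have h1 := linearIndepOn_pow_of_separablyGenerated q x hx _ hs'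
  rw [Finset.coe_map] at h1
  have h2 : LinearIndepOn k (fun a : K' => K'.val (a ^ q)) (s : Set K') := by
    simp only [map_pow]
    exact h1.comp_of_image (f := K'.val) K'.val.injective.injOn
  exact LinearIndependent.of_comp K'.val.toLinearMap h2

end Groth.Agent.H02CA.SepGenerated
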