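import Mathlib.RingTheory.Spectrum.Maximal.Topology
import Mathlib.Topology.NoetherianSpace
import Mathlib.Order.KrullDimension
import Mathlib.LinearAlgebra.Dimension.Finrank
import Mathlib.LinearAlgebra.Dimension.StrongRankCondition
import Mathlib.LinearAlgebra.Dual.Lemmas
import Mathlib.LinearAlgebra.Matrix.ToLinearEquiv
import Mathlib.RingTheory.Ideal.Quotient.Operations
import Mathlib.Topology.Sets.Closeds
import Mathlib.Algebra.Module.Torsion.Basic

/-!
# Serre's splitting proposition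
-/

set_option autoImplicit false
universe u

namespace Groth.Agent.H02CA.SerreSplit

open TopologicalSpace

section topology

variable {Ω : Type u} [TopologicalSpace Ω]

/-- All irreducible closed subsets of `C` have codimension at least `k`. -/
def Small (k : ℕ) (C : Set Ω) : Prop :=
  ∀ Z : IrreducibleCloseds Ω, (Z : Set Ω) ⊆ C → (k : ℕ∞) ≤ Order.coheight Z

theorem subset_of_subset_union {Z A B : Set Ω} (hZ : IsIrreducible Z) (hA : IsClosed A)
    (hB : IsClosed B) (h : Z ⊆ A ∪ B) : Z ⊆ A ∨ Z ⊆ B :=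
  (isPreirreducible_iff_isClosed_union_isClosed.mp hZ.2) A B hA hB h

variable [NoetherianSpace Ω]

theorem exists_decomposition (C : Set Ω) (hC : IsClosed C) :
    ∃ S : Finset (IrreducibleCloseds Ω), C = ⋃ A ∈ S, (A : Set Ω) := by
  classical
  obtain ⟨S, hS, hSeq⟩ := NoetherianSpace.exists_finite_set_closeds_irreducible (⟨C, hC⟩ : Closeds Ω)
  refine ⟨hS.toFinset.attach.image fun A ↦ ⟨(A.1 : Set Ω), hSeq.1 A.1 (hS.mem_toFinset.mp A.2), A.1.isClosed'⟩, ?_⟩
  have h2 : (⟨C, hC⟩ : Closeds Ω) = hS.toFinset.sup id := by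
    rw [hSeq.2, Finset.sup_id_eq_sSup, Set.Finite.coe_toFinset]
  have h3 := congrArg (fun Z : Closeds Ω ↦ (Z : Set Ω)) h2
  simp only [Closeds.coe_finset_sup, Finset.sup_set_eq_biUnion] at h3
  exact h3.trans (by ext x; simp; exact exists_congr fun i ↦ ⟨fun h ↦ ⟨h.1, h.2⟩, fun ⟨h, h'⟩ ↦ ⟨h, h'⟩⟩)

theorem exists_mem_subset {Z : IrreducibleCloseds Ω} {S : Finset (IrreducibleCloseds Ω)}
    (h : (Z : Set Ω) ⊆ ⋃ A ∈ S, (A : Set Ω)) : ∃ A ∈ S, Z ≤ A := by
  classical
  induction S using Finset.induction with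
  | empty =>
    obtain ⟨x, hx⟩ := Z.isIrreducible'.1
    simpa using h hx
  | insert a s ha ih =>
    rw [Finset.set_biUnion_insert] at h
    rcases subset_of_subset_union Z.isIrreducible' a.isClosed'
      (isClosed_biUnion_finset fun A _ ↦ A.isClosed') h with h1 | h1
    · exact ⟨a, Finset.mem_insert_self a s, h1⟩
    · obtain ⟨A, hA, hZA⟩ := ih h1
      exact ⟨A, Finset.mem_insert_of_mem hA, hZA⟩

/-- A closed set avoiding suitable points of `G` has larger codimension. -/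
theorem exists_witness {F G : Set Ω} (_hF : IsClosed F) (hG : IsClosed G) {k : ℕ} (hs : Small k G) :
    ∃ P : Finset Ω, (∀ p ∈ P, p ∈ G ∧ p ∉ F) ∧
      ∀ Z : IrreducibleCloseds Ω, (Z : Set Ω) ⊆ G → ¬ (Z : Set Ω) ⊆ F →
        (∀ p ∈ P, p ∉ (Z : Set Ω)) → ((k + 1 : ℕ) : ℕ∞) ≤ Order.coheight Z := by
  classical
  obtain ⟨S, hS⟩ := exists_decomposition G hG
  choose p hp using fun A : {A : IrreducibleCloseds Ω // A ∈ S ∧ ¬ (A : Set Ω) ⊆ F} ↦
    Set.not_subset.mp A.2.2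
  refine ⟨(S.filter fun A : IrreducibleCloseds Ω ↦ ¬ (A : Set Ω) ⊆ F).attach.image
    fun A ↦ p ⟨A.1, Finset.mem_filter.mp A.2⟩, ?_, fun Z hZG hZF hZP ↦ ?_⟩
  · intro q hq
    obtain ⟨A, -, rfl⟩ := Finset.mem_image.mp hq
    have hA := hp ⟨A.1, Finset.mem_filter.mp A.2⟩
    exact ⟨hS ▸ Set.mem_biUnion (Finset.mem_filter.mp A.2).1 hA.1, hA.2⟩
  · obtain ⟨A, hA, hZA⟩ := exists_mem_subset (Z := Z) (hS ▸ hZG)
    have hAF : ¬ (A : Set Ω) ⊆ F := fun h ↦ hZF (Set.Subset.trans hZA h)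
    have hne : Z ≠ A := fun h ↦ hZP (p ⟨A, hA, hAF⟩)
      (Finset.mem_image.mpr ⟨⟨A, Finset.mem_filter.mpr ⟨hA, hAF⟩⟩, Finset.mem_attach _ _, rfl⟩)
      (h ▸ (hp ⟨A, hA, hAF⟩).1)
    have hAG : (A : Set Ω) ⊆ G := fun x hx ↦ hS ▸ Set.mem_biUnion hA hx
    calc ((k + 1 : ℕ) : ℕ∞) = (k : ℕ∞) + 1 := by simp
      _ ≤ Order.coheight A + 1 := add_le_add (hs A hAG) le_rfl
      _ ≤ Order.coheight Z := Order.coheight_add_one_le (lt_of_le_of_ne hZA hne)

/-- Cutting a closed set along witness points. -/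
theorem exists_small {F C : Set Ω} (hC : IsClosed C) (k : ℕ)
    (h : ∀ Z : IrreducibleCloseds Ω, (Z : Set Ω) ⊆ C → ¬ (Z : Set Ω) ⊆ F →
      (k : ℕ∞) ≤ Order.coheight Z) :
    ∃ F' : Set Ω, IsClosed F' ∧ C ⊆ F ∪ F' ∧ Small k F' := by
  classical
  obtain ⟨S, hS⟩ := exists_decomposition C hC
  refine ⟨⋃ A ∈ S.filter (fun A : IrreducibleCloseds Ω ↦ ¬ (A : Set Ω) ⊆ F), (A : Set Ω),
    isClosed_biUnion_finset fun A _ ↦ A.isClosed', fun x hx ↦ ?_, fun Z hZ ↦ ?_⟩
  · rw [hS] at hx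
    obtain ⟨A, hA, hxA⟩ := Set.mem_iUnion₂.mp hx
    by_cases hAF : (A : Set Ω) ⊆ F
    · exact Or.inl (hAF hxA)
    · exact Or.inr (Set.mem_biUnion (Finset.mem_filter.mpr ⟨hA, hAF⟩) hxA)
  · obtain ⟨A, hA, hZA⟩ := exists_mem_subset hZ
    obtain ⟨hA, hAF⟩ := Finset.mem_filter.mp hA
    exact (h A (fun x hx ↦ hS ▸ Set.mem_biUnion hA hx) hAF).trans (Order.coheight_anti hZA)

end topology

section abstract

variable {R : Type u} [CommRing R] {M : Type u} [AddCommGroup M] [Module R M]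
  {Ω : Type u} [TopologicalSpace Ω] [NoetherianSpace Ω]
  {K : Ω → Type u} [∀ x, Field (K x)] {ev : ∀ x, R →+* K x}
  {V : Ω → Type u} [∀ x, AddCommGroup (V x)] [∀ x, Module (K x) (V x)] {img : ∀ x, M →+ V x}

variable (K) (img) in
/-- Pointwise independence. -/
def Indep {n : ℕ} (x : Ω) (c : Fin n → M) : Prop := LinearIndependent (K x) fun i ↦ img x (c i)

theorem indep_snoc {n : ℕ} (x : Ω) (c : Fin n → M) (t : M) :
    Indep K img x (Fin.snoc c t) ↔
      Indep K img x c ∧ img x t ∉ Submodule.span (K x) (Set.range fun i ↦ img x (c i)) := by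
  have : (fun i : Fin (n + 1) ↦ img x ((Fin.snoc c t : Fin (n + 1) → M) i)) =
      Fin.snoc (fun i ↦ img x (c i)) (img x t) := by
    funext i
    refine Fin.lastCases (by simp) (fun j ↦ by simp) i
  rw [Indep, this, linearIndependent_finSnoc]
  rfl

/-- Serre's proposition, abstractly. -/
theorem exists_section (hsmul : ∀ x a m, img x (a • m) = ev x a • img x m)
    (hval : ∀ (P : Finset Ω) (w : ∀ x, V x), ∃ m, ∀ x ∈ P, img x m = w x)
    (hev : ∀ (P : Finset Ω) (e : Ω → Bool), ∃ a, ∀ x ∈ P, ev x a = if e x then 1 else 0)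
    (hopen : ∀ (n : ℕ) (c : Fin n → M), IsClosed {x | ¬ Indep K img x c}) (k : ℕ) :
    ∀ (h : ℕ) (s : Fin h → M) (F : Set Ω), IsClosed F → (∀ x, ¬ Indep K img x s → x ∈ F) →
      (∀ x, h + k ≤ Module.finrank (K x) (V x)) →
      ∀ (P : Finset Ω), (∀ p ∈ P, p ∈ F) → ∀ w : ∀ x, V x,
      ∃ (t : M) (F' : Set Ω), IsClosed F' ∧ (∀ p ∈ P, img p t = w p) ∧
        (∀ x, ¬ Indep K img x (Fin.snoc s t) → x ∈ F ∪ F') ∧ Small k F' := by
  classical
  induction k with
  | zero =>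
    intro h s F _ _ _ P _ w
    obtain ⟨t, ht⟩ := hval P w
    exact ⟨t, Set.univ, isClosed_univ, ht, fun x _ ↦ Or.inr trivial, fun Z _ ↦ by simp⟩
  | succ k ih =>
    intro h s F hF hsF hdim P hPF w
    obtain ⟨t₁, G, hG, ht₁, hG₁, hGs⟩ :=
      ih h s F hF hsF (fun x ↦ (Nat.add_le_add_left (Nat.le_succ k) h).trans (hdim x)) P hPF w
    obtain ⟨Q, hQ, hQw⟩ := exists_witness hF hG hGs
    have hex : ∀ x, ∃ u : V x, u ∉ Submodule.span (K x) (Set.range fun i ↦ img x (s i)) := by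
      intro x
      by_contra hall
      push_neg at hall
      have h1 : Module.finrank (K x) (V x) ≤ h := by
        have h2 := finrank_range_le_card (R := K x) (fun i ↦ img x (s i))
        rw [Set.finrank, (Submodule.eq_top_iff').mpr hall, finrank_top, Fintype.card_fin] at h2
        exact h2
      have h3 := hdim x
      omega
    choose u hu using hex
    obtain ⟨t₂, G', hG', ht₂, hG₂, hGs'⟩ := ih (h + 1) (Fin.snoc s t₁) (F ∪ G) (hF.union hG) hG₁
      (fun x ↦ by have := hdim x; omega) (P ∪ Q) (fun p hp ↦ (Finset.mem_union.mp hp).elim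
        (fun hp ↦ Or.inl (hPF p hp)) fun hp ↦ Or.inr (hQ p hp).1)
      (fun x ↦ if x ∈ P then 0 else u x - img x t₁)
    obtain ⟨Q', hQ', hQw'⟩ := exists_witness (hF.union hG) hG' hGs'
    obtain ⟨a, ha⟩ := hev (Q ∪ Q') fun x ↦ decide (x ∈ Q)
    let t := t₁ + a • t₂
    have himg : ∀ x, img x t = img x t₁ + ev x a • img x t₂ := fun x ↦ by
      rw [map_add, hsmul]
    have hP : ∀ p ∈ P, img p t = w p := fun p hp ↦ by
      rw [himg, ht₂ p (Finset.mem_union_left _ hp), if_pos hp, smul_zero, add_zero, ht₁ p hp]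
    have hindep : ∀ q, q ∉ F → img q t ∉ Submodule.span (K q) (Set.range fun i ↦ img q (s i)) →
        Indep K img q (Fin.snoc s t) := fun q hq hqt ↦
      (indep_snoc q s t).mpr ⟨by_contra fun hc ↦ hq (hsF q hc), hqt⟩
    have hQt : ∀ q ∈ Q, Indep K img q (Fin.snoc s t) := fun q hq ↦ by
      have hqF := (hQ q hq).2
      refine hindep q hqF ?_
      rw [himg, ha q (Finset.mem_union_left _ hq), if_pos (decide_eq_true hq),
        ht₂ q (Finset.mem_union_right _ hq), if_neg fun hqP ↦ hqF (hPF q hqP), one_smul,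
        add_sub_cancel]
      exact hu q
    have hQt' : ∀ q ∈ Q', Indep K img q (Fin.snoc s t) := fun q hq ↦ by
      obtain ⟨-, hqFG⟩ := hQ' q hq
      refine hindep q (fun hqF ↦ hqFG (Or.inl hqF)) ?_
      rw [himg, ha q (Finset.mem_union_right _ hq),
        if_neg (by simpa using fun hqQ ↦ hqFG (Or.inr (hQ q hqQ).1)), zero_smul, add_zero]
      exact ((indep_snoc q s t₁).mp (by_contra fun hc ↦ hqFG (hG₁ q hc))).2
    have hsub : {x | ¬ Indep K img x (Fin.snoc s t)} ⊆ (F ∪ G) ∪ G' := by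
      intro x hx
      by_contra hxo
      have h12 : Indep K img x (Fin.snoc (Fin.snoc s t₁) t₂) := by_contra fun hc ↦ hxo (hG₂ x hc)
      obtain ⟨h1, h2⟩ := (indep_snoc x _ t₂).mp h12
      obtain ⟨-, h3⟩ := (indep_snoc x s t₁).mp h1
      refine hx (hindep x (fun hxF ↦ hxo (Or.inl (Or.inl hxF))) fun ht ↦ ?_)
      rw [himg] at ht
      by_cases ha0 : ev x a = 0
      · rw [ha0, zero_smul, add_zero] at ht
        exact h3 ht
      · refine h2 ?_
        let W := Submodule.span (K x) (Set.range fun i ↦ img x ((Fin.snoc s t₁ : Fin (h + 1) → M) i))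
        have hle : Submodule.span (K x) (Set.range fun i ↦ img x (s i)) ≤ W :=
          Submodule.span_mono <| by rintro _ ⟨i, rfl⟩; exact ⟨i.castSucc, by simp⟩
        have ht1 : img x t₁ ∈ W := Submodule.subset_span ⟨Fin.last h, by simp⟩
        exact (W.smul_mem_iff ha0).mp ((W.add_mem_iff_right ht1).mp (hle ht))
    obtain ⟨F', hF', hsub', hsmall⟩ := exists_small (F := F) (hopen _ (Fin.snoc s t)) (k + 1)
      fun Z hZ hZF ↦ by
        by_cases hZG : (Z : Set Ω) ⊆ G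
        · exact hQw Z hZG hZF fun q hq hqZ ↦ hZ hqZ (hQt q hq)
        · have hnot : ¬ (Z : Set Ω) ⊆ F ∪ G := fun hh ↦
            (subset_of_subset_union Z.isIrreducible' hF hG hh).elim hZF hZG
          have hZG' := (subset_of_subset_union Z.isIrreducible' (hF.union hG) hG'
            (Set.Subset.trans hZ hsub)).resolve_left hnot
          exact hQw' Z hZG' hnot fun q hq hqZ ↦ hZ hqZ (hQt' q hq)
    exact ⟨t, F', hF', hP, fun x hx ↦ hsub' hx, hsmall⟩

end abstract

section concrete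

variable {R : Type u} [CommRing R] {M : Type u} [AddCommGroup M] [Module R M]

/-- The vectors at `x` invisible to all linear forms. -/
abbrev Bq (M : Type u) [AddCommGroup M] [Module R M] (x : MaximalSpectrum R) :
    Submodule (R ⧸ x.asIdeal) (M ⧸ (x.asIdeal • ⊤ : Submodule R M)) :=
  Submodule.span (R ⧸ x.asIdeal)
    ((x.asIdeal • ⊤ : Submodule R M).mkQ '' {m : M | ∀ φ : M →ₗ[R] R, φ m ∈ x.asIdeal})

/-- The reduced fibre. -/
abbrev Vq (M : Type u) [AddCommGroup M] [Module R M] (x : MaximalSpectrum R) : Type u :=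
  (M ⧸ (x.asIdeal • ⊤ : Submodule R M)) ⧸ Bq M x

/-- The image in the reduced fibre. -/
def imq (M : Type u) [AddCommGroup M] [Module R M] (x : MaximalSpectrum R) : M →+ Vq M x where
  toFun m := (Bq M x).mkQ ((x.asIdeal • ⊤ : Submodule R M).mkQ m)
  map_zero' := by simp
  map_add' := by simp

theorem imq_smul (x : MaximalSpectrum R) (a : R) (m : M) :
    imq M x (a • m) = Ideal.Quotient.mk x.asIdeal a • imq M x m := rfl

theorem imq_eq_zero_iff (x : MaximalSpectrum R) (m : M) :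
    imq M x m = 0 ↔ ∀ φ : M →ₗ[R] R, φ m ∈ x.asIdeal := by
  refine ⟨fun h φ ↦ ?_, fun h ↦ (Submodule.Quotient.mk_eq_zero _).mpr
    (Submodule.subset_span ⟨m, h, rfl⟩)⟩
  have h' : (x.asIdeal • ⊤ : Submodule R M).mkQ m ∈ Bq M x := (Submodule.Quotient.mk_eq_zero _).mp h
  let φ' : (M ⧸ (x.asIdeal • ⊤ : Submodule R M)) →ₗ[R] R ⧸ x.asIdeal :=
    Submodule.mapQ _ x.asIdeal φ (Submodule.smul_le.mpr fun a ha n _ ↦ by
      rw [Submodule.mem_comap, map_smul, smul_eq_mul]
      exact x.asIdeal.mul_mem_right _ ha)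
  have hz : ∀ v ∈ Bq M x, φ' v = 0 := by
    intro v hv
    induction hv using Submodule.span_induction with
    | mem v hv =>
      obtain ⟨n, hn, rfl⟩ := hv
      exact (Submodule.Quotient.mk_eq_zero _).mpr (hn φ)
    | zero => exact map_zero _
    | add a b _ _ ha hb => rw [map_add, ha, hb, add_zero]
    | smul c v _ hv =>
      obtain ⟨c, rfl⟩ := Ideal.Quotient.mk_surjective c
      change φ' (c • v) = 0
      rw [map_smul, hv, smul_zero]
  exact (Submodule.Quotient.mk_eq_zero x.asIdeal).mp (hz _ h')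

theorem imq_surjective (x : MaximalSpectrum R) : Function.Surjective (imq M x) :=
  (Submodule.mkQ_surjective (Bq M x)).comp (Submodule.mkQ_surjective (x.asIdeal • ⊤ : Submodule R M))

theorem exists_eval (P : Finset (MaximalSpectrum R)) (f : MaximalSpectrum R → R) :
    ∃ a, ∀ x ∈ P, a - f x ∈ x.asIdeal := by
  obtain ⟨a, ha⟩ := Ideal.exists_forall_sub_mem_ideal (I := fun x : P ↦ x.1.asIdeal)
    (fun x y hxy ↦ Ideal.isCoprime_iff_sup_eq.mpr (x.1.isMaximal.coprime_of_ne y.1.isMaximal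
      fun h ↦ hxy (Subtype.ext (MaximalSpectrum.ext h)))) (fun x ↦ f x.1)
  exact ⟨a, fun x hx ↦ ha ⟨x, hx⟩⟩

attribute [local instance] Ideal.Quotient.field

theorem exists_dual (n : ℕ) (c : Fin n → M) (x : MaximalSpectrum R)
    (hx : Indep (fun x ↦ R ⧸ x.asIdeal) (imq M) x c) :
    ∃ φ : Fin n → M →ₗ[R] R, ∀ i j, Ideal.Quotient.mk x.asIdeal (φ i (c j)) =
      (Pi.single i (1 : R ⧸ x.asIdeal) : Fin n → R ⧸ x.asIdeal) j := by
  classical
  let K := R ⧸ x.asIdeal
  have hcomb : ∀ (y : MaximalSpectrum R) (a : Fin n → R),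
      ∑ j, Ideal.Quotient.mk y.asIdeal (a j) • imq M y (c j) = imq M y (∑ j, a j • c j) :=
    fun y a ↦ by rw [map_sum]; exact Finset.sum_congr rfl fun j _ ↦ (imq_smul y _ _).symm
  let S : Submodule K (Fin n → K) := Submodule.span K
    (Set.range fun φ : M →ₗ[R] R ↦ fun j ↦ Ideal.Quotient.mk x.asIdeal (φ (c j)))
  have hS : S = ⊤ := by
    by_contra hne
    obtain ⟨ℓ, hℓ, hSℓ⟩ := Submodule.exists_le_ker_of_lt_top S (lt_top_iff_ne_top.mpr hne)
    refine hℓ (LinearMap.pi_ext' fun j ↦ LinearMap.ext_ring ?_)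
    choose a ha using fun j ↦ Ideal.Quotient.mk_surjective (ℓ (Pi.single j (1 : K)))
    have h0 : imq M x (∑ j, a j • c j) = 0 := (imq_eq_zero_iff x _).mpr fun φ ↦ by
      rw [← Ideal.Quotient.eq_zero_iff_mem, map_sum φ, map_sum]
      have h1 : ℓ (fun j ↦ Ideal.Quotient.mk x.asIdeal (φ (c j))) = 0 :=
        hSℓ (Submodule.subset_span ⟨φ, rfl⟩)
      rw [pi_eq_sum_univ' (fun j ↦ Ideal.Quotient.mk x.asIdeal (φ (c j))), map_sum] at h1
      refine Eq.trans (Finset.sum_congr rfl fun j _ ↦ ?_) h1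
      simp [map_smul, ← ha, mul_comm]
    have := Fintype.linearIndependent_iff.mp hx _ ((hcomb x a).trans h0) j
    simpa [← ha] using this
  have hrow : ∀ i, ∃ φ : M →ₗ[R] R, ∀ j,
      Ideal.Quotient.mk x.asIdeal (φ (c j)) = (Pi.single i (1 : K) : Fin n → K) j := by
    intro i
    have hi : (Pi.single i (1 : K) : Fin n → K) ∈ S := hS ▸ Submodule.mem_top
    suffices ∀ v ∈ S, ∃ φ : M →ₗ[R] R, ∀ j, Ideal.Quotient.mk x.asIdeal (φ (c j)) = v j from
      this _ hi
    intro v hv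
    induction hv using Submodule.span_induction with
    | mem v hv =>
      obtain ⟨φ, rfl⟩ := hv
      exact ⟨φ, fun _ ↦ rfl⟩
    | zero => exact ⟨0, fun _ ↦ by simp⟩
    | add a b _ _ ha hb =>
      obtain ⟨φ, hφ⟩ := ha
      obtain ⟨ψ, hψ⟩ := hb
      exact ⟨φ + ψ, fun j ↦ by simp [hφ j, hψ j]⟩
    | smul r v _ hv =>
      obtain ⟨φ, hφ⟩ := hv
      obtain ⟨r, rfl⟩ := Ideal.Quotient.mk_surjective r
      exact ⟨r • φ, fun j ↦ by simp [hφ j]⟩
  choose φ hφ using hrow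
  exact ⟨φ, hφ⟩

theorem isClosed_not_indep (n : ℕ) (c : Fin n → M) :
    IsClosed {x : MaximalSpectrum R | ¬ Indep (fun x ↦ R ⧸ x.asIdeal) (imq M) x c} := by
  classical
  rw [← isOpen_compl_iff, isOpen_iff_forall_mem_open]
  intro x hx
  replace hx : Indep (fun x ↦ R ⧸ x.asIdeal) (imq M) x c := not_not.mp hx
  let K := R ⧸ x.asIdeal
  obtain ⟨φ, hφ⟩ := exists_dual n c x hx
  have hcomb : ∀ (y : MaximalSpectrum R) (a : Fin n → R),
      ∑ j, Ideal.Quotient.mk y.asIdeal (a j) • imq M y (c j) = imq M y (∑ j, a j • c j) :=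
    fun y a ↦ by rw [map_sum]; exact Finset.sum_congr rfl fun j _ ↦ (imq_smul y _ _).symm
  let A : Matrix (Fin n) (Fin n) R := Matrix.of fun i j ↦ φ i (c j)
  have hdet : ∀ y : MaximalSpectrum R, Ideal.Quotient.mk y.asIdeal A.det =
      (A.map (Ideal.Quotient.mk y.asIdeal)).det := fun y ↦ RingHom.map_det _ _
  refine ⟨{y | A.det ∉ y.asIdeal}, fun y hy ↦ not_not.mpr ?_,
    continuous_induced_dom.isOpen_preimage _ (PrimeSpectrum.basicOpen A.det).isOpen, ?_⟩
  · refine Fintype.linearIndependent_iff.mpr fun g hg ↦ ?_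
    choose a ha using fun j ↦ Ideal.Quotient.mk_surjective (g j)
    have h0 : imq M y (∑ j, a j • c j) = 0 := by
      rw [← hcomb y a, ← hg]
      simp_rw [ha]
    have hmul : (A.map (Ideal.Quotient.mk y.asIdeal)).mulVec g = 0 := funext fun i ↦ by
      have h1 := Ideal.Quotient.eq_zero_iff_mem.mpr ((imq_eq_zero_iff y _).mp h0 (φ i))
      rw [map_sum (φ i), map_sum] at h1
      refine Eq.trans ?_ h1
      simp only [Matrix.mulVec, dotProduct, Matrix.map_apply, A, Matrix.of_apply]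
      refine Finset.sum_congr rfl fun j _ ↦ ?_
      rw [← ha j, map_smul, smul_eq_mul, map_mul, mul_comm]
    exact congr_fun (Matrix.eq_zero_of_mulVec_eq_zero
      (by rw [← hdet y, Ne, Ideal.Quotient.eq_zero_iff_mem]; exact hy) hmul)
  · intro hd
    have h1 : A.map (Ideal.Quotient.mk x.asIdeal) = 1 := Matrix.ext fun i j ↦ by
      rw [Matrix.map_apply, Matrix.one_apply]
      simpa [A, Pi.single_apply, eq_comm] using hφ i j
    have := (hdet x).symm.trans (Ideal.Quotient.eq_zero_iff_mem.mpr hd)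
    rw [h1, Matrix.det_one] at this
    exact one_ne_zero this

theorem exists_section_maximalSpectrum [NoetherianSpace (MaximalSpectrum R)]
    (k h : ℕ) (s : Fin h → M) (F : Set (MaximalSpectrum R)) (hF : IsClosed F)
    (hsF : ∀ x, ¬ Indep (fun x ↦ R ⧸ x.asIdeal) (imq M) x s → x ∈ F)
    (hdim : ∀ x : MaximalSpectrum R, h + k ≤ Module.finrank (R ⧸ x.asIdeal) (Vq M x))
    (P : Finset (MaximalSpectrum R)) (hP : ∀ p ∈ P, p ∈ F) (w : ∀ x, Vq M x) :
    ∃ (t : M) (F' : Set (MaximalSpectrum R)), IsClosed F' ∧ (∀ p ∈ P, imq M p t = w p) ∧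
      (∀ x, ¬ Indep (fun x ↦ R ⧸ x.asIdeal) (imq M) x (Fin.snoc s t) → x ∈ F ∪ F') ∧
      Small k F' := by
  classical
  refine exists_section (K := fun x ↦ R ⧸ x.asIdeal) (ev := fun x ↦ Ideal.Quotient.mk x.asIdeal)
    imq_smul (fun Q v ↦ ?_) (fun Q e ↦ ?_) isClosed_not_indep k h s F hF hsF hdim P hP w
  · choose m hm using fun x ↦ imq_surjective x (v x)
    choose e he using fun z : MaximalSpectrum R ↦ exists_eval Q fun x ↦ if x = z then 1 else 0
    refine ⟨∑ z ∈ Q, e z • m z, fun x hx ↦ ?_⟩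
    rw [map_sum, Finset.sum_eq_single_of_mem x hx fun z _ hzx ↦ ?_, imq_smul, hm,
      Ideal.Quotient.eq.mpr (he x x hx), if_pos rfl, map_one, one_smul]
    rw [imq_smul, Ideal.Quotient.eq.mpr (he z x hx), if_neg (Ne.symm hzx), map_zero, zero_smul]
  · obtain ⟨a, ha⟩ := exists_eval Q fun x ↦ if e x then 1 else 0
    exact ⟨a, fun x hx ↦ (Ideal.Quotient.eq.mpr (ha x hx)).trans (by split_ifs <;> simp)⟩

end concrete

end Groth.Agent.H02CA.SerreSplit
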