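import Groth.Agent.H4Depth.SkFree
import Groth.Agent.H4Depth.Regular
import Groth.Agent.H8Props.FlatDepth
import Groth.Agent.H1CAlg.Serre
import Mathlib.RingTheory.Flat.FaithfullyFlat.Algebra
import Mathlib.RingTheory.Flat.Localization
import Mathlib.RingTheory.KrullDimension.Regular
import Mathlib.RingTheory.LocalProperties.IntegrallyClosed
import Mathlib.RingTheory.Localization.AtPrime.Basic

/-! Serre's condition for rings: descent along faithfully flat maps, hypersurfaces in regular rings. -/

set_option autoImplicit false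

universe u

namespace Groth.Agent.H02CA.SkDescent

open LocCoh IsLocalRing

theorem hasSk_self_iff {R : Type u} [CommRing R] [IsNoetherianRing R] (k : ℕ) :
    HasSk k R R ↔ ∀ (p : Ideal R) [p.IsPrime],
      min (k : WithBot ℕ∞) (ringKrullDim (Localization.AtPrime p)) ≤
        ((depth (Localization.AtPrime p) (Localization.AtPrime p) : ℕ∞) : WithBot ℕ∞) := by
  refine forall_congr' fun p => forall_congr' fun _ => ?_
  obtain ⟨e⟩ := H4Depth.exists_localizedModule_self_equiv p
  rw [Module.supportDim_eq_of_equiv e, Module.supportDim_self_eq_ringKrullDim,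
    H4Depth.depth_congr e]

theorem isNoetherianRing_of_faithfullyFlat (R S : Type u) [CommRing R] [CommRing S] [Algebra R S]
    [Module.FaithfullyFlat R S] [IsNoetherianRing S] : IsNoetherianRing R :=
  isNoetherian_iff'.mpr (StrictMono.wellFoundedGT (f := Ideal.map (algebraMap R S))
    ((Monotone.strictMono_of_injective (fun _ _ h => Ideal.map_mono h))
      Ideal.map_injective_of_faithfullyFlat))

theorem hasSk_of_faithfullyFlat (k : ℕ) (R S : Type u) [CommRing R] [CommRing S] [Algebra R S]
    [Module.FaithfullyFlat R S] [IsNoetherianRing R] [IsNoetherianRing S] (hS : HasSk k S S) :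
    HasSk k R R := by
  rw [hasSk_self_iff] at hS ⊢
  intro p _
  obtain ⟨Q, hQ, hQp⟩ := Ideal.exists_isPrime_liesOver_of_faithfullyFlat (B := S) p
  obtain ⟨q, hq, hqQ⟩ := Ideal.exists_minimalPrimes_le (J := Q) (I := p.map (algebraMap R S))
    (Ideal.map_le_iff_le_comap.mpr hQp.over.le)
  haveI : q.IsPrime := hq.isPrime
  haveI : q.LiesOver p := ⟨le_antisymm (Ideal.map_le_iff_le_comap.mp hq.le)
    ((Ideal.comap_mono hqQ).trans hQp.over.ge)⟩
  let A := Localization.AtPrime p
  let B := Localization.AtPrime q
  letI : Algebra A B := Localization.AtPrime.algebraOfLiesOver p q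
  haveI : IsLocalHom (algebraMap A B) := Localization.isLocalHom_localRingHom _ _ _ _
  let C := B ⧸ (maximalIdeal A).map (algebraMap A B)
  have hC : ringKrullDim C ≤ 0 := by
    suffices Ring.KrullDimLE 0 C by exact Ring.krullDimLE_iff.mp this
    refine Ring.krullDimLE_zero_iff.mpr fun P hP => ?_
    suffices P.comap (Ideal.Quotient.mk _) = maximalIdeal B by
      rw [← Ideal.map_comap_of_surjective _ Ideal.Quotient.mk_surjective P, this,
        map_maximalIdeal_of_surjective _ Ideal.Quotient.mk_surjective]
      exact maximalIdeal.isMaximal _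
    have hle : (maximalIdeal A).map (algebraMap A B) ≤ P.comap (Ideal.Quotient.mk _) := by
      intro x hx
      rw [Ideal.mem_comap, Ideal.Quotient.eq_zero_iff_mem.mpr hx]
      exact zero_mem _
    set P' := P.comap (Ideal.Quotient.mk ((maximalIdeal A).map (algebraMap A B)))
    haveI : P'.IsPrime := Ideal.comap_isPrime _ _
    have h1 : P'.comap (algebraMap S B) = q := by
      refine le_antisymm ?_ (hq.2 ⟨inferInstance, ?_⟩ ?_)
      · have := Ideal.comap_mono (f := algebraMap S B) (le_maximalIdeal ‹P'.IsPrime›.ne_top)
        rwa [show Ideal.comap (algebraMap S B) (maximalIdeal B) = q from IsLocalization.AtPrime.under_maximalIdeal B q] at this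
      · refine le_trans ?_ (Ideal.comap_mono hle)
        rw [← Localization.AtPrime.map_eq_maximalIdeal, Ideal.map_map, Ideal.map_le_iff_le_comap,
          Ideal.comap_comap, ← IsScalarTower.algebraMap_eq R A B, ← IsScalarTower.algebraMap_eq R S B]
        exact Ideal.le_comap_map
      · have := Ideal.comap_mono (f := algebraMap S B) (le_maximalIdeal ‹P'.IsPrime›.ne_top)
        rwa [show Ideal.comap (algebraMap S B) (maximalIdeal B) = q from IsLocalization.AtPrime.under_maximalIdeal B q] at this
    calc P' = (P'.comap (algebraMap S B)).map (algebraMap S B) :=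
          (IsLocalization.map_under q.primeCompl B P').symm
      _ = maximalIdeal B := by rw [h1, Localization.AtPrime.map_eq_maximalIdeal]
  haveI : Nontrivial C := Ideal.Quotient.nontrivial_iff.mpr (H8Props.FlatDepth.map_maximalIdeal_ne_top A B)
  have hC0 : ringKrullDim C = 0 := le_antisymm hC ringKrullDim_nonneg_of_nontrivial
  have hdC : depth C C = 0 := by
    have := H8Props.FlatDepth.depth_le_dim C
    rw [hC0] at this
    exact le_antisymm (WithBot.coe_le_coe.mp this) zero_le
  have h := hS q
  rw [H8Props.FlatDepth.ringKrullDim_eq_add A B, hC0, add_zero, H8Props.FlatDepth.depth_eq_add A B, hdC, add_zero] at h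
  exact h

theorem hasSk_two_quotient_span_singleton (A : Type u) [CommRing A] [IsNoetherianRing A]
    (hreg : ∀ (p : Ideal A) (_ : p.IsPrime), IsRegularLocalRing (Localization.AtPrime p))
    (f : A) : HasSk 2 (A ⧸ Ideal.span {f}) (A ⧸ Ideal.span {f}) := by
  rw [hasSk_self_iff]
  intro q _
  set g := Ideal.Quotient.mk (Ideal.span {f})
  let p := q.comap g
  haveI := hreg p inferInstance
  let L := Localization.AtPrime p
  let Bq := Localization.AtPrime q
  let φ : L →+* Bq := Localization.localRingHom p q g rfl
  have hT : p.primeCompl.map g = q.primeCompl := by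
    ext y
    constructor
    · rintro ⟨x, hx, rfl⟩; exact hx
    · intro hy
      obtain ⟨x, rfl⟩ := Ideal.Quotient.mk_surjective y
      exact ⟨x, hy, rfl⟩
  have hker : RingHom.ker φ = Ideal.span {algebraMap A L f} := by
    rw [← Set.image_singleton, ← Ideal.map_span]
    have := IsLocalization.ker_map (S := L) (Q := Bq) (g := g) hT
    rw [Ideal.mk_ker] at this
    exact this
  have hsurj : Function.Surjective φ := by
    intro y
    obtain ⟨b, t, rfl⟩ := IsLocalization.exists_mk'_eq q.primeCompl y
    obtain ⟨a, rfl⟩ := Ideal.Quotient.mk_surjective b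
    obtain ⟨s, hs, hst⟩ := (hT.symm ▸ t.2 : (t : A ⧸ Ideal.span {f}) ∈ p.primeCompl.map g)
    refine ⟨IsLocalization.mk' L a ⟨s, hs⟩, ?_⟩
    rw [Localization.localRingHom_mk']
    congr 1
    exact Subtype.ext hst
  let e : (L ⧸ Ideal.span {algebraMap A L f}) ≃+* Bq :=
    (Ideal.quotEquivOfEq hker.symm).trans (RingHom.quotientKerEquivOfSurjective hsurj)
  haveI : IsLocalRing (L ⧸ Ideal.span {algebraMap A L f}) := e.symm.isLocalRing
  suffices IsCohenMacaulayLocalRing Bq by
    refine (min_le_right _ _).trans ?_
    rw [(H8Props.FlatDepth.isCM_iff_dim Bq).mp this]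
  letI : Algebra L Bq := φ.toAlgebra
  have hd : depth Bq Bq = depth L Bq := H8Props.FlatDepth.depth_eq_of_surjective hsurj
  let el : (L ⧸ Ideal.span {algebraMap A L f}) ≃ₗ[L] Bq :=
    LinearEquiv.ofBijective
      { toFun := e
        map_add' := map_add e
        map_smul' := fun r x => by
          obtain ⟨x, rfl⟩ := Ideal.Quotient.mk_surjective x
          exact map_mul φ r x } e.bijective
  rw [H8Props.FlatDepth.isCM_iff_dim, hd, ← H4Depth.depth_congr el,
    ← H8Props.FlatDepth.depth_eq_of_surjective (R := L) (S := L ⧸ Ideal.span {algebraMap A L f})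
      (M := L ⧸ Ideal.span {algebraMap A L f}) Ideal.Quotient.mk_surjective,
    ← ringKrullDim_eq_of_ringEquiv e]
  haveI := H4Depth.isDomain_of_isRegularLocalRing L
  haveI := H4Depth.isCohenMacaulayLocalRing_of_regular L
  by_cases hf : algebraMap A L f = 0
  · rw [← H8Props.FlatDepth.isCM_iff_dim]
    have hbot : Ideal.span {algebraMap A L f} = (⊥ : Ideal L) := by rw [hf]; simp
    rw [H8Props.FlatDepth.isCM_iff_dim, ringKrullDim_eq_of_ringEquiv
      ((Ideal.quotEquivOfEq hbot).trans (RingEquiv.quotientBot L)),
      (H8Props.FlatDepth.isCM_iff_dim L).mp inferInstance]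
    congr 1
    refine Eq.trans ?_ (H8Props.FlatDepth.depth_eq_of_surjective (R := L)
      (S := L ⧸ Ideal.span {algebraMap A L f}) (M := L ⧸ Ideal.span {algebraMap A L f})
      Ideal.Quotient.mk_surjective).symm
    exact H4Depth.depth_congr ((Submodule.quotEquivOfEqBot _ hbot).symm)
  · have hreg' : IsSMulRegular L (algebraMap A L f) :=
      fun a b h => mul_left_cancel₀ hf h
    have hmem : algebraMap A L f ∈ maximalIdeal L := by
      rw [IsLocalization.AtPrime.to_map_mem_maximal_iff L p]
      simp [p, g, Ideal.Quotient.eq_zero_iff_mem.mpr (Ideal.mem_span_singleton_self f)]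
    have h1 := ringKrullDim_quotient_span_singleton_succ_eq_ringKrullDim hreg' hmem
    have h2 := H8Props.FlatDepth.depth_self_quotient_add_one L hmem hreg' _ rfl
    have h3 := (H8Props.FlatDepth.isCM_iff_dim L).mp inferInstance
    rw [← h1, ← h2, WithBot.coe_add, WithBot.coe_one] at h3
    exact H4Depth.withBot_add_one_cancel h3

theorem isIntegrallyClosed_quotient_iff_R1 (A : Type u) [CommRing A] [IsNoetherianRing A]
    (hreg : ∀ (p : Ideal A) (_ : p.IsPrime), IsRegularLocalRing (Localization.AtPrime p))
    (f : A) (hf : (Ideal.span ({f} : Set A)).IsPrime) :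
    IsIntegrallyClosed (A ⧸ Ideal.span ({f} : Set A)) ↔
      ∀ q : PrimeSpectrum (A ⧸ Ideal.span ({f} : Set A)),
        ringKrullDim (Localization.AtPrime q.asIdeal) = 1 →
          IsRegularLocalRing (Localization.AtPrime q.asIdeal) := by
  haveI := hf
  constructor
  · intro h q hq
    refine (H1CAlg.normal_iff_R1_S2.mp fun p _ => ⟨inferInstance, ?_⟩).1 q.asIdeal ?_
    · exact isIntegrallyClosed_of_isLocalization _ _ p.primeCompl_le_nonZeroDivisors
    · rw [IsLocalization.AtPrime.ringKrullDim_eq_height q.asIdeal] at hq
      exact_mod_cast hq.le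
  · intro h
    have hn := H1CAlg.normal_iff_R1_S2.mpr
      ⟨?_, hasSk_two_quotient_span_singleton A hreg f⟩
    · exact IsIntegrallyClosed.of_localization_maximal fun p _ _ => (hn p).2
    · intro p _ hp
      rcases hp.lt_or_eq with h0 | h1
      · rw [Nat.cast_one, ENat.lt_one_iff_eq_zero] at h0
        have hbot : p = ⊥ := by
          by_contra hne
          have := Ideal.height_add_one_le_of_lt_of_isPrime (bot_lt_iff_ne_bot.mpr hne)
          rw [h0] at this
          simp at this
        subst hbot
        haveI : IsFractionRing (A ⧸ Ideal.span {f})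
            (Localization.AtPrime (⊥ : Ideal (A ⧸ Ideal.span {f}))) := by
          rw [IsFractionRing, ← Ideal.primeCompl_bot]
          infer_instance
        letI := IsFractionRing.toField (A ⧸ Ideal.span {f})
          (K := Localization.AtPrime (⊥ : Ideal (A ⧸ Ideal.span {f})))
        infer_instance
      · refine h ⟨p, inferInstance⟩ ?_
        rw [IsLocalization.AtPrime.ringKrullDim_eq_height p, h1]
        simp

end Groth.Agent.H02CA.SkDescent
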