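import Groth.Agent.H02CA.Completion
import Groth.Agent.S6270
import Mathlib.RingTheory.AdicCompletion.Algebra
import Mathlib.RingTheory.TensorProduct.Basic
import Mathlib.RingTheory.Flat.Stability

/-!
Completions of short exact sequences with flat, projective modulo `I`, quotient split.
-/

set_option autoImplicit false
set_option linter.style.haveILetI false
set_option linter.unusedSectionVars false

universe u

open scoped TensorProduct

namespace Groth.Agent.H02CA.SplitCompletion

variable {R : Type u} [CommRing R] (I : Ideal R) (M : Type u) [AddCommGroup M] [Module R M]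

/-- `M / I^n M` is projective over `R / I^n`. -/
theorem projective_quot_pow [Module.Flat R M] [Module.Projective (R ⧸ I) (M ⧸ (I • ⊤ : Submodule R M))]
    (n : ℕ) : Module.Projective (R ⧸ I ^ n) (M ⧸ (I ^ n • ⊤ : Submodule R M)) := by
  cases n with
  | zero =>
    haveI : Subsingleton (M ⧸ (I ^ 0 • ⊤ : Submodule R M)) := by
      rw [pow_zero, Ideal.one_eq_top, Submodule.top_smul]
      exact Submodule.Quotient.subsingleton_iff.2 rfl
    exact Module.Projective.of_free
  | succ n =>
  let J : Ideal (R ⧸ I ^ (n + 1)) := I.map (Ideal.Quotient.mk _)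
  let T := (R ⧸ I ^ (n + 1)) ⧸ J
  letI : Algebra (R ⧸ I) T := (Ideal.Quotient.lift I ((Ideal.Quotient.mk J).comp (Ideal.Quotient.mk _))
    fun a ha => Ideal.Quotient.eq_zero_iff_mem.2 (Ideal.mem_map_of_mem _ ha)).toAlgebra
  haveI : IsScalarTower R (R ⧸ I) T := IsScalarTower.of_algebraMap_eq fun a => rfl
  have e0 := (TensorProduct.quotTensorEquivQuotSMul M I).extendScalarsOfSurjective
    (R := R) (S := R ⧸ I) Ideal.Quotient.mk_surjective
  haveI : Module.Projective (R ⧸ I) ((R ⧸ I) ⊗[R] M) := Module.Projective.of_equiv e0.symm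
  haveI hT : Module.Projective T (T ⊗[R] M) :=
    Module.Projective.of_equiv (TensorProduct.AlgebraTensorModule.cancelBaseChange R (R ⧸ I) T T M)
  have hJ : IsNilpotent J := ⟨n + 1, by
    show J ^ (n + 1) = ⊥
    rw [← Ideal.map_pow, Ideal.map_eq_bot_iff_le_ker, Ideal.mk_ker]⟩
  haveI : Module.Projective (R ⧸ I ^ (n + 1)) ((R ⧸ I ^ (n + 1)) ⊗[R] M) :=
    S6270.result J hJ _
      (Module.Projective.of_equiv (TensorProduct.AlgebraTensorModule.cancelBaseChange R (R ⧸ I ^ (n + 1)) T T M).symm)
  exact Module.Projective.of_equiv ((TensorProduct.quotTensorEquivQuotSMul M (I ^ (n + 1))).extendScalarsOfSurjective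
    (R := R) (S := R ⧸ I ^ (n + 1)) Ideal.Quotient.mk_surjective)

/-- Lifting out of a module projective over a quotient ring, into modules killed by the ideal. -/
theorem exists_lift (J : Ideal R) {X Y Z : Type*} [AddCommGroup X] [Module R X] [Module (R ⧸ J) X]
    [IsScalarTower R (R ⧸ J) X] [Module.Projective (R ⧸ J) X] [AddCommGroup Y] [Module R Y]
    [AddCommGroup Z] [Module R Z] (f : Y →ₗ[R] Z) (h : X →ₗ[R] Z) (hr : ∀ x, h x ∈ LinearMap.range f)
    (hY : ∀ r ∈ J, ∀ y : Y, r • y = 0) : ∃ h' : X →ₗ[R] Y, f ∘ₗ h' = h := by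
  obtain ⟨s, hs⟩ := Module.projective_def'.1 (inferInstance : Module.Projective (R ⧸ J) X)
  choose y hy using hr
  let L : (X →₀ R ⧸ J) →ₗ[R] Y :=
    Finsupp.lsum R fun x => Submodule.liftQ J (LinearMap.toSpanSingleton R Y (y x)) fun r hrJ =>
      LinearMap.mem_ker.2 (hY r hrJ _)
  refine ⟨L ∘ₗ s.restrictScalars R, LinearMap.ext fun x => ?_⟩
  have key : f ∘ₗ L = h ∘ₗ (Finsupp.linearCombination (R ⧸ J) id).restrictScalars R := by
    refine Finsupp.lhom_ext fun a c => ?_
    obtain ⟨r, rfl⟩ := Ideal.Quotient.mk_surjective c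
    simp only [L, LinearMap.comp_apply, Finsupp.lsum_single, LinearMap.coe_restrictScalars,
      Finsupp.linearCombination_single, id]
    have e1 : (Ideal.Quotient.mk J r : R ⧸ J) • a = r • a := algebraMap_smul (R ⧸ J) r a
    rw [e1, map_smul, ← hy a]
    exact map_smul f r (y a)
  have := LinearMap.congr_fun key (s x)
  refine this.trans (congrArg h ?_)
  exact LinearMap.congr_fun hs x

variable {I M} {P : Type u} [AddCommGroup P] [Module R P] (g : P →ₗ[R] M)

theorem step (hg : Function.Surjective g) [Module.Flat R M]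
    [Module.Projective (R ⧸ I) (M ⧸ (I • ⊤ : Submodule R M))] (n : ℕ)
    (s : M ⧸ (I ^ n • ⊤ : Submodule R M) →ₗ[R] P ⧸ (I ^ n • ⊤ : Submodule R P))
    (hs : ∀ x, LinearMap.reduceModIdeal (I ^ n) g (s x) = x) :
    ∃ t : M ⧸ (I ^ (n + 1) • ⊤ : Submodule R M) →ₗ[R] P ⧸ (I ^ (n + 1) • ⊤ : Submodule R P),
      (∀ x, LinearMap.reduceModIdeal (I ^ (n + 1)) g (t x) = x) ∧
      ∀ x, AdicCompletion.transitionMap I P n.le_succ (t x) =
        s (AdicCompletion.transitionMap I M n.le_succ x) := by
  haveI := projective_quot_pow I M (n + 1)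
  let f := ((LinearMap.reduceModIdeal (I ^ (n + 1)) g).restrictScalars R).prod (AdicCompletion.transitionMap I P n.le_succ)
  let h := LinearMap.id.prod (s ∘ₗ AdicCompletion.transitionMap I M n.le_succ)
  have hr : ∀ x, h x ∈ LinearMap.range f := by
    intro x
    obtain ⟨m, rfl⟩ := Submodule.Quotient.mk_surjective _ x
    obtain ⟨p, hp⟩ := Submodule.Quotient.mk_surjective _ (s (Submodule.Quotient.mk m))
    have hz : g p - m ∈ (I ^ n • ⊤ : Submodule R M) := by
      rw [← Submodule.Quotient.eq]
      have := hs (Submodule.Quotient.mk m)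
      rw [← hp] at this
      exact this
    have hmap : Submodule.map g (I ^ n • ⊤ : Submodule R P) = I ^ n • ⊤ := by
      rw [Submodule.map_smul'', Submodule.map_top, LinearMap.range_eq_top.2 hg]
    obtain ⟨i, hi, e⟩ := hmap.ge hz
    refine ⟨Submodule.Quotient.mk (p - i), Prod.ext ?_ ?_⟩
    · show (Submodule.Quotient.mk (g (p - i)) : M ⧸ (I ^ (n + 1) • ⊤ : Submodule R M)) = Submodule.Quotient.mk m
      rw [map_sub, e]; congr 1; abel
    · show (Submodule.Quotient.mk (p - i) : P ⧸ (I ^ n • ⊤ : Submodule R P)) = s (Submodule.Quotient.mk m)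
      rw [← hp, Submodule.Quotient.eq]
      simpa using hi
  obtain ⟨t, ht⟩ := exists_lift (I ^ (n + 1)) f h hr fun r hr y => by
    obtain ⟨p, rfl⟩ := Submodule.Quotient.mk_surjective _ y
    rw [← Submodule.Quotient.mk_smul, Submodule.Quotient.mk_eq_zero]
    exact Submodule.smul_mem_smul hr Submodule.mem_top
  exact ⟨t, fun x => congrArg Prod.fst (LinearMap.congr_fun ht x),
    fun x => congrArg Prod.snd (LinearMap.congr_fun ht x)⟩

/-- The section on completions. -/
theorem exists_section (hg : Function.Surjective g) [Module.Flat R M]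
    [Module.Projective (R ⧸ I) (M ⧸ (I • ⊤ : Submodule R M))] :
    ∃ s : AdicCompletion I M →ₗ[AdicCompletion I R] AdicCompletion I P,
      AdicCompletion.map I g ∘ₗ s = LinearMap.id := by
  choose next h₁ h₂ using step (I := I) g hg
  haveI : Subsingleton (M ⧸ (I ^ 0 • ⊤ : Submodule R M)) := by
    rw [pow_zero, Ideal.one_eq_top, Submodule.top_smul]
    exact Submodule.Quotient.subsingleton_iff.2 rfl
  let s : (n : ℕ) → {s : M ⧸ (I ^ n • ⊤ : Submodule R M) →ₗ[R] P ⧸ (I ^ n • ⊤ : Submodule R P) //
      ∀ x, LinearMap.reduceModIdeal (I ^ n) g (s x) = x} := fun n =>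
    Nat.rec ⟨0, fun x => Subsingleton.elim _ _⟩ (fun n t => ⟨next n t.1 t.2, h₁ n t.1 t.2⟩) n
  have hc : ∀ {m n : ℕ} (h : m ≤ n) x, AdicCompletion.transitionMap I P h ((s n).1 x) =
      (s m).1 (AdicCompletion.transitionMap I M h x) := by
    intro m n h
    induction n, h using Nat.le_induction with
    | base => intro x; obtain ⟨x, rfl⟩ := Submodule.Quotient.mk_surjective _ x
              obtain ⟨y, hy⟩ := Submodule.Quotient.mk_surjective _ ((s m).1 (Submodule.Quotient.mk x))
              rw [← hy]; exact hy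
    | succ n h ih =>
      intro x
      have e := h₂ n (s n).1 (s n).2 x
      obtain ⟨y, hy⟩ := Submodule.Quotient.mk_surjective _ ((s (n + 1)).1 x)
      obtain ⟨x, rfl⟩ := Submodule.Quotient.mk_surjective _ x
      refine Eq.trans ?_ (ih (AdicCompletion.transitionMap I M n.le_succ (Submodule.Quotient.mk x)))
      rw [← e, ← hy]
      rfl
  refine ⟨{ toFun := fun x => ⟨fun n => (s n).1 (x.val n),
              fun {m n} h => (hc h (x.val n)).trans (congrArg (s m).1 (x.property h))⟩
            map_add' := fun x y => AdicCompletion.ext fun n => map_add (s n).1 _ _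
            map_smul' := fun r x => AdicCompletion.ext fun n => ?_ }, ?_⟩
  · show (s n).1 (r.val n • x.val n) = r.val n • (s n).1 (x.val n)
    obtain ⟨r0, hr0⟩ := Submodule.Quotient.mk_surjective _ (r.val n)
    rw [← hr0]
    obtain ⟨m, hm⟩ := Submodule.Quotient.mk_surjective _ (x.val n)
    obtain ⟨p, hp⟩ := Submodule.Quotient.mk_surjective _ ((s n).1 (x.val n))
    rw [← hm] at hp ⊢
    rw [← hp]
    show (s n).1 (r0 • Submodule.Quotient.mk m) = r0 • Submodule.Quotient.mk p
    rw [map_smul, hp]
  · exact LinearMap.ext fun x => AdicCompletion.ext fun n => (s n).2 (x.val n)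

end Groth.Agent.H02CA.SplitCompletion
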