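import Groth.Agent.H3CAlg.TorLES
import Groth.Agent.H1CAlg.Tor
import Groth.Agent.S5776
import Mathlib.CategoryTheory.Abelian.LeftDerived
import Mathlib.Algebra.Category.ModuleCat.Monoidal.Closed
import Mathlib.CategoryTheory.Linear.LinearFunctor
import Mathlib.CategoryTheory.Monoidal.Linear
import Mathlib.RingTheory.Localization.Away.Basic
import Mathlib.RingTheory.Regular.RegularSequence

/-!
# Tor of the top Čech cokernel of a regular sequence
-/

set_option autoImplicit false
universe u

open CategoryTheory CategoryTheory.Limits MonoidalCategory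

namespace Groth.Agent.H02CA.TopCechTor

variable {A : Type u} [CommRing A]

/-- An element killing `κ` and bijective on `W` kills `Tor(W, κ)`. -/
theorem isZero_tor_of_bijective (W κ : ModuleCat.{u} A) (x : A)
    (hW : Function.Bijective fun w : W => x • w) (hκ : ∀ v : κ, x • v = 0) (i : ℕ) :
    IsZero (((Tor (ModuleCat.{u} A) i).obj W).obj κ) := by
  let P := projectiveResolution κ
  let F := (tensoringLeft (ModuleCat.{u} A)).obj W
  let G := F.mapHomologicalComplex (ComplexShape.down ℕ)
  refine IsZero.of_iso ?_ (P.isoLeftDerivedObj F i)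
  have hc : (x • 𝟙 P.complex) ≫ P.π = 0 := by
    rw [Linear.smul_comp, Category.id_comp]
    refine HomologicalComplex.to_single_hom_ext ?_
    ext v
    apply (ModuleCat.mono_iff_injective
      (HomologicalComplex.singleObjXSelf (ComplexShape.down ℕ) 0 κ).hom).mp inferInstance
    refine Eq.trans ?_ (map_zero _).symm
    rw [HomologicalComplex.smul_f_apply, ModuleCat.hom_smul, LinearMap.smul_apply]
    exact (map_smul _ x _).trans (hκ _)
  let φ : G.obj P.complex ⟶ G.obj P.complex := G.map (x • 𝟙 P.complex)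
  have h0 : HomologicalComplex.homologyMap φ i = 0 :=
    ((F.mapHomotopy (ProjectiveResolution.liftHomotopyZero _ hc)).homologyMap_eq i).trans
      (by rw [Functor.map_zero, HomologicalComplex.homologyMap_zero])
  have hx : IsIso (x • 𝟙 W) := (ConcreteCategory.isIso_iff_bijective _).mpr
    ((congrArg Function.Bijective (funext fun w => rfl)).mpr hW)
  have hφ : ∀ j, IsIso (φ.f j) := fun j => by
    have e : φ.f j = (x • 𝟙 W) ▷ P.complex.X j := by
      show W ◁ ((x • 𝟙 P.complex).f j) = _
      rw [HomologicalComplex.smul_f_apply, HomologicalComplex.id_f, MonoidalLinear.whiskerLeft_smul,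
        MonoidalLinear.smul_whiskerRight, whiskerLeft_id, id_whiskerRight]
    rw [e]
    haveI := hx
    exact (whiskerRightIso (asIso (x • 𝟙 W)) (P.complex.X j)).isIso_hom
  haveI : IsIso φ := HomologicalComplex.Hom.isIso_of_components φ
  haveI : IsIso (HomologicalComplex.homologyMap φ i) :=
    inferInstanceAs (IsIso ((HomologicalComplex.homologyFunctor _ _ i).map φ))
  rw [IsZero.iff_id_eq_zero]
  exact (cancel_mono (HomologicalComplex.homologyMap φ i)).mp (by rw [h0, comp_zero, comp_zero])

theorem nonempty_tor_zero_self (κ : ModuleCat.{u} A) :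
    Nonempty (((Tor (ModuleCat.{u} A) 0).obj (ModuleCat.of A A)).obj κ ≅ κ) := by
  let F := (tensoringLeft (ModuleCat.{u} A)).obj (ModuleCat.of A A)
  haveI : PreservesFiniteColimits F :=
    inferInstanceAs (PreservesFiniteColimits (tensorLeft (ModuleCat.of A A)))
  exact ⟨(F.leftDerivedZeroIsoSelf).app κ ≪≫ λ_ κ⟩

section Frac

variable (t : A) {j : ℕ} (y : Fin j → A)

/-- `a / t^n`. -/
noncomputable def fr (n : ℕ) : A →ₗ[A] Localization.Away t :=
  LinearMap.toSpanSingleton A _ (IsLocalization.Away.invSelf t ^ n)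

theorem fr_apply (n : ℕ) (a : A) :
    fr t n a = algebraMap A _ a * IsLocalization.Away.invSelf t ^ n :=
  Algebra.smul_def a _

/-- The fractions `y_i^n / t^n`. -/
noncomputable abbrev Num : Submodule A (Localization.Away t) :=
  Submodule.span A {z : Localization.Away t | ∃ (i : Fin j) (n : ℕ),
    z = algebraMap A (Localization.Away t) (y i ^ n) * IsLocalization.Away.invSelf t ^ n}

theorem fr_shift (n k : ℕ) (a : A) : fr t (n + k) (t ^ k * a) = fr t n a := by
  rw [fr_apply, fr_apply, map_mul, map_pow, pow_add]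
  calc _ = algebraMap A (Localization.Away t) a * IsLocalization.Away.invSelf t ^ n *
        (algebraMap A (Localization.Away t) t * IsLocalization.Away.invSelf t) ^ k := by ring
    _ = _ := by rw [IsLocalization.Away.mul_invSelf, one_pow, mul_one]

theorem fr_surjective (z : Localization.Away t) : ∃ n a, fr t n a = z := by
  obtain ⟨a, ⟨_, n, rfl⟩, rfl⟩ := IsLocalization.exists_mk'_eq (Submonoid.powers t) z
  refine ⟨n, a, ?_⟩
  rw [IsLocalization.eq_mk'_iff_mul_eq, fr_apply]
  simp only [map_pow]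
  rw [mul_assoc, ← mul_pow, mul_comm (IsLocalization.Away.invSelf _) (algebraMap _ _ _),
    IsLocalization.Away.mul_invSelf, one_pow, mul_one]

theorem fr_mem {n : ℕ} {a : A} (ha : a ∈ Ideal.span (Set.range fun i => y i ^ n)) : fr t n a ∈ Num t y := by
  have hle : Ideal.span (Set.range fun i => y i ^ n) ≤ (Num t y).comap (fr t n) :=
    Submodule.span_le.mpr <| by
      rintro _ ⟨i, rfl⟩
      exact Submodule.subset_span ⟨i, n, fr_apply t n _⟩
  exact hle ha

variable (hdvd : ∀ i, y i ∣ t)

include hdvd in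
theorem pow_mul_mem {n : ℕ} (k : ℕ) {a : A} (ha : a ∈ Ideal.span (Set.range fun i => y i ^ n)) :
    t ^ k * a ∈ Ideal.span (Set.range fun i => y i ^ (n + k)) := by
  induction ha using Submodule.span_induction with
  | mem z hz =>
    obtain ⟨i, rfl⟩ := hz
    obtain ⟨c, hc⟩ := pow_dvd_pow_of_dvd (hdvd i) k
    rw [hc, show y i ^ k * c * y i ^ n = c * y i ^ (n + k) by ring]
    exact Ideal.mul_mem_left _ c (Ideal.subset_span ⟨i, rfl⟩)
  | zero => rw [mul_zero]; exact zero_mem _
  | add a b _ _ ha hb => rw [mul_add]; exact add_mem ha hb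
  | smul s a _ ha => rw [smul_eq_mul, mul_left_comm]; exact Ideal.mul_mem_left _ s ha

include hdvd in
theorem exists_of_mem {z : Localization.Away t} (hz : z ∈ Num t y) :
    ∃ (m : ℕ) (c : A), c ∈ Ideal.span (Set.range fun i => y i ^ m) ∧ z = fr t m c := by
  induction hz using Submodule.span_induction with
  | mem z hz =>
    obtain ⟨i, n, rfl⟩ := hz
    exact ⟨n, _, Ideal.subset_span ⟨i, rfl⟩, (fr_apply t n _).symm⟩
  | zero => exact ⟨0, 0, zero_mem _, (map_zero _).symm⟩
  | add a b _ _ ha hb =>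
    obtain ⟨m, c, hc, rfl⟩ := ha
    obtain ⟨n, e, he, rfl⟩ := hb
    refine ⟨m + n, t ^ n * c + t ^ m * e, add_mem (pow_mul_mem t y hdvd n hc) ?_, ?_⟩
    · rw [add_comm m n]; exact pow_mul_mem t y hdvd m he
    · rw [map_add, fr_shift]
      congr 1
      rw [add_comm m n, fr_shift]
  | smul s a _ ha =>
    obtain ⟨m, c, hc, rfl⟩ := ha
    exact ⟨m, s * c, Ideal.mul_mem_left _ s hc, (map_smul _ _ _).symm⟩

include hdvd in
theorem fr_mem_iff {n : ℕ} {a : A} :
    fr t n a ∈ Num t y ↔ ∃ k, t ^ k * a ∈ Ideal.span (Set.range fun i => y i ^ (n + k)) := by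
  refine ⟨fun h => ?_, fun ⟨k, hk⟩ => fr_shift t n k a ▸ fr_mem t y hk⟩
  obtain ⟨m, c, hc, he⟩ := exists_of_mem t y hdvd h
  rw [← fr_shift t n m a, ← fr_shift t m n c, add_comm m n, fr_apply, fr_apply] at he
  obtain ⟨⟨_, l, rfl⟩, hl⟩ := IsLocalization.exists_of_eq (M := Submonoid.powers t)
    ((IsUnit.mul_left_inj (IsUnit.pow _ (IsUnit.of_mul_eq_one_right _
      (IsLocalization.Away.mul_invSelf t)))).mp he)
  simp only at hl
  refine ⟨l + m, ?_⟩
  have h2 := pow_mul_mem t y hdvd (l + n) hc
  rw [show m + (l + n) = n + (l + m) by ring] at h2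
  convert! h2 using 1
  rw [pow_add, pow_add, mul_assoc, hl, mul_assoc]

end Frac

/-- The top Čech cokernel. -/
noncomputable abbrev Q (t : A) {j : ℕ} (y : Fin j → A) : Type u := Localization.Away t ⧸ Num t y

theorem fr_smul_invert (t b : A) (n : ℕ) (a : A) : b • fr (t * b) (n + 1) (t * a) = fr (t * b) n a := by
  rw [← map_smul, smul_eq_mul, show b * (t * a) = (t * b) ^ 1 * a by ring, fr_shift]

section Step

variable (t b : A) {j : ℕ} (y : Fin j → A) (hdvd : ∀ i, y i ∣ t)

/-- `A_t → A_{tb}`. -/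
noncomputable def g : Localization.Away t →ₗ[A] Localization.Away (t * b) where
  toFun := IsLocalization.Away.awayToAwayRight t b
  map_add' := map_add _
  map_smul' r z := by
    simp only [Algebra.smul_def, map_mul, IsLocalization.Away.awayToAwayRight_eq, RingHom.id_apply]

theorem g_fr (n : ℕ) (a : A) : g t b (fr t n a) = fr (t * b) n (b ^ n * a) := by
  have hu : IsUnit (algebraMap A (Localization.Away (t * b)) t) :=
    isUnit_of_dvd_unit (map_dvd _ (dvd_mul_right t b)) (IsUnit.of_mul_eq_one _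
      (IsLocalization.Away.mul_invSelf (t * b)))
  refine (IsUnit.mul_right_inj (hu.pow n)).mp ?_
  have h1 : algebraMap A (Localization.Away t) (t ^ n) * fr t n a = algebraMap A _ a := by
    rw [← Algebra.smul_def, ← map_smul, smul_eq_mul]
    have := fr_shift t 0 n a
    rw [zero_add] at this
    rw [this, fr_apply, pow_zero, mul_one]
  have h2 := congrArg (IsLocalization.Away.awayToAwayRight t b : Localization.Away t →+* Localization.Away (t * b)) h1
  rw [map_mul, IsLocalization.Away.awayToAwayRight_eq, IsLocalization.Away.awayToAwayRight_eq, map_pow] at h2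
  refine h2.trans ?_
  rw [← map_pow, ← Algebra.smul_def, ← map_smul, smul_eq_mul, show t ^ n * (b ^ n * a) = (t * b) ^ n * a by ring]
  have := fr_shift (t * b) 0 n a
  rw [zero_add] at this
  rw [this, fr_apply, pow_zero, mul_one]

/-- The middle term. -/
noncomputable abbrev W : Type u := Localization.Away (t * b) ⧸ Num (t * b) y

include hdvd in
theorem dvd_mul (i : Fin j) : y i ∣ t * b := Dvd.dvd.mul_right (hdvd i) b

include hdvd in
theorem bijective_W : Function.Bijective fun w : W t b y => b • w := by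
  constructor
  · show Function.Injective (LinearMap.lsmul A (W t b y) b)
    rw [injective_iff_map_eq_zero]
    intro w hw
    obtain ⟨z, rfl⟩ := Submodule.Quotient.mk_surjective _ w
    obtain ⟨n, a, rfl⟩ := fr_surjective (t * b) z
    rw [LinearMap.lsmul_apply, ← Submodule.Quotient.mk_smul, Submodule.Quotient.mk_eq_zero, ← map_smul,
      fr_mem_iff _ _ (dvd_mul t b y hdvd), smul_eq_mul] at hw
    obtain ⟨k, hk⟩ := hw
    rw [Submodule.Quotient.mk_eq_zero, fr_mem_iff _ _ (dvd_mul t b y hdvd)]
    refine ⟨k + 1, ?_⟩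
    have := pow_mul_mem t y hdvd 1 hk
    rw [show n + (k + 1) = n + k + 1 by ring]
    convert! this using 1
    ring
  · intro w
    obtain ⟨z, rfl⟩ := Submodule.Quotient.mk_surjective _ w
    obtain ⟨n, a, rfl⟩ := fr_surjective (t * b) z
    exact ⟨Submodule.Quotient.mk (fr (t * b) (n + 1) (t * a)),
      (Submodule.Quotient.mk_smul _ b _).symm.trans (congrArg _ (fr_smul_invert t b n a))⟩

/-- The first map. -/
noncomputable def ι : Q t y →ₗ[A] W t b y :=
  Submodule.mapQ _ _ (g t b) <| Submodule.span_le.mpr <| by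
    rintro _ ⟨i, n, rfl⟩
    rw [SetLike.mem_coe, Submodule.mem_comap, ← fr_apply, g_fr]
    exact fr_mem (t * b) y (Ideal.mul_mem_left _ _ (Ideal.subset_span ⟨i, rfl⟩))

theorem ι_mk (z : Localization.Away t) :
    ι t b y (Submodule.Quotient.mk z) = Submodule.Quotient.mk (g t b z) := rfl

include hdvd in
theorem ι_injective
    (hb : ∀ m, 1 ≤ m → ∀ r, b * r ∈ Ideal.span (Set.range fun i => y i ^ m) →
      r ∈ Ideal.span (Set.range fun i => y i ^ m)) :
    Function.Injective (ι t b y) := by
  rw [injective_iff_map_eq_zero]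
  intro q hq
  obtain ⟨z, rfl⟩ := Submodule.Quotient.mk_surjective _ q
  obtain ⟨n, a, rfl⟩ := fr_surjective t z
  rw [ι_mk, Submodule.Quotient.mk_eq_zero, g_fr, fr_mem_iff _ _ (dvd_mul t b y hdvd)] at hq
  obtain ⟨k, hk⟩ := hq
  rw [Submodule.Quotient.mk_eq_zero, fr_mem_iff _ _ hdvd]
  refine ⟨k + 1, ?_⟩
  have h1 := pow_mul_mem t y hdvd 1 hk
  rw [show t ^ 1 * ((t * b) ^ k * (b ^ n * a)) = b ^ (k + n) * (t ^ (k + 1) * a) by ring,
    show n + k + 1 = n + (k + 1) by ring] at h1
  revert h1
  generalize k + n = e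
  induction e with
  | zero => intro h1; rwa [pow_zero, one_mul] at h1
  | succ e ih =>
    intro h1
    refine ih (hb _ (by omega) _ ?_)
    rwa [pow_succ', mul_assoc] at h1

/-- The larger family. -/
noncomputable abbrev y' : Fin (j + 1) → A := Fin.snoc y b

theorem Num_le : Num (t * b) y ≤ Num (t * b) (y' b y) := Submodule.span_mono <| by
  rintro _ ⟨i, n, rfl⟩
  exact ⟨i.castSucc, n, by rw [y', Fin.snoc_castSucc]⟩

/-- The second map. -/
noncomputable def π : W t b y →ₗ[A] Q (t * b) (y' b y) := Submodule.factor (Num_le t b y)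

theorem exact_ι_π : Function.Exact (ι t b y) (π t b y) := by
  intro w
  constructor
  · obtain ⟨z, rfl⟩ := Submodule.Quotient.mk_surjective _ w
    intro hz
    have hz' : z ∈ Num (t * b) (y' b y) := (Submodule.Quotient.mk_eq_zero _).mp hz
    have hle : Num (t * b) (y' b y) ≤ (LinearMap.range (ι t b y)).comap (Num (t * b) y).mkQ :=
      Submodule.span_le.mpr <| by
        rintro _ ⟨i, n, rfl⟩
        induction i using Fin.lastCases with
        | last =>
          refine ⟨Submodule.Quotient.mk (fr t n 1), ?_⟩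
          rw [ι_mk, g_fr, mul_one, fr_apply, y', Fin.snoc_last]
          rfl
        | cast i =>
          refine ⟨0, ?_⟩
          rw [map_zero, Submodule.mkQ_apply, eq_comm, Submodule.Quotient.mk_eq_zero]
          exact Submodule.subset_span ⟨i, n, by rw [y', Fin.snoc_castSucc]⟩
    exact hle hz'
  · rintro ⟨q, rfl⟩
    obtain ⟨z, rfl⟩ := Submodule.Quotient.mk_surjective _ q
    obtain ⟨n, a, rfl⟩ := fr_surjective t z
    rw [ι_mk, g_fr]
    show Submodule.Quotient.mk (fr (t * b) n (b ^ n * a)) = (0 : Q (t * b) (y' b y))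
    rw [Submodule.Quotient.mk_eq_zero]
    exact fr_mem _ _ (Ideal.mul_mem_right _ _ (Ideal.subset_span
      ⟨Fin.last j, by simp only [y', Fin.snoc_last]⟩))

end Step

theorem isSMulRegular_last {j : ℕ} (x : Fin (j + 1) → A)
    (hx : RingTheory.Sequence.IsWeaklyRegular A (List.ofFn x)) (m : ℕ) (hm : 1 ≤ m) (r : A)
    (hr : x (Fin.last j) * r ∈ Ideal.span (Set.range fun i => Fin.init x i ^ m)) :
    r ∈ Ideal.span (Set.range fun i => Fin.init x i ^ m) := by
  have h2 := S5776.result A A (j + 1) x (Fin.snoc (fun _ => m) 1)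
    (fun i => by induction i using Fin.lastCases <;> simp [hm]) hx
  rw [List.ofFn_succ', List.concat_eq_append, RingTheory.Sequence.isWeaklyRegular_append_iff,
    RingTheory.Sequence.isWeaklyRegular_singleton_iff] at h2
  have hI : (Ideal.ofList (List.ofFn fun i : Fin j => x i.castSucc ^ Fin.snoc (α := fun _ => ℕ) (fun _ => m) 1 i.castSucc) •
      ⊤ : Submodule A A) = Ideal.span (Set.range fun i => Fin.init x i ^ m) := by
    rw [smul_eq_mul, Ideal.mul_top]
    refine congrArg Ideal.span (Set.ext fun a => ?_)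
    simp only [Set.mem_setOf_eq, List.mem_ofFn, Set.mem_range, Fin.snoc_castSucc, Fin.init_def]
  rw [← hI, ← Submodule.Quotient.mk_eq_zero]
  refine h2.2.right_eq_zero_of_smul ?_
  rw [Fin.snoc_last, pow_one, ← Submodule.Quotient.mk_smul, Submodule.Quotient.mk_eq_zero, hI]
  exact hr

/-- `Tor` of the top Čech cokernel against a module killed by the sequence. -/
theorem tor_topCech (κ : ModuleCat.{u} A) : ∀ (j : ℕ) (x : Fin j → A),
    RingTheory.Sequence.IsWeaklyRegular A (List.ofFn x) → (∀ i (v : κ), x i • v = 0) →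
    (∀ i, i ≠ j → IsZero (((Tor (ModuleCat.{u} A) i).obj (ModuleCat.of A (Q (∏ i, x i) x))).obj κ)) ∧
      Nonempty (((Tor (ModuleCat.{u} A) j).obj (ModuleCat.of A (Q (∏ i, x i) x))).obj κ ≅ κ) := by
  intro j
  induction j with
  | zero =>
    intro x _ _
    have hu : IsUnit (∏ i, x i) := by simp
    let eL := IsLocalization.atUnit A (Localization.Away (∏ i, x i)) (∏ i, x i) hu
    have hN : Num (∏ i, x i) x = ⊥ := Submodule.span_eq_bot.mpr fun z ⟨i, _⟩ => i.elim0
    let e : A ≃ₗ[A] Q (∏ i, x i) x := eL.toLinearEquiv ≪≫ₗ (Submodule.quotEquivOfEqBot _ hN).symm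
    let ei := fun i => ((Tor (ModuleCat.{u} A) i).mapIso e.toModuleIso).app κ
    refine ⟨fun i hi => ?_, ?_⟩
    · obtain ⟨n, rfl⟩ := Nat.exists_eq_add_one_of_ne_zero hi
      haveI : Module.Flat A (ModuleCat.of A A) := inferInstanceAs (Module.Flat A A)
      exact (Groth.Agent.H1CAlg.isZero_Tor_of_flat (ModuleCat.of A A) κ n).of_iso (ei (n + 1)).symm
    · obtain ⟨e'⟩ := nonempty_tor_zero_self κ
      exact ⟨(ei 0).symm ≪≫ e'⟩
  | succ j ih =>
    intro x hx hκ
    let y := Fin.init x
    let b := x (Fin.last j)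
    let t := ∏ i, y i
    have hdvd : ∀ i, y i ∣ t := fun i => Finset.dvd_prod_of_mem y (Finset.mem_univ i)
    obtain ⟨h1, ⟨h2⟩⟩ := ih y (by
      rw [List.ofFn_succ', List.concat_eq_append, RingTheory.Sequence.isWeaklyRegular_append_iff] at hx
      exact hx.1) (fun i => hκ i.castSucc)
    let S := ShortComplex.mk (ModuleCat.ofHom (ι t b y)) (ModuleCat.ofHom (π t b y))
      (ModuleCat.hom_ext (exact_ι_π t b y).linearMap_comp_eq_zero)
    have hS : S.ShortExact :=
      { exact := (ShortComplex.ShortExact.moduleCat_exact_iff_function_exact S).mpr (exact_ι_π t b y)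
        mono_f := (ModuleCat.mono_iff_injective _).mpr
          (ι_injective t b y hdvd fun m hm r hr => isSMulRegular_last x hx m hm r hr)
        epi_g := (ModuleCat.epi_iff_surjective _).mpr
          (Submodule.factor_surjective (Num_le t b y)) }
    have hW : ∀ i, IsZero (((Tor (ModuleCat.{u} A) i).obj S.X₂).obj κ) := fun i =>
      isZero_tor_of_bijective _ κ b (bijective_W t b y hdvd) (fun v => hκ _ v) i
    have key : ∀ i, Nonempty (((Tor (ModuleCat.{u} A) (i + 1)).obj S.X₃).obj κ ≅
        ((Tor (ModuleCat.{u} A) i).obj S.X₁).obj κ) := fun i => by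
      obtain ⟨-, -, δ, w₁, w₂, e₁, e₂⟩ := Groth.Agent.H3CAlg.Tor.les₁ κ S hS i
      haveI : Mono δ := e₁.mono_g ((hW (i + 1)).eq_of_src _ _)
      haveI : Epi δ := e₂.epi_f ((hW i).eq_of_tgt _ _)
      haveI : IsIso δ := isIso_of_mono_of_epi δ
      exact ⟨asIso δ⟩
    have h0 : IsZero (((Tor (ModuleCat.{u} A) 0).obj S.X₃).obj κ) := by
      obtain ⟨-, hepi, -⟩ := Groth.Agent.H3CAlg.Tor.les₁ κ S hS 0
      exact IsZero.of_epi (((Tor (ModuleCat.{u} A) 0).map S.g).app κ) (hW 0)
    have hx' : y' b y = x := Fin.snoc_init_self x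
    have ht : t * b = ∏ i, x i := (Fin.prod_univ_castSucc x).symm
    revert h0 key
    show ((∀ i, Nonempty (((Tor (ModuleCat.{u} A) (i + 1)).obj (ModuleCat.of A (Q (t * b) (y' b y)))).obj κ ≅
        ((Tor (ModuleCat.{u} A) i).obj (ModuleCat.of A (Q t y))).obj κ)) →
      IsZero (((Tor (ModuleCat.{u} A) 0).obj (ModuleCat.of A (Q (t * b) (y' b y)))).obj κ) → _)
    rw [hx', ht]
    intro key h0
    refine ⟨fun i hi => ?_, ?_⟩
    · cases i with
      | zero => exact h0
      | succ i =>
        obtain ⟨e⟩ := key i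
        exact (h1 i (by omega)).of_iso e
    · obtain ⟨e⟩ := key j
      exact ⟨e ≪≫ h2⟩

end Groth.Agent.H02CA.TopCechTor
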