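import Groth.Agent.H4Cech.Map
import Groth.Agent.H02CA.KoszExtCechH

/-!
# The extended Čech construction on a complex

`tot fs K` iterates the cocone of `L → L_f`.  It is exact when some entry of `fs` is invertible on
`K`; it does not change `K` when `K` becomes exact after inverting each entry.
-/

set_option autoImplicit false
set_option linter.unusedSectionVars false

namespace Groth.Agent.H02CA.TC

universe u

open CategoryTheory CategoryTheory.Limits CochainComplex
open Groth.Agent.H4Cech (kl fstc sndc locC exists_lmk locC_d locCxUnit_f lmap lmap_mk lmap_exact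
  cocone_ext exists_cocone fstc_d sndc_d d_eq_zero_iff BijTerms bijective_smul_localized ExactAt')

variable {A : Type u} [CommRing A]

/-- `tot fs K`: iterated cocones of the localisation maps. -/
noncomputable def tot : List A → DRing.Cx A → DRing.Cx A
  | [], K => K
  | f :: fs, K => mappingCocone (DerCA.locCxUnit (Submonoid.powers f) (tot fs K))

theorem tot_single (M : ModuleCat.{u} A) : ∀ fs : List A,
    tot fs ((HomologicalComplex.single (ModuleCat.{u} A) (ComplexShape.up ℤ) 0).obj M) =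
      DerCA.extCech M fs
  | [] => rfl
  | f :: fs => by
    have h : ∀ {K K' : DRing.Cx A}, K = K' →
        mappingCocone (DerCA.locCxUnit (Submonoid.powers f) K) =
          mappingCocone (DerCA.locCxUnit (Submonoid.powers f) K') := fun e => by subst e; rfl
    exact h (tot_single M fs)

/-- First component. -/
noncomputable def fT (f : A) (fs : List A) (K : DRing.Cx A) (p : ℤ) :
    (tot (f :: fs) K).X p →ₗ[A] (tot fs K).X p :=
  fstc (DerCA.locCxUnit (Submonoid.powers f) (tot fs K)) p

/-- Second component. -/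
noncomputable def sT (f : A) (fs : List A) (K : DRing.Cx A) (q p : ℤ) (h : q + 1 = p) :
    (tot (f :: fs) K).X p →ₗ[A] LocalizedModule (Submonoid.powers f) ((tot fs K).X q) :=
  sndc (DerCA.locCxUnit (Submonoid.powers f) (tot fs K)) q p h

theorem T_ext {f : A} {fs : List A} {K : DRing.Cx A} {q p : ℤ} (h : q + 1 = p)
    {x y : (tot (f :: fs) K).X p} (h₁ : fT f fs K p x = fT f fs K p y)
    (h₂ : sT f fs K q p h x = sT f fs K q p h y) : x = y :=
  cocone_ext (DerCA.locCxUnit (Submonoid.powers f) (tot fs K)) h h₁ h₂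

theorem exists_T (f : A) (fs : List A) (K : DRing.Cx A) (q p : ℤ) (h : q + 1 = p)
    (a : (tot fs K).X p) (b : LocalizedModule (Submonoid.powers f) ((tot fs K).X q)) :
    ∃ x, fT f fs K p x = a ∧ sT f fs K q p h x = b :=
  exists_cocone (DerCA.locCxUnit (Submonoid.powers f) (tot fs K)) q p h a b

theorem fT_d (f : A) (fs : List A) (K : DRing.Cx A) (p p' : ℤ) (x : (tot (f :: fs) K).X p) :
    fT f fs K p' (((tot (f :: fs) K).d p p').hom x) = ((tot fs K).d p p').hom (fT f fs K p x) :=
  fstc_d (DerCA.locCxUnit (Submonoid.powers f) (tot fs K)) p p' x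

theorem sT_d (f : A) (fs : List A) (K : DRing.Cx A) {q p p' : ℤ} (h : q + 1 = p) (h' : p + 1 = p')
    (x : (tot (f :: fs) K).X p) :
    sT f fs K p p' h' (((tot (f :: fs) K).d p p').hom x) =
      -LocalizedModule.mk (fT f fs K p x) 1 -
        lmap f ((tot fs K).d q p).hom (sT f fs K q p h x) :=
  sndc_d (DerCA.locCxUnit (Submonoid.powers f) (tot fs K)) h h' x

/-! ## Exactness up to powers of an element -/

/-- Cycles in degree `p` are boundaries after multiplying by a power of `f`. -/
def ExP (f : A) (C : DRing.Cx A) (p : ℤ) : Prop :=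
  ∀ (q p' : ℤ), q + 1 = p → p + 1 = p' → ∀ x : C.X p, (C.d p p').hom x = 0 →
    ∃ (n : ℕ) (y : C.X q), (C.d q p).hom y = f ^ n • x

theorem exP_one_iff {C : DRing.Cx A} {p : ℤ} : ExP 1 C p ↔ ExactAt' C p := by
  constructor
  · intro h x hx
    obtain ⟨n, y, hy⟩ := h (p - 1) (p + 1) (by omega) rfl x hx
    exact ⟨y, by rw [hy, one_pow, one_smul]⟩
  · intro h q p' hq hp x hx
    obtain rfl : q = p - 1 := by omega
    obtain rfl : p' = p + 1 := hp.symm
    obtain ⟨y, hy⟩ := h x hx
    exact ⟨0, y, by rw [hy, pow_zero, one_smul]⟩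

theorem exP_of_exactAt {C : DRing.Cx A} {p : ℤ} (h : ExactAt' C p) (f : A) : ExP f C p := by
  intro q p' hq hp x hx
  obtain ⟨n, y, hy⟩ := exP_one_iff.2 h q p' hq hp x hx
  exact ⟨0, y, by rw [hy, one_pow, pow_zero]⟩

theorem exP_cocone {K L : DRing.Cx A} (φ : K ⟶ L) {f : A} (p : ℤ) (hK : ExP f K p)
    (hL : ∀ q, q + 1 = p → ExP f L q) : ExP f (mappingCocone φ) p := by
  intro q p' hq hp x hx
  obtain ⟨hx₁, hx₂⟩ := (d_eq_zero_iff φ hq hp x).1 hx
  obtain ⟨n, c, hc⟩ := hK q p' hq hp _ hx₁
  have hcomm : (φ.f p).hom ((K.d q p).hom c) = (L.d q p).hom ((φ.f q).hom c) :=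
    (congrArg (fun e => e.hom c) (φ.comm q p)).symm
  have hcyc : (L.d q p).hom (f ^ n • sndc φ q p hq x + (φ.f q).hom c) = 0 := by
    rw [map_add, map_smul, ← hcomm, hc, map_smul, ← smul_add, add_comm, hx₂, smul_zero]
  obtain ⟨m, e, he⟩ := hL q hq (q - 1) p (by omega) hq _ hcyc
  obtain ⟨y, hy₁, hy₂⟩ := exists_cocone φ (q - 1) q (by omega) (f ^ m • c) (-e)
  refine ⟨m + n, y, cocone_ext φ hq ?_ ?_⟩
  · refine (fstc_d φ q p y).trans ?_
    rw [hy₁, map_smul, hc, map_smul, smul_smul, pow_add]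
  · refine (sndc_d φ (show q - 1 + 1 = q by omega) hq y).trans ?_
    rw [hy₁, hy₂, map_neg, map_smul, map_smul, he, smul_add, smul_smul, pow_add]
    abel

theorem exP_locC {C : DRing.Cx A} {f : A} {p : ℤ} (h : ExP f C p) (g : A) :
    ExP f (locC g C) p := by
  intro q p' hq hp z hz
  obtain ⟨x, s, rfl⟩ := exists_lmk g z
  rw [locC_d] at hz
  obtain ⟨t, ht⟩ := LocalizedModule.mk_eq.1 (hz.trans (LocalizedModule.zero_mk 1).symm)
  simp only [one_smul, smul_zero, Submonoid.smul_def] at ht
  obtain ⟨n, y, hy⟩ := h q p' hq hp ((t : A) • x) (by rw [map_smul]; exact ht)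
  refine ⟨n, H4Cech.lmk g y (t * s), ?_⟩
  rw [locC_d, hy]
  refine Eq.trans ?_ (LocalizedModule.smul'_mk _ _ _).symm
  refine LocalizedModule.mk_eq.2 ⟨1, ?_⟩
  simp only [Submonoid.smul_def, Submonoid.coe_one, one_smul, smul_smul, Submonoid.coe_mul]
  congr 1
  ring

theorem exactAt_locC_self {C : DRing.Cx A} {f : A} {p : ℤ} (h : ExP f C p) :
    ExactAt' (locC f C) p := by
  intro z hz
  obtain ⟨x, s, rfl⟩ := exists_lmk f z
  rw [locC_d] at hz
  obtain ⟨t, ht⟩ := LocalizedModule.mk_eq.1 (hz.trans (LocalizedModule.zero_mk 1).symm)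
  simp only [one_smul, smul_zero, Submonoid.smul_def] at ht
  obtain ⟨n, y, hy⟩ := h (p - 1) (p + 1) (by omega) rfl ((t : A) • x) (by rw [map_smul]; exact ht)
  refine ⟨H4Cech.lmk f y (⟨f ^ n, n, rfl⟩ * (t * s)), ?_⟩
  rw [locC_d, hy]
  refine LocalizedModule.mk_eq.2 ⟨1, ?_⟩
  simp only [Submonoid.smul_def, Submonoid.coe_one, one_smul, smul_smul, Submonoid.coe_mul]
  congr 1
  ring

theorem exP_tot {f : A} {K : DRing.Cx A} (h : ∀ p, ExP f K p) :
    ∀ (fs : List A) (p : ℤ), ExP f (tot fs K) p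
  | [], p => h p
  | g :: fs, p => exP_cocone _ p (exP_tot h fs p) fun q _ => exP_locC (exP_tot h fs q) g

/-! ## An invertible entry -/

theorem bijective_pow_smul {N : Type u} [AddCommGroup N] [Module A N] {f : A}
    (h : Function.Bijective fun m : N => f • m) :
    ∀ k : ℕ, Function.Bijective fun m : N => f ^ k • m
  | 0 => by simp only [pow_zero, one_smul]; exact Function.bijective_id
  | k + 1 => by simpa [Function.comp_def, smul_smul, pow_succ] using (bijective_pow_smul h k).comp h

theorem bijective_mk_one {N : Type u} [AddCommGroup N] [Module A N] {f : A}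
    (h : Function.Bijective fun m : N => f • m) :
    Function.Bijective fun m : N => LocalizedModule.mk m (1 : Submonoid.powers f) := by
  constructor
  · intro a b hab
    obtain ⟨⟨_, k, rfl⟩, hk⟩ := LocalizedModule.mk_eq.1 hab
    simp only [Submonoid.smul_def, one_smul] at hk
    exact (bijective_pow_smul h k).1 hk
  · intro z
    induction z using LocalizedModule.induction_on with
    | h a s =>
      obtain ⟨_, k, rfl⟩ := s
      obtain ⟨b, hb⟩ := (bijective_pow_smul h k).2 a
      exact ⟨b, LocalizedModule.mk_eq.2 ⟨1, by simpa [Submonoid.smul_def] using hb⟩⟩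

theorem bijTerms_tot {g : A} {K : DRing.Cx A} (h : BijTerms g K) :
    ∀ fs : List A, BijTerms g (tot fs K)
  | [] => h
  | f :: fs => fun p => by
    let e := kl (DerCA.locCxUnit (Submonoid.powers f) (tot fs K)) (p - 1) p (by omega)
    have : (fun x : (tot (f :: fs) K).X p => g • x) =
        e.symm ∘ (Prod.map (g • ·) (g • ·)) ∘ e := funext fun x =>
      (e.injective ((e.apply_symm_apply _).trans (map_smul e g x).symm)).symm
    rw [this]
    exact e.symm.bijective.comp (((bijTerms_tot h fs p).prodMap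
      (bijective_smul_localized f g (bijTerms_tot h fs (p - 1)))).comp e.bijective)

theorem exactAt_cocone_of_bijective {K L : DRing.Cx A} (φ : K ⟶ L)
    (hb : ∀ q, Function.Bijective (φ.f q).hom) (p : ℤ) : ExactAt' (mappingCocone φ) p := by
  intro x hx
  obtain ⟨-, hx₂⟩ := (d_eq_zero_iff φ (q := p - 1) (by omega) rfl x).1 hx
  obtain ⟨c, hc⟩ := (hb (p - 1)).2 (sndc φ (p - 1) p (by omega) x)
  obtain ⟨y, hy₁, hy₂⟩ := exists_cocone φ (p - 1 - 1) (p - 1) (by omega) (-c) 0
  have hcomm : (φ.f p).hom ((K.d (p - 1) p).hom c) = (L.d (p - 1) p).hom ((φ.f (p - 1)).hom c) :=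
    (congrArg (fun e => e.hom c) (φ.comm (p - 1) p)).symm
  have hfst : fstc φ p x = -(K.d (p - 1) p).hom c := by
    refine (hb p).1 ?_
    rw [map_neg, hcomm, hc, ← eq_neg_iff_add_eq_zero.2 hx₂]
  refine ⟨y, cocone_ext φ (q := p - 1) (by omega) ?_ ?_⟩
  · refine (fstc_d φ (p - 1) p y).trans ?_
    rw [hy₁, map_neg, hfst]
  · refine (sndc_d φ (q := p - 1 - 1) (by omega) (show p - 1 + 1 = p by omega) y).trans ?_
    rw [hy₁, hy₂, map_neg, map_zero, neg_neg, sub_zero, hc]

theorem exactAt_tot_of_bijTerms {g : A} {K : DRing.Cx A} (h : BijTerms g K) :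
    ∀ (fs : List A), g ∈ fs → ∀ p, ExactAt' (tot fs K) p := by
  intro fs
  induction fs with
  | nil => exact fun hg => absurd hg List.not_mem_nil
  | cons f fs ih =>
    intro hg p
    by_cases hgf : g = f
    · subst hgf
      exact exactAt_cocone_of_bijective (DerCA.locCxUnit (Submonoid.powers g) (tot fs K))
        (fun q => bijective_mk_one (bijTerms_tot h fs q)) p
    · have hgfs : g ∈ fs := (List.mem_cons.1 hg).resolve_left hgf
      exact exP_one_iff.1 (exP_cocone (DerCA.locCxUnit (Submonoid.powers f) (tot fs K)) p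
        (exP_one_iff.2 (ih hgfs p)) fun q _ => exP_locC (exP_one_iff.2 (ih hgfs q)) f)

/-! ## Support -/

theorem subsingleton_tot {K : DRing.Cx A} {b : ℤ} (h : ∀ p < b, Subsingleton (K.X p)) :
    ∀ (fs : List A), ∀ p < b, Subsingleton ((tot fs K).X p)
  | [], p, hp => h p hp
  | f :: fs, p, hp => by
    have := subsingleton_tot h fs p hp
    have := subsingleton_tot h fs (p - 1) (by omega)
    have : Subsingleton ((locC f (tot fs K)).X (p - 1)) :=
      subsingleton_of_forall_eq 0 fun z => by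
        obtain ⟨x, s, rfl⟩ := exists_lmk f z
        rw [Subsingleton.elim x 0]
        exact LocalizedModule.zero_mk s
    exact (kl (DerCA.locCxUnit (Submonoid.powers f) (tot fs K)) (p - 1) p (by omega)).toEquiv.subsingleton

/-! ## Degreewise maps -/

section Maps

variable {K L P : DRing.Cx A}

/-- The induced degreewise map. -/
noncomputable def mapT (g : ∀ p, K.X p →ₗ[A] L.X p) :
    ∀ (fs : List A) (p : ℤ), (tot fs K).X p →ₗ[A] (tot fs L).X p
  | [], p => g p
  | f :: fs, p =>
    (kl (DerCA.locCxUnit (Submonoid.powers f) (tot fs L)) (p - 1) p (by omega)).symm.toLinearMap ∘ₗ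
      (mapT g fs p).prodMap (lmap f (mapT g fs (p - 1))) ∘ₗ
        (kl (DerCA.locCxUnit (Submonoid.powers f) (tot fs K)) (p - 1) p (by omega)).toLinearMap

variable (g : ∀ p, K.X p →ₗ[A] L.X p) (h : ∀ p, L.X p →ₗ[A] P.X p)

theorem mapT_fst (f : A) (fs : List A) (p : ℤ) (x : (tot (f :: fs) K).X p) :
    fT f fs L p (mapT g (f :: fs) p x) = mapT g fs p (fT f fs K p x) :=
  congrArg Prod.fst ((kl (DerCA.locCxUnit (Submonoid.powers f) (tot fs L)) (p - 1) p
    (by omega)).apply_symm_apply _)

theorem mapT_snd (f : A) (fs : List A) (q p : ℤ) (hq : q + 1 = p) (x : (tot (f :: fs) K).X p) :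
    sT f fs L q p hq (mapT g (f :: fs) p x) = lmap f (mapT g fs q) (sT f fs K q p hq x) := by
  obtain rfl : q = p - 1 := by omega
  exact congrArg Prod.snd ((kl (DerCA.locCxUnit (Submonoid.powers f) (tot fs L)) (p - 1) p
    (by omega)).apply_symm_apply _)

theorem mapT_d (hg : ∀ (p p' : ℤ), p + 1 = p' → ∀ x, g p' ((K.d p p').hom x) = (L.d p p').hom (g p x)) :
    ∀ (fs : List A) (p p' : ℤ), p + 1 = p' → ∀ x : (tot fs K).X p,
      mapT g fs p' (((tot fs K).d p p').hom x) = ((tot fs L).d p p').hom (mapT g fs p x)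
  | [], p, p', hp, x => hg p p' hp x
  | f :: fs, p, p', hp, x => by
    refine T_ext hp ?_ ?_
    · rw [mapT_fst, fT_d, fT_d, mapT_fst, mapT_d hg fs p p' hp]
    · rw [mapT_snd, sT_d f fs K (q := p - 1) (by omega) hp, sT_d f fs L (q := p - 1) (by omega) hp,
        mapT_fst, mapT_snd, map_sub, map_neg, lmap_mk]
      induction sT f fs K (p - 1) p (by omega) x using LocalizedModule.induction_on with
      | h a s => rw [lmap_mk, lmap_mk, lmap_mk, lmap_mk, mapT_d hg fs (p - 1) p (by omega)]

theorem mapT_injective (hg : ∀ p, Function.Injective (g p)) :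
    ∀ (fs : List A) (p : ℤ), Function.Injective (mapT g fs p)
  | [], p => hg p
  | f :: fs, p => fun x y hxy => by
    refine T_ext (show p - 1 + 1 = p by omega) (mapT_injective hg fs p ?_) ?_
    · rw [← mapT_fst, ← mapT_fst, hxy]
    · refine IsLocalizedModule.map_injective (Submonoid.powers f)
        (LocalizedModule.mkLinearMap (Submonoid.powers f) ((tot fs K).X (p - 1)))
        (LocalizedModule.mkLinearMap (Submonoid.powers f) ((tot fs L).X (p - 1)))
        (mapT g fs (p - 1)) (mapT_injective hg fs (p - 1)) ?_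
      change lmap f _ _ = lmap f _ _
      rw [← mapT_snd, ← mapT_snd, hxy]

theorem mapT_surjective (hg : ∀ p, Function.Surjective (g p)) :
    ∀ (fs : List A) (p : ℤ), Function.Surjective (mapT g fs p)
  | [], p => hg p
  | f :: fs, p => fun y => by
    obtain ⟨a, ha⟩ := mapT_surjective hg fs p (fT f fs L p y)
    obtain ⟨b, hb⟩ : ∃ b, lmap f (mapT g fs (p - 1)) b = sT f fs L (p - 1) p (by omega) y :=
      IsLocalizedModule.map_surjective (Submonoid.powers f)
        (LocalizedModule.mkLinearMap (Submonoid.powers f) ((tot fs K).X (p - 1)))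
        (LocalizedModule.mkLinearMap (Submonoid.powers f) ((tot fs L).X (p - 1)))
        (mapT g fs (p - 1)) (mapT_surjective hg fs (p - 1)) _
    obtain ⟨x, hx₁, hx₂⟩ := exists_T f fs K (p - 1) p (by omega) a b
    refine ⟨x, T_ext (show p - 1 + 1 = p by omega) ?_ ?_⟩
    · rw [mapT_fst, hx₁, ha]
    · rw [mapT_snd, hx₂, hb]

theorem mapT_exact (hgh : ∀ p, Function.Exact (g p) (h p)) :
    ∀ (fs : List A) (p : ℤ), Function.Exact (mapT g fs p) (mapT h fs p)
  | [], p => hgh p
  | f :: fs, p => fun y => by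
    constructor
    · intro hy
      obtain ⟨a, ha⟩ := (mapT_exact hgh fs p (fT f fs L p y)).1 (by rw [← mapT_fst, hy, map_zero])
      obtain ⟨b, hb⟩ := (lmap_exact f (mapT_exact hgh fs (p - 1))
        (sT f fs L (p - 1) p (by omega) y)).1 (by rw [← mapT_snd, hy, map_zero])
      obtain ⟨x, hx₁, hx₂⟩ := exists_T f fs K (p - 1) p (by omega) a b
      refine ⟨x, T_ext (show p - 1 + 1 = p by omega) ?_ ?_⟩
      · rw [mapT_fst, hx₁, ha]
      · rw [mapT_snd, hx₂, hb]
    · rintro ⟨x, rfl⟩
      refine T_ext (show p - 1 + 1 = p by omega) ?_ ?_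
      · rw [mapT_fst, mapT_fst, (mapT_exact hgh fs p).apply_apply_eq_zero, map_zero]
      · rw [mapT_snd, mapT_snd, (lmap_exact f (mapT_exact hgh fs (p - 1))).apply_apply_eq_zero,
          map_zero]

theorem lmap_comp (f : A) {U V W : Type u} [AddCommGroup U] [Module A U] [AddCommGroup V]
    [Module A V] [AddCommGroup W] [Module A W] (a : U →ₗ[A] V) (b : V →ₗ[A] W) :
    lmap f (b ∘ₗ a) = lmap f b ∘ₗ lmap f a := by
  refine LinearMap.ext fun z => ?_
  induction z using LocalizedModule.induction_on with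
  | h m s => rw [LinearMap.comp_apply, lmap_mk, lmap_mk, lmap_mk]; rfl

theorem mapT_comp : ∀ (fs : List A) (p : ℤ),
    mapT (fun p => h p ∘ₗ g p) fs p = mapT h fs p ∘ₗ mapT g fs p
  | [], p => rfl
  | f :: fs, p => by
    refine LinearMap.ext fun x => T_ext (show p - 1 + 1 = p by omega) ?_ ?_
    · rw [mapT_fst, LinearMap.comp_apply, mapT_fst, mapT_fst, mapT_comp fs p]; rfl
    · rw [mapT_snd, LinearMap.comp_apply, mapT_snd, mapT_snd, mapT_comp fs (p - 1), lmap_comp]; rfl

theorem mapT_sum {ι : Type*} (s : Finset ι) (G : ι → ∀ p, K.X p →ₗ[A] L.X p) :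
    ∀ (fs : List A) (p : ℤ), mapT (fun p => ∑ a ∈ s, G a p) fs p = ∑ a ∈ s, mapT (G a) fs p
  | [], p => rfl
  | f :: fs, p => by
    refine LinearMap.ext fun x => T_ext (show p - 1 + 1 = p by omega) ?_ ?_
    · rw [mapT_fst, mapT_sum s G fs p, LinearMap.sum_apply, LinearMap.sum_apply, map_sum]
      exact Finset.sum_congr rfl fun a _ => (mapT_fst (G a) f fs p x).symm
    · rw [mapT_snd, mapT_sum s G fs (p - 1), LinearMap.sum_apply, map_sum]
      refine Eq.trans ?_ (Finset.sum_congr rfl fun a _ => (mapT_snd (G a) f fs (p - 1) p (by omega) x).symm)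
      induction sT f fs K (p - 1) p (by omega) x using LocalizedModule.induction_on with
      | h m t =>
        simp only [lmap_mk, LinearMap.sum_apply]
        obtain ⟨_, k, rfl⟩ := t
        exact map_sum (KEC.divPow f k _) _ _

theorem mapT_id : ∀ (fs : List A) (p : ℤ),
    mapT (fun p => (LinearMap.id : K.X p →ₗ[A] K.X p)) fs p = LinearMap.id
  | [], p => rfl
  | f :: fs, p => by
    refine LinearMap.ext fun x => T_ext (show p - 1 + 1 = p by omega) ?_ ?_
    · rw [mapT_fst, mapT_id fs p]; rfl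
    · rw [mapT_snd, mapT_id fs (p - 1)]
      induction sT f fs K (p - 1) p (by omega) x using LocalizedModule.induction_on with
      | h m s => rw [lmap_mk]; rfl

end Maps

/-! ## The projection to `K` -/

/-- The projection `tot fs K → K`. -/
noncomputable def proj (K : DRing.Cx A) : ∀ (fs : List A) (p : ℤ), (tot fs K).X p →ₗ[A] K.X p
  | [], _ => LinearMap.id
  | f :: fs, p => proj K fs p ∘ₗ fT f fs K p

theorem proj_d (K : DRing.Cx A) : ∀ (fs : List A) (p p' : ℤ) (x : (tot fs K).X p),
    proj K fs p' (((tot fs K).d p p').hom x) = (K.d p p').hom (proj K fs p x)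
  | [], _, _, _ => rfl
  | f :: fs, p, p', x => by
    simp only [proj, LinearMap.comp_apply, fT_d, proj_d K fs p p']

theorem proj_surjective (K : DRing.Cx A) : ∀ (fs : List A) (p : ℤ),
    Function.Surjective (proj K fs p)
  | [], _ => Function.surjective_id
  | f :: fs, p => fun y => by
    obtain ⟨a, ha⟩ := proj_surjective K fs p y
    obtain ⟨x, hx, -⟩ := exists_T f fs K (p - 1) p (by omega) a 0
    exact ⟨x, by rw [proj, LinearMap.comp_apply, hx, ha]⟩

theorem exists_of_proj_eq_zero (K : DRing.Cx A) : ∀ (fs : List A),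
    (∀ f ∈ fs, ∀ p, ExP f K p) → ∀ (q p p' : ℤ), q + 1 = p → p + 1 = p' →
      ∀ x : (tot fs K).X p, proj K fs p x = 0 → ((tot fs K).d p p').hom x = 0 →
        ∃ y, proj K fs q y = 0 ∧ ((tot fs K).d q p).hom y = x
  | [], _, q, p, p', _, _, x, hx, _ => ⟨0, map_zero _, by rw [map_zero]; exact hx.symm⟩
  | f :: fs, hK, q, p, p', hq, hp, x, hx, hdx => by
    obtain ⟨hx₁, hx₂⟩ := (d_eq_zero_iff (DerCA.locCxUnit (Submonoid.powers f) (tot fs K)) hq hp x).1 hdx
    obtain ⟨c, hc₀, hc⟩ := exists_of_proj_eq_zero K fs (fun g hg => hK g (List.mem_cons_of_mem f hg))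
      q p p' hq hp (fT f fs K p x) hx hx₁
    let φ := DerCA.locCxUnit (Submonoid.powers f) (tot fs K)
    have hcomm : (φ.f p).hom (((tot fs K).d q p).hom c) =
        ((locC f (tot fs K)).d q p).hom ((φ.f q).hom c) :=
      (congrArg (fun e => e.hom c) (φ.comm q p)).symm
    have hcyc : ((locC f (tot fs K)).d q (q + 1)).hom (sndc φ q p hq x + (φ.f q).hom c) = 0 := by
      rw [hq, map_add, ← hcomm, hc, add_comm]
      exact hx₂
    obtain ⟨e, he⟩ := exactAt_locC_self (exP_tot (hK f List.mem_cons_self) fs q) _ hcyc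
    obtain ⟨y, hy₁, hy₂⟩ := exists_cocone φ (q - 1) q (by omega) c (-e)
    refine ⟨y, ?_, cocone_ext φ hq ?_ ?_⟩
    · exact (congrArg (proj K fs q) hy₁).trans hc₀
    · exact ((fstc_d φ q p y).trans (congrArg ((tot fs K).d q p).hom hy₁)).trans hc
    · refine (sndc_d φ (show q - 1 + 1 = q by omega) hq y).trans ?_
      rw [hy₁, hy₂, map_neg, sub_neg_eq_add, he]
      abel

end Groth.Agent.H02CA.TC
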