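import Groth.Agent.H02CA.TotCech
import Groth.Agent.H4Cech.Compare

/-!
# Comparison of the extended Čech complex with a resolution-like complex
-/

set_option autoImplicit false
set_option linter.unusedSectionVars false

namespace Groth.Agent.H02CA.TC

universe u

open CategoryTheory CategoryTheory.Limits CochainComplex
open Groth.Agent.H4Cech (ExactAt' BijTerms)

variable {A : Type u} [CommRing A]

/-- A degreewise surjection with exact kernel is an isomorphism on cohomology. -/
theorem nonempty_homology_equiv {C D : CochainComplex (ModuleCat.{u} A) ℤ}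
    (g : ∀ p, C.X p →ₗ[A] D.X p)
    (hg : ∀ (p p' : ℤ), p + 1 = p' → ∀ x, g p' ((C.d p p').hom x) = (D.d p p').hom (g p x))
    (hs : ∀ p, Function.Surjective (g p))
    (hk : ∀ q p p' : ℤ, q + 1 = p → p + 1 = p' → ∀ x : C.X p, g p x = 0 → (C.d p p').hom x = 0 →
      ∃ y, g q y = 0 ∧ (C.d q p).hom y = x) (p : ℤ) :
    Nonempty (C.homology p ≃ₗ[A] D.homology p) := by
  let α : LinearMap.ker (C.d p (p + 1)).hom →ₗ[A] LinearMap.ker (D.d p (p + 1)).hom :=
    (g p ∘ₗ Submodule.subtype _).codRestrict _ fun z => by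
      change (D.d p (p + 1)).hom (g p z.1) = 0
      rw [← hg p (p + 1) rfl, z.2, map_zero]
  let β := KEC.cls D p (p + 1) rfl ∘ₗ α
  have hβ : Function.Surjective β := by
    intro y
    obtain ⟨w, rfl⟩ := KEC.cls_surjective D p (p + 1) rfl y
    obtain ⟨x, hx⟩ := hs p w.1
    have h0 : g (p + 1) ((C.d p (p + 1)).hom x) = 0 := by rw [hg p (p + 1) rfl, hx]; exact w.2
    have h1 : (C.d (p + 1) (p + 2)).hom ((C.d p (p + 1)).hom x) = 0 :=
      ConcreteCategory.congr_hom (C.d_comp_d p (p + 1) (p + 2)) x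
    obtain ⟨k, hk₀, hk₁⟩ := hk p (p + 1) (p + 2) rfl (by omega) _ h0 h1
    refine ⟨⟨x - k, by rw [LinearMap.mem_ker, map_sub, hk₁, sub_self]⟩, congrArg (KEC.cls D p (p + 1) rfl) (Subtype.ext ?_)⟩
    change g p (x - k) = w.1
    rw [map_sub, hk₀, sub_zero, hx]
  have hker : LinearMap.ker (KEC.cls C p (p + 1) rfl) = LinearMap.ker β := by
    ext z
    rw [LinearMap.mem_ker, LinearMap.mem_ker, KEC.cls_eq_zero_iff C (p - 1) p (p + 1) (by omega) rfl]
    change _ ↔ KEC.cls D p (p + 1) rfl (α z) = 0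
    rw [KEC.cls_eq_zero_iff D (p - 1) p (p + 1) (by omega) rfl]
    constructor
    · rintro ⟨a, ha⟩
      exact ⟨g (p - 1) a, (hg (p - 1) p (by omega) a).symm.trans (congrArg (g p) ha)⟩
    · rintro ⟨b, hb⟩
      obtain ⟨a, rfl⟩ := hs (p - 1) b
      have h0 : g p (z.1 - (C.d (p - 1) p).hom a) = 0 := by
        rw [map_sub, hg (p - 1) p (by omega)]
        exact sub_eq_zero.2 hb.symm
      obtain ⟨k, -, hk₁⟩ := hk (p - 1) p (p + 1) (by omega) rfl _ h0 (by
        rw [map_sub, z.2, zero_sub, neg_eq_zero]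
        exact ConcreteCategory.congr_hom (C.d_comp_d (p - 1) p (p + 1)) a)
      refine ⟨k + a, ?_⟩
      rw [map_add]
      change (C.d (p - 1) p).hom k + _ = _
      rw [hk₁, sub_add_cancel]
  exact ⟨((KEC.cls C p (p + 1) rfl).quotKerEquivOfSurjective
    (KEC.cls_surjective C p (p + 1) rfl)).symm.trans
      ((Submodule.quotEquivOfEq _ _ hker).trans (β.quotKerEquivOfSurjective hβ))⟩

/-- The kernel of a degreewise map commuting with the differentials. -/
noncomputable def kerCx {C D : DRing.Cx A} (g : ∀ p, C.X p →ₗ[A] D.X p)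
    (hg : ∀ (p p' : ℤ), p + 1 = p' → ∀ x, g p' ((C.d p p').hom x) = (D.d p p').hom (g p x)) :
    DRing.Cx A where
  X p := ModuleCat.of A (LinearMap.ker (g p))
  d p p' := ModuleCat.ofHom (((C.d p p').hom ∘ₗ Submodule.subtype _).codRestrict _ fun z => by
    change g p' ((C.d p p').hom z.1) = 0
    by_cases h : p + 1 = p'
    · rw [hg p p' h, z.2, map_zero]
    · rw [C.shape p p' h]
      exact map_zero _)
  shape p p' h := by
    ext z
    exact congrArg (fun e => e.hom z.1) (C.shape p p' h)
  d_comp_d' i j k _ _ := by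
    ext z
    exact congrArg (fun e => e.hom z.1) (C.d_comp_d i j k)

/-- A module in degree `b`. -/
noncomputable abbrev sgl (b : ℤ) : ModuleCat.{u} A ⥤ DRing.Cx A :=
  HomologicalComplex.single (ModuleCat.{u} A) (ComplexShape.up ℤ) b

theorem subsingleton_single (b p : ℤ) (hp : p ≠ b) (P : ModuleCat.{u} A) :
    Subsingleton (((sgl b).obj P).X p) :=
  ModuleCat.isZero_iff_subsingleton.1 (HomologicalComplex.isZero_single_obj_X _ b P p hp)

/-- `tot fs` of `P` in any degree is exact. -/
def TotExact (fs : List A) (P : ModuleCat.{u} A) : Prop :=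
  ∀ b p, ExactAt' (tot fs ((sgl b).obj P)) p

theorem bijTerms_single {g : A} {P : ModuleCat.{u} A} (h : Function.Bijective fun m : P => g • m)
    (b : ℤ) : BijTerms g ((sgl b).obj P) := fun p => by
  by_cases hp : p = b
  · subst hp
    have e := (HomologicalComplex.singleObjXSelf (ComplexShape.up ℤ) p P).toLinearEquiv
    have : (fun x : ((sgl p).obj P).X p => g • x) = e.symm ∘ (fun m : P => g • m) ∘ e :=
      funext fun x => by
        change g • x = e.symm (g • e x)
        rw [map_smul]
        exact congrArg (g • ·) (e.symm_apply_apply x).symm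
    rw [this]
    exact e.symm.bijective.comp (h.comp e.bijective)
  · have := subsingleton_single b p hp P
    exact ⟨fun x y _ => Subsingleton.elim x y, fun y => ⟨y, Subsingleton.elim _ _⟩⟩

theorem totExact_of_bijective {g : A} {fs : List A} (hg : g ∈ fs) {P : ModuleCat.{u} A}
    (h : Function.Bijective fun m : P => g • m) : TotExact fs P :=
  fun b p => exactAt_tot_of_bijTerms (bijTerms_single h b) fs hg p

/-- The degreewise map of a map of modules. -/
noncomputable abbrev sMap {P Q : ModuleCat.{u} A} (i : P ⟶ Q) (b p : ℤ) :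
    ((sgl b).obj P).X p →ₗ[A] ((sgl b).obj Q).X p := (((sgl b).map i).f p).hom

theorem sMap_d {P Q : ModuleCat.{u} A} (i : P ⟶ Q) (b p p' : ℤ) (_ : p + 1 = p')
    (x : ((sgl b).obj P).X p) :
    sMap i b p' ((((sgl b).obj P).d p p').hom x) = (((sgl b).obj Q).d p p').hom (sMap i b p x) :=
  (congrArg (fun e => e.hom x) (((sgl b).map i).comm p p')).symm

theorem totExact_of_sum {fs : List A} {P : ModuleCat.{u} A} {ι : Type*} [Fintype ι]
    (Q : ι → ModuleCat.{u} A) (e : ∀ a, P ⟶ Q a) (j : ∀ a, Q a ⟶ P)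
    (hsum : ∑ a, e a ≫ j a = 𝟙 P) (hQ : ∀ a, TotExact fs (Q a)) : TotExact fs P := by
  intro b p x hx
  have key : ∀ a, ∃ y, ((tot fs ((sgl b).obj P)).d (p - 1) p).hom y =
      mapT (fun q => sMap (j a) b q ∘ₗ sMap (e a) b q) fs p x := fun a => by
    obtain ⟨y, hy⟩ := hQ a b p (mapT (fun q => sMap (e a) b q) fs p x)
      (by rw [← mapT_d _ (sMap_d (e a) b) fs p (p + 1) rfl, hx, map_zero])
    refine ⟨mapT (fun q => sMap (j a) b q) fs (p - 1) y, ?_⟩
    rw [← mapT_d _ (sMap_d (j a) b) fs (p - 1) p (by omega), hy, mapT_comp]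
    rfl
  choose y hy using key
  have hid : (fun q => ∑ a, sMap (j a) b q ∘ₗ sMap (e a) b q) =
      fun q => (LinearMap.id : ((sgl b).obj P).X q →ₗ[A] ((sgl b).obj P).X q) := funext fun q => by
    have h := congrArg (fun i : P ⟶ P => (((sgl b).map i).f q)) hsum
    have h' : ((∑ a, (sgl b).map (e a) ≫ (sgl b).map (j a)).f q).hom =
        (LinearMap.id : ((sgl b).obj P).X q →ₗ[A] ((sgl b).obj P).X q) := by
      have e1 : (sgl b).map (∑ a, e a ≫ j a) = ∑ a, (sgl b).map (e a) ≫ (sgl b).map (j a) := by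
        simp only [Functor.map_sum, Functor.map_comp]
      rw [← e1, hsum, (sgl b).map_id]
      rfl
    rw [← h']
    let ev : ((sgl b).obj P ⟶ (sgl b).obj P) →+
        (((sgl b).obj P).X q →ₗ[A] ((sgl b).obj P).X q) :=
      AddMonoidHom.mk' (fun i => (i.f q).hom) (fun _ _ => rfl)
    exact (map_sum ev (fun a => (sgl b).map (e a) ≫ (sgl b).map (j a)) Finset.univ).symm
  refine ⟨∑ a, y a, ?_⟩
  rw [map_sum, Finset.sum_congr rfl fun a _ => hy a]
  have h2 := congrFun (congrArg DFunLike.coe (mapT_sum Finset.univ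
    (fun a q => sMap (j a) b q ∘ₗ sMap (e a) b q) fs p)) x
  rw [LinearMap.sum_apply] at h2
  rw [← h2]
  have h3 : mapT (fun q => ∑ a, sMap (j a) b q ∘ₗ sMap (e a) b q) fs p =
      mapT (fun q => (LinearMap.id : ((sgl b).obj P).X q →ₗ[A] ((sgl b).obj P).X q)) fs p := by
    rw [hid]
  rw [h3, mapT_id]
  rfl

theorem totExact_of_equiv {fs : List A} {P Q : ModuleCat.{u} A} (e : P ≅ Q) (h : TotExact fs Q) :
    TotExact fs P :=
  totExact_of_sum (fun _ : Unit => Q) (fun _ => e.hom) (fun _ => e.inv) (by simp) fun _ => h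

theorem totExact_of_subsingleton {fs : List A} {P : ModuleCat.{u} A} (h : Subsingleton P) :
    TotExact fs P :=
  totExact_of_sum (fun a : Empty => a.elim) (fun a => a.elim) (fun a => a.elim)
    (by ext x; exact Subsingleton.elim _ _) fun a => a.elim

/-- A bounded below complex of `TotExact` modules has exact `tot`. -/
theorem exactAt_tot_of_totExact {fs : List A} :
    ∀ (n : ℕ) (b : ℤ) (N : DRing.Cx A) (p : ℤ), p + 1 - b ≤ n → (∀ j < b, Subsingleton (N.X j)) →
      (∀ j, TotExact fs (N.X j)) → ExactAt' (tot fs N) p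
  | 0, b, N, p, hn, hN, _ => fun x _ =>
    ⟨0, @Subsingleton.elim _ (subsingleton_tot hN fs p (by omega)) _ _⟩
  | n + 1, b, N, p, hn, hN, hT => by
    classical
    let g : ∀ q, N.X q →ₗ[A] ((sgl b).obj (N.X b)).X q := fun q =>
      if h : q = b then ((N.XIsoOfEq h).hom ≫
        (HomologicalComplex.singleObjXIsoOfEq (ComplexShape.up ℤ) b (N.X b) q h).inv).hom else 0
    have hg : ∀ (q q' : ℤ), q + 1 = q' → ∀ x,
        g q' ((N.d q q').hom x) = (((sgl b).obj (N.X b)).d q q').hom (g q x) := fun q q' hq x => by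
      rw [HomologicalComplex.single_obj_d]
      by_cases h : q' = b
      · rw [@Subsingleton.elim _ (hN q (by omega)) x 0, map_zero, map_zero]
        rfl
      · simp only [g, dif_neg h]
        rfl
    have hgb : Function.Bijective (g b) := by
      simp only [g, dif_pos rfl]
      exact ((N.XIsoOfEq rfl) ≪≫ (HomologicalComplex.singleObjXIsoOfEq (ComplexShape.up ℤ) b
        (N.X b) b rfl).symm).toLinearEquiv.bijective
    have hgs : ∀ q, Function.Surjective (g q) := fun q => by
      by_cases h : q = b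
      · subst h; exact hgb.2
      · exact fun y => ⟨0, @Subsingleton.elim _ (subsingleton_single b q h _) _ _⟩
    let ι : ∀ q, (kerCx g hg).X q →ₗ[A] N.X q := fun q => Submodule.subtype _
    have hker : ∀ j < b + 1, Subsingleton ((kerCx g hg).X j) := fun j hj =>
      ⟨fun x y => Subtype.ext (by
        rcases (Int.lt_add_one_iff.1 hj).lt_or_eq with h | h
        · exact @Subsingleton.elim _ (hN j h) _ _
        · subst h
          exact hgb.1 (x.2.trans y.2.symm))⟩
    have hT' : ∀ j, TotExact fs ((kerCx g hg).X j) := fun j => by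
      by_cases hj : j < b + 1
      · exact totExact_of_subsingleton (hker j hj)
      · refine totExact_of_equiv (LinearEquiv.toModuleIso (LinearEquiv.ofTop _ ?_)) (hT j)
        refine eq_top_iff.2 fun x _ => ?_
        exact @Subsingleton.elim _ (subsingleton_single b j (by omega) _) _ _
    intro x hx
    obtain ⟨y, hy⟩ := hT b b p (mapT g fs p x) (by rw [← mapT_d g hg fs p (p + 1) rfl, hx, map_zero])
    obtain ⟨y', rfl⟩ := mapT_surjective g hgs fs (p - 1) y
    rw [← mapT_d g hg fs (p - 1) p (by omega)] at hy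
    obtain ⟨z, hz⟩ := (mapT_exact ι g (fun q => LinearMap.exact_subtype_ker_map (g q)) fs p
      (x - ((tot fs N).d (p - 1) p).hom y')).1 (by rw [map_sub, hy, sub_self])
    have hι : ∀ (q q' : ℤ), q + 1 = q' → ∀ w : (kerCx g hg).X q,
        ι q' (((kerCx g hg).d q q').hom w) = (N.d q q').hom (ι q w) := fun _ _ _ _ => rfl
    have hzc : ((tot fs (kerCx g hg)).d p (p + 1)).hom z = 0 := by
      refine mapT_injective ι (fun q => Subtype.val_injective) fs (p + 1) ?_
      rw [mapT_d ι hι fs p (p + 1) rfl, hz, map_sub, hx, map_zero, zero_sub, neg_eq_zero]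
      exact ConcreteCategory.congr_hom ((tot fs N).d_comp_d (p - 1) p (p + 1)) y'
    obtain ⟨w, hw⟩ := exactAt_tot_of_totExact n (b + 1) (kerCx g hg) p (by omega) hker hT' z hzc
    refine ⟨mapT ι fs (p - 1) w + y', ?_⟩
    rw [map_add, ← mapT_d ι hι fs (p - 1) p (by omega), hw, hz, sub_add_cancel]

/-- Main comparison: `C` has `M` in degree `0`, `TotExact` terms in positive degrees, and is exact
after inverting each `f ∈ fs`; then `extCech fs M` has the cohomology of `C`. -/
theorem nonempty_extCech_equiv (fs : List A) (C : DRing.Cx A) (M : ModuleCat.{u} A)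
    (e0 : C.X 0 ≅ M) (hneg : ∀ p < 0, Subsingleton (C.X p))
    (hpos : ∀ p, 0 < p → TotExact fs (C.X p)) (hloc : ∀ f ∈ fs, ∀ p, ExP f C p) (p : ℤ) :
    Nonempty (DerCA.extCechH fs M p ≃ₗ[A] C.homology p) := by
  classical
  obtain ⟨e1⟩ := nonempty_homology_equiv (C := tot fs C) (D := C) (proj C fs)
    (fun q q' _ x => proj_d C fs q q' x) (proj_surjective C fs)
    (fun q r r' hq hr x hx hdx => exists_of_proj_eq_zero C fs hloc q r r' hq hr x hx hdx) p
  let g : ∀ q, C.X q →ₗ[A] ((sgl 0).obj M).X q := fun q =>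
    if h : q = 0 then ((C.XIsoOfEq h).hom ≫ e0.hom ≫
      (HomologicalComplex.singleObjXIsoOfEq (ComplexShape.up ℤ) 0 M q h).inv).hom else 0
  have hg : ∀ (q q' : ℤ), q + 1 = q' → ∀ x,
      g q' ((C.d q q').hom x) = (((sgl 0).obj M).d q q').hom (g q x) := fun q q' hq x => by
    rw [HomologicalComplex.single_obj_d]
    by_cases h : q' = 0
    · rw [@Subsingleton.elim _ (hneg q (by omega)) x 0, map_zero, map_zero]
      rfl
    · simp only [g, dif_neg h]
      rfl
  have hg0 : Function.Bijective (g 0) := by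
    simp only [g, dif_pos rfl]
    exact ((C.XIsoOfEq rfl) ≪≫ e0 ≪≫ (HomologicalComplex.singleObjXIsoOfEq (ComplexShape.up ℤ) 0
      M 0 rfl).symm).toLinearEquiv.bijective
  have hgs : ∀ q, Function.Surjective (g q) := fun q => by
    by_cases h : q = 0
    · subst h; exact hg0.2
    · exact fun y => ⟨0, @Subsingleton.elim _ (subsingleton_single 0 q h M) _ _⟩
  let ι : ∀ q, (kerCx g hg).X q →ₗ[A] C.X q := fun q => Submodule.subtype _
  have hι : ∀ (q q' : ℤ), q + 1 = q' → ∀ w : (kerCx g hg).X q,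
      ι q' (((kerCx g hg).d q q').hom w) = (C.d q q').hom (ι q w) := fun _ _ _ _ => rfl
  have hker : ∀ j < (1 : ℤ), Subsingleton ((kerCx g hg).X j) := fun j hj =>
    ⟨fun x y => Subtype.ext (by
      rcases (Int.lt_add_one_iff.1 (show j < 0 + 1 by omega)).lt_or_eq with h | h
      · exact @Subsingleton.elim _ (hneg j h) _ _
      · subst h
        exact hg0.1 (x.2.trans y.2.symm))⟩
  have hT' : ∀ j, TotExact fs ((kerCx g hg).X j) := fun j => by
    by_cases hj : j < 1
    · exact totExact_of_subsingleton (hker j hj)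
    · refine totExact_of_equiv (LinearEquiv.toModuleIso (LinearEquiv.ofTop _ ?_)) (hpos j (by omega))
      refine eq_top_iff.2 fun x _ => ?_
      exact @Subsingleton.elim _ (subsingleton_single 0 j (by omega) M) _ _
  obtain ⟨e2⟩ := nonempty_homology_equiv (C := tot fs C) (D := tot fs ((sgl 0).obj M))
    (mapT g fs) (fun q q' hq x => mapT_d g hg fs q q' hq x) (mapT_surjective g hgs fs)
    (fun q r r' hq hr x hx hdx => by
      obtain ⟨z, rfl⟩ := (mapT_exact ι g (fun i => LinearMap.exact_subtype_ker_map (g i)) fs r x).1 hx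
      have hzc : ((tot fs (kerCx g hg)).d r r').hom z = 0 := by
        refine mapT_injective ι (fun i => Subtype.val_injective) fs r' ?_
        rw [mapT_d ι hι fs r r' hr, hdx, map_zero]
      obtain ⟨w, hw⟩ := H4Cech.exactAt_elem hq hr
        (exactAt_tot_of_totExact (r + 1 - 1).toNat 1 (kerCx g hg) r (by omega) hker hT') hzc
      refine ⟨mapT ι fs q w,
        (mapT_exact ι g (fun i => LinearMap.exact_subtype_ker_map (g i)) fs q).apply_apply_eq_zero w, ?_⟩
      rw [← mapT_d ι hι fs q r hq, hw]) p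
  exact ⟨((eqToIso (congrArg (fun K : DRing.Cx A => K.homology p) (tot_single M fs))).toLinearEquiv.symm.trans
    e2.symm).trans e1⟩

end Groth.Agent.H02CA.TC
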