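import Groth.Agent.H18Perf.Trace
import Mathlib

/-!
The trace modulo a prime of a finite extension of Dedekind domains.
-/

set_option autoImplicit false
set_option linter.style.haveILetI false
set_option linter.unusedSectionVars false

universe u

open UniqueFactorizationMonoid

namespace Groth.Agent.H02CA.TraceFilt

attribute [local instance] Ideal.Quotient.field

variable {A B : Type u} [CommRing A] [CommRing B] [IsDedekindDomain B] [Algebra A B] [Module.Finite A B]
  (p : Ideal A) [p.IsMaximal] (y : B)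

open Classical in
/-- The trace of `y` on `B/I`. -/
noncomputable def T (I : Ideal B) : A ⧸ p :=
  if h : p ≤ I.comap (algebraMap A B) then
    letI : Algebra (A ⧸ p) (B ⧸ I) := Ideal.Quotient.algebraQuotientOfLEComap h
    Algebra.trace (A ⧸ p) (B ⧸ I) (Ideal.Quotient.mk I y)
  else 0

theorem T_def (I : Ideal B) (h : p ≤ I.comap (algebraMap A B)) :
    T p y I = (letI : Algebra (A ⧸ p) (B ⧸ I) := Ideal.Quotient.algebraQuotientOfLEComap h
      Algebra.trace (A ⧸ p) (B ⧸ I) (Ideal.Quotient.mk I y)) := dif_pos h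

theorem T_top : T p y ⊤ = 0 := by
  rw [T_def p y ⊤ (fun _ _ => trivial)]
  rw [Subsingleton.elim (Ideal.Quotient.mk (⊤ : Ideal B) y) 0, map_zero]

theorem T_mul {J Q : Ideal B} [Q.IsMaximal] (hJ : J ≠ ⊥) (h : p ≤ (J * Q).comap (algebraMap A B)) :
    T p y (J * Q) = T p y J + T p y Q := by
  have hJ' : p ≤ J.comap (algebraMap A B) := h.trans (Ideal.comap_mono Ideal.mul_le_left)
  have hQ' : p ≤ Q.comap (algebraMap A B) := h.trans (Ideal.comap_mono Ideal.mul_le_right)
  rw [T_def p y _ h, T_def p y _ hJ', T_def p y _ hQ']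
  letI i₁ : Algebra (A ⧸ p) (B ⧸ J * Q) := Ideal.Quotient.algebraQuotientOfLEComap h
  letI i₂ : Algebra (A ⧸ p) (B ⧸ J) := Ideal.Quotient.algebraQuotientOfLEComap hJ'
  letI i₃ : Algebra (A ⧸ p) (B ⧸ Q) := Ideal.Quotient.algebraQuotientOfLEComap hQ'
  haveI : IsScalarTower A (A ⧸ p) (B ⧸ J * Q) := .of_algebraMap_eq' rfl
  haveI : IsScalarTower A (A ⧸ p) (B ⧸ J) := .of_algebraMap_eq' rfl
  haveI : IsScalarTower A (A ⧸ p) (B ⧸ Q) := .of_algebraMap_eq' rfl
  haveI : Module.Finite (A ⧸ p) (B ⧸ J * Q) := .of_restrictScalars_finite A _ _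
  haveI : Module.Finite (A ⧸ p) (B ⧸ J) := .of_restrictScalars_finite A _ _
  haveI : Module.Finite (A ⧸ p) (B ⧸ Q) := .of_restrictScalars_finite A _ _
  obtain ⟨a, haJ, ha⟩ : ∃ a ∈ J, a ∉ J * Q := by
    by_contra hcon
    push Not at hcon
    have e : J * Q = J * ⊤ := by rw [Ideal.mul_top]; exact le_antisymm Ideal.mul_le_left hcon
    exact ‹Q.IsMaximal›.ne_top (mul_left_cancel₀ hJ e)
  have hJa : Ideal.span {a} ⊔ J * Q = J := by
    have hle : Ideal.span {a} ⊔ J * Q ≤ J :=
      sup_le ((Ideal.span_singleton_le_iff_mem _).2 haJ) Ideal.mul_le_left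
    obtain ⟨X, hX⟩ := Ideal.dvd_iff_le.2 hle
    have hQX : Q ≤ X := by
      rw [← Ideal.dvd_iff_le, ← mul_dvd_mul_iff_left hJ, Ideal.dvd_iff_le, ← hX]
      exact le_sup_right
    rcases ‹Q.IsMaximal›.eq_of_le (J := X) |> fun f => (em (X = ⊤)).imp id (fun hne => f hne hQX) with hX' | hX'
    · rw [hX, hX', Ideal.mul_top]
    · exfalso
      refine ha ?_
      rw [hX']
      rw [← hX]
      exact Submodule.mem_sup_left (Ideal.subset_span rfl)
  let m : B →ₗ[B] B ⧸ J * Q := (Ideal.Quotient.mkₐ B _).toLinearMap ∘ₗ LinearMap.mulRight B a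
  have hker : ∀ b, m b = 0 ↔ b ∈ Q := by
    intro b
    constructor
    · intro hb
      by_contra hbQ
      obtain ⟨c, q, hq, e⟩ := ‹Q.IsMaximal›.exists_inv hbQ
      refine ha ?_
      have hb' : b * a ∈ J * Q := Ideal.Quotient.eq_zero_iff_mem.1 hb
      rw [show a = c * (b * a) + a * q by linear_combination (-a) * e]
      exact add_mem (Ideal.mul_mem_left _ _ hb') (Ideal.mul_mem_mul haJ hq)
    · intro hb
      refine Ideal.Quotient.eq_zero_iff_mem.2 ?_
      show b * a ∈ J * Q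
      rw [mul_comm b]
      exact Ideal.mul_mem_mul haJ hb
  let i₀ : B ⧸ Q →ₗ[B] B ⧸ J * Q := Submodule.liftQ Q m fun b hb => LinearMap.mem_ker.2 ((hker b).2 hb)
  have hi₀ : ∀ b, i₀ (Ideal.Quotient.mk Q b) = Ideal.Quotient.mk _ (b * a) := fun b => rfl
  let i : B ⧸ Q →ₗ[A ⧸ p] B ⧸ J * Q :=
    { i₀.toAddMonoidHom with
      map_smul' := fun c z => by
        obtain ⟨r, rfl⟩ := Ideal.Quotient.mk_surjective c
        obtain ⟨b, rfl⟩ := Ideal.Quotient.mk_surjective z
        rw [RingHom.id_apply, Algebra.smul_def, Algebra.smul_def]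
        show i₀ (Ideal.Quotient.mk Q (algebraMap A B r) * Ideal.Quotient.mk Q b) =
          Ideal.Quotient.mk _ (algebraMap A B r) * i₀ (Ideal.Quotient.mk Q b)
        rw [← map_mul, hi₀, hi₀, ← map_mul, mul_assoc] }
  let pr : B ⧸ J * Q →ₗ[A ⧸ p] B ⧸ J :=
    { (Ideal.Quotient.factor (Ideal.mul_le_left : J * Q ≤ J)).toAddMonoidHom with
      map_smul' := fun c z => by
        obtain ⟨r, rfl⟩ := Ideal.Quotient.mk_surjective c
        obtain ⟨b, rfl⟩ := Ideal.Quotient.mk_surjective z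
        rw [RingHom.id_apply, Algebra.smul_def, Algebra.smul_def]
        rfl }
  have hinj : Function.Injective i := by
    rw [injective_iff_map_eq_zero]
    intro z hz
    obtain ⟨b, rfl⟩ := Ideal.Quotient.mk_surjective z
    exact Ideal.Quotient.eq_zero_iff_mem.2 ((hker b).1 hz)
  have hsurj : Function.Surjective pr := Ideal.Quotient.factor_surjective Ideal.mul_le_left
  have hex : Function.Exact i pr := by
    intro z
    constructor
    · intro hz
      obtain ⟨b, rfl⟩ := Ideal.Quotient.mk_surjective z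
      have hb : b ∈ Ideal.span {a} ⊔ J * Q := by rw [hJa]; exact Ideal.Quotient.eq_zero_iff_mem.1 hz
      obtain ⟨u, hu, w, hw, rfl⟩ := Submodule.mem_sup.1 hb
      obtain ⟨c, rfl⟩ := Ideal.mem_span_singleton'.1 hu
      exact ⟨Ideal.Quotient.mk Q c, (hi₀ c).trans (Ideal.Quotient.eq.2 (by simpa using hw))⟩
    · rintro ⟨z, rfl⟩
      obtain ⟨b, rfl⟩ := Ideal.Quotient.mk_surjective z
      show Ideal.Quotient.factor Ideal.mul_le_left (i₀ (Ideal.Quotient.mk Q b)) = 0
      rw [hi₀, Ideal.Quotient.factor_mk]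
      exact Ideal.Quotient.eq_zero_iff_mem.2 (Ideal.mul_mem_left _ _ haJ)
  rw [Algebra.trace_apply, Algebra.trace_apply, Algebra.trace_apply, add_comm]
  refine H18Perf.trace_eq_add i pr hinj hsurj hex _ _ _ (LinearMap.ext fun z => ?_) (LinearMap.ext fun z => ?_)
  · obtain ⟨b, rfl⟩ := Ideal.Quotient.mk_surjective z
    show Ideal.Quotient.mk _ y * i₀ (Ideal.Quotient.mk Q b) = i₀ (Ideal.Quotient.mk Q y * Ideal.Quotient.mk Q b)
    rw [hi₀, ← map_mul, ← map_mul, hi₀, mul_assoc]
  · obtain ⟨b, rfl⟩ := Ideal.Quotient.mk_surjective z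
    rfl

theorem T_prod (s : Multiset (Ideal B)) (hs : ∀ Q ∈ s, Q.IsMaximal ∧ Q ≠ ⊥)
    (h : p ≤ s.prod.comap (algebraMap A B)) : T p y s.prod = (s.map (T p y)).sum := by
  induction s using Multiset.induction_on with
  | empty => rw [Multiset.prod_zero, Ideal.one_eq_top, T_top]; simp
  | cons Q s ih =>
    haveI := (hs Q (Multiset.mem_cons_self _ _)).1
    have hne : s.prod ≠ ⊥ := Multiset.prod_ne_zero fun h0 =>
      (hs _ (Multiset.mem_cons_of_mem h0)).2 rfl
    rw [Multiset.prod_cons, mul_comm] at h ⊢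
    rw [T_mul p y hne h, ih (fun Q' hQ' => hs Q' (Multiset.mem_cons_of_mem hQ'))
      (h.trans (Ideal.comap_mono Ideal.mul_le_left)), Multiset.map_cons, Multiset.sum_cons, add_comm]

end Groth.Agent.H02CA.TraceFilt
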