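import Groth.Agent.H19Grp.TransporterRel
import Mathlib

/-!
# Finitely presented universal closed subschemes (variants of `H19Grp.TransporterRel`)
-/

set_option autoImplicit false
set_option linter.style.haveILetI false
set_option backward.isDefEq.respectTransparency false

universe u

open CategoryTheory CategoryTheory.Limits MonoidalCategory CartesianMonoidalCategory AlgebraicGeometry TensorProduct
open Groth.Agent.H19Grp

namespace Groth.Agent.H02CA.TransporterFP

/-- The closed subscheme of `G` over which a morphism on `G ×ₖ X` factors through a closed subscheme. -/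
theorem exists_closed_fp_forall_factor_rel {S : Scheme.{u}} {G X Z' Z : Over S}
    (c : G ⊗ X ⟶ Z) (y : Z' ⟶ Z) [IsClosedImmersion (pullback.fst c.left y.left)]
    (hloc : HasUnivLocally (fst G X).left (pullback.fst c.left y.left))
    (hfg : ∀ s : G.left, ∃ (A : CommRingCat.{u}) (σ : Spec A ⟶ G.left) (𝔞 : Ideal A),
      IsOpenImmersion σ ∧ s ∈ Set.range σ ∧
        HasUniv (fst G X).left (pullback.fst c.left y.left) σ 𝔞 ∧ 𝔞.FG) :
    ∃ (T : Over S) (t : T ⟶ G), IsClosedImmersion t.left ∧ LocallyOfFinitePresentation t.left ∧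
      ∀ (S' : Over S) (g : S' ⟶ G), (∃ z : S' ⟶ T, z ≫ t = g) ↔
        ∀ (S'' : Over S) (s : S'' ⟶ S') (x : S'' ⟶ X),
          ∃ x' : S'' ⟶ Z', x' ≫ y = lift (s ≫ g) x ≫ c := by
  let I := univIdeal hloc
  refine ⟨Over.mk (I.subschemeι ≫ G.hom), Over.homMk I.subschemeι rfl,
    inferInstanceAs (IsClosedImmersion I.subschemeι),
    locallyOfFinitePresentation_subschemeι I (fg_univIdeal hloc hfg), fun S' g => ?_⟩
  have h : (∃ z : S' ⟶ Over.mk (I.subschemeι ≫ G.hom), z ≫ Over.homMk I.subschemeι rfl = g) ↔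
      ∃ x' : S' ⊗ X ⟶ Z', x' ≫ y = (g ▷ X) ≫ c := by
    rw [← contains_fst_iff_rel c y g, ← contains_iff_factors hloc]
    constructor
    · rintro ⟨z, rfl⟩
      exact ⟨z.left, rfl⟩
    · rintro ⟨z, hz⟩
      refine ⟨Over.homMk z ?_, Over.OverMorphism.ext hz⟩
      show z ≫ I.subschemeι ≫ G.hom = S'.hom
      rw [← Category.assoc, hz, Over.w]
  rw [h]
  constructor
  · rintro ⟨x', hx'⟩ S'' s x
    exact ⟨lift s x ≫ x', by
      rw [Category.assoc, hx', ← Category.assoc, lift_whiskerRight]⟩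
  · intro H
    obtain ⟨x', hx'⟩ := H (S' ⊗ X) (fst S' X) (snd S' X)
    refine ⟨x', hx'.trans ?_⟩
    congr 1


/-- If `X` is affine over `S` with locally projective algebra, `G ×_S X → G` has universal ideals. -/
theorem exists_hasUniv_fg_fst_of_projective {S : Scheme.{u}} {G X : Over S} {Y : Scheme.{u}}
    (j : Y ⟶ (G ⊗ X).left) [IsClosedImmersion j] [IsAffineHom X.hom]
    (hproj : ∀ s : S, ∃ U : S.affineOpens, s ∈ (U : S.Opens) ∧
      @Module.Projective Γ(S, U) _ Γ(X.left, X.hom ⁻¹ᵁ U) _ (X.hom.app U).hom.toAlgebra.toModule)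
    (hj : LocallyOfFinitePresentation j) (z : G.left) :
    ∃ (A : CommRingCat.{u}) (σ : Spec A ⟶ G.left) (𝔞 : Ideal A),
      IsOpenImmersion σ ∧ z ∈ Set.range σ ∧ HasUniv (fst G X).left j σ 𝔞 ∧ 𝔞.FG := by
  obtain ⟨⟨U, hU⟩, hzU, hP⟩ := hproj (G.hom z)
  obtain ⟨V, hV, hzV, hVU⟩ := exists_isAffineOpen_mem_and_subset (x := z) (U := G.hom ⁻¹ᵁ U) hzU
  have hW : IsAffineOpen (X.hom ⁻¹ᵁ U) := hU.preimage X.hom
  let A := Γ(G.left, V)
  let B := Γ(X.left, X.hom ⁻¹ᵁ U)
  let R := Γ(S, U)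
  letI : Algebra R A := (G.hom.appLE U V hVU).hom.toAlgebra
  letI : Algebra R B := (X.hom.app U).hom.toAlgebra
  haveI : Module.Projective R B := hP
  let σ := hV.fromSpec
  have hA : Spec.map (CommRingCat.ofHom (algebraMap R A)) ≫ hU.fromSpec = σ ≫ G.hom :=
    hU.SpecMap_appLE_fromSpec G.hom hV hVU
  have hB : Spec.map (CommRingCat.ofHom (algebraMap R B)) ≫ hU.fromSpec = hW.fromSpec ≫ X.hom := by
    have := hU.SpecMap_appLE_fromSpec X.hom hW le_rfl
    rwa [← Scheme.Hom.app_eq_appLE] at this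
  let mp := pullback.map (Spec.map (CommRingCat.ofHom (algebraMap R A)))
    (Spec.map (CommRingCat.ofHom (algebraMap R B))) (σ ≫ G.hom) X.hom (𝟙 _) hW.fromSpec hU.fromSpec
    (by rw [Category.id_comp]; exact hA) hB
  let e : pullback (fst G X).left σ ≅ pullback (σ ≫ G.hom) X.hom :=
    pullbackSymmetry _ _ ≪≫ pullbackRightPullbackFstIso G.hom X.hom σ
  let m : Spec (CommRingCat.of (A ⊗[R] B)) ⟶ pullback (fst G X).left σ :=
    (pullbackSpecIso R A B).inv ≫ mp ≫ e.inv
  have hsnd : m ≫ pullback.snd (fst G X).left σ =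
      Spec.map (CommRingCat.ofHom (algebraMap A (A ⊗[R] B))) := by
    simp only [m, mp, e, Iso.trans_inv, Category.assoc]
    erw [pullbackSymmetry_inv_comp_snd, pullbackRightPullbackFstIso_inv_fst, pullback.lift_fst,
      Category.comp_id]
    exact pullbackSpecIso_inv_fst R A B
  have hcov : ∀ w, ∃ _ : PUnit.{u + 1}, w ∈ Set.range m := by
    intro w
    have hw : e.hom w ∈ Set.range mp := by
      rw [Scheme.Pullback.range_map]
      refine ⟨⟨_, rfl⟩, hW.range_fromSpec.superset ?_⟩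
      show X.hom (pullback.snd (σ ≫ G.hom) X.hom (e.hom w)) ∈ U
      rw [← Scheme.Hom.comp_apply (pullback.snd (σ ≫ G.hom) X.hom) X.hom, ← pullback.condition,
        Scheme.Hom.comp_apply, Scheme.Hom.comp_apply]
      exact hVU (hV.range_fromSpec.subset ⟨_, rfl⟩)
    obtain ⟨v, hv⟩ := hw
    refine ⟨⟨⟩, (pullbackSpecIso R A B).hom v, ?_⟩
    show ((pullbackSpecIso R A B).inv ≫ mp ≫ e.inv) ((pullbackSpecIso R A B).hom v) = w
    rw [← Scheme.Hom.comp_apply, Iso.hom_inv_id_assoc, Scheme.Hom.comp_apply, hv]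
    show (e.hom ≫ e.inv) w = w
    rw [Iso.hom_inv_id]; rfl
  obtain ⟨𝔞, h𝔞, hfg⟩ := hasUniv_of_charts (f := (fst G X).left) (j := j) (A := A) σ
    (ι := PUnit.{u + 1}) (fun _ => A ⊗[R] B) (fun _ => m) (fun _ => hsnd) hcov
  exact ⟨_, σ, 𝔞, inferInstance, hV.range_fromSpec.superset hzV, h𝔞, hfg inferInstance hj⟩

end Groth.Agent.H02CA.TransporterFP
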