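import Mathlib.RingTheory.KrullDimension.Polynomial
import Mathlib.RingTheory.Ideal.KrullsHeightTheorem
import Mathlib.RingTheory.Valuation.ValuationRing
import Mathlib.RingTheory.LocalRing.ResidueField.Basic
import Mathlib.Algebra.MvPolynomial.Equiv
import Mathlib.RingTheory.Polynomial.Basic

/-! Residue transcendence degree of a valuation centred at a prime is less than the height. -/

set_option autoImplicit false

universe u

namespace Groth.Agent.H02CA.ValCentre

open Polynomial

variable {A : Type u} [CommRing A]

theorem height_map_C_of_isPrime [IsNoetherianRing A] (p : Ideal A) [p.IsPrime] :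
    (p.map (C : A →+* A[X])).height = p.height := by
  haveI : (p.map (C : A →+* A[X])).LiesOver p := ⟨by
    ext a
    rw [Ideal.under_def, Ideal.mem_comap, Polynomial.algebraMap_eq, Ideal.mem_map_C_iff]
    refine ⟨fun h n => ?_, fun h => by simpa using h 0⟩
    rw [coeff_C]; split_ifs
    exacts [h, p.zero_mem]⟩
  rw [Ideal.height_eq_height_add_of_liesOver_of_hasGoingDown p]
  simp only [Polynomial.algebraMap_eq, Ideal.map_quotient_self]
  haveI : IsDomain (A[X] ⧸ p.map (C : A →+* A[X])) := Ideal.Quotient.isDomain _
  rw [Ideal.height_bot, add_zero]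

theorem height_add_one_le [IsNoetherianRing A] {P : Ideal A} [P.IsPrime] (hP : P ≠ ⊥) [IsDomain A]
    (q : Ideal (A ⧸ P)) [q.IsPrime] :
    q.height + 1 ≤ (q.comap (Ideal.Quotient.mk P)).height := by
  obtain ⟨l, hl, hlen⟩ := q.exists_ltSeries_length_eq_height
  let l' : LTSeries (PrimeSpectrum A) := l.map (PrimeSpectrum.comap (Ideal.Quotient.mk P))
    fun a b h => Ideal.comap_mono (le_of_lt h) |>.lt_of_ne fun e => h.ne
      (PrimeSpectrum.comap_injective_of_surjective _ Ideal.Quotient.mk_surjective
        (PrimeSpectrum.ext e))
  have hlt : (⊥ : PrimeSpectrum A) < l'.head := by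
    refine bot_le.lt_of_ne fun e => hP ?_
    have h1 : P ≤ l'.head.asIdeal := by
      intro x hx
      change Ideal.Quotient.mk P x ∈ l.head.asIdeal
      rw [Ideal.Quotient.eq_zero_iff_mem.mpr hx]
      exact zero_mem _
    rw [← e] at h1
    exact le_bot_iff.mp h1
  have h2 := Order.length_le_height_last (p := l'.cons ⊥ hlt)
  rw [show (l'.cons ⊥ hlt).length = l'.length + 1 from Nat.succ_eq_add_one _ ▸ (by simp [RelSeries.cons, RelSeries.append] <;> omega),
    RelSeries.last_cons] at h2
  have h3 : l'.last = ⟨q.comap (Ideal.Quotient.mk P), inferInstance⟩ := by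
    change PrimeSpectrum.comap (Ideal.Quotient.mk P) l.last = _
    rw [hl]
    rfl
  rw [h3, ← PrimeSpectrum.height_eq_orderHeight] at h2
  rw [← hlen]
  exact_mod_cast h2

theorem length_add_one_le_height {O : Type u} [CommRing O] [IsDomain O] [IsLocalRing O]
    {σ : Type} [Finite σ] :
    ∀ {A : Type u} [CommRing A] [IsDomain A] [IsNoetherianRing A] (φ : A →+* O),
      Function.Injective φ → (∀ x : O, ∃ a b : A, b ≠ 0 ∧ φ b * x = φ a) →
      ¬ IsField O → ∀ f : σ → O,
      (∀ P : MvPolynomial σ A, MvPolynomial.eval₂ ((IsLocalRing.residue O).comp φ)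
          (fun i => IsLocalRing.residue O (f i)) P = 0 →
        ∀ m, φ (P.coeff m) ∈ IsLocalRing.maximalIdeal O) →
      (Nat.card σ : ℕ∞) + 1 ≤ ((IsLocalRing.maximalIdeal O).comap φ).height := by
  induction σ using Finite.induction_empty_option with
  | of_equiv e ih =>
    intro A _ _ _ φ hinj hfrac hnt f hind
    rw [← Nat.card_congr e]
    refine ih φ hinj hfrac hnt (f ∘ e) fun P hP m => ?_
    have := hind (MvPolynomial.rename e P) (by rw [MvPolynomial.eval₂_rename]; exact hP)
      (m.mapDomain e)
    rwa [MvPolynomial.coeff_rename_mapDomain _ e.injective] at this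
  | h_empty =>
    intro A _ _ _ φ hinj hfrac hnt f _
    have hne : (IsLocalRing.maximalIdeal O).comap φ ≠ ⊥ := by
      intro h
      obtain ⟨x, hx, hx0⟩ := Submodule.exists_mem_ne_zero_of_ne_bot
        fun e => hnt (IsLocalRing.isField_iff_maximalIdeal_eq.mpr e)
      obtain ⟨a, b, hb, hab⟩ := hfrac x
      have : a ∈ (IsLocalRing.maximalIdeal O).comap φ := by
        rw [Ideal.mem_comap, ← hab]; exact Ideal.mul_mem_left _ _ hx
      rw [h, Ideal.mem_bot] at this
      rw [this, map_zero, mul_eq_zero] at hab
      exact hab.elim (fun e => hb (hinj (e.trans (map_zero φ).symm))) hx0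
    rw [Nat.card_eq_fintype_card, Fintype.card_pempty, Nat.cast_zero, zero_add]
    haveI : ((IsLocalRing.maximalIdeal O).comap φ).IsPrime := Ideal.comap_isPrime φ _
    have := Ideal.height_add_one_le_of_lt_of_isPrime (bot_lt_iff_ne_bot.mpr hne)
    exact le_add_self.trans this
  | @h_option α _ ih =>
    intro A _ _ _ φ hinj hfrac hnt f hind
    classical
    set t := f none
    let ψ : A[X] →+* O := eval₂RingHom φ t
    have hψC : ∀ a, ψ (C a) = φ a := fun a => eval₂_C _ _
    set p := (IsLocalRing.maximalIdeal O).comap φ
    haveI : p.IsPrime := Ideal.comap_isPrime φ _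
    have hP : RingHom.ker ψ ≠ ⊥ := by
      intro h
      obtain ⟨a, b, hb, hab⟩ := hfrac t
      have : C b * X - C a ∈ RingHom.ker ψ := by
        rw [RingHom.mem_ker, map_sub, map_mul, hψC, hψC]
        simp [ψ, hab]
      rw [h, Ideal.mem_bot] at this
      exact hb (by simpa using congrArg (fun g : A[X] => g.coeff 1) this)
    haveI : (RingHom.ker ψ).IsPrime := RingHom.ker_isPrime ψ
    let φ' : A[X] ⧸ RingHom.ker ψ →+* O := RingHom.kerLift ψ
    have hq : ((IsLocalRing.maximalIdeal O).comap φ').comap (Ideal.Quotient.mk _) =
        p.map (C : A →+* A[X]) := by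
      ext g
      simp only [Ideal.mem_comap, φ', Ideal.mem_map_C_iff]
      constructor
      · intro hg n
        have := hind (aeval (MvPolynomial.X none : MvPolynomial (Option α) A) g) ?_
          (Finsupp.single none n)
        · have e2 : (aeval (MvPolynomial.X none : MvPolynomial (Option α) A) g).coeff
              (Finsupp.single none n) = g.coeff n := by
            conv_lhs => rw [g.as_sum_support_C_mul_X_pow, map_sum, MvPolynomial.coeff_sum]
            simp only [map_mul, aeval_C, map_pow, aeval_X, MvPolynomial.algebraMap_eq,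
              MvPolynomial.coeff_C_mul, MvPolynomial.coeff_X_pow]
            simp [(Finsupp.single_injective (none : Option α)).eq_iff]
            exact fun h => h.symm
          rw [e2] at this
          exact this
        · have hh : (MvPolynomial.eval₂Hom ((IsLocalRing.residue O).comp φ)
              fun i => IsLocalRing.residue O (f i)).comp
                (aeval (MvPolynomial.X none : MvPolynomial (Option α) A)).toRingHom =
              (IsLocalRing.residue O).comp ψ := by
            refine Polynomial.ringHom_ext (fun a => ?_) ?_ <;> simp [hψC, ψ, t]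
          refine (RingHom.congr_fun hh g).trans ?_
          exact (IsLocalRing.residue_eq_zero_iff _).mpr hg
      · intro hg
        rw [RingHom.kerLift_mk, coe_eval₂RingHom, eval₂_eq_sum, Polynomial.sum_def]
        exact Ideal.sum_mem _ fun n _ => Ideal.mul_mem_right _ _ (hg n)
    have h1 := height_add_one_le hP ((IsLocalRing.maximalIdeal O).comap φ')
    rw [hq, height_map_C_of_isPrime] at h1
    rw [Finite.card_option, Nat.cast_add, Nat.cast_one]
    refine le_trans ?_ h1
    gcongr
    refine ih φ' (RingHom.kerLift_injective ψ) ?_ hnt (fun i => f (some i)) ?_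
    · intro x
      obtain ⟨a, b, hb, hab⟩ := hfrac x
      refine ⟨Ideal.Quotient.mk _ (C a), Ideal.Quotient.mk _ (C b), ?_, ?_⟩
      · rw [Ne, Ideal.Quotient.eq_zero_iff_mem, RingHom.mem_ker, hψC]
        exact fun e => hb (hinj (e.trans (map_zero φ).symm))
      · simp [φ', RingHom.kerLift_mk, hψC, hab]
    · intro Q hQ m
      obtain ⟨G, hG⟩ := MvPolynomial.map_surjective (Ideal.Quotient.mk (RingHom.ker ψ))
        Ideal.Quotient.mk_surjective Q
      let P := (MvPolynomial.optionEquivRight A _).symm G
      have hcomp : (MvPolynomial.eval₂Hom ((IsLocalRing.residue O).comp (φ'.comp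
            (Ideal.Quotient.mk (RingHom.ker ψ)))) fun i => IsLocalRing.residue O (f (some i))).comp
          (MvPolynomial.optionEquivRight A _).toRingEquiv.toRingHom =
          MvPolynomial.eval₂Hom ((IsLocalRing.residue O).comp φ)
            (fun i => IsLocalRing.residue O (f i)) := by
        refine MvPolynomial.ringHom_ext (fun a => ?_) fun i => ?_
        · simp [MvPolynomial.optionEquivRight_C, φ', RingHom.kerLift_mk, hψC]
        · cases i <;> simp [MvPolynomial.optionEquivRight_X_none,
            MvPolynomial.optionEquivRight_X_some, φ', RingHom.kerLift_mk, ψ, t]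
      have hP0 := RingHom.congr_fun hcomp P
      simp only [RingHom.coe_comp, Function.comp_apply, AlgEquiv.toRingEquiv_toRingHom,
        RingHom.coe_coe, P, AlgEquiv.apply_symm_apply, MvPolynomial.coe_eval₂Hom] at hP0
      rw [← hG, MvPolynomial.eval₂_map, RingHom.comp_assoc] at hQ
      have hPm := hind P (hP0.symm.trans (by
        rw [show (MvPolynomial.optionEquivRight A _).toRingEquiv.toRingHom P = G from
          AlgEquiv.apply_symm_apply _ G]; exact hQ))
      -- all coefficients of `G` lie in `p[X]`
      have hG' : G ∈ Ideal.map MvPolynomial.C (p.map (C : A →+* A[X])) := by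
        have hPp : P ∈ p.map MvPolynomial.C := MvPolynomial.mem_map_C_iff.mpr hPm
        have := Ideal.mem_map_of_mem (MvPolynomial.optionEquivRight A _).toRingEquiv.toRingHom hPp
        rw [Ideal.map_map] at this
        simp only [P, AlgEquiv.toRingEquiv_toRingHom, RingHom.coe_coe,
          AlgEquiv.apply_symm_apply] at this
        rw [Ideal.map_map]
        rw [show (MvPolynomial.optionEquivRight A _).toRingEquiv.toRingHom
          ((MvPolynomial.optionEquivRight A _).symm G) = G from AlgEquiv.apply_symm_apply _ G] at this
        convert! this using 2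
        ext a
        simp [MvPolynomial.optionEquivRight_C]
      rw [← hG, MvPolynomial.coeff_map]
      have := MvPolynomial.mem_map_C_iff.mp hG' m
      rw [← hq, Ideal.mem_comap, Ideal.mem_comap] at this
      exact this

end Groth.Agent.H02CA.ValCentre
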