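import Groth.Prelude.Def_FlatCA
import Mathlib.RingTheory.Ideal.MinimalPrime.Localization
import Mathlib.RingTheory.Ideal.Maps
import Mathlib.RingTheory.Ideal.AssociatedPrime.Basic
import Mathlib.RingTheory.Localization.AtPrime.Basic
import Mathlib.RingTheory.Flat.TorsionFree
import Mathlib.Tactic.Ring

/-!
Weakly associated primes (`FlatCA.weakAss`) and associated primes (`FlatCA.ass`): elementary
criteria and behaviour under localization.
-/

namespace Groth.Agent.H02CA

universe u v w

section
variable {R : Type u} [CommRing R]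

/-- The annihilator of one element, as used in `FlatCA.weakAss`. -/
abbrev annEl (R : Type u) [CommRing R] {M : Type v} [AddCommGroup M] [Module R M] (m : M) :
    Ideal R :=
  (Submodule.span R ({m} : Set M)).annihilator

variable {M : Type v} [AddCommGroup M] [Module R M]

lemma mem_annEl {m : M} {r : R} : r ∈ annEl R m ↔ r • m = 0 :=
  Submodule.mem_annihilator_span_singleton m r

lemma annEl_ne_top {m : M} (hm : m ≠ 0) : annEl R m ≠ ⊤ := by
  intro h
  apply hm
  simpa using mem_annEl.mp (h ▸ Submodule.mem_top : (1 : R) ∈ annEl R m)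

lemma minimalPrimes_iff (I p : Ideal R) :
    p ∈ I.minimalPrimes ↔ p.IsPrime ∧ I ≤ p ∧ ∀ x ∈ p, ∃ (n : ℕ) (y : R), y ∉ p ∧ y * x ^ n ∈ I := by
  constructor
  · intro hp
    refine ⟨hp.1.1, hp.1.2, fun x hx => ?_⟩
    haveI := hp.1.1
    by_cases h0 : Disjoint (I : Set R) ↑(Submonoid.powers x ⊔ p.primeCompl)
    · exfalso
      obtain ⟨q, hq, hIq, hdisj⟩ := Ideal.exists_le_prime_disjoint _ _ h0
      have hqp : q ≤ p := fun z hz => by
        by_contra h
        exact Set.disjoint_left.mp hdisj hz (SetLike.le_def.mp le_sup_right h)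
      exact Set.disjoint_left.mp hdisj (hp.2 ⟨hq, hIq⟩ hqp hx)
        (SetLike.le_def.mp le_sup_left (Submonoid.mem_powers x))
    · obtain ⟨z, hz0, hz⟩ := Set.not_disjoint_iff.mp h0
      obtain ⟨_, ⟨n, rfl⟩, y, hy, rfl⟩ := Submonoid.mem_sup.mp hz
      exact ⟨n, y, hy, mul_comm (x ^ n) y ▸ hz0⟩
  · rintro ⟨hp, hle, h⟩
    refine ⟨⟨hp, hle⟩, ?_⟩
    rintro q ⟨hq, hIq⟩ hqp x hx
    obtain ⟨n, y, hy, hyx⟩ := h x hx
    exact hq.mem_of_pow_mem n ((hq.mem_or_mem (hIq hyx)).resolve_left fun h' => hy (hqp h'))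

variable (R) in
/-- The defining criterion for one element `m` witnessing that `p` is weakly associated. -/
def IsWeakWitness (p : Ideal R) (m : M) : Prop :=
  annEl R m ≤ p ∧ ∀ x ∈ p, ∃ (n : ℕ) (y : R), y ∉ p ∧ (y * x ^ n) • m = 0

lemma mem_weakAss {p : Ideal R} :
    p ∈ FlatCA.weakAss R M ↔ p.IsPrime ∧ ∃ m : M, IsWeakWitness R p m := by
  constructor
  · rintro ⟨m, hm⟩
    obtain ⟨hp, h1, h2⟩ := (minimalPrimes_iff (annEl R m) p).mp hm
    exact ⟨hp, m, h1, fun x hx => by simpa only [mem_annEl] using h2 x hx⟩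
  · rintro ⟨hp, m, h1, h2⟩
    exact ⟨m, (minimalPrimes_iff (annEl R m) p).mpr
      ⟨hp, h1, fun x hx => by simpa only [mem_annEl] using h2 x hx⟩⟩

lemma ass_subset_weakAss : FlatCA.ass R M ⊆ FlatCA.weakAss R M := by
  rintro p ⟨hp, m, rfl⟩
  haveI := hp
  exact ⟨m, by rw [Ideal.minimalPrimes_eq_subsingleton_self]; exact rfl⟩

lemma exists_weakAss_ge {m : M} (hm : m ≠ 0) :
    ∃ p ∈ FlatCA.weakAss R M, annEl R m ≤ p := by
  obtain ⟨⟨p, hp⟩⟩ := Ideal.nonempty_minimalPrimes (annEl_ne_top (R := R) hm)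
  exact ⟨p, ⟨m, hp⟩, hp.1.2⟩

lemma annEl_map_of_injective {M' : Type w} [AddCommGroup M'] [Module R M'] (f : M →ₗ[R] M')
    (hf : Function.Injective f) (m : M) : annEl R (f m) = annEl R m := by
  ext r
  rw [mem_annEl, mem_annEl, ← map_smul, map_eq_zero_iff f hf]

lemma weakAss_mono {M' : Type w} [AddCommGroup M'] [Module R M'] (f : M →ₗ[R] M')
    (hf : Function.Injective f) : FlatCA.weakAss R M ⊆ FlatCA.weakAss R M' := by
  rintro p ⟨m, hm⟩
  exact ⟨f m, by rw [show (Submodule.span R {f m}).annihilator = annEl R (f m) from rfl,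
    annEl_map_of_injective f hf]; exact hm⟩

lemma ass_mono {M' : Type w} [AddCommGroup M'] [Module R M'] (f : M →ₗ[R] M')
    (hf : Function.Injective f) : FlatCA.ass R M ⊆ FlatCA.ass R M' := by
  rintro p ⟨hp, m, hm⟩
  exact ⟨hp, f m, hm.trans (annEl_map_of_injective f hf m).symm⟩

/-- Restriction of scalars: the annihilator over `R` is the contraction of that over `A`. -/
lemma annEl_restrictScalars {A : Type w} [CommRing A] [Algebra R A] [Module A M]
    [IsScalarTower R A M] (m : M) :
    annEl R m = (annEl A m).comap (algebraMap R A) := by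
  ext r
  rw [Ideal.mem_comap, mem_annEl, mem_annEl, algebraMap_smul]

section Localization
variable (S : Submonoid R)

lemma annEl_localization (A : Type w) [CommRing A] [Algebra R A] [IsLocalization S A] [Module A M]
    [IsScalarTower R A M] :
    FlatCA.weakAss R M = Ideal.comap (algebraMap R A) '' FlatCA.weakAss A M := by
  ext p
  simp only [FlatCA.weakAss, Set.mem_setOf_eq, Set.mem_image]
  constructor
  · rintro ⟨m, hm⟩
    change p ∈ (annEl R m).minimalPrimes at hm
    rw [annEl_restrictScalars (A := A), IsLocalization.minimalPrimes_comap S A] at hm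
    obtain ⟨P, hP, rfl⟩ := hm
    exact ⟨P, ⟨m, hP⟩, rfl⟩
  · rintro ⟨P, ⟨m, hP⟩, rfl⟩
    refine ⟨m, ?_⟩
    change _ ∈ (annEl R m).minimalPrimes
    rw [annEl_restrictScalars (A := A), IsLocalization.minimalPrimes_comap S A]
    exact ⟨P, hP, rfl⟩

lemma ass_localization (A : Type w) [CommRing A] [Algebra R A] [IsLocalization S A] [Module A M]
    [IsScalarTower R A M] :
    FlatCA.ass R M = Ideal.comap (algebraMap R A) '' FlatCA.ass A M := by
  ext p
  constructor
  · rintro ⟨hp, m, hm⟩
    refine ⟨annEl A m, ⟨?_, m, rfl⟩, (annEl_restrictScalars m).symm.trans hm.symm⟩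
    rw [show (annEl A m) = Ideal.map (algebraMap R A) p by
      rw [hm]; change _ = Ideal.map _ (annEl R m)
      conv_rhs => rw [annEl_restrictScalars (A := A), IsLocalization.map_comap S A]]
    refine IsLocalization.isPrime_of_isPrime_disjoint S A p hp ?_
    rw [Set.disjoint_left]
    intro s hs hsp
    have h1 : algebraMap R A s ∈ annEl A m := by
      have : s ∈ annEl R m := by change s ∈ (Submodule.span R {m}).annihilator; rw [← hm]; exact hsp
      rwa [annEl_restrictScalars (A := A)] at this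
    have htop := Ideal.eq_top_of_isUnit_mem _ h1 (IsLocalization.map_units A ⟨s, hs⟩)
    apply hp.ne_top
    rw [hm]; change annEl R m = ⊤
    rw [annEl_restrictScalars (A := A), htop, Ideal.comap_top]
  · rintro ⟨P, ⟨hP, m, hm⟩, rfl⟩
    exact ⟨hP.comap _, m, by rw [hm]; exact (annEl_restrictScalars m).symm⟩

lemma weakAss_localizedModule :
    FlatCA.weakAss R (LocalizedModule S M) =
      Ideal.comap (algebraMap R (Localization S)) ''
        FlatCA.weakAss (Localization S) (LocalizedModule S M) :=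
  annEl_localization S (Localization S)

variable {S} in
lemma annEl_mk_le {m : M} (s : S) : annEl R m ≤ annEl R (LocalizedModule.mk m s) := by
  intro r hr
  rw [mem_annEl] at hr ⊢
  rw [LocalizedModule.smul'_mk, hr, LocalizedModule.zero_mk]

lemma mk_injective_of_regular (hS : ∀ s ∈ S, IsSMulRegular M s) :
    Function.Injective (LocalizedModule.mkLinearMap S M) := by
  intro a b h
  obtain ⟨u, hu⟩ := LocalizedModule.mk_eq.mp h
  simp only [one_smul] at hu
  exact hS u u.2 hu

lemma annEl_mk_of_regular (hS : ∀ s ∈ S, IsSMulRegular M s) (m : M) (s : S) :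
    annEl R (LocalizedModule.mk m s) = annEl R m := by
  refine le_antisymm (fun r hr => ?_) (annEl_mk_le s)
  rw [mem_annEl, LocalizedModule.smul'_mk] at hr
  rw [mem_annEl]
  obtain ⟨u, hu⟩ := LocalizedModule.mk_eq.mp (hr.trans (LocalizedModule.zero_mk 1).symm)
  simp only [one_smul, smul_zero] at hu
  exact hS u u.2 (by simpa [Submonoid.smul_def] using hu)

lemma weakAss_localizedModule_of_regular (hS : ∀ s ∈ S, IsSMulRegular M s) :
    FlatCA.weakAss R M = FlatCA.weakAss R (LocalizedModule S M) := by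
  refine le_antisymm (weakAss_mono _ (mk_injective_of_regular S hS)) ?_
  rintro p ⟨z, hz⟩
  induction z using LocalizedModule.induction_on with
  | h m s =>
    refine ⟨m, ?_⟩
    change p ∈ (annEl R _).minimalPrimes at hz
    rwa [annEl_mk_of_regular S hS] at hz

lemma ass_localizedModule_of_regular (hS : ∀ s ∈ S, IsSMulRegular M s) :
    FlatCA.ass R M = FlatCA.ass R (LocalizedModule S M) := by
  refine le_antisymm (ass_mono _ (mk_injective_of_regular S hS)) ?_
  rintro p ⟨hp, z, hz⟩
  induction z using LocalizedModule.induction_on with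
  | h m s =>
    exact ⟨hp, m, hz.trans (annEl_mk_of_regular S hS m s)⟩

lemma mem_weakAss_localizedModule_iff {p : Ideal R} (hd : Disjoint (S : Set R) (p : Set R)) :
    p ∈ FlatCA.weakAss R (LocalizedModule S M) ↔ p ∈ FlatCA.weakAss R M := by
  rw [mem_weakAss, mem_weakAss]
  refine and_congr_right fun hp => ⟨?_, ?_⟩
  · rintro ⟨z, hle, hz⟩
    induction z using LocalizedModule.induction_on with
    | h m s =>
      refine ⟨m, (annEl_mk_le s).trans hle, fun x hx => ?_⟩
      obtain ⟨n, y, hy, hyx⟩ := hz x hx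
      rw [LocalizedModule.smul'_mk] at hyx
      obtain ⟨u, hu⟩ := LocalizedModule.mk_eq.mp (hyx.trans (LocalizedModule.zero_mk 1).symm)
      simp only [one_smul, smul_zero] at hu
      refine ⟨n, (u : R) * y, fun h => ?_, ?_⟩
      · exact (hp.mem_or_mem h).elim (Set.disjoint_left.mp hd u.2) hy
      · rw [mul_assoc, mul_smul]; exact hu
  · rintro ⟨m, hle, hm⟩
    refine ⟨LocalizedModule.mk m 1, fun r hr => ?_, fun x hx => ?_⟩
    · rw [mem_annEl, LocalizedModule.smul'_mk] at hr
      obtain ⟨u, hu⟩ := LocalizedModule.mk_eq.mp (hr.trans (LocalizedModule.zero_mk 1).symm)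
      simp only [one_smul, smul_zero] at hu
      refine (hp.mem_or_mem (hle (mem_annEl.mpr ?_))).resolve_left (Set.disjoint_left.mp hd u.2)
      rw [mul_smul]; exact hu
    · obtain ⟨n, y, hy, hyx⟩ := hm x hx
      exact ⟨n, y, hy, by rw [LocalizedModule.smul'_mk, hyx, LocalizedModule.zero_mk]⟩

end Localization
end

lemma isSMulRegular_of_flat_domain {R : Type u} {A : Type v} [CommRing R] [IsDomain R] [CommRing A]
    [Algebra R A] (N : Type w) [AddCommGroup N] [Module A N] [Module R N] [IsScalarTower R A N]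
    [Module.Flat R N] :
    ∀ a ∈ Algebra.algebraMapSubmonoid A (nonZeroDivisors R), IsSMulRegular N a := by
  rintro _ ⟨r, hr, rfl⟩
  exact fun x y h => Module.Flat.isSMulRegular_of_nonZeroDivisors (M := N) hr
    (by simpa only [algebraMap_smul] using h)

end Groth.Agent.H02CA
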