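import Groth.Agent.H02CA.WeakAss
import Groth.Agent.S1236
import Mathlib

/-!
Weakly associated primes and extension of the ground field.
-/

set_option autoImplicit false
set_option linter.style.haveILetI false
set_option linter.unusedSectionVars false

universe u

open scoped TensorProduct

namespace Groth.Agent.H02CA.WeakAssField

/-- Annihilators extend along flat maps. -/
theorem annEl_one_tmul_le {T S N : Type u} [CommRing T] [CommRing S] [Algebra T S] [Module.Flat T S]
    [AddCommGroup N] [Module T N] (x : N) :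
    annEl S ((1 : S) ⊗ₜ[T] x) ≤ (annEl T x).map (algebraMap T S) := by
  intro b hb
  let I := annEl T x
  have hb' : b • ((1 : S) ⊗ₜ[T] x) = 0 := mem_annEl.mp hb
  rw [TensorProduct.smul_tmul', smul_eq_mul, mul_one] at hb'
  let g : T ⧸ I →ₗ[T] N := Submodule.liftQ I (LinearMap.toSpanSingleton T N x)
    fun a ha => mem_annEl.mp ha
  have hg : Function.Injective g := by
    rw [← LinearMap.ker_eq_bot]
    refine Submodule.ker_liftQ_eq_bot _ _ _ fun a ha => ?_
    exact mem_annEl.mpr ha
  have h0 : (b ⊗ₜ[T] Ideal.Quotient.mk I 1 : S ⊗[T] (T ⧸ I)) = 0 := by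
    apply Module.Flat.lTensor_preserves_injective_linearMap (M := S) g hg
    rw [map_zero, LinearMap.lTensor_tmul]
    rw [show g (Ideal.Quotient.mk I 1) = x from one_smul T x]
    exact hb'
  have h1 := congrArg (TensorProduct.tensorQuotEquivQuotSMul S I) h0
  rw [TensorProduct.tensorQuotEquivQuotSMul_tmul_mk, map_zero, one_smul,
    Submodule.Quotient.mk_eq_zero] at h1
  rwa [Ideal.smul_top_eq_map, Submodule.restrictScalars_mem] at h1

/-- A weakly associated prime of a flat base change witnessed from below contracts to one. -/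
theorem comap_mem_weakAss_of_witness {T S N : Type u} [CommRing T] [CommRing S] [Algebra T S]
    [Module.Flat T S] [AddCommGroup N] [Module T N] (x : N) (q : Ideal S)
    (hq : q ∈ (annEl S ((1 : S) ⊗ₜ[T] x)).minimalPrimes) :
    q.comap (algebraMap T S) ∈ FlatCA.weakAss T N := by
  haveI : q.IsPrime := hq.1.1
  have hIq : annEl T x ≤ q.comap (algebraMap T S) := fun t ht => hq.1.2 (mem_annEl.mpr (by
    rw [algebraMap_smul, ← TensorProduct.tmul_smul, mem_annEl.mp ht, TensorProduct.tmul_zero]))
  refine ⟨x, ⟨⟨inferInstance, hIq⟩, fun Q hQ hQq => ?_⟩⟩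
  haveI := hQ.1
  haveI : q.LiesOver (q.comap (algebraMap T S)) := ⟨rfl⟩
  obtain ⟨P, hPq, hP, hPo⟩ := q.exists_ideal_le_liesOver_of_le (p := Q) (q := q.comap (algebraMap T S)) hQq
  have hIP : annEl S ((1 : S) ⊗ₜ[T] x) ≤ P :=
    (annEl_one_tmul_le x).trans ((Ideal.map_mono hQ.2).trans
      (Ideal.map_le_iff_le_comap.mpr (le_of_eq hPo.over)))
  have hPeq : P = q := le_antisymm hPq (hq.2 ⟨hP, hIP⟩ hPq)
  rw [hPo.over, hPeq]

/-- Weakly associated primes of a finite type flat algebra tensored with a module. -/
theorem comap_mem_weakAss_tensor {R T M : Type u} [CommRing R] [CommRing T] [Algebra R T]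
    [Algebra.FiniteType R T] [Module.Flat R T] [AddCommGroup M] [Module R M] (q : Ideal T) [q.IsPrime]
    (hq : q ∈ FlatCA.weakAss T (T ⊗[R] M)) : q.comap (algebraMap R T) ∈ FlatCA.weakAss R M := by
  haveI : q.LiesOver (q.comap (algebraMap R T)) := ⟨rfl⟩
  have hflat : FlatCA.FlatAt R q T := by
    unfold FlatCA.FlatAt
    infer_instance
  exact ((S1236.result T M (q.comap (algebraMap R T)) q hflat).mp hq).1

variable {k K R : Type u} [Field k] [Field K] [Algebra k K] [CommRing R] [Algebra k R]
  {RK : Type u} [CommRing RK] [Algebra k RK] [Algebra K RK] [Algebra R RK] [IsScalarTower k K RK]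
  [IsScalarTower k R RK] [Algebra.IsPushout k K R RK] {M : Type u} [AddCommGroup M] [Module R M]

/-- An intermediate algebra of definition. -/
structure Model (z : RK ⊗[R] M) where
  /-- the subalgebra -/
  D : Subalgebra k K
  fg : D.FG
  mem : ∀ (f : R ⊗[k] D →ₐ[R] RK), (∀ d : D, f (1 ⊗ₜ d) = algebraMap K RK d) →
    ∃ z₀ : (R ⊗[k] D) ⊗[R] M, f.toLinearMap.rTensor M z₀ = z

variable (k K) in
include k K in
theorem span_eq_top : Submodule.span R
    (Set.range fun p : K × M => algebraMap K RK p.1 ⊗ₜ[R] p.2) = ⊤ := by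
  haveI : Algebra.IsPushout k R K RK := Algebra.IsPushout.symm inferInstance
  refine eq_top_iff.2 fun z _ => ?_
  induction z using TensorProduct.induction_on with
  | zero => exact zero_mem _
  | add a b ha hb => exact add_mem (ha trivial) (hb trivial)
  | tmul b m =>
    obtain ⟨c, rfl⟩ := (Algebra.IsPushout.equiv k R K RK).surjective b
    induction c using TensorProduct.induction_on with
    | zero => simp
    | add a b ha hb => rw [map_add, TensorProduct.add_tmul]; exact add_mem (ha trivial) (hb trivial)
    | tmul r x =>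
      have e : Algebra.IsPushout.equiv k R K RK (r ⊗ₜ x) = r • algebraMap K RK x := by
        rw [Algebra.IsPushout.equiv_tmul, Algebra.smul_def]
      rw [e, ← TensorProduct.smul_tmul']
      exact Submodule.smul_mem _ r (Submodule.subset_span ⟨(x, m), rfl⟩)

variable (k K) in
theorem exists_model (z : RK ⊗[R] M) : Nonempty (Model (k := k) (K := K) z) := by
  classical
  have hz : z ∈ Submodule.span R (Set.range fun p : K × M => algebraMap K RK p.1 ⊗ₜ[R] p.2) := by
    rw [span_eq_top k K]; trivial
  obtain ⟨c, hc⟩ := Finsupp.mem_span_range_iff_exists_finsupp.1 hz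
  refine ⟨⟨Algebra.adjoin k ((c.support.image Prod.fst : Finset K) : Set K),
    Subalgebra.fg_adjoin_finset _, fun f hf => ?_⟩⟩
  refine ⟨∑ p ∈ c.support.attach, c p.1 •
    (((1 : R) ⊗ₜ[k] (⟨p.1.1, Algebra.subset_adjoin (Finset.mem_image_of_mem _ p.2)⟩ :
      Algebra.adjoin k ((c.support.image Prod.fst : Finset K) : Set K))) ⊗ₜ[R] p.1.2), ?_⟩
  rw [map_sum, ← hc, Finsupp.sum, ← Finset.sum_attach c.support]
  refine Finset.sum_congr rfl fun p _ => ?_
  rw [map_smul, LinearMap.rTensor_tmul, AlgHom.toLinearMap_apply, hf]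

variable {MK : Type u} [AddCommGroup MK] [Module RK MK] [Module R MK] [IsScalarTower R RK MK]

variable (k K) in
include k K in
theorem comap_mem_weakAss (q : Ideal RK) [q.IsPrime]
    (hq : q ∈ FlatCA.weakAss RK (RK ⊗[R] M)) : q.comap (algebraMap R RK) ∈ FlatCA.weakAss R M := by
  obtain ⟨z, hz⟩ := hq
  obtain ⟨⟨D, hD, hmem⟩⟩ := exists_model k K z
  haveI : Algebra.FiniteType k D := ((Subalgebra.fg_iff_finiteType D).mp hD)
  let f : R ⊗[k] D →ₐ[R] RK := Algebra.TensorProduct.lift (Algebra.ofId R RK)
    ((IsScalarTower.toAlgHom k K RK).comp D.val) (fun _ _ => Commute.all _ _)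
  have hf : ∀ d : D, f (1 ⊗ₜ d) = algebraMap K RK d := fun d => by
    show (Algebra.ofId R RK) 1 * _ = _
    simp
  obtain ⟨z₀, hz₀⟩ := hmem f hf
  let T := R ⊗[k] D
  letI : Algebra D T := Algebra.TensorProduct.rightAlgebra
  letI : Algebra T RK := f.toRingHom.toAlgebra
  haveI : IsScalarTower R T RK := IsScalarTower.of_algebraMap_eq fun r => (f.commutes r).symm
  haveI : IsScalarTower D K RK := inferInstance
  haveI : IsScalarTower D T RK := IsScalarTower.of_algebraMap_eq fun d => (hf d).symm
  haveI : IsScalarTower k D T := IsScalarTower.of_algebraMap_eq fun c => by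
    show algebraMap k R c ⊗ₜ[k] (1 : D) = (1 : R) ⊗ₜ[k] algebraMap k D c
    exact Algebra.TensorProduct.tmul_one_eq_one_tmul c
  haveI : IsScalarTower k D RK := IsScalarTower.of_algebraMap_eq fun c =>
    IsScalarTower.algebraMap_apply k K RK c
  haveI : IsScalarTower k T RK := IsScalarTower.of_algebraMap_eq fun c => by
    exact (IsScalarTower.algebraMap_apply k R RK c).trans ((IsScalarTower.algebraMap_apply R T RK _).trans
      (congrArg _ (IsScalarTower.algebraMap_apply k R T c).symm))
  haveI : Algebra.IsPushout k D R T := Algebra.IsPushout.symm inferInstance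
  haveI : Algebra.IsPushout D K T RK := (Algebra.IsPushout.comp_iff k D R T).mp inferInstance
  haveI : Algebra.IsPushout D T K RK := Algebra.IsPushout.symm inferInstance
  haveI : IsDomain D := inferInstance
  haveI : Module.Flat D K := by
    letI := FractionRing.liftAlgebra D K
    haveI : Module.Flat D (FractionRing D) := IsLocalization.flat _ (nonZeroDivisors D)
    exact Module.Flat.trans D (FractionRing D) K
  haveI : Module.Flat T RK :=
    Module.Flat.of_linearEquiv (Algebra.IsPushout.equiv D T K RK).toLinearEquiv.symm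
  let e : RK ⊗[T] (T ⊗[R] M) ≃ₗ[RK] RK ⊗[R] M :=
    TensorProduct.AlgebraTensorModule.cancelBaseChange R T RK RK M
  have hez : e (1 ⊗ₜ[T] z₀) = z := by
    rw [← hz₀]
    clear hz₀
    induction z₀ using TensorProduct.induction_on with
    | zero => simp
    | add a b ha hb => rw [TensorProduct.tmul_add, map_add, map_add, ha, hb]
    | tmul t m =>
      simp only [e, TensorProduct.AlgebraTensorModule.cancelBaseChange_tmul, LinearMap.rTensor_tmul,
        AlgHom.toLinearMap_apply]
      rw [Algebra.smul_def, mul_one]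
      rfl
  have hann : annEl RK ((1 : RK) ⊗ₜ[T] z₀) = annEl RK z := by
    rw [← hez]
    exact (annEl_map_of_injective e.toLinearMap e.injective _).symm
  have h1 := comap_mem_weakAss_of_witness z₀ q (by rw [hann]; exact hz)
  have h2 := comap_mem_weakAss_tensor (q.comap (algebraMap T RK)) h1
  rwa [Ideal.comap_comap, ← IsScalarTower.algebraMap_eq] at h2

variable (k K) in
include k K in
theorem comap_mem_weakAss_of_isBaseChange (f : M →ₗ[R] MK) (hf : IsBaseChange RK f) (q : Ideal RK) [q.IsPrime]
    (hq : q ∈ FlatCA.weakAss RK MK) : q.comap (algebraMap R RK) ∈ FlatCA.weakAss R M :=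
  comap_mem_weakAss k K q (weakAss_mono hf.equiv.symm.toLinearMap hf.equiv.symm.injective hq)

end Groth.Agent.H02CA.WeakAssField
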